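import Cfsg.Prelude.Def_LieExceptional

/-!
Core theory of (B,N)-pairs, at the level of representatives.

Notation: `C P n` is the double coset `B n B`; `n ~ n'` means `n⁻¹ * n' ∈ P.B`.
Words are lists `l : List G` with letters in `P.S`; `len P n` is the least length of a word `l`
with `l.prod ~ n`.
-/

set_option autoImplicit false

namespace Cfsg.Agent.LieExceptional.BNPairCore

open Cfsg

variable {G : Type*} [Group G] (P : BNPair G)

/-! ### Double cosets -/

/-- The double coset `B n B`. -/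
abbrev C (n : G) : Set G := DoubleCoset.doubleCoset n (P.B : Set G) P.B

variable {P}

theorem mem_C {n g : G} : g ∈ C P n ↔ ∃ x ∈ P.B, ∃ y ∈ P.B, g = x * n * y :=
  DoubleCoset.mem_doubleCoset

theorem self_mem_C (n : G) : n ∈ C P n := DoubleCoset.mem_doubleCoset_self P.B P.B n

theorem mul_mem_C_left {b n g : G} (hb : b ∈ P.B) (h : g ∈ C P n) : b * g ∈ C P n := by
  obtain ⟨x, hx, y, hy, rfl⟩ := mem_C.1 h
  exact mem_C.2 ⟨b * x, mul_mem hb hx, y, hy, by group⟩

theorem mul_mem_C_right {b n g : G} (hb : b ∈ P.B) (h : g ∈ C P n) : g * b ∈ C P n := by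
  obtain ⟨x, hx, y, hy, rfl⟩ := mem_C.1 h
  exact mem_C.2 ⟨x, hx, y * b, mul_mem hy hb, by group⟩

theorem C_eq_of_mem {n g : G} (h : g ∈ C P n) : C P g = C P n :=
  DoubleCoset.doubleCoset_eq_of_mem h

theorem C_eq_of_mem_mem {a b g : G} (h : g ∈ C P a) (h' : g ∈ C P b) : C P a = C P b :=
  (C_eq_of_mem h).symm.trans (C_eq_of_mem h')

theorem C_mul_right {n b : G} (hb : b ∈ P.B) : C P (n * b) = C P n :=
  C_eq_of_mem (mul_mem_C_right hb (self_mem_C n))

theorem C_mul_left {n b : G} (hb : b ∈ P.B) : C P (b * n) = C P n :=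
  C_eq_of_mem (mul_mem_C_left hb (self_mem_C n))

theorem C_eq_of_rel {n n' : G} (h : n⁻¹ * n' ∈ P.B) : C P n = C P n' := by
  have : n' = n * (n⁻¹ * n') := by group
  rw [this, C_mul_right h]

theorem inv_mem_C {n g : G} (h : g ∈ C P n) : g⁻¹ ∈ C P n⁻¹ := by
  obtain ⟨x, hx, y, hy, rfl⟩ := mem_C.1 h
  exact mem_C.2 ⟨y⁻¹, inv_mem hy, x⁻¹, inv_mem hx, by group⟩

theorem mem_C_one {g : G} : g ∈ C P 1 ↔ g ∈ P.B := by
  constructor
  · intro h
    obtain ⟨x, hx, y, hy, rfl⟩ := mem_C.1 h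
    rw [mul_one]
    exact mul_mem hx hy
  · intro h
    exact mem_C.2 ⟨g, h, 1, one_mem _, by group⟩

theorem mem_B_of_mem_C {n g : G} (hn : n ∈ P.B) (h : g ∈ C P n) : g ∈ P.B := by
  obtain ⟨x, hx, y, hy, rfl⟩ := mem_C.1 h
  exact mul_mem (mul_mem hx hn) hy

/-- A subgroup containing `B` and meeting `B n B` contains `n`. -/
theorem mem_of_mem_C {M : Subgroup G} (hM : P.B ≤ M) {n g : G} (h : g ∈ C P n) (hg : g ∈ M) :
    n ∈ M := by
  obtain ⟨x, hx, y, hy, rfl⟩ := mem_C.1 h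
  have h1 := mul_mem (mul_mem (inv_mem (hM hx)) hg) (inv_mem (hM hy))
  have h2 : x⁻¹ * (x * n * y) * y⁻¹ = n := by group
  rwa [h2] at h1

theorem mem_of_mem_C' {M : Subgroup G} (hM : P.B ≤ M) {n g : G} (h : g ∈ C P n) (hn : n ∈ M) :
    g ∈ M := by
  obtain ⟨x, hx, y, hy, rfl⟩ := mem_C.1 h
  exact mul_mem (mul_mem (hM hx) hn) (hM hy)

/-! ### Elements of `N`, the generators, the torus `B ⊓ N` -/

theorem mem_N {s : G} (hs : s ∈ P.S) : s ∈ P.N := P.subset hs

theorem conj_mem' {n t : G} (hn : n ∈ P.N) (ht : t ∈ P.B) (htN : t ∈ P.N) :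
    n * t * n⁻¹ ∈ P.B := P.conj_mem n hn t ⟨ht, htN⟩

theorem conj_mem_inv {n t : G} (hn : n ∈ P.N) (ht : t ∈ P.B) (htN : t ∈ P.N) :
    n⁻¹ * t * n ∈ P.B := by
  have := P.conj_mem n⁻¹ (inv_mem hn) t ⟨ht, htN⟩
  rwa [inv_inv] at this

theorem inv_sq_mem {s : G} (hs : s ∈ P.S) : (s * s)⁻¹ ∈ P.B := inv_mem (P.sq_mem s hs)

theorem rel_symm {n n' : G} (h : n⁻¹ * n' ∈ P.B) : n'⁻¹ * n ∈ P.B := by
  have := inv_mem h
  have h2 : (n⁻¹ * n')⁻¹ = n'⁻¹ * n := by group
  rwa [h2] at this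

theorem rel_trans {a b c : G} (h : a⁻¹ * b ∈ P.B) (h' : b⁻¹ * c ∈ P.B) : a⁻¹ * c ∈ P.B := by
  have := mul_mem h h'
  have h2 : a⁻¹ * b * (b⁻¹ * c) = a⁻¹ * c := by group
  rwa [h2] at this

theorem rel_mul_left {a b : G} (c : G) (h : a⁻¹ * b ∈ P.B) : (c * a)⁻¹ * (c * b) ∈ P.B := by
  have h2 : (c * a)⁻¹ * (c * b) = a⁻¹ * b := by group
  rwa [h2]

theorem rel_mul_right {a b c : G} (ha : a ∈ P.N) (hb : b ∈ P.N) (hc : c ∈ P.N)
    (h : a⁻¹ * b ∈ P.B) : (a * c)⁻¹ * (b * c) ∈ P.B := by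
  have h2 : (a * c)⁻¹ * (b * c) = c⁻¹ * (a⁻¹ * b) * c := by group
  rw [h2]
  exact conj_mem_inv hc h (mul_mem (inv_mem ha) hb)

/-- `s * s * n ~ n`. -/
theorem rel_sq_mul {s n : G} (hs : s ∈ P.S) (hn : n ∈ P.N) : (s * (s * n))⁻¹ * n ∈ P.B := by
  have h2 : (s * (s * n))⁻¹ * n = n⁻¹ * (s * s)⁻¹ * n := by group
  rw [h2]
  exact conj_mem_inv hn (inv_sq_mem hs) (inv_mem (mul_mem (mem_N hs) (mem_N hs)))

/-- `n * s * s ~ n`. -/
theorem rel_mul_sq {s n : G} (hs : s ∈ P.S) : (n * s * s)⁻¹ * n ∈ P.B := by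
  have h2 : (n * s * s)⁻¹ * n = (s * s)⁻¹ := by group
  rw [h2]
  exact inv_sq_mem hs

theorem prod_mem_N {l : List G} (hl : ∀ s ∈ l, s ∈ P.S) : l.prod ∈ P.N :=
  Subgroup.list_prod_mem _ fun s hs => mem_N (hl s hs)

/-- A distinguished generator does not lie in `B`. -/
theorem not_mem_B {s : G} (hs : s ∈ P.S) : s ∉ P.B := by
  intro h
  apply P.conj_ne s hs
  ext x
  constructor
  · rintro ⟨b, hb, rfl⟩
    exact mul_mem (mul_mem h hb) h
  · intro hx
    exact ⟨s⁻¹ * x * s⁻¹, mul_mem (mul_mem (inv_mem h) hx) (inv_mem h), by group⟩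

/-- The double coset axiom, left version. -/
theorem axiom_left {s n b : G} (hs : s ∈ P.S) (hn : n ∈ P.N) (hb : b ∈ P.B) :
    s * b * n ∈ C P (s * n) ∨ s * b * n ∈ C P n :=
  P.mul_mem_union s hs n hn b hb

/-- The double coset axiom, right version. -/
theorem axiom_right {s n b : G} (hs : s ∈ P.S) (hn : n ∈ P.N) (hb : b ∈ P.B) :
    n * b * s ∈ C P (n * s) ∨ n * b * s ∈ C P n := by
  have h1 := axiom_left (P := P) hs (inv_mem hn) (mul_mem (inv_sq_mem hs) (inv_mem hb))
  have h3 : s * ((s * s)⁻¹ * b⁻¹) * n⁻¹ = (n * b * s)⁻¹ := by group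
  rw [h3] at h1
  rcases h1 with h1 | h1
  · left
    have h2 := inv_mem_C h1
    rw [inv_inv] at h2
    have h4 : C P (s * n⁻¹)⁻¹ = C P (n * s) := by
      have : (s * n⁻¹)⁻¹ = n * s * (s * s)⁻¹ := by group
      rw [this, C_mul_right (inv_sq_mem hs)]
    rwa [h4] at h2
  · right
    have h2 := inv_mem_C h1
    rwa [inv_inv, inv_inv] at h2

/-- `s B s` meets `B s B`. -/
theorem exists_mem_C_self {s : G} (hs : s ∈ P.S) : ∃ b ∈ P.B, s * b * s ∈ C P s := by
  by_contra hcon
  push Not at hcon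
  have key : ∀ b ∈ P.B, s * b * s ∈ P.B := by
    intro b hb
    rcases axiom_left (P := P) hs (mem_N hs) hb with h | h
    · exact mem_B_of_mem_C (P.sq_mem s hs) h
    · exact absurd h (hcon b hb)
  apply P.conj_ne s hs
  ext x
  constructor
  · rintro ⟨b, hb, rfl⟩
    exact key b hb
  · intro hx
    refine ⟨(s * s)⁻¹ * (s * x * s) * (s * s)⁻¹,
      mul_mem (mul_mem (inv_sq_mem hs) (key x hx)) (inv_sq_mem hs), by group⟩

/-! ### Words for elements of `N` -/

/-- Every element of `⟨J⟩ (B ⊓ N)` is represented, modulo `B ⊓ N`, by a word in `J`. -/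
theorem exists_word_of_mem {J : Set G} (hJ : J ⊆ P.S) {n : G}
    (hn : n ∈ Subgroup.closure J ⊔ (P.B ⊓ P.N)) :
    ∃ l : List G, (∀ s ∈ l, s ∈ J) ∧ l.prod⁻¹ * n ∈ P.B := by
  have hle : Subgroup.closure J ⊔ (P.B ⊓ P.N) = Subgroup.closure (J ∪ (P.B ⊓ P.N : Subgroup G)) := by
    rw [Subgroup.closure_union, Subgroup.closure_eq]
  rw [hle] at hn
  have hN : ∀ x ∈ J ∪ ((P.B ⊓ P.N : Subgroup G) : Set G), x ∈ P.N := by
    rintro x (hx | hx)
    · exact mem_N (hJ hx)
    · exact hx.2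
  refine Subgroup.closure_induction_left
    (p := fun x _ => ∃ l : List G, (∀ s ∈ l, s ∈ J) ∧ l.prod⁻¹ * x ∈ P.B) ?_ ?_ ?_ hn
  · exact ⟨[], by simp, by simp [one_mem]⟩
  · rintro x hx y hy ⟨l, hl, hly⟩
    have hyN : y ∈ P.N := (Subgroup.closure_le _).2 hN hy
    have hlN : l.prod ∈ P.N := prod_mem_N fun s hs => hJ (hl s hs)
    rcases hx with hx | hx
    · refine ⟨x :: l, ?_, ?_⟩
      · intro s hs
        rcases List.mem_cons.1 hs with rfl | hs
        · exact hx
        · exact hl s hs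
      · rw [List.prod_cons]
        exact rel_mul_left x hly
    · refine ⟨l, hl, ?_⟩
      have h2 : l.prod⁻¹ * (x * y) = (l.prod⁻¹ * x * l.prod) * (l.prod⁻¹ * y) := by group
      rw [h2]
      exact mul_mem (conj_mem_inv hlN hx.1 hx.2) hly
  · rintro x hx y hy ⟨l, hl, hly⟩
    have hyN : y ∈ P.N := (Subgroup.closure_le _).2 hN hy
    have hlN : l.prod ∈ P.N := prod_mem_N fun s hs => hJ (hl s hs)
    rcases hx with hx | hx
    · refine ⟨x :: l, ?_, ?_⟩
      · intro s hs
        rcases List.mem_cons.1 hs with rfl | hs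
        · exact hx
        · exact hl s hs
      · rw [List.prod_cons]
        -- `(x * l.prod)⁻¹ * (x⁻¹ * y)`
        have h1 : (x * l.prod)⁻¹ * (x⁻¹ * y)
            = (l.prod⁻¹ * (x * x)⁻¹ * l.prod) * (l.prod⁻¹ * y) := by group
        rw [h1]
        exact mul_mem (conj_mem_inv hlN (inv_sq_mem (hJ hx))
          (inv_mem (mul_mem (mem_N (hJ hx)) (mem_N (hJ hx))))) hly
    · refine ⟨l, hl, ?_⟩
      have h2 : l.prod⁻¹ * (x⁻¹ * y) = (l.prod⁻¹ * x⁻¹ * l.prod) * (l.prod⁻¹ * y) := by group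
      rw [h2]
      exact mul_mem (conj_mem_inv hlN (inv_mem hx.1) (inv_mem hx.2)) hly

theorem exists_word {n : G} (hn : n ∈ P.N) :
    ∃ l : List G, (∀ s ∈ l, s ∈ P.S) ∧ l.prod⁻¹ * n ∈ P.B :=
  exists_word_of_mem le_rfl (by rwa [P.closure_sup])

/-! ### The Bruhat decomposition for parabolic subgroups -/

/-- `P_J = B ⟨J⟩ B`. -/
theorem mem_parabolic_iff {J : Set G} (hJ : J ⊆ P.S) (g : G) :
    g ∈ P.parabolic J ↔ ∃ n ∈ Subgroup.closure J, g ∈ C P n := by
  constructor
  · intro hg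
    have hle : P.parabolic J = Subgroup.closure ((P.B : Set G) ∪ J) := by
      rw [Subgroup.closure_union, Subgroup.closure_eq]; rfl
    rw [hle] at hg
    have hJN : Subgroup.closure J ≤ P.N := (Subgroup.closure_le _).2 (hJ.trans P.subset)
    refine Subgroup.closure_induction_left
      (p := fun x _ => ∃ n ∈ Subgroup.closure J, x ∈ C P n) ?_ ?_ ?_ hg
    · exact ⟨1, one_mem _, self_mem_C 1⟩
    · rintro x (hx | hx) y _ ⟨n, hn, hy⟩
      · exact ⟨n, hn, mul_mem_C_left hx hy⟩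
      · obtain ⟨b, hb, b', hb', rfl⟩ := mem_C.1 hy
        have h1 : x * (b * n * b') = (x * b * n) * b' := by group
        rw [h1]
        rcases axiom_left (P := P) (hJ hx) (hJN hn) hb with h | h
        · exact ⟨x * n, mul_mem (Subgroup.subset_closure hx) hn, mul_mem_C_right hb' h⟩
        · exact ⟨n, hn, mul_mem_C_right hb' h⟩
    · rintro x (hx | hx) y _ ⟨n, hn, hy⟩
      · exact ⟨n, hn, mul_mem_C_left (inv_mem hx) hy⟩
      · obtain ⟨b, hb, b', hb', rfl⟩ := mem_C.1 hy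
        have h1 : x⁻¹ * (b * n * b') = (x * ((x * x)⁻¹ * b) * n) * b' := by group
        rw [h1]
        rcases axiom_left (P := P) (hJ hx) (hJN hn) (mul_mem (inv_sq_mem (hJ hx)) hb) with h | h
        · exact ⟨x * n, mul_mem (Subgroup.subset_closure hx) hn, mul_mem_C_right hb' h⟩
        · exact ⟨n, hn, mul_mem_C_right hb' h⟩
  · rintro ⟨n, hn, hg⟩
    exact mem_of_mem_C' le_sup_left hg ((le_sup_right : Subgroup.closure J ≤ _) hn)

theorem parabolic_S_eq_top : P.parabolic P.S = ⊤ := by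
  rw [eq_top_iff, ← P.sup_eq_top]
  refine sup_le le_sup_left ?_
  conv_lhs => rw [← P.closure_sup]
  exact sup_le le_sup_right (inf_le_left.trans le_sup_left)

/-- Bruhat decomposition, existence. -/
theorem bruhat (g : G) : ∃ n ∈ P.N, g ∈ C P n := by
  have hg : g ∈ P.parabolic P.S := by rw [parabolic_S_eq_top]; exact Subgroup.mem_top g
  obtain ⟨n, hn, h⟩ := (mem_parabolic_iff le_rfl g).1 hg
  exact ⟨n, (Subgroup.closure_le _).2 P.subset hn, h⟩

/-! ### The length function -/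

variable (P) in
/-- The length of `n` modulo `B ⊓ N`: the least length of a word `l` in `S` with
`l.prod⁻¹ * n ∈ B`. -/
noncomputable def len (n : G) : ℕ :=
  sInf {k | ∃ l : List G, l.length = k ∧ (∀ s ∈ l, s ∈ P.S) ∧ l.prod⁻¹ * n ∈ P.B}

theorem exists_reduced {n : G} (hn : n ∈ P.N) :
    ∃ l : List G, l.length = len P n ∧ (∀ s ∈ l, s ∈ P.S) ∧ l.prod⁻¹ * n ∈ P.B := by
  have : {k | ∃ l : List G, l.length = k ∧ (∀ s ∈ l, s ∈ P.S) ∧ l.prod⁻¹ * n ∈ P.B}.Nonempty := by
    obtain ⟨l, hl, h⟩ := exists_word (P := P) hn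
    exact ⟨l.length, l, rfl, hl, h⟩
  exact Nat.sInf_mem this

theorem len_le {n : G} {l : List G} (hl : ∀ s ∈ l, s ∈ P.S) (h : l.prod⁻¹ * n ∈ P.B) :
    len P n ≤ l.length :=
  Nat.sInf_le ⟨l, rfl, hl, h⟩

theorem len_prod_le {l : List G} (hl : ∀ s ∈ l, s ∈ P.S) : len P l.prod ≤ l.length :=
  len_le hl (by simp [one_mem])

theorem len_congr {n n' : G} (h : n⁻¹ * n' ∈ P.B) : len P n = len P n' := by
  unfold len
  congr 1
  ext k
  constructor
  · rintro ⟨l, hk, hl, hl'⟩
    exact ⟨l, hk, hl, rel_trans hl' h⟩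
  · rintro ⟨l, hk, hl, hl'⟩
    exact ⟨l, hk, hl, rel_trans hl' (rel_symm h)⟩

theorem len_one : len P (1 : G) = 0 := by
  have := len_prod_le (P := P) (l := []) (by simp)
  simpa using this

theorem len_eq_zero_iff {n : G} (hn : n ∈ P.N) : len P n = 0 ↔ n ∈ P.B := by
  constructor
  · intro h
    obtain ⟨l, hl, _, hl'⟩ := exists_reduced (P := P) hn
    rw [h, List.length_eq_zero_iff] at hl
    subst hl
    simpa using hl'
  · intro h
    have := len_congr (P := P) (n := 1) (n' := n) (by simpa using h)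
    rw [← this, len_one]

theorem len_mul_left_le {s n : G} (hs : s ∈ P.S) (hn : n ∈ P.N) :
    len P (s * n) ≤ len P n + 1 := by
  obtain ⟨l, hl, hlS, hl'⟩ := exists_reduced (P := P) hn
  have := len_le (P := P) (n := s * n) (l := s :: l) (by
    intro x hx
    rcases List.mem_cons.1 hx with rfl | hx
    · exact hs
    · exact hlS x hx) (by
    rw [List.prod_cons]
    exact rel_mul_left s hl')
  rw [List.length_cons, hl] at this
  exact this

theorem len_le_mul_left {s n : G} (hs : s ∈ P.S) (hn : n ∈ P.N) :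
    len P n ≤ len P (s * n) + 1 := by
  have h1 := len_mul_left_le (P := P) hs (mul_mem (mem_N hs) hn)
  rwa [len_congr (rel_sq_mul hs hn)] at h1

theorem len_mul_right_le {s n : G} (hs : s ∈ P.S) (hn : n ∈ P.N) :
    len P (n * s) ≤ len P n + 1 := by
  obtain ⟨l, hl, hlS, hl'⟩ := exists_reduced (P := P) hn
  have := len_le (P := P) (n := n * s) (l := l ++ [s]) (by
    intro x hx
    rcases List.mem_append.1 hx with hx | hx
    · exact hlS x hx
    · rw [List.mem_singleton] at hx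
      subst hx
      exact hs) (by
    rw [List.prod_append, List.prod_singleton]
    exact rel_mul_right (prod_mem_N hlS) hn (mem_N hs) hl')
  rw [List.length_append, List.length_singleton, hl] at this
  exact this

theorem len_le_mul_right {s n : G} (hs : s ∈ P.S) (hn : n ∈ P.N) :
    len P n ≤ len P (n * s) + 1 := by
  have h1 := len_mul_right_le (P := P) hs (mul_mem hn (mem_N hs))
  rwa [len_congr (rel_mul_sq hs)] at h1

theorem len_gen_le {s : G} (hs : s ∈ P.S) : len P s ≤ 1 := by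
  have := len_prod_le (P := P) (l := [s]) (by simpa using hs)
  simpa using this

theorem len_gen {s : G} (hs : s ∈ P.S) : len P s = 1 := by
  refine le_antisymm (len_gen_le hs) ?_
  rw [Nat.one_le_iff_ne_zero, Ne, len_eq_zero_iff (mem_N hs)]
  exact not_mem_B hs

/-! ### Uniqueness in the Bruhat decomposition -/

theorem rel_of_C_eq_aux (k : ℕ) : ∀ n n' : G, n ∈ P.N → n' ∈ P.N → len P n' = k →
    len P n' ≤ len P n → C P n = C P n' → n⁻¹ * n' ∈ P.B := by
  induction k with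
  | zero =>
    intro n n' hn hn' hk _ hC
    rw [len_eq_zero_iff hn'] at hk
    have h1 : n ∈ C P n' := hC ▸ self_mem_C n
    exact mul_mem (inv_mem (mem_B_of_mem_C hk h1)) hk
  | succ k ih =>
    intro n n' hn hn' hk hle hC
    obtain ⟨l, hl, hlS, hl'⟩ := exists_reduced (P := P) hn'
    rw [hk] at hl
    match l, hl, hlS, hl' with
    | s :: l₂, hl, hlS, hl' =>
      have hs : s ∈ P.S := hlS s (by simp)
      have hl₂S : ∀ x ∈ l₂, x ∈ P.S := fun x hx => hlS x (by simp [hx])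
      set m := l₂.prod with hm
      have hmN : m ∈ P.N := prod_mem_N hl₂S
      rw [List.prod_cons, ← hm] at hl'
      have hlen : l₂.length = k := by simpa using hl
      -- length of `m` is exactly `k`
      have hmk : len P m = k := by
        have h1 : len P m ≤ k := hlen ▸ len_prod_le hl₂S
        have h2 : len P (s * m) ≤ len P m + 1 := len_mul_left_le hs hmN
        rw [len_congr hl', hk] at h2
        omega
      have hC' : C P n = C P (s * m) := hC.trans (C_eq_of_rel hl').symm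
      have h1 : s * m ∈ C P n := hC' ▸ self_mem_C (s * m)
      obtain ⟨b, hb, b', hb', h2⟩ := mem_C.1 h1
      have h3 : m = (s * ((s * s)⁻¹ * b) * n) * b' := by
        have : s * m = b * n * b' := h2
        calc m = s⁻¹ * (s * m) := by group
          _ = s⁻¹ * (b * n * b') := by rw [this]
          _ = _ := by group
      rcases axiom_left (P := P) hs hn (mul_mem (inv_sq_mem hs) hb) with h | h
      · have h4 : m ∈ C P (s * n) := by
          rw [h3]; exact mul_mem_C_right hb' h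
        have h5 : C P (s * n) = C P m := (C_eq_of_mem h4).symm
        have h6 : len P n ≤ len P (s * n) + 1 := len_le_mul_left hs hn
        have h7 := ih (s * n) m (mul_mem (mem_N hs) hn) hmN hmk (by omega) h5
        -- `(s * n)⁻¹ * m ∈ B`, so `n⁻¹ * (s * m) ∈ B`
        have h8 : (s * (s * n))⁻¹ * (s * m) ∈ P.B := rel_mul_left s h7
        exact rel_trans (rel_trans (rel_symm (rel_sq_mul hs hn)) h8) hl'
      · have h4 : m ∈ C P n := by
          rw [h3]; exact mul_mem_C_right hb' h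
        have h5 : C P n = C P m := (C_eq_of_mem h4).symm
        have h7 := ih n m hn hmN hmk (by omega) h5
        have h8 := len_congr (P := P) h7
        omega

/-- Uniqueness in the Bruhat decomposition. -/
theorem rel_of_C_eq {n n' : G} (hn : n ∈ P.N) (hn' : n' ∈ P.N) (h : C P n = C P n') :
    n⁻¹ * n' ∈ P.B := by
  rcases le_total (len P n') (len P n) with hle | hle
  · exact rel_of_C_eq_aux _ n n' hn hn' rfl hle h
  · exact rel_symm (rel_of_C_eq_aux _ n' n hn' hn rfl hle h.symm)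

theorem C_eq_iff {n n' : G} (hn : n ∈ P.N) (hn' : n' ∈ P.N) :
    C P n = C P n' ↔ n⁻¹ * n' ∈ P.B :=
  ⟨rel_of_C_eq hn hn', C_eq_of_rel⟩

theorem not_C_mul_left_eq {s n : G} (hs : s ∈ P.S) (hn : n ∈ P.N) : C P (s * n) ≠ C P n := by
  intro h
  have h1 := rel_of_C_eq (mul_mem (mem_N hs) hn) hn h
  have h2 : n * ((s * n)⁻¹ * n) * n⁻¹ ∈ P.B :=
    conj_mem' hn h1 (mul_mem (inv_mem (mul_mem (mem_N hs) hn)) hn)
  have h3 : n * ((s * n)⁻¹ * n) * n⁻¹ = s⁻¹ := by group
  rw [h3] at h2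
  exact not_mem_B hs (by simpa using inv_mem h2)

/-! ### Multiplication of double cosets and the exchange condition -/

/-- The key step: if `s B w` meets `B s w B` and `s B w a` meets `B w a B` through the same element
`b` then `s w ~ w a`. -/
theorem key {s a w b : G} (hs : s ∈ P.S) (ha : a ∈ P.S) (hw : w ∈ P.N)
    (h1 : s * b * w ∈ C P (s * w)) (h2 : s * b * (w * a) ∈ C P (w * a)) :
    (s * w)⁻¹ * (w * a) ∈ P.B := by
  obtain ⟨b₁, hb₁, b₂, hb₂, h3⟩ := mem_C.1 h2
  have h4 : s * b * w = b₁ * (w * a * (b₂ * (a * a)⁻¹) * a) := by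
    calc s * b * w = s * b * (w * a) * a⁻¹ := by group
      _ = b₁ * (w * a) * b₂ * a⁻¹ := by rw [h3]
      _ = _ := by group
  have haN := mem_N (P := P) ha
  rcases axiom_right (P := P) ha (mul_mem hw haN) (mul_mem hb₂ (inv_sq_mem ha)) with h | h
  · exfalso
    have h5 : s * b * w ∈ C P w := by
      rw [h4]
      have := mul_mem_C_left hb₁ h
      rwa [C_eq_of_rel (rel_mul_sq (P := P) (n := w) ha)] at this
    exact not_C_mul_left_eq hs hw (C_eq_of_mem_mem h1 h5)
  · have h5 : s * b * w ∈ C P (w * a) := by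
      rw [h4]
      exact mul_mem_C_left hb₁ h
    exact rel_of_C_eq (mul_mem (mem_N hs) hw) (mul_mem hw haN) (C_eq_of_mem_mem h1 h5)

theorem mul_mem_C_of_le_aux (k : ℕ) : ∀ s n b : G, s ∈ P.S → n ∈ P.N → b ∈ P.B → len P n = k →
    len P n ≤ len P (s * n) → s * b * n ∈ C P (s * n) := by
  induction k with
  | zero =>
    intro s n b hs hn hb hk _
    rw [len_eq_zero_iff hn] at hk
    rw [C_mul_right hk]
    exact mem_C.2 ⟨1, one_mem _, b * n, mul_mem hb hk, by group⟩
  | succ k ih =>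
    intro s n b hs hn hb hk hle
    obtain ⟨l, hl, hlS, hl'⟩ := exists_reduced (P := P) hn
    rw [hk] at hl
    rcases List.eq_nil_or_concat l with rfl | ⟨l₁, a, rfl⟩
    · simp at hl
    rw [List.concat_eq_append] at hl hlS hl'
    have ha : a ∈ P.S := hlS a (by simp)
    have haN : a ∈ P.N := mem_N ha
    have hl₁S : ∀ x ∈ l₁, x ∈ P.S := fun x hx => hlS x (by simp [hx])
    set w := l₁.prod with hw
    have hwN : w ∈ P.N := prod_mem_N hl₁S
    have hlen : l₁.length = k := by simpa using hl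
    rw [List.prod_append, List.prod_singleton, ← hw] at hl'
    have hwk : len P w = k := by
      have h1 : len P w ≤ k := hlen ▸ len_prod_le hl₁S
      have h2 : len P (w * a) ≤ len P w + 1 := len_mul_right_le ha hwN
      rw [len_congr hl', hk] at h2
      omega
    have hsN := mem_N (P := P) hs
    -- `len (s * n) = len (s * w * a)`
    have h1 : len P (s * n) = len P (s * w * a) := by
      rw [mul_assoc]
      exact (len_congr (rel_mul_left s hl')).symm
    have h2 : len P (s * w * a) ≤ len P (s * w) + 1 := len_mul_right_le ha (mul_mem hsN hwN)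
    have h3 : s * b * w ∈ C P (s * w) := ih s w b hs hwN hb hwk (by omega)
    rcases axiom_left (P := P) hs hn hb with h | h
    · exact h
    exfalso
    -- `s * b * (w * a) ∈ C (w * a)`
    have h4 : s * b * (w * a) ∈ C P (w * a) := by
      have h5 : s * b * (w * a) = s * b * n * (n⁻¹ * (w * a)) := by group
      rw [h5, C_eq_of_rel hl']
      exact mul_mem_C_right (rel_symm hl') h
    have h6 := key hs ha hwN h3 h4
    -- `s w ~ w a ~ n`, so `s n ~ s s w ~ w`
    have h7 : (s * w)⁻¹ * n ∈ P.B := rel_trans h6 hl'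
    have h8 : len P (s * n) = len P w :=
      len_congr (rel_trans (rel_symm (rel_mul_left s h7)) (rel_sq_mul hs hwN))
    omega

/-- If `len n ≤ len (s n)` then `s B n ⊆ B s n B`. -/
theorem mul_mem_C_of_le {s n b : G} (hs : s ∈ P.S) (hn : n ∈ P.N) (hb : b ∈ P.B)
    (h : len P n ≤ len P (s * n)) : s * b * n ∈ C P (s * n) :=
  mul_mem_C_of_le_aux _ s n b hs hn hb rfl h

/-- If `len (s n) ≤ len n` then `s B n` meets `B n B`. -/
theorem exists_mul_mem_C {s n : G} (hs : s ∈ P.S) (hn : n ∈ P.N)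
    (h : len P (s * n) ≤ len P n) : ∃ b ∈ P.B, s * b * n ∈ C P n := by
  have hsN := mem_N (P := P) hs
  obtain ⟨b, hb, hC⟩ := exists_mem_C_self (P := P) hs
  obtain ⟨b₁, hb₁, b₂, hb₂, h1⟩ := mem_C.1 hC
  refine ⟨b, hb, ?_⟩
  have hsn : s * n ∈ P.N := mul_mem hsN hn
  have h2 : len P (s * n) ≤ len P (s * (s * n)) := by
    rw [len_congr (rel_sq_mul hs hn)]; exact h
  have h3 := mul_mem_C_of_le hs hsn hb₂ h2
  rw [C_eq_of_rel (rel_sq_mul hs hn)] at h3
  -- `s b s (s n) ∈ C n`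
  have h4 : s * b * n = (b₁ * (s * b₂ * (s * n))) * ((s * (s * n))⁻¹ * n) := by
    have : s * b * n = s * b * s * (s * n) * ((s * (s * n))⁻¹ * n) := by group
    rw [this, h1]; group
  rw [h4]
  exact mul_mem_C_right (rel_sq_mul hs hn) (mul_mem_C_left hb₁ h3)

/-- The lengths of `n` and `s n` always differ. -/
theorem len_mul_left_ne {s n : G} (hs : s ∈ P.S) (hn : n ∈ P.N) : len P (s * n) ≠ len P n := by
  intro h
  obtain ⟨b, hb, h1⟩ := exists_mul_mem_C hs hn h.le
  have h2 := mul_mem_C_of_le hs hn hb h.ge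
  exact not_C_mul_left_eq hs hn (C_eq_of_mem_mem h2 h1)

theorem len_mul_left_cases {s n : G} (hs : s ∈ P.S) (hn : n ∈ P.N) :
    len P (s * n) = len P n + 1 ∨ len P n = len P (s * n) + 1 := by
  have h1 := len_mul_left_ne (P := P) hs hn
  have h2 := len_mul_left_le (P := P) hs hn
  have h3 := len_le_mul_left (P := P) hs hn
  omega

/-- Exchange condition (for arbitrary words). -/
theorem exchange {s : G} (hs : s ∈ P.S) (l : List G) (hl : ∀ x ∈ l, x ∈ P.S)
    (h : len P (s * l.prod) ≤ len P l.prod) :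
    ∃ (l₁ : List G) (a : G) (l₂ : List G), l = l₁ ++ a :: l₂ ∧
      (s * l₁.prod)⁻¹ * (l₁.prod * a) ∈ P.B := by
  induction l using List.reverseRecOn with
  | nil =>
    exfalso
    rw [List.prod_nil, mul_one, len_one, len_gen hs] at h
    omega
  | append_singleton l a ih =>
    have ha : a ∈ P.S := hl a (by simp)
    have hl₁S : ∀ x ∈ l, x ∈ P.S := fun x hx => hl x (by simp [hx])
    have hwN : l.prod ∈ P.N := prod_mem_N hl₁S
    have hsN := mem_N (P := P) hs
    rcases le_or_gt (len P (s * l.prod)) (len P l.prod) with hle | hlt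
    · obtain ⟨l₁, a', l₂, h1, h2⟩ := ih hl₁S hle
      refine ⟨l₁, a', l₂ ++ [a], ?_, h2⟩
      rw [h1]; simp
    · refine ⟨l, a, [], rfl, ?_⟩
      rw [List.prod_append, List.prod_singleton] at h
      obtain ⟨b, hb, h1⟩ := exists_mul_mem_C hs (mul_mem hwN (mem_N ha)) h
      exact key hs ha hwN (mul_mem_C_of_le hs hwN hb hlt.le) h1

/-- Every word in `S` has a sublist which is a reduced word for the same element modulo `B ⊓ N`. -/
theorem exists_reduced_sublist (l : List G) (hl : ∀ x ∈ l, x ∈ P.S) :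
    ∃ l' : List G, l'.Sublist l ∧ l'.length = len P l.prod ∧ l'.prod⁻¹ * l.prod ∈ P.B := by
  induction l with
  | nil => exact ⟨[], List.Sublist.refl _, by simp [len_one], by simp [one_mem]⟩
  | cons s l ih =>
    have hs : s ∈ P.S := hl s (by simp)
    have hsN := mem_N (P := P) hs
    have hlS : ∀ x ∈ l, x ∈ P.S := fun x hx => hl x (by simp [hx])
    obtain ⟨l', hsub, hlen, hrel⟩ := ih hlS
    have hl'S : ∀ x ∈ l', x ∈ P.S := fun x hx => hlS x (hsub.subset hx)
    have hlN : l.prod ∈ P.N := prod_mem_N hlS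
    have hl'N : l'.prod ∈ P.N := prod_mem_N hl'S
    rw [List.prod_cons]
    rcases len_mul_left_cases (P := P) hs hlN with h | h
    · exact ⟨s :: l', hsub.cons_cons s, by simp [hlen, h], by
        rw [List.prod_cons]; exact rel_mul_left s hrel⟩
    · -- `len (s * l'.prod) ≤ len l'.prod`
      have h1 : len P (s * l'.prod) = len P (s * l.prod) := len_congr (rel_mul_left s hrel)
      have h2 : len P l'.prod = len P l.prod := len_congr hrel
      obtain ⟨l₁, a, l₂, h3, h4⟩ := exchange hs l' hl'S (by omega)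
      have ha : a ∈ P.S := hl'S a (by simp [h3])
      have hl₁S : ∀ x ∈ l₁, x ∈ P.S := fun x hx => hl'S x (by simp [h3, hx])
      have hl₂S : ∀ x ∈ l₂, x ∈ P.S := fun x hx => hl'S x (by simp [h3, hx])
      have hl₁N := prod_mem_N (P := P) hl₁S
      have hl₂N := prod_mem_N (P := P) hl₂S
      have haN := mem_N (P := P) ha
      refine ⟨l₁ ++ l₂, ?_, ?_, ?_⟩
      · have : (l₁ ++ l₂).Sublist l' := by
          rw [h3]
          exact List.Sublist.append (List.Sublist.refl _) (List.sublist_cons_self a l₂)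
        exact (this.trans hsub).trans (List.sublist_cons_self s l)
      · have h5 : l'.length = l₁.length + (l₂.length + 1) := by rw [h3]; simp
        rw [List.length_append]
        omega
      · -- `l₁ l₂ ~ l₁ a a l₂ ~ s l₁ a l₂ = s l' ~ s l`
        have e1 : (s * l₁.prod * a)⁻¹ * (l₁.prod * a * a) ∈ P.B :=
          rel_mul_right (mul_mem hsN hl₁N) (mul_mem hl₁N haN) haN h4
        have e2 : (s * l₁.prod * a)⁻¹ * l₁.prod ∈ P.B := rel_trans e1 (rel_mul_sq ha)
        have e3 : (s * l₁.prod * a * l₂.prod)⁻¹ * (l₁.prod * l₂.prod) ∈ P.B :=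
          rel_mul_right (mul_mem (mul_mem hsN hl₁N) haN) hl₁N hl₂N e2
        have e4 : s * l₁.prod * a * l₂.prod = s * l'.prod := by
          rw [h3, List.prod_append, List.prod_cons]; group
        rw [e4] at e3
        rw [List.prod_append]
        exact rel_trans (rel_symm e3) (rel_mul_left s hrel)

/-- An element of `⟨J⟩ (B ⊓ N)` has a reduced word with letters in `J`. -/
theorem exists_reduced_of_mem {J : Set G} (hJ : J ⊆ P.S) {n : G}
    (hn : n ∈ Subgroup.closure J ⊔ (P.B ⊓ P.N)) :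
    ∃ l : List G, l.length = len P n ∧ (∀ s ∈ l, s ∈ J) ∧ l.prod⁻¹ * n ∈ P.B := by
  obtain ⟨l, hl, hrel⟩ := exists_word_of_mem hJ hn
  obtain ⟨l', hsub, hlen, hrel'⟩ := exists_reduced_sublist (P := P) l fun x hx => hJ (hl x hx)
  exact ⟨l', hlen.trans (len_congr hrel), fun x hx => hl x (hsub.subset hx), rel_trans hrel' hrel⟩

/-- `S ∩ ⟨J⟩ (B ⊓ N) = J`. -/
theorem mem_of_mem_closure_sup {J : Set G} (hJ : J ⊆ P.S) {s : G} (hs : s ∈ P.S)
    (h : s ∈ Subgroup.closure J ⊔ (P.B ⊓ P.N)) : s ∈ J := by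
  obtain ⟨l, hlen, hl, hrel⟩ := exists_reduced_of_mem hJ h
  rw [len_gen hs, List.length_eq_one_iff] at hlen
  obtain ⟨a, rfl⟩ := hlen
  have ha : a ∈ J := hl a (by simp)
  rw [List.prod_singleton] at hrel
  rwa [← P.inj a (hJ ha) s hs hrel]

/-- `S ∩ P_J = J`. -/
theorem mem_parabolic_gen_iff {J : Set G} (hJ : J ⊆ P.S) {s : G} (hs : s ∈ P.S) :
    s ∈ P.parabolic J ↔ s ∈ J := by
  constructor
  · intro h
    obtain ⟨n, hn, hC⟩ := (mem_parabolic_iff hJ s).1 h
    have hnN : n ∈ P.N := (Subgroup.closure_le _).2 (hJ.trans P.subset) hn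
    have h1 : n⁻¹ * s ∈ P.B := rel_of_C_eq hnN (mem_N hs) (C_eq_of_mem hC).symm
    apply mem_of_mem_closure_sup hJ hs
    have h2 : s = n * (n⁻¹ * s) := by group
    rw [h2]
    have h3 : n⁻¹ * s ∈ P.N := mul_mem (inv_mem hnN) (mem_N hs)
    exact mul_mem (Subgroup.mem_sup_left hn) (Subgroup.mem_sup_right ⟨h1, h3⟩)
  · intro h
    exact (le_sup_right : Subgroup.closure J ≤ _) (Subgroup.subset_closure h)

/-! ### Subgroups containing `B` -/

/-- If `len (s n) ≤ len n` then `s ∈ B n B n⁻¹ B`. -/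
theorem exists_eq_of_len_le {s n : G} (hs : s ∈ P.S) (hn : n ∈ P.N)
    (h : len P (s * n) ≤ len P n) :
    ∃ b₁ ∈ P.B, ∃ b₂ ∈ P.B, ∃ b₃ ∈ P.B, s = b₁ * (n * b₂ * n⁻¹) * b₃ := by
  obtain ⟨b, hb, h1⟩ := exists_mul_mem_C hs hn h
  obtain ⟨b₁, hb₁, b₂, hb₂, h2⟩ := mem_C.1 h1
  refine ⟨b₁, hb₁, b₂, hb₂, b⁻¹, inv_mem hb, ?_⟩
  calc s = s * b * n * n⁻¹ * b⁻¹ := by group
    _ = b₁ * n * b₂ * n⁻¹ * b⁻¹ := by rw [h2]
    _ = _ := by group

/-- If a subgroup containing `B` contains the product of a reduced word, it contains the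
letters. -/
theorem mem_of_reduced {M : Subgroup G} (hM : P.B ≤ M) (l : List G) (hl : ∀ x ∈ l, x ∈ P.S)
    (hred : l.length = len P l.prod) (h : l.prod ∈ M) : ∀ x ∈ l, x ∈ M := by
  induction l with
  | nil => simp
  | cons s l ih =>
    have hs : s ∈ P.S := hl s (by simp)
    have hlS : ∀ x ∈ l, x ∈ P.S := fun x hx => hl x (by simp [hx])
    have hlN := prod_mem_N (P := P) hlS
    rw [List.prod_cons] at hred h
    rw [List.length_cons] at hred
    have h1 := len_prod_le (P := P) hlS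
    have h2 := len_mul_left_le (P := P) hs hlN
    have h3 : len P (s * (s * l.prod)) = len P l.prod := len_congr (rel_sq_mul hs hlN)
    obtain ⟨b₁, hb₁, b₂, hb₂, b₃, hb₃, h4⟩ := exists_eq_of_len_le (P := P) hs
      (mul_mem (mem_N hs) hlN) (by omega)
    have h5 : s ∈ M := by
      rw [h4]
      exact mul_mem (mul_mem (hM hb₁) (mul_mem (mul_mem h (hM hb₂)) (inv_mem h))) (hM hb₃)
    have h6 : l.prod ∈ M := by
      have := mul_mem (inv_mem h5) h
      rwa [inv_mul_cancel_left] at this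
    intro x hx
    rcases List.mem_cons.1 hx with rfl | hx
    · exact h5
    · exact ih hlS (by omega) h6 x hx

/-- Every subgroup containing `B` is a standard parabolic subgroup. -/
theorem eq_parabolic {M : Subgroup G} (hM : P.B ≤ M) : M = P.parabolic (P.S ∩ M) := by
  apply le_antisymm
  · intro g hg
    obtain ⟨n, hn, hC⟩ := bruhat (P := P) g
    obtain ⟨l, hlen, hlS, hrel⟩ := exists_reduced (P := P) hn
    rw [← C_eq_of_rel hrel] at hC
    have h1 : l.prod ∈ M := mem_of_mem_C hM hC hg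
    have h2 := mem_of_reduced hM l hlS (hlen.trans (len_congr hrel).symm) h1
    refine mem_of_mem_C' le_sup_left hC ((le_sup_right : Subgroup.closure _ ≤ _) ?_)
    exact Subgroup.list_prod_mem _ fun x hx => Subgroup.subset_closure ⟨hlS x hx, h2 x hx⟩
  · exact sup_le hM ((Subgroup.closure_le _).2 fun x hx => hx.2)

/-- If `B ≤ M` and `w B w⁻¹ ≤ M` for the product `w` of a reduced word then `w ∈ M`. -/
theorem prod_mem_of_conj_mem {M : Subgroup G} (hM : P.B ≤ M) (l : List G)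
    (hl : ∀ x ∈ l, x ∈ P.S) (hred : l.length = len P l.prod)
    (h : ∀ b ∈ P.B, l.prod * b * l.prod⁻¹ ∈ M) : l.prod ∈ M := by
  induction l with
  | nil => simp [one_mem]
  | cons s l ih =>
    have hs : s ∈ P.S := hl s (by simp)
    have hlS : ∀ x ∈ l, x ∈ P.S := fun x hx => hl x (by simp [hx])
    have hlN := prod_mem_N (P := P) hlS
    rw [List.prod_cons] at hred h ⊢
    rw [List.length_cons] at hred
    have h1 := len_prod_le (P := P) hlS
    have h2 := len_mul_left_le (P := P) hs hlN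
    have h3 : len P (s * (s * l.prod)) = len P l.prod := len_congr (rel_sq_mul hs hlN)
    obtain ⟨b₁, hb₁, b₂, hb₂, b₃, hb₃, h4⟩ := exists_eq_of_len_le (P := P) hs
      (mul_mem (mem_N hs) hlN) (by omega)
    have h5 : s ∈ M := by
      rw [h4]
      exact mul_mem (mul_mem (hM hb₁) (h b₂ hb₂)) (hM hb₃)
    refine mul_mem h5 (ih hlS (by omega) fun b hb => ?_)
    have := mul_mem (mul_mem (inv_mem h5) (h b hb)) h5
    have h6 : s⁻¹ * (s * l.prod * b * (s * l.prod)⁻¹) * s = l.prod * b * l.prod⁻¹ := by group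
    rwa [h6] at this

/-- If `B ≤ M`, `n ∈ N` and `n B n⁻¹ ≤ M` then `n ∈ M`. -/
theorem mem_of_conj_mem {M : Subgroup G} (hM : P.B ≤ M) {n : G} (hn : n ∈ P.N)
    (h : ∀ b ∈ P.B, n * b * n⁻¹ ∈ M) : n ∈ M := by
  obtain ⟨l, hlen, hlS, hrel⟩ := exists_reduced (P := P) hn
  have h1 : l.prod ∈ M := by
    refine prod_mem_of_conj_mem hM l hlS (hlen.trans (len_congr hrel).symm) fun b hb => ?_
    have h2 := h _ (mul_mem (mul_mem (inv_mem hrel) hb) hrel)
    have h3 : n * ((l.prod⁻¹ * n)⁻¹ * b * (l.prod⁻¹ * n)) * n⁻¹ = l.prod * b * l.prod⁻¹ := by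
      group
    rwa [h3] at h2
  have h2 : n = l.prod * (l.prod⁻¹ * n) := by group
  rw [h2]
  exact mul_mem h1 (hM hrel)

/-- If `B ≤ M` and `g B g⁻¹ ≤ M` then `g ∈ M`. -/
theorem mem_of_conj_mem' {M : Subgroup G} (hM : P.B ≤ M) {g : G}
    (h : ∀ b ∈ P.B, g * b * g⁻¹ ∈ M) : g ∈ M := by
  obtain ⟨n, hn, hC⟩ := bruhat (P := P) g
  obtain ⟨x, hx, y, hy, rfl⟩ := mem_C.1 hC
  refine mul_mem (mul_mem (hM hx) ?_) (hM hy)
  refine mem_of_conj_mem hM hn fun b hb => ?_
  have h1 := h _ (mul_mem (mul_mem (inv_mem hy) hb) hy)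
  have h2 := mul_mem (mul_mem (inv_mem (hM hx)) h1) (hM hx)
  have h3 : x⁻¹ * (x * n * y * (y⁻¹ * b * y) * (x * n * y)⁻¹) * x = n * b * n⁻¹ := by group
  rwa [h3] at h2

end Cfsg.Agent.LieExceptional.BNPairCore
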