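import Mathlib
import Cfsg.Prelude.Def_LieExceptional
import Cfsg.Agent.PermutationGroups.ZassenhausBasic
import Cfsg.Agent.Solvable.FrobeniusTheorem

/-!
# The regular normal subgroup of a point stabiliser in a finite Zassenhaus group
-/

set_option autoImplicit false

open scoped Pointwise

namespace Cfsg.Agent.LieExceptional.ZassenhausKernel

open Cfsg.Agent.PermutationGroups.ZassenhausBasic

variable {G Ω : Type*} [Group G] [Finite G] [MulAction G Ω] [Finite Ω]

/-- The Frobenius kernel of the stabiliser of a point `a` in a finite Zassenhaus group. -/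
theorem exists_kernel (hZ : Cfsg.IsZassenhausGroup G Ω) (a : Ω) :
    ∃ H : Subgroup G, H ≤ MulAction.stabilizer G a ∧
      (H.subgroupOf (MulAction.stabilizer G a)).Normal ∧
      Nat.card H + 1 = Nat.card Ω ∧
      (∀ u ∈ H, u ≠ 1 → ∀ c : Ω, u • c = c → c = a) ∧
      (∀ y z : Ω, y ≠ a → z ≠ a → ∃! u : H, (u : G) • y = z) := by
  classical
  have := Fintype.ofFinite Ω
  -- a second point
  obtain ⟨b, hab⟩ : ∃ b : Ω, a ≠ b := by
    obtain ⟨g, hg, c, d, hcd, hc, hd⟩ := hZ.2.2.2.1
    by_cases hac : a = c
    · exact ⟨d, by rw [hac]; exact hcd⟩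
    · exact ⟨c, hac⟩
  set S := MulAction.stabilizer G a with hS
  set E : Subgroup S := (MulAction.stabilizer G a ⊓ MulAction.stabilizer G b).subgroupOf S with hE
  have hEcompl : Cfsg.IsFrobeniusComplement E := isFrobeniusComplement hZ hab
  obtain ⟨N, hN1, hN2, hN3⟩ := Cfsg.Agent.Solvable.FrobeniusTheorem.frobenius hEcompl
  let H : Subgroup G := N.map S.subtype
  have hHS : H ≤ S := by
    rintro x ⟨y, hy, rfl⟩
    exact y.2
  have hsub : H.subgroupOf S = N := by
    ext x
    rw [Subgroup.mem_subgroupOf]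
    constructor
    · rintro ⟨y, hy, hyx⟩
      have : y = x := Subtype.ext hyx
      rw [← this]; exact hy
    · intro hx
      exact ⟨x, hx, rfl⟩
  -- transitivity of `S` on the remaining points
  have htr : ∀ y z : Ω, y ≠ a → z ≠ a → ∃ g : S, (g : G) • y = z := by
    intro y z hy hz
    obtain ⟨g, hga, hgy⟩ := exists_smul_eq hZ (a := a) (b := y) (c := a) (d := z) hy.symm hz.symm
    exact ⟨⟨g, hga⟩, hgy⟩
  -- elements of `H` fix only `a`
  have hfix : ∀ u ∈ H, u ≠ 1 → ∀ c : Ω, u • c = c → c = a := by
    rintro u ⟨y, hy, rfl⟩ hu1 c hc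
    by_contra hca
    have hy' : y ∈ Cfsg.frobeniusKernel E := by rw [← hN1]; exact hy
    rcases hy' with h1 | h1
    · exact hu1 (by rw [h1]; rfl)
    · obtain ⟨g, hg⟩ := htr b c hab.symm hca
      apply h1 g
      rw [Subgroup.mem_pointwise_smul_iff_inv_smul_mem, ← map_inv]
      change g⁻¹ * y * g⁻¹⁻¹ ∈ E
      rw [inv_inv, hE, Subgroup.mem_subgroupOf]
      refine ⟨(g⁻¹ * y * g).2, ?_⟩
      change ((g : G)⁻¹ * (y : G) * (g : G)) • b = b
      rw [mul_smul, mul_smul, hg, inv_smul_eq_iff, hg]
      exact hc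
  -- order
  have hcardN : Nat.card N = E.index := by
    have h1 := hN3.index_eq_card
    exact h1.symm
  have hindex : E.index + 1 = Nat.card Ω := by
    -- orbit-stabiliser for `S` acting on `Ω`, orbit of `b`
    have h1 : E = MulAction.stabilizer S b := by
      ext x
      rw [hE, Subgroup.mem_subgroupOf, Subgroup.mem_inf]
      constructor
      · intro h; exact h.2
      · intro h; exact ⟨x.2, h⟩
    rw [h1, MulAction.index_stabilizer]
    have h2 : MulAction.orbit S b = {x : Ω | x ≠ a} := by
      ext x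
      constructor
      · rintro ⟨g, rfl⟩ h
        apply hab
        have hga : (g : G) • a = a := g.2
        have h' : (g : G) • b = (g : G) • a := by rw [hga]; exact h
        exact (smul_left_cancel _ h').symm
      · intro hx
        obtain ⟨g, hg⟩ := htr b x hab.symm hx
        exact ⟨g, hg⟩
    rw [h2]
    have h3 : ({x : Ω | x ≠ a} : Set Ω) = {a}ᶜ := by ext x; simp
    rw [h3, Set.ncard_compl]
    simp only [Set.ncard_singleton]
    have : 0 < Nat.card Ω := Nat.card_pos_iff.2 ⟨⟨a⟩, inferInstance⟩
    omega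
  have hcardH : Nat.card H = Nat.card N :=
    Nat.card_congr (Subgroup.equivMapOfInjective N S.subtype S.subtype_injective).toEquiv.symm
  have hcard : Nat.card H + 1 = Nat.card Ω := by rw [hcardH, hcardN, hindex]
  refine ⟨H, hHS, ?_, hcard, hfix, ?_⟩
  · rw [hsub]; exact hN2
  · intro y z hy hz
    have hne : ∀ w : Ω, w ≠ a → ∀ u : H, (u : G) • w ≠ a := by
      intro w hw u hu
      apply hw
      have h1 : (u : G) • a = a := hHS u.2
      exact (MulAction.injective (u : G)) (hu.trans h1.symm)
    let f : H → {x : Ω // x ≠ a} := fun u => ⟨(u : G) • y, hne y hy u⟩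
    have hf : Function.Injective f := by
      intro u v huv
      have h1 : (u : G) • y = (v : G) • y := congrArg Subtype.val huv
      by_contra hne'
      have h2 : ((v⁻¹ * u : H) : G) ≠ 1 := by
        intro h
        apply hne'
        have : v⁻¹ * u = 1 := Subtype.ext h
        exact (inv_mul_eq_one.1 this).symm
      have h3 : ((v⁻¹ * u : H) : G) • y = y := by
        rw [Subgroup.coe_mul, Subgroup.coe_inv, mul_smul, h1, inv_smul_smul]
      exact hy (hfix _ (v⁻¹ * u : H).2 h2 y h3)
    have hcard' : Nat.card H = Nat.card {x : Ω // x ≠ a} := by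
      have h1 : Fintype.card {x : Ω // x ≠ a} = Fintype.card Ω - 1 := by
        rw [Fintype.card_subtype_compl, Fintype.card_subtype_eq]
      rw [Nat.card_eq_fintype_card (α := {x : Ω // x ≠ a}), h1]
      rw [Nat.card_eq_fintype_card (α := Ω)] at hcard
      omega
    have hbij : Function.Bijective f := (Nat.bijective_iff_injective_and_card f).2 ⟨hf, hcard'⟩
    obtain ⟨u, hu⟩ := hbij.2 ⟨z, hz⟩
    refine ⟨u, congrArg Subtype.val hu, ?_⟩
    intro v hv
    apply hf
    rw [hu]
    exact Subtype.ext hv

end Cfsg.Agent.LieExceptional.ZassenhausKernel
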