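import Mathlib
import Cfsg.Prelude.Def_LieExceptional
import Cfsg.Agent.S0054
import Cfsg.Agent.PermutationGroups.ZassenhausBasic

/-!
# Normal subgroups of Zassenhaus groups
-/

set_option autoImplicit false

open scoped Pointwise

namespace Cfsg.Agent.LieExceptional.ZassenhausNormal

open MulAction

variable {G Ω : Type*} [Group G] [MulAction G Ω]

/-- Elementary Frobenius kernel: a transitive normal subgroup `N` of a 2-transitive group such that no nontrivial
element of `N` fixes two points contains a regular subgroup normal in `G`. -/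
theorem exists_regular_normal [Finite G] [Finite Ω] [Nontrivial Ω]
    (h2 : IsMultiplyPretransitive G Ω 2) (N : Subgroup G) [N.Normal]
    (hN : IsPretransitive N Ω)
    (h : ∀ g ∈ N, ∀ a b : Ω, a ≠ b → g • a = a → g • b = b → g = 1) :
    ∃ K : Subgroup G, K.Normal ∧ K ≤ N ∧ IsPretransitive K Ω ∧
      ∀ k ∈ K, ∀ a : Ω, k • a = a → k = 1 := by
  classical
  have := Fintype.ofFinite G
  have := Fintype.ofFinite Ω
  have : Fintype N := Fintype.ofFinite N
  -- Burnside
  have hB := sum_card_fixedBy_eq_card_orbits_mul_card_group N Ω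
  have horb : Fintype.card (Quotient (orbitRel N Ω)) = 1 := by
    rw [Fintype.card_eq_one_iff_nonempty_unique]
    obtain ⟨a, b, hab⟩ := exists_pair_ne Ω
    refine ⟨⟨⟨Quotient.mk'' a⟩, ?_⟩⟩
    intro x
    induction x using Quotient.inductionOn' with
    | h x =>
      apply Quotient.sound'
      obtain ⟨g, hg⟩ := MulAction.exists_smul_eq N a x
      exact ⟨g, hg⟩
  rw [horb, one_mul] at hB
  set F : Finset N := Finset.univ.filter (fun g => ∀ c : Ω, g • c ≠ c) with hFdef
  have hmemF : ∀ g : N, g ∈ F ↔ ∀ c : Ω, g • c ≠ c := by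
    intro g; simp [hFdef]
  have hcardΩ : 1 < Fintype.card Ω := Fintype.one_lt_card
  have hone : (1 : N) ∉ F := by
    rw [hmemF]
    intro hc
    obtain ⟨a, b, hab⟩ := exists_pair_ne Ω
    exact hc a (one_smul _ _)
  have hpt : ∀ g : N, Fintype.card (fixedBy Ω g) + (if g ∈ F then 1 else 0) =
      1 + (if g = 1 then Fintype.card Ω - 1 else 0) := by
    intro g
    by_cases hg1 : g = 1
    · subst hg1
      rw [if_neg hone, if_pos rfl]
      have : Fintype.card (fixedBy Ω (1 : N)) = Fintype.card Ω := by
        rw [Fintype.card_eq_nat_card, Fintype.card_eq_nat_card]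
        have h1 : fixedBy Ω (1 : N) = Set.univ := by
          ext x; simp
        rw [h1]
        exact Nat.card_congr (Equiv.Set.univ Ω)
      omega
    · rw [if_neg hg1]
      by_cases hgF : g ∈ F
      · rw [if_pos hgF]
        have : Fintype.card (fixedBy Ω g) = 0 := by
          rw [Fintype.card_eq_zero_iff]
          constructor
          rintro ⟨x, hx⟩
          exact (hmemF g).1 hgF x hx
        omega
      · rw [if_neg hgF]
        have : Fintype.card (fixedBy Ω g) = 1 := by
          rw [hmemF] at hgF
          push Not at hgF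
          obtain ⟨c, hc⟩ := hgF
          rw [Fintype.card_eq_one_iff]
          refine ⟨⟨c, hc⟩, ?_⟩
          rintro ⟨d, hd⟩
          apply Subtype.ext
          change d = c
          by_contra hdc
          apply hg1
          apply Subtype.ext
          exact h g g.2 d c hdc hd hc
        omega
  have hFcard : F.card = Fintype.card Ω - 1 := by
    have h1 := Finset.sum_congr (rfl : (Finset.univ : Finset N) = Finset.univ) (fun g _ => hpt g)
    rw [Finset.sum_add_distrib, Finset.sum_add_distrib, hB] at h1
    simp only [Finset.sum_ite_mem, Finset.univ_inter, Finset.sum_const, smul_eq_mul, mul_one,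
      Finset.sum_ite_eq', Finset.mem_univ, if_true, Finset.card_univ] at h1
    omega
  have hconj : ∀ (g : G) (x : N), x ∈ F →
      (⟨g * x * g⁻¹, Subgroup.Normal.conj_mem inferInstance (x : G) x.2 g⟩ : N) ∈ F := by
    intro g x hx
    rw [hmemF] at hx ⊢
    intro c hc
    have hc' : (g * (x : G) * g⁻¹) • c = c := hc
    apply hx (g⁻¹ • c)
    change (x : G) • (g⁻¹ • c) = g⁻¹ • c
    rw [mul_smul, mul_smul] at hc'
    rw [eq_inv_smul_iff]
    exact hc'
  have hsurj : ∀ a b : Ω, a ≠ b → ∃ x ∈ F, x • a = b := by
    intro a b hab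
    have hne : F.Nonempty := by
      rw [← Finset.card_pos, hFcard]
      omega
    obtain ⟨f, hf⟩ := hne
    have hfa : a ≠ f • a := fun h => (hmemF f).1 hf a h.symm
    obtain ⟨g, hga, hgb⟩ := (is_two_pretransitive_iff).1 h2 hfa hab
    refine ⟨_, hconj g f hf, ?_⟩
    change (g * (f : G) * g⁻¹) • a = b
    rw [mul_smul, mul_smul]
    have : g⁻¹ • a = a := by rw [inv_smul_eq_iff, hga]
    rw [this]
    exact hgb
  have hinj : ∀ a : Ω, ∀ x ∈ F, ∀ y ∈ F, x • a = y • a → x = y := by
    intro a
    have h1 : (F.image (fun x => x • a)) = Finset.univ.erase a := by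
      ext b
      simp only [Finset.mem_image, Finset.mem_erase, Finset.mem_univ, and_true]
      constructor
      · rintro ⟨x, hx, rfl⟩
        exact (hmemF x).1 hx a
      · intro hb
        obtain ⟨x, hx, hxa⟩ := hsurj a b (Ne.symm hb)
        exact ⟨x, hx, hxa⟩
    have h2 : (F.image (fun x => x • a)).card = F.card := by
      rw [h1, hFcard, Finset.card_erase_of_mem (Finset.mem_univ a), Finset.card_univ]
    have h3 := Finset.card_image_iff.1 h2
    intro x hx y hy hxy
    exact h3 hx hy hxy
  -- the kernel
  have huniq : ∀ x y : N, (x = 1 ∨ x ∈ F) → (y = 1 ∨ y ∈ F) → ∀ a : Ω, x • a = y • a → x = y := by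
    intro x y hx hy a hxy
    rcases hx with rfl | hx
    · rcases hy with rfl | hy
      · rfl
      · rw [one_smul] at hxy
        exact absurd hxy.symm ((hmemF y).1 hy a)
    · rcases hy with rfl | hy
      · rw [one_smul] at hxy
        exact absurd hxy ((hmemF x).1 hx a)
      · exact hinj a x hx y hy hxy
  have hinvF : ∀ x : N, (x = 1 ∨ x ∈ F) → (x⁻¹ = 1 ∨ x⁻¹ ∈ F) := by
    rintro x (rfl | hx)
    · left; exact inv_one
    · right
      rw [hmemF] at hx ⊢
      intro c hc
      apply hx c
      rw [inv_smul_eq_iff] at hc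
      exact hc.symm
  let K : Subgroup G :=
    { carrier := {g | ∃ hg : g ∈ N, (⟨g, hg⟩ : N) = 1 ∨ (⟨g, hg⟩ : N) ∈ F}
      one_mem' := ⟨N.one_mem, Or.inl rfl⟩
      mul_mem' := by
        rintro x y ⟨hx, hx'⟩ ⟨hy, hy'⟩
        refine ⟨N.mul_mem hx hy, ?_⟩
        by_cases hxy : (⟨x * y, N.mul_mem hx hy⟩ : N) ∈ F
        · exact Or.inr hxy
        · left
          rw [hmemF] at hxy
          push Not at hxy
          obtain ⟨c, hc⟩ := hxy
          have hc' : (x * y) • c = c := hc
          rw [mul_smul] at hc'
          have h1 : (⟨x, hx⟩ : N)⁻¹ • c = (⟨y, hy⟩ : N) • c := by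
            rw [inv_smul_eq_iff]
            exact hc'.symm
          have h2 := huniq _ _ (hinvF _ hx') hy' c h1
          have h3 : (⟨x * y, N.mul_mem hx hy⟩ : N) = ⟨x, hx⟩ * ⟨y, hy⟩ := rfl
          rw [h3, ← h2, mul_inv_cancel]
      inv_mem' := by
        rintro x ⟨hx, hx'⟩
        exact ⟨N.inv_mem hx, hinvF _ hx'⟩ }
  refine ⟨K, ⟨?_⟩, ?_, ⟨?_⟩, ?_⟩
  · rintro x ⟨hx, hx'⟩ g
    refine ⟨Subgroup.Normal.conj_mem inferInstance x hx g, ?_⟩
    rcases hx' with hx' | hx'
    · left
      apply Subtype.ext
      have hx1 : x = 1 := congrArg Subtype.val hx'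
      change g * x * g⁻¹ = 1
      rw [hx1]; group
    · right
      exact hconj g ⟨x, hx⟩ hx'
  · rintro x ⟨hx, _⟩
    exact hx
  · intro a b
    by_cases hab : a = b
    · exact ⟨1, by rw [one_smul, hab]⟩
    · obtain ⟨x, hx, hxa⟩ := hsurj a b hab
      exact ⟨⟨(x : G), ⟨x.2, Or.inr hx⟩⟩, hxa⟩
  · rintro k ⟨hk, hk'⟩ a hka
    rcases hk' with hk' | hk'
    · exact congrArg Subtype.val hk'
    · exact absurd hka ((hmemF _).1 hk' a)

/-- A transitive normal subgroup `N` of a 2-transitive group whose nontrivial elements fix at most two points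
and in which two-point stabilisers are nontrivial is 2-transitive. -/
theorem two_transitive [Finite G] [Finite Ω]
    (h2 : IsMultiplyPretransitive G Ω 2) (N : Subgroup G) [N.Normal]
    (hN : IsPretransitive N Ω)
    (h3 : ∀ g : G, ∀ a b c : Ω, a ≠ b → b ≠ c → a ≠ c → g • a = a → g • b = b → g • c = c → g = 1)
    (hex : ∃ g ∈ N, g ≠ 1 ∧ ∃ a b : Ω, a ≠ b ∧ g • a = a ∧ g • b = b) :
    IsMultiplyPretransitive N Ω 2 := by
  classical
  have := Fintype.ofFinite G
  have := Fintype.ofFinite Ω
  have : Fintype N := Fintype.ofFinite N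
  -- every two-point stabiliser in `N` is nontrivial
  have hex' : ∀ a b : Ω, a ≠ b → ∃ g : G, g ∈ N ∧ g ≠ 1 ∧ g • a = a ∧ g • b = b := by
    intro a b hab
    obtain ⟨g, hgN, hg, c, d, hcd, hgc, hgd⟩ := hex
    obtain ⟨x, hxa, hxb⟩ := (is_two_pretransitive_iff).1 h2 hab hcd
    refine ⟨x⁻¹ * g * x, ?_, ?_, ?_, ?_⟩
    · simpa using Subgroup.Normal.conj_mem (inferInstance : N.Normal) g hgN x⁻¹
    · intro h
      apply hg
      have : g = x * (x⁻¹ * g * x) * x⁻¹ := by group
      rw [this, h]; group
    · rw [mul_smul, mul_smul, hxa, hgc, inv_smul_eq_iff, hxa]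
    · rw [mul_smul, mul_smul, hxb, hgd, inv_smul_eq_iff, hxb]
  -- transitivity of `N_a` on the rest
  have key : ∀ a b c : Ω, b ≠ a → c ≠ a → ∃ g : stabilizer N a, g • b = c := by
    intro a b c hb hc
    by_contra hcon
    push Not at hcon
    -- the group `H = N_a`
    set H := stabilizer N a with hH
    have : Fintype H := Fintype.ofFinite H
    -- double counting
    have hcount : ∑ x : H, (Finset.univ.filter (fun y : Ω => y ≠ a ∧ x • y = y)).card =
        ∑ y ∈ (Finset.univ.erase a : Finset Ω), (Finset.univ.filter (fun x : H => x • y = y)).card := by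
      simp only [Finset.card_filter]
      rw [Finset.sum_comm]
      rw [← Finset.sum_erase (Finset.univ : Finset Ω) (a := a)]
      · apply Finset.sum_congr rfl
        intro y hy
        have hya : y ≠ a := Finset.ne_of_mem_erase hy
        apply Finset.sum_congr rfl
        intro x _
        simp [hya]
      · simp
    -- upper bound
    have hup : ∑ x : H, (Finset.univ.filter (fun y : Ω => y ≠ a ∧ x • y = y)).card ≤
        (Fintype.card Ω - 1) + (Fintype.card H - 1) := by
      rw [← Finset.add_sum_erase _ _ (Finset.mem_univ (1 : H))]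
      apply Nat.add_le_add
      · have : (Finset.univ.filter (fun y : Ω => y ≠ a ∧ (1 : H) • y = y)) ⊆ Finset.univ.erase a := by
          intro y hy
          simp at hy
          simp [hy]
        calc _ ≤ (Finset.univ.erase a : Finset Ω).card := Finset.card_le_card this
          _ = _ := by rw [Finset.card_erase_of_mem (Finset.mem_univ a), Finset.card_univ]
      · calc _ ≤ ∑ x ∈ (Finset.univ.erase (1 : H)), 1 := by
              apply Finset.sum_le_sum
              intro x hx
              rw [Finset.card_le_one]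
              intro y hy z hz
              simp only [Finset.mem_filter, Finset.mem_univ, true_and] at hy hz
              by_contra hyz
              have hx1 : x ≠ 1 := Finset.ne_of_mem_erase hx
              apply hx1
              apply Subtype.ext
              apply Subtype.ext
              exact h3 ((x : N) : G) a y z (Ne.symm hy.1) hyz (Ne.symm hz.1) x.2 hy.2 hz.2
          _ = _ := by
              rw [Finset.sum_const, smul_eq_mul, mul_one,
                Finset.card_erase_of_mem (Finset.mem_univ _), Finset.card_univ]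
    -- constant stabiliser order
    have hconst : ∀ y : Ω, y ≠ a → (Finset.univ.filter (fun x : H => x • y = y)).card =
        (Finset.univ.filter (fun x : H => x • b = b)).card := by
      intro y hy
      obtain ⟨g, hga, hgy⟩ := (is_two_pretransitive_iff).1 h2 (Ne.symm hb) (Ne.symm hy)
      have hgia : g⁻¹ • a = a := by rw [inv_smul_eq_iff, hga]
      symm
      have hmem : ∀ (g : G) (hga : g • a = a) (x : H), ((⟨g * ((x : N) : G) * g⁻¹,
          Subgroup.Normal.conj_mem inferInstance ((x : N) : G) (x : N).2 g⟩ : N)) ∈ H := by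
        intro g hga x
        change (g * ((x : N) : G) * g⁻¹) • a = a
        have hgia : g⁻¹ • a = a := by rw [inv_smul_eq_iff, hga]
        have hxa : ((x : N) : G) • a = a := x.2
        rw [mul_smul, mul_smul, hgia, hxa, hga]
      refine Finset.card_bij' (fun x _ => (⟨_, hmem g hga x⟩ : H))
        (fun x _ => (⟨_, hmem g⁻¹ hgia x⟩ : H)) ?_ ?_ ?_ ?_
      · intro x hx
        simp only [Finset.mem_filter, Finset.mem_univ, true_and] at hx ⊢
        change (g * ((x : N) : G) * g⁻¹) • y = y
        have hxb : ((x : N) : G) • b = b := hx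
        have : g⁻¹ • y = b := by rw [inv_smul_eq_iff, hgy]
        rw [mul_smul, mul_smul, this, hxb, hgy]
      · intro x hx
        simp only [Finset.mem_filter, Finset.mem_univ, true_and] at hx ⊢
        change (g⁻¹ * ((x : N) : G) * g⁻¹⁻¹) • b = b
        have hxb : ((x : N) : G) • y = y := hx
        rw [inv_inv, mul_smul, mul_smul, hgy, hxb, inv_smul_eq_iff, hgy]
      · intro x hx
        apply Subtype.ext
        apply Subtype.ext
        change g⁻¹ * (g * ((x : N) : G) * g⁻¹) * g⁻¹⁻¹ = x
        group
      · intro x hx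
        apply Subtype.ext
        apply Subtype.ext
        change g * (g⁻¹ * ((x : N) : G) * g⁻¹⁻¹) * g⁻¹ = x
        group
    set s := (Finset.univ.filter (fun x : H => x • b = b)).card with hs
    have hs2 : 2 ≤ s := by
      obtain ⟨g, hgN, hg1, hga, hgb⟩ := hex' a b (Ne.symm hb)
      have h1 : (1 : H) ∈ (Finset.univ.filter (fun x : H => x • b = b)) := by simp
      have h2 : (⟨⟨g, hgN⟩, hga⟩ : H) ∈ (Finset.univ.filter (fun x : H => x • b = b)) := by
        simp only [Finset.mem_filter, Finset.mem_univ, true_and]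
        exact hgb
      have h3 : (1 : H) ≠ (⟨⟨g, hgN⟩, hga⟩ : H) := by
        intro h
        apply hg1
        have := congrArg (fun x : H => ((x : N) : G)) h
        exact this.symm
      exact Finset.one_lt_card.2 ⟨_, h1, _, h2, h3⟩
    have hsum : ∑ y ∈ (Finset.univ.erase a : Finset Ω), (Finset.univ.filter (fun x : H => x • y = y)).card
        = (Fintype.card Ω - 1) * s := by
      rw [Finset.sum_congr rfl (fun y hy => hconst y (Finset.ne_of_mem_erase hy)), Finset.sum_const,
        Finset.card_erase_of_mem (Finset.mem_univ a), Finset.card_univ, smul_eq_mul]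
    rw [hcount, hsum] at hup
    -- orbits
    have horb : ∀ y : Ω, y ≠ a → Nat.card (orbit H y) * s = Fintype.card H := by
      intro y hy
      have h1 := MulAction.card_orbit_mul_card_stabilizer_eq_card_group H y
      rw [← h1]
      rw [← Fintype.card_eq_nat_card]
      congr 1
      rw [← hconst y hy, Fintype.card_subtype]
      rfl
    have hdisj : Disjoint (orbit H b) (orbit H c) := by
      rw [Set.disjoint_left]
      rintro z ⟨x, hx⟩ ⟨y, hy⟩
      simp only at hx hy
      apply hcon (y⁻¹ * x)
      rw [mul_smul, hx, inv_smul_eq_iff, hy]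
    have hsub : (orbit H b ∪ orbit H c) ⊆ ({a}ᶜ : Set Ω) := by
      rintro z (⟨x, hx⟩ | ⟨x, hx⟩)
      · simp only at hx
        intro hz
        rw [Set.mem_singleton_iff] at hz
        apply hb
        have h1 : x • a = a := x.2
        have h2 : x • b = x • a := by rw [hx, hz, h1]
        exact smul_left_cancel x h2
      · simp only at hx
        intro hz
        rw [Set.mem_singleton_iff] at hz
        apply hc
        have h1 : x • a = a := x.2
        have h2 : x • c = x • a := by rw [hx, hz, h1]
        exact smul_left_cancel x h2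
    have hcardU : Nat.card (orbit H b) + Nat.card (orbit H c) ≤ Fintype.card Ω - 1 := by
      have h1 := Set.ncard_le_ncard hsub (Set.toFinite _)
      rw [Set.ncard_union_eq hdisj (Set.toFinite _) (Set.toFinite _), Set.ncard_compl, Set.ncard_singleton,
        Nat.card_eq_fintype_card] at h1
      exact h1
    have hob := horb b hb
    have hoc := horb c hc
    have hHpos : 0 < Fintype.card H := Fintype.card_pos
    have hN1 : 1 ≤ Fintype.card Ω - 1 := by
      have h1 : 1 < Fintype.card Ω := Fintype.one_lt_card_iff.2 ⟨b, a, hb⟩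
      omega
    set m := Fintype.card Ω - 1 with hm
    set A := Nat.card (orbit H b)
    set B := Nat.card (orbit H c)
    set C := Fintype.card H
    -- m s ≤ m + C - 1, A s = C, B s = C, A + B ≤ m, s ≥ 2
    have h5 : (A + B) * s = 2 * C := by rw [add_mul, hob, hoc]; ring
    have h6 : 2 * C ≤ m * s := by rw [← h5]; exact Nat.mul_le_mul_right s hcardU
    have h7 : m * 2 ≤ m * s := Nat.mul_le_mul_left m hs2
    omega
  rw [is_two_pretransitive_iff]
  intro a b c d hab hcd
  obtain ⟨g, hg⟩ := MulAction.exists_smul_eq N a c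
  have h1 : g • b ≠ c := by
    intro h1
    rw [← hg] at h1
    exact hab (smul_left_cancel g h1).symm
  obtain ⟨x, hx⟩ := key c (g • b) d h1 (Ne.symm hcd)
  refine ⟨(x : N) * g, ?_, ?_⟩
  · rw [mul_smul, hg]; exact x.2
  · rw [mul_smul]; exact hx

/-- In a 2-transitive faithful group, a regular normal subgroup is unique: it is contained in every nontrivial
normal subgroup. -/
theorem regular_le_of_normal [Finite G] [Finite Ω] [FaithfulSMul G Ω] [Nontrivial Ω]
    (h2 : IsMultiplyPretransitive G Ω 2) (M L : Subgroup G) [M.Normal] [L.Normal] (hL : L ≠ ⊥)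
    (hM : IsPretransitive M Ω) (hM1 : ∀ m ∈ M, ∀ a : Ω, m • a = a → m = 1) : M ≤ L := by
  have hprim : IsPreprimitive G Ω := isPreprimitive_of_is_two_pretransitive h2
  have hnontriv : ∀ X : Subgroup G, X.Normal → X ≠ ⊥ → IsPretransitive X Ω := by
    intro X hX hX1
    apply IsQuasiPreprimitive.isPretransitive_of_normal (G := G)
    intro h
    apply hX1
    rw [eq_bot_iff]
    intro x hx
    rw [Subgroup.mem_bot]
    apply FaithfulSMul.eq_of_smul_eq_smul (α := Ω)
    intro a
    have : a ∈ fixedPoints X Ω := by rw [h]; exact Set.mem_univ a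
    rw [one_smul]
    exact this ⟨x, hx⟩
  have hreg : ∀ x : Ω, MulAction.stabilizer M x = ⊥ := by
    intro x
    rw [eq_bot_iff]
    intro m hm
    rw [Subgroup.mem_bot]
    apply Subtype.ext
    exact hM1 m m.2 x hm
  have hcomm := (Cfsg.Agent.S0054.result h2 M hM hreg).1
  obtain ⟨a, b, hab⟩ := exists_pair_ne Ω
  by_cases hML : M ⊓ L = ⊥
  · -- commute
    exfalso
    apply hL
    rw [eq_bot_iff]
    intro l hl
    rw [Subgroup.mem_bot]
    obtain ⟨m, hm⟩ := MulAction.exists_smul_eq M a (l • a)
    have hm' : (m : G) • a = l • a := hm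
    have hlm : ∀ x ∈ M, Commute x l := by
      intro x hx
      exact Subgroup.commute_of_normal_of_disjoint M L inferInstance inferInstance
        (disjoint_iff.2 hML) x l hx hl
    have hml : (m : G) = l := by
      have h1 : ∀ c : Ω, (l⁻¹ * (m : G)) • c = c := by
        intro c
        obtain ⟨x, hx⟩ := MulAction.exists_smul_eq M a c
        have hx' : (x : G) • a = c := hx
        have hcm : (x : G) * (m : G) = m * x := by
          have := mul_comm' x m
          exact congrArg Subtype.val this
        have hcl : (x : G) * l = l * x := hlm x x.2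
        have hcl' : (x : G) * l⁻¹ = l⁻¹ * x := by
          have := (hlm x x.2).inv_right
          exact this
        rw [← hx', ← mul_smul, mul_assoc, ← hcm, ← mul_assoc, ← hcl', mul_assoc, mul_smul, mul_smul, hm',
          inv_smul_smul]
      have h2 : l⁻¹ * (m : G) = 1 := by
        apply FaithfulSMul.eq_of_smul_eq_smul (α := Ω)
        intro c
        rw [h1 c, one_smul]
      rw [inv_mul_eq_one] at h2
      exact h2.symm
    have : l ∈ M ⊓ L := ⟨hml ▸ m.2, hl⟩
    rw [hML] at this
    exact this
  · have htr := hnontriv (M ⊓ L) inferInstance hML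
    intro m hm
    obtain ⟨x, hx⟩ := MulAction.exists_smul_eq ((M ⊓ L : Subgroup G)) a (m • a)
    have hx' : (x : G) • a = m • a := hx
    have h1 : (m⁻¹ * (x : G)) • a = a := by rw [mul_smul, hx', inv_smul_smul]
    have h2 := hM1 _ (M.mul_mem (M.inv_mem hm) x.2.1) a h1
    rw [inv_mul_eq_one] at h2
    rw [h2]
    exact x.2.2

end Cfsg.Agent.LieExceptional.ZassenhausNormal
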