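import Mathlib
import Cfsg.Agent.PermutationGroups.PSLPerm

/-!
# `PGL(2, F)` is isomorphic to `PSL(2, F)` when every element of `F` is a square
-/

set_option autoImplicit false

namespace Cfsg.Agent.LieExceptional.PGLeqPSL

open Matrix Cfsg.Agent.PermutationGroups.PSLPerm

/-- If every element of the field `F` is a square, then `PGL(2, F)` is isomorphic to `PSL(2, F)`. -/
theorem nonempty_pgl_mulEquiv_psl (F : Type*) [Field F] (hsq : ∀ x : F, ∃ r : F, x = r ^ 2) :
    Nonempty (Matrix.ProjGenLinGroup (Fin 2) F ≃* Matrix.ProjectiveSpecialLinearGroup (Fin 2) F) := by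
  classical
  have hle : (glPerm F).range = (slPerm F).range := by
    apply le_antisymm
    · rintro _ ⟨g, rfl⟩
      have hdet0 : (g : Matrix (Fin 2) (Fin 2) F).det ≠ 0 := g.det_ne_zero
      obtain ⟨r, hr⟩ := hsq ((g : Matrix (Fin 2) (Fin 2) F).det)
      have hr0 : r ≠ 0 := by
        rintro rfl
        exact hdet0 (by rw [hr]; ring)
      let s : Matrix.SpecialLinearGroup (Fin 2) F :=
        ⟨r⁻¹ • (g : Matrix (Fin 2) (Fin 2) F), by
          rw [Matrix.det_smul, Fintype.card_fin, hr, ← mul_pow, inv_mul_cancel₀ hr0, one_pow]⟩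
      refine ⟨s, ?_⟩
      have hs : ∀ i j, s i j = r⁻¹ * g i j := fun i j => rfl
      apply perm_ext
      · rw [slPerm_infty, glPerm_infty, hs, hs]
        by_cases h : g 1 0 = 0
        · rw [if_pos h, if_pos (by rw [h, mul_zero])]
        · rw [if_neg h, if_neg (mul_ne_zero (inv_ne_zero hr0) h), mul_div_mul_left _ _ (inv_ne_zero hr0)]
      · intro x
        rw [slPerm_coe, glPerm_coe]
        simp only [hs]
        have h1 : r⁻¹ * g 1 0 * x + r⁻¹ * g 1 1 = r⁻¹ * (g 1 0 * x + g 1 1) := by ring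
        have h2 : r⁻¹ * g 0 0 * x + r⁻¹ * g 0 1 = r⁻¹ * (g 0 0 * x + g 0 1) := by ring
        rw [h1, h2]
        by_cases h : g 1 0 * x + g 1 1 = 0
        · rw [if_pos h, if_pos (by rw [h, mul_zero])]
        · rw [if_neg h, if_neg (mul_ne_zero (inv_ne_zero hr0) h), mul_div_mul_left _ _ (inv_ne_zero hr0)]
    · rintro _ ⟨s, rfl⟩
      exact ⟨SpecialLinearGroup.toGL s, rfl⟩
  exact ⟨(pglEquivRange F).trans ((MulEquiv.subgroupCongr hle).trans (pslEquivRange F).symm)⟩

/-- In a finite field of even order every element is a square. -/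
theorem exists_sq_of_card_two_pow (F : Type*) [Field F] [Fintype F] {f : ℕ} (hf : 1 ≤ f)
    (hF : Fintype.card F = 2 ^ f) (x : F) : ∃ r : F, x = r ^ 2 := by
  have hchar : ringChar F = 2 := by
    obtain ⟨p, hp⟩ := CharP.exists F
    have hpp : p.Prime := CharP.char_is_prime F p
    obtain ⟨n, hn⟩ := FiniteField.card F p
    have h1 : p ^ (n : ℕ) = 2 ^ f := by rw [← hn.2, hF]
    have h2 : p ∣ 2 ^ f := by
      rw [← h1]; exact dvd_pow_self p n.pos.ne'
    have h3 := hpp.dvd_of_dvd_pow h2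
    have h4 := (Nat.prime_dvd_prime_iff_eq hpp Nat.prime_two).1 h3
    subst h4
    exact ringChar.eq F 2
  obtain ⟨r, hr⟩ := FiniteField.isSquare_of_char_two hchar x
  exact ⟨r, by rw [hr, pow_two]⟩

end Cfsg.Agent.LieExceptional.PGLeqPSL
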