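import Mathlib
import Cfsg.Prelude.Def_Classical
import Cfsg.Agent.LieRecognition.PSUThreeSylow

set_option autoImplicit false

/-!
`PSU₃(q)`, `q ≥ 4` a power of two: an involution `z` whose centraliser contains an element `h` of odd order and an
element `x` with `x ^ 4 = 1` that do not commute.  So `PSU₃(q)` is neither a CIT-group nor a CN-group.
-/

namespace Cfsg.Agent.LieExceptional.PSUThreeWitness

open Matrix Cfsg.Agent.LieRecognition.HermHeis Cfsg.Agent.LieRecognition.PSUThreeSylow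

/-- A finite field whose order is the square of an even number has `(2^n)^2` elements. -/
theorem exists_pow_two {F : Type*} [Field F] [Fintype F] {q : ℕ} (hF : Fintype.card F = q ^ 2)
    (hq : Even q) (h4 : 4 ≤ q) : ∃ n : ℕ, 2 ≤ n ∧ q = 2 ^ n := by
  obtain ⟨p, hp⟩ := CharP.exists F
  have hpp : p.Prime := (CharP.char_is_prime_or_zero F p).resolve_right
    (CharP.char_ne_zero_of_finite F p)
  obtain ⟨m, _, hm⟩ := FiniteField.card F p
  rw [hF] at hm
  have h1 : q ∣ p ^ (m : ℕ) := by rw [← hm]; exact dvd_pow_self q two_ne_zero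
  obtain ⟨n, -, hn⟩ := (Nat.dvd_prime_pow hpp).1 h1
  have h2 : 2 ∣ p := by
    have : 2 ∣ p ^ n := by rw [← hn]; exact hq.two_dvd
    exact Nat.prime_two.dvd_of_dvd_pow this
  have h3 : p = 2 := ((Nat.prime_dvd_prime_iff_eq Nat.prime_two hpp).1 h2).symm
  subst h3
  refine ⟨n, ?_, hn⟩
  by_contra hcon
  have : n ≤ 1 := by omega
  have : (2 : ℕ) ^ n ≤ 2 ^ 1 := Nat.pow_le_pow_right (by norm_num) this
  omega

/-- An element of norm one whose cube is not one. -/
theorem exists_lam {F : Type*} [Field F] [Fintype F] {q : ℕ} (hF : Fintype.card F = q ^ 2)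
    (h4 : 4 ≤ q) : ∃ l : F, l ^ (q + 1) = 1 ∧ l ^ 3 ≠ 1 := by
  obtain ⟨g, hg⟩ := IsCyclic.exists_generator (α := Fˣ)
  have ho : orderOf g = q ^ 2 - 1 := by
    rw [orderOf_eq_card_of_forall_mem_zpowers hg, Nat.card_units, Nat.card_eq_fintype_card, hF]
  have hfac : (q - 1) * (q + 1) = q ^ 2 - 1 := by
    have h := Nat.sq_sub_sq q 1
    rw [one_pow] at h
    rw [h, mul_comm]
  refine ⟨((g ^ (q - 1) : Fˣ) : F), ?_, ?_⟩
  · rw [← Units.val_pow_eq_pow_val, ← pow_mul, hfac, ← ho, pow_orderOf_eq_one, Units.val_one]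
  · intro h
    rw [← Units.val_pow_eq_pow_val, ← pow_mul, Units.val_eq_one] at h
    have h1 := orderOf_dvd_of_pow_eq_one h
    rw [ho, ← hfac] at h1
    have h2 := Nat.dvd_of_mul_dvd_mul_left (by omega) h1
    have := Nat.le_of_dvd (by norm_num) h2
    omega

section
variable {F : Type*} [Field F] [CharP F 2] {σ : F →+* F} [hσ : Fact (∀ x, σ (σ x) = x)]

/-- The diagonal matrix `diag(l, m, l)`. -/
def dmat (l m : F) : Matrix (Fin 3) (Fin 3) F := !![l, 0, 0; 0, m, 0; 0, 0, l]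

omit [CharP F 2] hσ in
theorem det_dmat (l m : F) : (dmat l m).det = l * m * l := by
  simp [dmat, Matrix.det_fin_three]

omit [CharP F 2] hσ in
theorem dmat_mem (l m : F) (h1 : l * σ l = 1) (h2 : m * σ m = 1) :
    (dmat l m)ᵀ * Jm F * (dmat l m).map σ = Jm F := by
  ext i j
  fin_cases i <;> fin_cases j <;>
    simp [dmat, Jm, Matrix.mul_apply, Fin.sum_univ_three, Matrix.transpose_apply, h1, h2]

/-- The diagonal element. -/
def diagEl (σ : F →+* F) (l : Fˣ) (hl : (l : F) * σ l = 1) : SUJ σ :=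
  ⟨⟨dmat (l : F) (((l⁻¹ : Fˣ) : F) ^ 2), by
    rw [det_dmat]
    have : (l : F) * ((l⁻¹ : Fˣ) : F) = 1 := by simp
    linear_combination ((l : F) * ((l⁻¹ : Fˣ) : F) + 1) * this⟩, by
    have h1 : ((l⁻¹ : Fˣ) : F) * σ ((l⁻¹ : Fˣ) : F) = 1 := by
      rw [Units.val_inv_eq_inv_val, map_inv₀, ← mul_inv, hl, inv_one]
    exact dmat_mem _ _ hl (by rw [map_pow, ← mul_pow, h1, one_pow])⟩

omit [CharP F 2] hσ in
theorem diagEl_val (l : Fˣ) (hl : (l : F) * σ l = 1) :
    (diagEl σ l hl).1.1 = dmat (l : F) (((l⁻¹ : Fˣ) : F) ^ 2) := rfl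

end

theorem exists_witness (F : Type*) [Field F] [Fintype F] {q : ℕ} (hF : Fintype.card F = q ^ 2)
    (hq : Even q) (h4 : 4 ≤ q) :
    ∃ z x h : Cfsg.PSU 3 F q, z ≠ 1 ∧ z * z = 1 ∧ h ^ (q + 1) = 1 ∧ x ^ 4 = 1 ∧ h * z = z * h ∧
      x * z = z * x ∧ h * x ≠ x * h := by
  obtain ⟨n, hn, rfl⟩ := exists_pow_two hF hq h4
  obtain ⟨l0, hl1, hl3⟩ := exists_lam hF h4
  have hF' : Nat.card F = (2 ^ n) ^ 2 := by rw [Nat.card_eq_fintype_card, hF]
  have h2 : CharP F 2 := charP_two_of_card hF'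
  have : Fact (Nat.Prime 2) := ⟨Nat.prime_two⟩
  set σ : F →+* F := iterateFrobenius F 2 n with hσdef
  have hs : ∀ x, σ x = x ^ (2 ^ n) := fun x => iterateFrobenius_def 2 n x
  have hinv : Fact (∀ x, σ (σ x) = x) := ⟨fun x => by
    rw [hs, hs, ← pow_mul, ← sq, ← hF, FiniteField.pow_card]⟩
  have hq1 : 1 < 2 ^ n := by omega
  obtain ⟨c, hc⟩ := exists_not_fixed (σ := σ) hq1 hs hF'
  obtain ⟨T, T', hTT', hT⟩ := exists_T hc
  let e : SUJ σ ≃* Cfsg.SU 3 F (2 ^ n) :=
    ((conjT hTT').subgroupMap (SUJ σ)).trans (MulEquiv.subgroupCongr (SU_eq_map hs hTT' hT))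
  let f : SUJ σ →* Cfsg.PSU 3 F (2 ^ n) :=
    (QuotientGroup.mk' (Subgroup.center (Cfsg.SU 3 F (2 ^ n)))).comp e.toMonoidHom
  have hker : ∀ y : Heis σ, f (emb σ y) = 1 → y = 1 := by
    intro y hfg
    have h1 : e (emb σ y) ∈ Subgroup.center (Cfsg.SU 3 F (2 ^ n)) := by
      rw [← QuotientGroup.eq_one_iff]
      exact hfg
    have h3 : emb σ y ∈ Subgroup.center (SUJ σ) := by
      rw [Subgroup.mem_center_iff] at h1 ⊢
      intro g
      apply e.injective
      rw [map_mul, map_mul]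
      exact h1 (e g)
    exact eq_one_of_mem_center h3
  have hl0 : l0 ≠ 0 := by
    rintro rfl
    simp at hl1
  let l : Fˣ := Units.mk0 l0 hl0
  have hl : (l : F) * σ l = 1 := by
    rw [hs, Units.val_mk0, ← pow_succ', hl1]
  obtain ⟨x, hx⟩ := exists_heis_a (σ := σ) hq1 hs hF' 1
  let z : Heis σ := zet 1 (map_one σ)
  have hz1 : z ≠ 1 := by
    intro h
    have := congrArg Heis.b h
    simp [z] at this
  have hzz : z * z = 1 := (mul_self_eq_one_iff z).2 rfl
  have hxz : x * z = z * x := (commute_iff x z).2 (by simp [z])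
  have hx4 : x ^ 4 = 1 := by
    have h1 : (x * x).a = 0 := by simp [hx, CharTwo.add_self_eq_zero]
    have h2 := (mul_self_eq_one_iff (x * x)).2 h1
    calc x ^ 4 = (x * x) * (x * x) := by rw [pow_succ, pow_succ, pow_two]; simp only [mul_assoc]
      _ = 1 := h2
  let h := diagEl σ l hl
  have hhz : h * emb σ z = emb σ z * h := by
    apply Subtype.ext
    apply Subtype.ext
    change (h.1.1 * (emb σ z).1.1) = (emb σ z).1.1 * h.1.1
    rw [emb_val, diagEl_val]
    ext i j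
    fin_cases i <;> fin_cases j <;> simp [umat, dmat, z, Matrix.mul_apply, Fin.sum_univ_three]
  -- conjugate of `x`
  have hσx : σ x.a = 1 := by rw [hx, map_one]
  have hb := x.h
  rw [hx, map_one] at hb
  have hlin : ((l⁻¹ : Fˣ) : F) * σ ((l⁻¹ : Fˣ) : F) = 1 := by
    rw [Units.val_inv_eq_inv_val, map_inv₀, ← mul_inv, hl, inv_one]
  let y : Heis σ := ⟨((l⁻¹ : Fˣ) : F) ^ 3, x.b, by
    rw [map_pow, ← mul_pow, hlin, one_pow]
    simpa using hb⟩
  have hσl : σ ((l⁻¹ : Fˣ) : F) = l := by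
    have h1 : (l : F) * (((l⁻¹ : Fˣ) : F) * σ ((l⁻¹ : Fˣ) : F)) = l := by rw [hlin, mul_one]
    rw [← mul_assoc] at h1
    simpa using h1
  have hconj : emb σ x * h = h * emb σ y := by
    apply Subtype.ext
    apply Subtype.ext
    change ((emb σ x).1.1 * h.1.1) = h.1.1 * (emb σ y).1.1
    rw [emb_val, emb_val, diagEl_val]
    have hu : (l : F) * ((l⁻¹ : Fˣ) : F) = 1 := by simp
    ext i j
    fin_cases i <;> fin_cases j <;>
      simp only [umat, dmat, y, Matrix.mul_apply, Fin.sum_univ_three, hx, map_one, map_pow, hσl] <;>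
      simp [-Units.val_inv_eq_inv_val]
    · linear_combination (-((l⁻¹ : Fˣ) : F) ^ 2) * hu
    · ring
    · linear_combination (-(l : F) * (1 + (l : F) * ((l⁻¹ : Fˣ) : F))) * hu
  refine ⟨f (emb σ z), f (emb σ x), f h, ?_, ?_, ?_, ?_, ?_, ?_, ?_⟩
  · intro h1
    exact hz1 (hker z h1)
  · rw [← map_mul, ← map_mul, hzz, map_one, map_one]
  · rw [← map_pow]
    have : h ^ (2 ^ n + 1) = 1 := by
      apply Subtype.ext
      apply Subtype.ext
      change h.1.1 ^ (2 ^ n + 1) = 1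
      have hd : h.1.1 = Matrix.diagonal ![(l : F), ((l⁻¹ : Fˣ) : F) ^ 2, (l : F)] := by
        rw [diagEl_val, dmat]
        ext i j
        fin_cases i <;> fin_cases j <;> simp
      rw [hd, Matrix.diagonal_pow]
      have h1 : ((l : F)) ^ (2 ^ n + 1) = 1 := hl1
      have h3 : (((l⁻¹ : Fˣ) : F) ^ 2) ^ (2 ^ n + 1) = 1 := by
        rw [← pow_mul, mul_comm, pow_mul, Units.val_inv_eq_inv_val, inv_pow, h1, inv_one, one_pow]
      ext i j
      fin_cases i <;> fin_cases j <;> simp [Matrix.diagonal, h1] <;> simpa using h3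
    rw [this, map_one]
  · rw [← map_pow, ← map_pow, hx4, map_one, map_one]
  · rw [← map_mul, hhz, map_mul]
  · rw [← map_mul, ← map_mul, hxz, map_mul, map_mul]
  · intro hcomm
    have h1 : f h * f (emb σ y) = f h * f (emb σ x) := by
      rw [← map_mul, ← hconj, map_mul, ← hcomm]
    have h2 : f (emb σ y) = f (emb σ x) := mul_left_cancel h1
    have h3 : f (emb σ (y * x⁻¹)) = 1 := by
      rw [map_mul, map_mul, map_inv, map_inv, h2, mul_inv_cancel]
    have h4 := hker _ h3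
    have h5 : y = x := by
      rw [mul_inv_eq_one] at h4
      exact h4
    have h6 := congrArg Heis.a h5
    rw [hx] at h6
    change ((l⁻¹ : Fˣ) : F) ^ 3 = 1 at h6
    rw [Units.val_inv_eq_inv_val, inv_pow, inv_eq_one] at h6
    exact hl3 h6

end Cfsg.Agent.LieExceptional.PSUThreeWitness
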