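import Mathlib

/-!
# Elations of the projective plane over a field

A permutation of the points of the projective plane over a field `F` which preserves collinearity, fixes every point of a
line `f = 0` and has a centre `c` on this line (`p`, `α p`, `c` collinear for all `p`) is induced by a transvection
`x ↦ x + b f(x) c`.
-/

set_option autoImplicit false

namespace Cfsg.Agent.LieExceptional.PlaneElation

open Projectivization
open scoped LinearAlgebra.Projectivization

universe u

variable {F : Type u} [Field F]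

/-- determinant of three vectors -/
def D3 (x y z : Fin 3 → F) : F :=
  x 0 * (y 1 * z 2 - y 2 * z 1) - x 1 * (y 0 * z 2 - y 2 * z 0) + x 2 * (y 0 * z 1 - y 1 * z 0)

theorem D3_def (x y z : Fin 3 → F) : D3 x y z =
  x 0 * (y 1 * z 2 - y 2 * z 1) - x 1 * (y 0 * z 2 - y 2 * z 0) + x 2 * (y 0 * z 1 - y 1 * z 0) := rfl

/-- scalar product -/
def dot (f x : Fin 3 → F) : F := f 0 * x 0 + f 1 * x 1 + f 2 * x 2

theorem dot_def (f x : Fin 3 → F) : dot f x = f 0 * x 0 + f 1 * x 1 + f 2 * x 2 := rfl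

theorem D3_smul (a b c : F) (x y z : Fin 3 → F) : D3 (a • x) (b • y) (c • z) = a * b * c * D3 x y z := by
  simp only [D3_def, Pi.smul_apply, smul_eq_mul]
  ring

/-- three points are collinear -/
def CollP (p q r : ℙ F (Fin 3 → F)) : Prop := D3 p.rep q.rep r.rep = 0

theorem collP_mk {x y z : Fin 3 → F} (hx : x ≠ 0) (hy : y ≠ 0) (hz : z ≠ 0) :
    CollP (mk F x hx) (mk F y hy) (mk F z hz) ↔ D3 x y z = 0 := by
  obtain ⟨a, ha⟩ := exists_smul_eq_mk_rep F x hx
  obtain ⟨b, hb⟩ := exists_smul_eq_mk_rep F y hy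
  obtain ⟨c, hc⟩ := exists_smul_eq_mk_rep F z hz
  rw [CollP, ← ha, ← hb, ← hc, Units.smul_def, Units.smul_def, Units.smul_def, D3_smul]
  constructor
  · intro h
    rcases mul_eq_zero.1 h with h | h
    · exact absurd h (mul_ne_zero (mul_ne_zero a.ne_zero b.ne_zero) c.ne_zero)
    · exact h
  · intro h
    rw [h, mul_zero]

theorem exists_ne_zero {c : Fin 3 → F} (hc : c ≠ 0) : ∃ i, c i ≠ 0 := by
  by_contra h
  push Not at h
  exact hc (funext h)

theorem parallel {w c : Fin 3 → F} (hc : c ≠ 0) (h01 : w 0 * c 1 = w 1 * c 0) (h02 : w 0 * c 2 = w 2 * c 0)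
    (h12 : w 1 * c 2 = w 2 * c 1) : ∃ μ : F, w = μ • c := by
  obtain ⟨i, hi⟩ := exists_ne_zero hc
  refine ⟨w i / c i, ?_⟩
  funext j
  rw [Pi.smul_apply, smul_eq_mul, div_mul_eq_mul_div, eq_div_iff hi]
  fin_cases i <;> fin_cases j <;> simp_all

/-- solve `D3 z w c = 0` for `w` when `f z = 1`, `f c = 0` -/
theorem exists_comb {f z w c : Fin 3 → F} (hc : c ≠ 0) (hfz : dot f z = 1) (hfc : dot f c = 0)
    (hD : D3 z w c = 0) : ∃ μ : F, w = dot f w • z + μ • c := by
  simp only [D3_def, dot_def] at hfz hfc hD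
  have key : ∃ μ : F, w - dot f w • z = μ • c := by
    apply parallel hc
    · simp only [dot_def, Pi.sub_apply, Pi.smul_apply, smul_eq_mul]
      linear_combination
        (-(w 0 * c 1 - w 1 * c 0)) * hfz +
        f 2 * hD + (w 0 * z 1 - w 1 * z 0) * hfc
    · simp only [dot_def, Pi.sub_apply, Pi.smul_apply, smul_eq_mul]
      linear_combination
        (-(w 0 * c 2 - w 2 * c 0)) * hfz -
        f 1 * hD + (w 0 * z 2 - w 2 * z 0) * hfc
    · simp only [dot_def, Pi.sub_apply, Pi.smul_apply, smul_eq_mul]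
      linear_combination
        (-(w 1 * c 2 - w 2 * c 1)) * hfz +
        f 0 * hD + (w 1 * z 2 - w 2 * z 1) * hfc
  obtain ⟨μ, hμ⟩ := key
  exact ⟨μ, by rw [← hμ]; abel⟩

theorem ne_zero_of_dot {f z : Fin 3 → F} (h : dot f z = 1) : z ≠ 0 := by
  rintro rfl
  rw [dot_def] at h
  simp at h

theorem dot_add (f x y : Fin 3 → F) : dot f (x + y) = dot f x + dot f y := by
  simp only [dot_def, Pi.add_apply]
  ring

theorem dot_smul (a : F) (f x : Fin 3 → F) : dot f (a • x) = a * dot f x := by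
  simp only [dot_def, Pi.smul_apply, smul_eq_mul]
  ring

theorem dot_sub (f x y : Fin 3 → F) : dot f (x - y) = dot f x - dot f y := by
  simp only [dot_def, Pi.sub_apply]
  ring

section elation

variable (α : Equiv.Perm (ℙ F (Fin 3 → F)))
  (hcoll : ∀ p q r, CollP p q r → CollP (α p) (α q) (α r))
  {f c : Fin 3 → F} (hc : c ≠ 0) (hfc : dot f c = 0)
  (haxis : ∀ (x : Fin 3 → F) (hx : x ≠ 0), dot f x = 0 → α (mk F x hx) = mk F x hx)
  (hcenter : ∀ p, CollP p (α p) (mk F c hc))

include hfc haxis hcenter in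
/-- the image of a point off the axis -/
theorem image_form {z : Fin 3 → F} (hz : dot f z = 1) :
    ∃ b : F, ∃ h : z + b • c ≠ 0, α (mk F z (ne_zero_of_dot hz)) = mk F (z + b • c) h := by
  obtain ⟨w, hw, hαw⟩ : ∃ (w : Fin 3 → F) (hw : w ≠ 0), α (mk F z (ne_zero_of_dot hz)) = mk F w hw :=
    ⟨(α (mk F z (ne_zero_of_dot hz))).rep, rep_nonzero _, (mk_rep _).symm⟩
  have h1 := hcenter (mk F z (ne_zero_of_dot hz))
  rw [hαw, collP_mk] at h1
  have hfw : dot f w ≠ 0 := by
    intro h
    have h2 := haxis w hw h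
    rw [← h2] at hαw
    have h3 := α.injective hαw
    rw [mk_eq_mk_iff'] at h3
    obtain ⟨a, ha⟩ := h3
    rw [← ha, dot_smul, h, mul_zero] at hz
    exact zero_ne_one hz
  obtain ⟨μ, hμ⟩ := exists_comb hc hz hfc h1
  have h2 : z + (μ / dot f w) • c = (dot f w)⁻¹ • w := by
    symm
    calc (dot f w)⁻¹ • w = (dot f w)⁻¹ • (dot f w • z + μ • c) := congrArg (fun t => (dot f w)⁻¹ • t) hμ
      _ = z + (μ / dot f w) • c := by
        rw [smul_add, smul_smul, smul_smul, inv_mul_cancel₀ hfw, one_smul, div_eq_inv_mul]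
  have h3 : z + (μ / dot f w) • c ≠ 0 := by
    rw [h2]
    exact smul_ne_zero (inv_ne_zero hfw) hw
  refine ⟨μ / dot f w, h3, ?_⟩
  rw [hαw, mk_eq_mk_iff']
  refine ⟨dot f w, ?_⟩
  rw [h2, smul_smul, mul_inv_cancel₀ hfw, one_smul]

include hcoll hfc haxis hcenter in
/-- propagation -/
theorem step {x z : Fin 3 → F} (hx : dot f x = 1) (hz : dot f z = 1) (hD : D3 c x z ≠ 0) {b : F}
    (hb : x + b • c ≠ 0) (hαx : α (mk F x (ne_zero_of_dot hx)) = mk F (x + b • c) hb) :
    ∃ h : z + b • c ≠ 0, α (mk F z (ne_zero_of_dot hz)) = mk F (z + b • c) h := by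
  obtain ⟨b', h', hαz⟩ := image_form α hc hfc haxis hcenter hz
  have hd0 : x - z ≠ 0 := by
    intro h
    have : x = z := sub_eq_zero.1 h
    apply hD
    rw [this, D3_def]
    ring
  have hfd : dot f (x - z) = 0 := by rw [dot_sub, hx, hz, sub_self]
  have hαd := haxis (x - z) hd0 hfd
  have h1 : CollP (mk F z (ne_zero_of_dot hz)) (mk F x (ne_zero_of_dot hx)) (mk F (x - z) hd0) := by
    rw [collP_mk]
    simp only [D3_def, Pi.sub_apply]
    ring
  have h2 := hcoll _ _ _ h1
  rw [hαz, hαx, hαd, collP_mk] at h2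
  have h3 : (b - b') * D3 c x z = 0 := by
    rw [← h2]
    simp only [D3_def, Pi.sub_apply, Pi.add_apply, Pi.smul_apply, smul_eq_mul]
    ring
  have h4 : b = b' := by
    rcases mul_eq_zero.1 h3 with h | h
    · exact sub_eq_zero.1 h
    · exact absurd h hD
  subst h4
  exact ⟨h', hαz⟩

theorem exists_dot_one {f : Fin 3 → F} (hf : f ≠ 0) : ∃ x, dot f x = 1 := by
  obtain ⟨i, hi⟩ := exists_ne_zero hf
  refine ⟨Pi.single i (f i)⁻¹, ?_⟩
  fin_cases i <;> simp_all [dot_def, Pi.single_apply]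

omit hcoll in
/-- a vector `e` with `f e = 0` and `c, x, e` independent -/
theorem exists_indep {f c x : Fin 3 → F} (hc : c ≠ 0) (hfc : dot f c = 0) (hx : dot f x = 1) :
    ∃ e, dot f e = 0 ∧ D3 c x e ≠ 0 := by
  by_contra hno
  push Not at hno
  have h1 : ∀ z, D3 c x z = 0 := by
    intro z
    have h2 := hno (z - dot f z • x) (by rw [dot_sub, dot_smul, hx, mul_one, sub_self])
    have h3 : D3 c x (z - dot f z • x) = D3 c x z := by
      simp only [D3_def, Pi.sub_apply, Pi.smul_apply, smul_eq_mul]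
      ring
    rwa [h3] at h2
  have e0 := h1 ![1, 0, 0]
  have e1 := h1 ![0, 1, 0]
  have e2 := h1 ![0, 0, 1]
  simp only [D3_def, Matrix.cons_val_zero, Matrix.cons_val_one, Matrix.cons_val] at e0 e1 e2
  -- `c` is a multiple of `x`
  have hx0 : x ≠ 0 := ne_zero_of_dot hx
  obtain ⟨μ, hμ⟩ := parallel (w := c) hx0 (by linear_combination e2) (by linear_combination -e1) (by linear_combination e0)
  rw [hμ, dot_smul, hx, mul_one] at hfc
  rw [hfc, zero_smul] at hμ
  exact hc hμ

include hcoll hfc haxis hcenter in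
/-- a central collineation with centre on its axis is a transvection -/
theorem elation (hf : f ≠ 0) : ∃ b : F, ∀ (x : Fin 3 → F) (hx : x ≠ 0), ∃ h : x + (b * dot f x) • c ≠ 0,
    α (mk F x hx) = mk F (x + (b * dot f x) • c) h := by
  obtain ⟨x, hx⟩ := exists_dot_one hf
  obtain ⟨b, hb, hαx⟩ := image_form α hc hfc haxis hcenter hx
  refine ⟨b, ?_⟩
  -- points with `f z = 1`
  have h1 : ∀ z (hz : dot f z = 1), ∃ h : z + b • c ≠ 0, α (mk F z (ne_zero_of_dot hz)) = mk F (z + b • c) h := by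
    intro z hz
    by_cases hD : D3 c x z = 0
    · obtain ⟨e, he, hDe⟩ := exists_indep hc hfc hx
      have hz' : dot f (x + e) = 1 := by rw [dot_add, hx, he, add_zero]
      have hD' : D3 c x (x + e) ≠ 0 := by
        have : D3 c x (x + e) = D3 c x e := by
          simp only [D3_def, Pi.add_apply]
          ring
        rwa [this]
      obtain ⟨h2, h3⟩ := step α hcoll hc hfc haxis hcenter hx hz' hD' hb hαx
      -- `z = x + ν c`
      have h4 : D3 x z c = 0 := by
        rw [← hD]
        simp only [D3_def]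
        ring
      obtain ⟨ν, hν⟩ := exists_comb hc hx hfc h4
      rw [hz, one_smul] at hν
      have hD'' : D3 c (x + e) z ≠ 0 := by
        have : D3 c (x + e) z = - D3 c x e := by
          rw [hν]
          simp only [D3_def, Pi.add_apply, Pi.smul_apply, smul_eq_mul]
          ring
        rw [this]
        exact neg_ne_zero.2 hDe
      exact step α hcoll hc hfc haxis hcenter hz' hz hD'' h2 h3
    · exact step α hcoll hc hfc haxis hcenter hx hz hD hb hαx
  intro z hz
  by_cases hfz : dot f z = 0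
  · have h2 : z + (b * dot f z) • c = z := by rw [hfz, mul_zero, zero_smul, add_zero]
    refine ⟨by rwa [h2], ?_⟩
    rw [haxis z hz hfz]
    congr 1
    exact h2.symm
  · have hz1 : dot f ((dot f z)⁻¹ • z) = 1 := by rw [dot_smul, inv_mul_cancel₀ hfz]
    obtain ⟨h2, h3⟩ := h1 _ hz1
    have h4 : z + (b * dot f z) • c = dot f z • ((dot f z)⁻¹ • z + b • c) := by
      rw [smul_add, smul_smul, mul_inv_cancel₀ hfz, one_smul, smul_smul, mul_comm b]
    have h5 : z + (b * dot f z) • c ≠ 0 := by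
      rw [h4]
      exact smul_ne_zero hfz h2
    refine ⟨h5, ?_⟩
    have h6 : mk F z hz = mk F ((dot f z)⁻¹ • z) (ne_zero_of_dot hz1) := by
      rw [mk_eq_mk_iff']
      exact ⟨dot f z, by rw [smul_smul, mul_inv_cancel₀ hfz, one_smul]⟩
    rw [h6, h3, mk_eq_mk_iff']
    refine ⟨(dot f z)⁻¹, ?_⟩
    rw [h4, smul_smul, inv_mul_cancel₀ hfz, one_smul]

end elation

end Cfsg.Agent.LieExceptional.PlaneElation
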