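import Mathlib

/-!
# The projective plane of a pair of parabolic-like subgroups

`G` a group with subgroups `P1, P2` and `V1 ⊴ P1`, `V2 ⊴ P2` behaving like the two maximal parabolic subgroups
of `PSL₃(q)` and their unipotent radicals. Points: cosets of `P1`; lines: translates of the `P2`-orbit `L0` of the
base point.
-/

set_option autoImplicit false

namespace Cfsg.Agent.LieExceptional.PlaneGeom

open scoped Pointwise

universe u

/-- group data of a projective plane of order `q` with all elations -/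
structure PlaneData (G : Type u) [Group G] (P1 P2 V1 V2 : Subgroup G) (q : ℕ) : Prop where
  hq : 2 ≤ q
  V1_le_P1 : V1 ≤ P1
  V1_le_P2 : V1 ≤ P2
  V2_le_P1 : V2 ≤ P1
  V2_le_P2 : V2 ≤ P2
  V1_norm : ∀ g ∈ P1, ∀ v ∈ V1, g * v * g⁻¹ ∈ V1
  V2_norm : ∀ g ∈ P2, ∀ v ∈ V2, g * v * g⁻¹ ∈ V2
  index_G : P1.index = q ^ 2 + q + 1
  index_1 : P2.relIndex P1 = q + 1
  index_2 : P1.relIndex P2 = q + 1
  card_V2 : Nat.card V2 = q ^ 2
  card_W : Nat.card (V1 ⊓ V2 : Subgroup G) = q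
  H1 : ∀ g ∈ P1, g ∉ P2 → ∀ w ∈ V1 ⊓ V2, g * w * g⁻¹ ∈ V1 ⊓ V2 → w = 1
  H2 : ∀ g ∈ P2, g ∉ P1 → ∀ w ∈ V1 ⊓ V2, g * w * g⁻¹ ∈ V1 ⊓ V2 → w = 1
  H3 : ∀ g ∈ P2, g ∉ P1 → ∀ v ∈ V1, g⁻¹ * v * g ∈ P1 → v ∈ V2

variable {G : Type u} [Group G] {P1 P2 V1 V2 : Subgroup G} {q : ℕ}

/-- base point -/
def o (P1 : Subgroup G) : G ⧸ P1 := ((1 : G) : G ⧸ P1)

/-- base line -/
def L0 (P1 P2 : Subgroup G) : Set (G ⧸ P1) := {x | ∃ p ∈ P2, (p : G ⧸ P1) = x}

theorem o_mem : o P1 ∈ L0 P1 P2 := ⟨1, P2.one_mem, rfl⟩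

theorem smul_o (g : G) : g • o P1 = (g : G ⧸ P1) := by
  rw [o, MulAction.Quotient.smul_mk, smul_eq_mul, mul_one]

theorem mk_eq_o_iff (g : G) : (g : G ⧸ P1) = o P1 ↔ g ∈ P1 := by
  rw [o, eq_comm, QuotientGroup.eq, inv_one, one_mul]

theorem smul_o_eq_o_iff (g : G) : g • o P1 = o P1 ↔ g ∈ P1 := by
  rw [smul_o, mk_eq_o_iff]

theorem mem_L0_iff (x : G ⧸ P1) : x ∈ L0 P1 P2 ↔ ∃ p ∈ P2, p • o P1 = x := by
  constructor
  · rintro ⟨p, hp, rfl⟩
    exact ⟨p, hp, smul_o p⟩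
  · rintro ⟨p, hp, rfl⟩
    exact ⟨p, hp, (smul_o p).symm⟩

theorem smul_mem_L0 {p : G} (hp : p ∈ P2) {x : G ⧸ P1} (hx : x ∈ L0 P1 P2) : p • x ∈ L0 P1 P2 := by
  rw [mem_L0_iff] at hx ⊢
  obtain ⟨r, hr, rfl⟩ := hx
  exact ⟨p * r, P2.mul_mem hp hr, mul_smul _ _ _⟩

theorem smul_L0 {p : G} (hp : p ∈ P2) : p • L0 P1 P2 = L0 P1 P2 := by
  ext x
  rw [Set.mem_smul_set_iff_inv_smul_mem]
  constructor
  · intro h
    have := smul_mem_L0 hp h
    rwa [smul_inv_smul] at this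
  · intro h
    exact smul_mem_L0 (P2.inv_mem hp) h

theorem exists_smul_o (x : G ⧸ P1) : ∃ g : G, g • o P1 = x := by
  obtain ⟨g, rfl⟩ := QuotientGroup.mk_surjective x
  exact ⟨g, smul_o g⟩

variable (D : PlaneData G P1 P2 V1 V2 q)
include D

theorem V2_fix {v : G} (hv : v ∈ V2) {x : G ⧸ P1} (hx : x ∈ L0 P1 P2) : v • x = x := by
  obtain ⟨p, hp, rfl⟩ := (mem_L0_iff x).1 hx
  have h1 : p⁻¹ * v * p ∈ V2 := by
    have := D.V2_norm p⁻¹ (P2.inv_mem hp) v hv
    simpa using this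
  have h2 : (p⁻¹ * v * p) • o P1 = o P1 := (smul_o_eq_o_iff _).2 (D.V2_le_P1 h1)
  calc v • p • o P1 = p • ((p⁻¹ * v * p) • o P1) := by rw [smul_smul, smul_smul]; congr 1; group
    _ = p • o P1 := by rw [h2]

/-- `V1` fixes every line through the base point -/
theorem V1_smul_line {v p : G} (hv : v ∈ V1) (hp : p ∈ P1) : v • (p • L0 P1 P2) = p • L0 P1 P2 := by
  have h1 : p⁻¹ * v * p ∈ V1 := by
    have := D.V1_norm p⁻¹ (P1.inv_mem hp) v hv
    simpa using this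
  rw [smul_smul, show v * p = p * (p⁻¹ * v * p) by group, ← smul_smul, smul_L0 (D.V1_le_P2 h1)]

theorem V1_fix_iff {v x : G} (hv : v ∈ V1) (hx : x ∈ P2) (hx1 : x ∉ P1) : v • (x • o P1) = x • o P1 ↔ v ∈ V2 := by
  constructor
  · intro h
    apply D.H3 x hx hx1 v hv
    rw [← smul_o_eq_o_iff, mul_smul, mul_smul, h, inv_smul_smul]
  · intro h
    exact V2_fix D h ((mem_L0_iff _).2 ⟨x, hx, rfl⟩)

theorem exists_W_ne_one : ∃ w ∈ V1 ⊓ V2, w ≠ 1 := by
  by_contra h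
  push Not at h
  have h1 : V1 ⊓ V2 = ⊥ := by
    rw [eq_bot_iff]
    intro w hw
    exact Subgroup.mem_bot.2 (h w hw)
  have h2 := D.card_W
  rw [h1, Subgroup.card_bot] at h2
  have := D.hq
  omega

/-- two lines through the base point meet only there -/
theorem L0_inter {p : G} (hp : p ∈ P1) (hp2 : p ∉ P2) {x : G ⧸ P1} (hx : x ∈ L0 P1 P2) (hx' : x ∈ p • L0 P1 P2) :
    x = o P1 := by
  by_contra hne
  obtain ⟨r, hr, rfl⟩ := (mem_L0_iff x).1 hx
  have hr1 : r ∉ P1 := fun h => hne ((smul_o_eq_o_iff r).2 h)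
  rw [Set.mem_smul_set_iff_inv_smul_mem] at hx'
  obtain ⟨s, hs, hsx⟩ := (mem_L0_iff _).1 hx'
  have hs1 : s ∉ P1 := by
    intro h
    apply hne
    have h1 : s • o P1 = o P1 := (smul_o_eq_o_iff s).2 h
    rw [h1] at hsx
    have h2 : p • o P1 = r • o P1 := by
      calc p • o P1 = p • (p⁻¹ • r • o P1) := congrArg (fun y => p • y) hsx
        _ = r • o P1 := smul_inv_smul _ _
    rw [← h2]
    exact (smul_o_eq_o_iff p).2 hp
  obtain ⟨w, hw, hw1⟩ := exists_W_ne_one D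
  have h1 : w • (r • o P1) = r • o P1 := (V1_fix_iff D hw.1 hr hr1).2 hw.2
  have h2 : p⁻¹ * w * p ∈ V1 := by
    have := D.V1_norm p⁻¹ (P1.inv_mem hp) w hw.1
    simpa using this
  have h3 : (p⁻¹ * w * p) • (s • o P1) = s • o P1 := by
    rw [hsx, mul_smul, mul_smul, smul_inv_smul, h1]
  have h4 : p⁻¹ * w * p ∈ V2 := (V1_fix_iff D h2 hs hs1).1 h3
  apply hw1
  apply D.H1 p⁻¹ (P1.inv_mem hp) (fun h => hp2 (by simpa using P2.inv_mem h)) w hw
  rw [inv_inv]
  exact ⟨h2, h4⟩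

theorem card_L0 : Nat.card (L0 P1 P2) = q + 1 := by
  rw [← D.index_2, Subgroup.relIndex, Subgroup.index]
  symm
  refine Nat.card_congr (Equiv.ofBijective (fun c : P2 ⧸ P1.subgroupOf P2 =>
    (⟨Quotient.liftOn' c (fun p => ((p : G) : G ⧸ P1)) ?_, ?_⟩ : L0 P1 P2)) ⟨?_, ?_⟩)
  · intro a b hab
    rw [QuotientGroup.leftRel_apply] at hab
    exact QuotientGroup.eq.2 (by simpa [Subgroup.mem_subgroupOf] using hab)
  · induction c using Quotient.inductionOn' with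
    | h a => exact ⟨a, a.2, rfl⟩
  · intro a b hab
    induction a using Quotient.inductionOn' with
    | h a =>
      induction b using Quotient.inductionOn' with
      | h b =>
        have h1 : ((a : G) : G ⧸ P1) = ((b : G) : G ⧸ P1) := congrArg Subtype.val hab
        apply Quotient.sound'
        rw [QuotientGroup.leftRel_apply, Subgroup.mem_subgroupOf]
        simpa using QuotientGroup.eq.1 h1
  · rintro ⟨x, p, hp, rfl⟩
    exact ⟨((⟨p, hp⟩ : P2) : P2 ⧸ P1.subgroupOf P2), rfl⟩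

theorem finite_quot : Finite (G ⧸ P1) := by
  have h := D.index_G
  have h1 : P1.index ≠ 0 := by omega
  have h2 : P1.FiniteIndex := ⟨h1⟩
  exact Subgroup.finite_quotient_of_finiteIndex

theorem card_quot : Nat.card (G ⧸ P1) = q ^ 2 + q + 1 := D.index_G

/-- lines through the base point cover everything -/
theorem exists_line_o (x : G ⧸ P1) : ∃ p ∈ P1, x ∈ p • L0 P1 P2 := by
  classical
  have hfin := finite_quot D
  -- the lines through `o`, indexed by `P1 / (P1 ⊓ P2)`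
  let I := P1 ⧸ P2.subgroupOf P1
  have hI : Nat.card I = q + 1 := D.index_1
  have hIfin : Finite I := (Nat.card_pos_iff.1 (by omega)).2
  let f : I × (↥(L0 P1 P2 \ {o P1})) → ↥(({o P1} : Set (G ⧸ P1))ᶜ) := fun c =>
    ⟨((c.1.out : P1) : G) • (c.2 : G ⧸ P1), by
      intro h
      apply c.2.2.2
      have h1 : (((c.1.out : P1) : G)) • (c.2 : G ⧸ P1) = o P1 := h
      have h2 : (((c.1.out : P1) : G)) • o P1 = o P1 := (smul_o_eq_o_iff _).2 (c.1.out : P1).2
      exact MulAction.injective (((c.1.out : P1) : G)) (h1.trans h2.symm)⟩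
  have hinj : Function.Injective f := by
    rintro ⟨a, x⟩ ⟨b, y⟩ hab
    have h1 : ((a.out : P1) : G) • (x : G ⧸ P1) = ((b.out : P1) : G) • (y : G ⧸ P1) := congrArg Subtype.val hab
    have h2 : a = b := by
      by_contra hne
      have h3 : ((a.out : P1) : G)⁻¹ * ((b.out : P1) : G) ∉ P2 := by
        intro h
        apply hne
        rw [← Quotient.out_eq' a, ← Quotient.out_eq' b]
        apply Quotient.sound'
        rw [QuotientGroup.leftRel_apply, Subgroup.mem_subgroupOf]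
        simpa using h
      apply x.2.2
      show (x : G ⧸ P1) = o P1
      refine L0_inter D (P1.mul_mem (P1.inv_mem (a.out : P1).2) (b.out : P1).2) h3 x.2.1 ?_
      rw [Set.mem_smul_set_iff_inv_smul_mem]
      have h4 : (((a.out : P1) : G)⁻¹ * ((b.out : P1) : G))⁻¹ • (x : G ⧸ P1) = y := by
        rw [mul_inv_rev, inv_inv, mul_smul, h1, inv_smul_smul]
      rw [h4]
      exact y.2.1
    subst h2
    have h5 : x = y := Subtype.ext (MulAction.injective _ h1)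
    rw [h5]
  have hcard : Nat.card (I × (↥(L0 P1 P2 \ {o P1}))) = Nat.card ↥(({o P1} : Set (G ⧸ P1))ᶜ) := by
    rw [Nat.card_prod, hI]
    have h1 : Nat.card ↥(L0 P1 P2 \ {o P1}) = q := by
      rw [Nat.card_coe_set_eq, Set.ncard_diff_singleton_of_mem o_mem, ← Nat.card_coe_set_eq, card_L0 D]
      rfl
    have h2 : Nat.card ↥(({o P1} : Set (G ⧸ P1))ᶜ) = q ^ 2 + q := by
      rw [Nat.card_coe_set_eq, Set.ncard_compl, Set.ncard_singleton, card_quot D]
      rfl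
    rw [h1, h2]
    ring
  have hsurj : Function.Surjective f := by
    have : Finite (I × (↥(L0 P1 P2 \ {o P1}))) := inferInstance
    exact ((Nat.bijective_iff_injective_and_card f).2 ⟨hinj, hcard⟩).2
  by_cases hx : x = o P1
  · exact ⟨1, P1.one_mem, by rw [one_smul, hx]; exact o_mem⟩
  · obtain ⟨⟨c, y⟩, hc⟩ := hsurj ⟨x, hx⟩
    have h1 : ((c.out : P1) : G) • (y : G ⧸ P1) = x := congrArg Subtype.val hc
    refine ⟨(c.out : P1), (c.out : P1).2, ?_⟩
    rw [← h1]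
    exact Set.smul_mem_smul_set y.2.1

/-- two points lie on a line -/
theorem exists_line (x y : G ⧸ P1) : ∃ g : G, x ∈ g • L0 P1 P2 ∧ y ∈ g • L0 P1 P2 := by
  obtain ⟨k, rfl⟩ := exists_smul_o x
  obtain ⟨p, hp, hy⟩ := exists_line_o D (k⁻¹ • y)
  refine ⟨k * p, ?_, ?_⟩
  · rw [mul_smul, Set.smul_mem_smul_set_iff, Set.mem_smul_set_iff_inv_smul_mem,
      (smul_o_eq_o_iff _).2 (P1.inv_mem hp)]
    exact o_mem
  · rw [mul_smul, Set.mem_smul_set_iff_inv_smul_mem]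
    exact hy

omit D in
/-- a line through the base point is a `P1`-translate of the base line -/
theorem line_through_o {g : G} (h : o P1 ∈ g • L0 P1 P2) : ∃ p ∈ P1, g • L0 P1 P2 = p • L0 P1 P2 := by
  rw [Set.mem_smul_set_iff_inv_smul_mem, mem_L0_iff] at h
  obtain ⟨r, hr, hro⟩ := h
  refine ⟨g * r, ?_, ?_⟩
  · rw [← smul_o_eq_o_iff, mul_smul, hro, smul_inv_smul]
  · rw [mul_smul, smul_L0 hr]

theorem line_unique {g h : G} {x y : G ⧸ P1} (hxy : x ≠ y) (hxg : x ∈ g • L0 P1 P2) (hyg : y ∈ g • L0 P1 P2)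
    (hxh : x ∈ h • L0 P1 P2) (hyh : y ∈ h • L0 P1 P2) : g • L0 P1 P2 = h • L0 P1 P2 := by
  obtain ⟨k, rfl⟩ := exists_smul_o x
  have key : ∀ a : G, k • o P1 ∈ a • L0 P1 P2 → y ∈ a • L0 P1 P2 →
      ∃ p ∈ P1, a • L0 P1 P2 = k • p • L0 P1 P2 ∧ k⁻¹ • y ∈ p • L0 P1 P2 := by
    intro a h1 h2
    have h3 : o P1 ∈ (k⁻¹ * a) • L0 P1 P2 := by
      rw [mul_smul, Set.mem_smul_set_iff_inv_smul_mem (a := k⁻¹), inv_inv]
      exact h1
    obtain ⟨p, hp, hpa⟩ := line_through_o h3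
    refine ⟨p, hp, ?_, ?_⟩
    · rw [← hpa, mul_smul, smul_inv_smul]
    · rw [← hpa, mul_smul, Set.smul_mem_smul_set_iff]
      exact h2
  obtain ⟨p, hp, hpg, hyp⟩ := key g hxg hyg
  obtain ⟨r, hr, hrh, hyr⟩ := key h hxh hyh
  have hne : k⁻¹ • y ≠ o P1 := by
    intro h
    apply hxy
    rw [← h, smul_inv_smul]
  have hmem : p⁻¹ * r ∈ P2 := by
    by_contra hn
    have h1 : p⁻¹ • (k⁻¹ • y) ∈ L0 P1 P2 := (Set.mem_smul_set_iff_inv_smul_mem).1 hyp
    have h2 : p⁻¹ • (k⁻¹ • y) ∈ (p⁻¹ * r) • L0 P1 P2 := by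
      rw [mul_smul, Set.smul_mem_smul_set_iff]
      exact hyr
    have h3 := L0_inter D (P1.mul_mem (P1.inv_mem hp) hr) hn h1 h2
    apply hne
    have h4 : p⁻¹ • (k⁻¹ • y) = p⁻¹ • o P1 := by rw [h3, (smul_o_eq_o_iff _).2 (P1.inv_mem hp)]
    exact MulAction.injective _ h4
  rw [hpg, hrh]
  have h5 : r • L0 P1 P2 = p • L0 P1 P2 := by
    have : r = p * (p⁻¹ * r) := by group
    rw [this, mul_smul, smul_L0 hmem]
  rw [h5]

/-- every line meets the base line -/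
theorem meet_L0 (g : G) : ∃ x ∈ L0 P1 P2, x ∈ g • L0 P1 P2 := by
  classical
  have hfin := finite_quot D
  by_contra hno
  push Not at hno
  obtain ⟨y0, hy0⟩ : ∃ y, y ∈ g • L0 P1 P2 := ⟨g • o P1, Set.smul_mem_smul_set o_mem⟩
  have hy0' : y0 ∉ L0 P1 P2 := fun h => hno y0 h hy0
  obtain ⟨k, rfl⟩ := exists_smul_o y0
  let I := P1 ⧸ P2.subgroupOf P1
  have hI : Nat.card I = q + 1 := D.index_1
  have hIfin : Finite I := (Nat.card_pos_iff.1 (by omega)).2
  have hout : ∀ p : P1, ((p : G)) • L0 P1 P2 = (((Quotient.mk'' p : I).out : P1) : G) • L0 P1 P2 := by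
    intro p
    have h1 : (Quotient.mk'' ((Quotient.mk'' p : I).out) : I) = Quotient.mk'' p := Quotient.out_eq' _
    have h2 := Quotient.exact' h1
    rw [QuotientGroup.leftRel_apply, Subgroup.mem_subgroupOf] at h2
    have h3 : (p : G) = (((Quotient.mk'' p : I).out : P1) : G) *
        ((((Quotient.mk'' p : I).out : P1)⁻¹ * p : P1) : G) := by
      push_cast
      group
    conv_lhs => rw [h3]
    rw [mul_smul, smul_L0 h2]
  have hF : ∀ z : L0 P1 P2, ∃ c : I, k⁻¹ • (z : G ⧸ P1) ∈ ((c.out : P1) : G) • L0 P1 P2 := by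
    intro z
    obtain ⟨p, hp, hz⟩ := exists_line_o D (k⁻¹ • (z : G ⧸ P1))
    refine ⟨Quotient.mk'' (⟨p, hp⟩ : P1), ?_⟩
    rw [← hout]
    exact hz
  choose F hF using hF
  have hinj : Function.Injective F := by
    intro z z' hzz
    by_contra hne
    have hne' : (z : G ⧸ P1) ≠ z' := fun h => hne (Subtype.ext h)
    have hc : ∀ z : L0 P1 P2, (z : G ⧸ P1) ∈ (k * (((F z).out : P1) : G)) • L0 P1 P2 := by
      intro z
      rw [mul_smul, Set.mem_smul_set_iff_inv_smul_mem]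
      exact hF z
    have h1 := hc z
    have h2 := hc z'
    rw [← hzz] at h2
    have h3 := line_unique D (g := 1) (h := k * (((F z).out : P1) : G)) hne' (by rw [one_smul]; exact z.2)
      (by rw [one_smul]; exact z'.2) h1 h2
    rw [one_smul] at h3
    apply hy0'
    rw [h3, mul_smul, Set.smul_mem_smul_set_iff, Set.mem_smul_set_iff_inv_smul_mem,
      (smul_o_eq_o_iff _).2 (P1.inv_mem ((F z).out : P1).2)]
    exact o_mem
  have hLfin : Finite (L0 P1 P2) := inferInstance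
  have hsurj : Function.Surjective F :=
    ((Nat.bijective_iff_injective_and_card F).2 ⟨hinj, by rw [card_L0 D, hI]⟩).2
  have h3 : o P1 ∈ (k⁻¹ * g) • L0 P1 P2 := by
    rw [mul_smul, Set.mem_smul_set_iff_inv_smul_mem (a := k⁻¹), inv_inv]
    exact hy0
  obtain ⟨p, hp, hpa⟩ := line_through_o h3
  obtain ⟨z, hz⟩ := hsurj (Quotient.mk'' (⟨p, hp⟩ : P1))
  apply hno z z.2
  have h4 := hF z
  rw [hz, ← hout] at h4
  have h5 : k⁻¹ • (z : G ⧸ P1) ∈ (k⁻¹ * g) • L0 P1 P2 := by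
    rw [hpa]
    exact h4
  rw [mul_smul, Set.smul_mem_smul_set_iff] at h5
  exact h5

/-- the conjugates of `W = V1 ⊓ V2` in `P2` cover `V2` -/
theorem exists_conj_mem_W {v : G} (hv : v ∈ V2) : ∃ p ∈ P2, p⁻¹ * v * p ∈ V1 ⊓ V2 := by
  classical
  by_cases hv1 : v = 1
  · exact ⟨1, P2.one_mem, by rw [hv1]; simp [Subgroup.one_mem]⟩
  let J := P2 ⧸ P1.subgroupOf P2
  have hJ : Nat.card J = q + 1 := D.index_2
  have hq := D.hq
  have hJfin : Finite J := (Nat.card_pos_iff.1 (by omega)).2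
  have hVfin : Finite V2 := (Nat.card_pos_iff.1 (by rw [D.card_V2]; positivity)).2
  have hWfin : Finite (V1 ⊓ V2 : Subgroup G) := (Nat.card_pos_iff.1 (by rw [D.card_W]; omega)).2
  let f : J × {w : (V1 ⊓ V2 : Subgroup G) // w ≠ 1} → {v : V2 // v ≠ 1} := fun c =>
    ⟨⟨((c.1.out : P2) : G) * (c.2.1 : G) * ((c.1.out : P2) : G)⁻¹,
      D.V2_norm _ (c.1.out : P2).2 _ c.2.1.2.2⟩, by
      intro h
      apply c.2.2
      have h1 : ((c.1.out : P2) : G) * (c.2.1 : G) * ((c.1.out : P2) : G)⁻¹ = 1 := congrArg Subtype.val h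
      apply Subtype.ext
      exact conj_eq_one_iff.1 h1⟩
  have hinj : Function.Injective f := by
    rintro ⟨a, x⟩ ⟨b, y⟩ hab
    have h1 : ((a.out : P2) : G) * (x.1 : G) * ((a.out : P2) : G)⁻¹ =
        ((b.out : P2) : G) * (y.1 : G) * ((b.out : P2) : G)⁻¹ :=
      congrArg (fun t : {v : V2 // v ≠ 1} => ((t : V2) : G)) hab
    have h2 : a = b := by
      by_contra hne
      have h3 : ((b.out : P2) : G)⁻¹ * ((a.out : P2) : G) ∉ P1 := by
        intro h
        apply hne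
        rw [← Quotient.out_eq' a, ← Quotient.out_eq' b]
        symm
        apply Quotient.sound'
        rw [QuotientGroup.leftRel_apply, Subgroup.mem_subgroupOf]
        simpa using h
      apply x.2
      apply Subtype.ext
      refine D.H2 _ (P2.mul_mem (P2.inv_mem (b.out : P2).2) (a.out : P2).2) h3 x.1 x.1.2 ?_
      have h4 : ((b.out : P2) : G)⁻¹ * ((a.out : P2) : G) * (x.1 : G) * (((b.out : P2) : G)⁻¹ * ((a.out : P2) : G))⁻¹ =
          y.1 := by
        calc ((b.out : P2) : G)⁻¹ * ((a.out : P2) : G) * (x.1 : G) * (((b.out : P2) : G)⁻¹ * ((a.out : P2) : G))⁻¹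
            = ((b.out : P2) : G)⁻¹ * (((a.out : P2) : G) * (x.1 : G) * ((a.out : P2) : G)⁻¹) * ((b.out : P2) : G) := by
              group
          _ = y.1 := by rw [h1]; group
      rw [h4]
      exact y.1.2
    subst h2
    have h5 : (x.1 : G) = y.1 := by
      have h6 := mul_right_cancel h1
      exact mul_left_cancel h6
    have h7 : x = y := Subtype.ext (Subtype.ext h5)
    rw [h7]
  have hcardne : ∀ (H : Subgroup G) [Finite H], Nat.card {u : H // u ≠ 1} = Nat.card H - 1 := by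
    intro H _
    let _ : Fintype H := Fintype.ofFinite H
    rw [Nat.card_eq_fintype_card, Nat.card_eq_fintype_card, Fintype.card_subtype_compl, Fintype.card_subtype_eq]
  have hcard : Nat.card (J × {w : (V1 ⊓ V2 : Subgroup G) // w ≠ 1}) = Nat.card {v : V2 // v ≠ 1} := by
    rw [Nat.card_prod, hJ, hcardne, hcardne, D.card_V2, D.card_W]
    obtain ⟨j, rfl⟩ : ∃ j, q = j + 1 := ⟨q - 1, by omega⟩
    simp only [Nat.add_sub_cancel]
    have : (j + 1) ^ 2 = (j + 1 + 1) * j + 1 := by ring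
    omega
  have hsurj : Function.Surjective f := by
    exact ((Nat.bijective_iff_injective_and_card f).2 ⟨hinj, hcard⟩).2
  obtain ⟨⟨c, w⟩, hc⟩ := hsurj ⟨⟨v, hv⟩, fun h => hv1 (congrArg Subtype.val h)⟩
  have h1 : ((c.out : P2) : G) * (w.1 : G) * ((c.out : P2) : G)⁻¹ = v :=
    congrArg (fun t : {v : V2 // v ≠ 1} => ((t : V2) : G)) hc
  refine ⟨(c.out : P2), (c.out : P2).2, ?_⟩
  have h2 : ((c.out : P2) : G)⁻¹ * v * ((c.out : P2) : G) = w.1 := by
    rw [← h1]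
    group
  rw [h2]
  exact w.1.2

/-- `V2` acts semiregularly off the base line -/
theorem V2_semiregular {v : G} (hv : v ∈ V2) {x : G ⧸ P1} (hx : x ∉ L0 P1 P2) (h : v • x = x) : v = 1 := by
  obtain ⟨p, hp, hw⟩ := exists_conj_mem_W D hv
  set w := p⁻¹ * v * p with hwdef
  have hy : p⁻¹ • x ∉ L0 P1 P2 := by
    intro h1
    apply hx
    have := smul_mem_L0 hp h1
    rwa [smul_inv_smul] at this
  have hwy : w • (p⁻¹ • x) = p⁻¹ • x := by
    rw [hwdef, mul_smul, mul_smul, smul_inv_smul, h]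
  obtain ⟨r, hr, hyr⟩ := exists_line_o D (p⁻¹ • x)
  have hr2 : r ∉ P2 := by
    intro h1
    rw [smul_L0 h1] at hyr
    exact hy hyr
  rw [Set.mem_smul_set_iff_inv_smul_mem, mem_L0_iff] at hyr
  obtain ⟨s, hs, hsy⟩ := hyr
  have hs1 : s ∉ P1 := by
    intro h1
    apply hy
    have h2 : p⁻¹ • x = r • s • o P1 := by rw [hsy, smul_inv_smul]
    rw [h2, (smul_o_eq_o_iff s).2 h1, (smul_o_eq_o_iff r).2 hr]
    exact o_mem
  have h2 : r⁻¹ * w * r ∈ V1 := by
    have := D.V1_norm r⁻¹ (P1.inv_mem hr) w hw.1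
    simpa using this
  have h3 : (r⁻¹ * w * r) • (s • o P1) = s • o P1 := by
    rw [hsy, mul_smul, mul_smul, smul_inv_smul, hwy]
  have h4 : r⁻¹ * w * r ∈ V2 := (V1_fix_iff D h2 hs hs1).1 h3
  have h5 : w = 1 := by
    apply D.H1 r⁻¹ (P1.inv_mem hr) (fun h => hr2 (by simpa using P2.inv_mem h)) w hw
    rw [inv_inv]
    exact ⟨h2, h4⟩
  have h6 : v = p * w * p⁻¹ := by rw [hwdef]; group
  rw [h6, h5]
  group

/-- `V2` acts regularly off the base line -/
theorem V2_regular {x y : G ⧸ P1} (hx : x ∉ L0 P1 P2) (hy : y ∉ L0 P1 P2) : ∃ v ∈ V2, v • x = y := by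
  classical
  have hfin := finite_quot D
  have hq := D.hq
  have hVfin : Finite V2 := (Nat.card_pos_iff.1 (by rw [D.card_V2]; positivity)).2
  have hmem : ∀ v : V2, (v : G) • x ∈ (L0 P1 P2)ᶜ := by
    intro v h
    apply hx
    have h1 := smul_mem_L0 (D.V2_le_P2 (V2.inv_mem v.2)) h
    rwa [inv_smul_smul] at h1
  let f : V2 → ↥((L0 P1 P2)ᶜ) := fun v => ⟨(v : G) • x, hmem v⟩
  have hinj : Function.Injective f := by
    intro a b hab
    have h1 : (a : G) • x = (b : G) • x := congrArg Subtype.val hab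
    have h2 : ((a : G)⁻¹ * b) = 1 := by
      apply V2_semiregular D (V2.mul_mem (V2.inv_mem a.2) b.2) hx
      rw [mul_smul, ← h1, inv_smul_smul]
    exact Subtype.ext (inv_mul_eq_one.1 h2)
  have hcard : Nat.card V2 = Nat.card ↥((L0 P1 P2)ᶜ) := by
    rw [Nat.card_coe_set_eq, Set.ncard_compl, ← Nat.card_coe_set_eq, card_L0 D, card_quot D, D.card_V2]
    omega
  have hsurj : Function.Surjective f :=
    ((Nat.bijective_iff_injective_and_card f).2 ⟨hinj, hcard⟩).2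
  obtain ⟨v, hv⟩ := hsurj ⟨y, hy⟩
  exact ⟨v, v.2, congrArg Subtype.val hv⟩

/-- elements of a conjugate of `V1` move every point on a line with the centre -/
theorem center_V1 {v p : G} (hv : p⁻¹ * v * p ∈ V1) (x : G ⧸ P1) :
    ∃ g : G, x ∈ g • L0 P1 P2 ∧ v • x ∈ g • L0 P1 P2 ∧ p • o P1 ∈ g • L0 P1 P2 := by
  obtain ⟨r, hr, hxr⟩ := exists_line_o D (p⁻¹ • x)
  have h1 := V1_smul_line D hv hr
  refine ⟨p * r, ?_, ?_, ?_⟩
  · rw [mul_smul, Set.mem_smul_set_iff_inv_smul_mem]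
    exact hxr
  · rw [mul_smul, Set.mem_smul_set_iff_inv_smul_mem]
    have h2 : p⁻¹ • v • x = (p⁻¹ * v * p) • (p⁻¹ • x) := by
      rw [mul_smul, mul_smul, smul_inv_smul]
    rw [h2, ← h1]
    exact Set.smul_mem_smul_set hxr
  · rw [mul_smul, Set.smul_mem_smul_set_iff, Set.mem_smul_set_iff_inv_smul_mem,
      (smul_o_eq_o_iff _).2 (P1.inv_mem hr)]
    exact o_mem

end Cfsg.Agent.LieExceptional.PlaneGeom
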