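import Mathlib
import Cfsg.Agent.LieExceptional.PlaneGeom
import Cfsg.Agent.LieExceptional.PlaneElation

/-!
# Coordinates for the projective plane of `PlaneData`

Given an additive bijection `φ : V2 → F × F` mapping the spread `{V2 ∩ pV1p⁻¹}` to the lines through `0`, the plane is
identified with the projective plane over `F`.
-/

set_option autoImplicit false

namespace Cfsg.Agent.LieExceptional.PlaneCoord

open scoped Pointwise LinearAlgebra.Projectivization
open Projectivization Cfsg.Agent.LieExceptional.PlaneGeom Cfsg.Agent.LieExceptional.PlaneElation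

universe u w

variable {G : Type u} [Group G] {P1 P2 V1 V2 : Subgroup G} {q : ℕ} {F : Type w} [Field F]

/-- collinear points -/
def Coll (P1 P2 : Subgroup G) (x y z : G ⧸ P1) : Prop :=
  ∃ g : G, x ∈ g • L0 P1 P2 ∧ y ∈ g • L0 P1 P2 ∧ z ∈ g • L0 P1 P2

theorem Coll.smul {x y z : G ⧸ P1} (h : Coll P1 P2 x y z) (k : G) : Coll P1 P2 (k • x) (k • y) (k • z) := by
  obtain ⟨g, h1, h2, h3⟩ := h
  refine ⟨k * g, ?_, ?_, ?_⟩ <;> rw [mul_smul, Set.smul_mem_smul_set_iff] <;> assumption

theorem Coll.rot {x y z : G ⧸ P1} (h : Coll P1 P2 x y z) : Coll P1 P2 y z x := by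
  obtain ⟨g, h1, h2, h3⟩ := h
  exact ⟨g, h2, h3, h1⟩

theorem collP_rot {x y z : ℙ F (Fin 3 → F)} (h : CollP x y z) : CollP y z x := by
  rw [CollP] at h ⊢
  rw [← h]
  simp only [D3_def]
  ring

/-- coordinates -/
structure Coord (P1 P2 V1 V2 : Subgroup G) (φ : V2 → F × F) : Prop where
  bij : Function.Bijective φ
  map_mul : ∀ u v, φ (u * v) = φ u + φ v
  dir : ∀ p ∈ P2, ∃ d : F × F, d ≠ 0 ∧ ∀ v : V2, (p⁻¹ * (v : G) * p ∈ V1 ↔ ∃ a : F, φ v = (a * d.1, a * d.2))

section coord

variable {φ : V2 → F × F} (C : Coord P1 P2 V1 V2 φ)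
include C

theorem map_one : φ 1 = 0 := by
  have h := C.map_mul 1 1
  rw [mul_one] at h
  simpa using h

theorem map_inv (v : V2) : φ v⁻¹ = - φ v := by
  have h := C.map_mul v v⁻¹
  rw [mul_inv_cancel, map_one C] at h
  exact (neg_eq_of_add_eq_zero_right h.symm).symm

theorem map_div (u v : V2) : φ (u * v⁻¹) = φ u - φ v := by
  rw [C.map_mul, map_inv C, sub_eq_add_neg]

end coord

/-- affine vector -/
def av (t : F × F) : Fin 3 → F := ![t.1, t.2, 1]
/-- vector at infinity -/
def iv (t : F × F) : Fin 3 → F := ![t.1, t.2, 0]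

theorem av_ne (t : F × F) : av t ≠ 0 := by
  intro h
  have := congrFun h 2
  simp [av] at this

theorem iv_ne {t : F × F} (ht : t ≠ 0) : iv t ≠ 0 := by
  intro h
  apply ht
  have h0 := congrFun h 0
  have h1 := congrFun h 1
  simp only [iv, Matrix.cons_val_zero, Matrix.cons_val_one, Pi.zero_apply] at h0 h1
  exact Prod.ext h0 h1

theorem D3_aff_aff_aff (a b c : F × F) : D3 (av a) (av b) (av c) =
    (a.1 - c.1) * (b.2 - c.2) - (a.2 - c.2) * (b.1 - c.1) := by
  simp only [D3_def, av, Matrix.cons_val_zero, Matrix.cons_val_one, Matrix.cons_val]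
  ring

theorem D3_inf_aff_aff (a b c : F × F) : D3 (iv a) (av b) (av c) =
    a.1 * (b.2 - c.2) - a.2 * (b.1 - c.1) := by
  simp only [D3_def, av, iv, Matrix.cons_val_zero, Matrix.cons_val_one, Matrix.cons_val]
  ring

theorem D3_inf_inf_aff (a b c : F × F) : D3 (iv a) (iv b) (av c) = a.1 * b.2 - a.2 * b.1 := by
  simp only [D3_def, av, iv, Matrix.cons_val_zero, Matrix.cons_val_one, Matrix.cons_val]
  ring

theorem D3_inf_inf_inf (a b c : F × F) : D3 (iv a) (iv b) (iv c) = 0 := by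
  simp only [D3_def, iv, Matrix.cons_val_zero, Matrix.cons_val_one, Matrix.cons_val]
  ring

/-- two-dimensional parallelism -/
theorem exists_mul_of_det {d e : F × F} (hd : d ≠ 0) (h : d.1 * e.2 - d.2 * e.1 = 0) :
    ∃ a : F, e = (a * d.1, a * d.2) := by
  by_cases h1 : d.1 = 0
  · have h2 : d.2 ≠ 0 := fun h2 => hd (Prod.ext h1 h2)
    refine ⟨e.2 / d.2, ?_⟩
    have h3 : e.1 = 0 := by
      rw [h1, zero_mul, zero_sub, neg_eq_zero] at h
      rcases mul_eq_zero.1 h with h | h
      · exact absurd h h2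
      · exact h
    ext
    · show e.1 = _
      rw [h3, h1, mul_zero]
    · show e.2 = _
      field_simp
  · refine ⟨e.1 / d.1, ?_⟩
    ext
    · show e.1 = _
      field_simp
    · show e.2 = _
      field_simp
      linear_combination h

theorem det_of_mul {d e : F × F} (h : ∃ a : F, e = (a * d.1, a * d.2)) : d.1 * e.2 - d.2 * e.1 = 0 := by
  obtain ⟨a, rfl⟩ := h
  show d.1 * (a * d.2) - d.2 * (a * d.1) = 0
  ring

variable (D : PlaneData G P1 P2 V1 V2 q)

include D in
/-- the spread member only depends on the point -/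
theorem conj_mem_iff {p r : G} (hpr : p • o P1 = r • o P1) (v : G) : p⁻¹ * v * p ∈ V1 ↔ r⁻¹ * v * r ∈ V1 := by
  have h1 : p⁻¹ * r ∈ P1 := by
    rw [← smul_o_eq_o_iff, mul_smul, ← hpr, inv_smul_smul]
  have h2 : r⁻¹ * p ∈ P1 := by
    have := P1.inv_mem h1
    simpa [mul_inv_rev] using this
  constructor
  · intro h
    have := D.V1_norm _ h2 _ h
    have e : r⁻¹ * p * (p⁻¹ * v * p) * (r⁻¹ * p)⁻¹ = r⁻¹ * v * r := by group
    rwa [e] at this
  · intro h
    have := D.V1_norm _ h1 _ h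
    have e : p⁻¹ * r * (r⁻¹ * v * r) * (p⁻¹ * r)⁻¹ = p⁻¹ * v * p := by group
    rwa [e] at this

include D in
/-- different points of the base line have spread members meeting trivially -/
theorem eq_of_conj_mem {p r : G} (hp : p ∈ P2) (hr : r ∈ P2) {v : G} (hv : v ∈ V2) (hv1 : v ≠ 1)
    (h1 : p⁻¹ * v * p ∈ V1) (h2 : r⁻¹ * v * r ∈ V1) : p • o P1 = r • o P1 := by
  by_contra hne
  have h3 : r⁻¹ * p ∉ P1 := by
    intro h
    apply hne
    have : (r⁻¹ * p) • o P1 = o P1 := (smul_o_eq_o_iff _).2 h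
    rw [mul_smul] at this
    rw [← this, smul_inv_smul, this]
  have hV : ∀ s ∈ P2, s⁻¹ * v * s ∈ V2 := by
    intro s hs
    have := D.V2_norm s⁻¹ (P2.inv_mem hs) v hv
    simpa using this
  have h4 := D.H2 (r⁻¹ * p) (P2.mul_mem (P2.inv_mem hr) hp) h3 (p⁻¹ * v * p) ⟨h1, hV p hp⟩ (by
    have e : r⁻¹ * p * (p⁻¹ * v * p) * (r⁻¹ * p)⁻¹ = r⁻¹ * v * r := by group
    rw [e]
    exact ⟨h2, hV r hr⟩)
  apply hv1
  have : v = p * (p⁻¹ * v * p) * p⁻¹ := by group
  rw [this, h4]
  group

include D in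
/-- collinearity of two affine points and one point at infinity -/
theorem coll_inf_aff_aff {x0 : G ⧸ P1} (hx0 : x0 ∉ L0 P1 P2) {p : G} (hp : p ∈ P2) (u v : V2) :
    Coll P1 P2 (p • o P1) ((u : G) • x0) ((v : G) • x0) ↔ p⁻¹ * ((u * v⁻¹ : V2) : G) * p ∈ V1 := by
  constructor
  · rintro ⟨g, h1, h2, h3⟩
    by_cases huv : u = v
    · rw [huv, mul_inv_cancel]
      simp [V1.one_mem]
    · have ht1 : ((u * v⁻¹ : V2) : G) ≠ 1 := by
        intro h
        apply huv
        have : u * v⁻¹ = 1 := Subtype.ext h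
        exact mul_inv_eq_one.1 this
      obtain ⟨r, hr, hrW⟩ := exists_conj_mem_W D (u * v⁻¹ : V2).2
      obtain ⟨k, hk1, hk2, hk3⟩ := center_V1 D hrW.1 ((v : G) • x0)
      have hk2' : (u : G) • x0 ∈ k • L0 P1 P2 := by
        have e : ((u * v⁻¹ : V2) : G) • ((v : G) • x0) = (u : G) • x0 := by
          rw [smul_smul]
          congr 1
          push_cast
          group
        rwa [e] at hk2
      have hne : (u : G) • x0 ≠ (v : G) • x0 := by
        intro h
        apply ht1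
        apply V2_semiregular D (u * v⁻¹ : V2).2 (x := (v : G) • x0)
        · intro h'
          apply hx0
          have := smul_mem_L0 (D.V2_le_P2 (V2.inv_mem v.2)) h'
          rwa [inv_smul_smul] at this
        · rw [smul_smul]
          have e : ((u * v⁻¹ : V2) : G) * (v : G) = u := by push_cast; group
          rw [e, h]
      have hline := line_unique D hne h2 h3 hk2' hk1
      -- both `p • o` and `r • o` lie on the base line and on this line
      have hpr : p • o P1 = r • o P1 := by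
        by_contra hne'
        have hrg : r • o P1 ∈ g • L0 P1 P2 := by rw [hline]; exact hk3
        have h4 := line_unique D (g := 1) hne' (by rw [one_smul]; exact (mem_L0_iff _).2 ⟨p, hp, rfl⟩)
          (by rw [one_smul]; exact (mem_L0_iff _).2 ⟨r, hr, rfl⟩) h1 hrg
        rw [one_smul] at h4
        rw [← h4] at h2
        apply hx0
        have := smul_mem_L0 (D.V2_le_P2 (V2.inv_mem u.2)) h2
        rwa [inv_smul_smul] at this
      exact (conj_mem_iff D hpr _).2 hrW.1
  · intro h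
    obtain ⟨k, hk1, hk2, hk3⟩ := center_V1 D h ((v : G) • x0)
    refine ⟨k, hk3, ?_, hk1⟩
    have e : ((u * v⁻¹ : V2) : G) • ((v : G) • x0) = (u : G) • x0 := by
      rw [smul_smul]
      congr 1
      push_cast
      group
    rwa [e] at hk2

include D in
theorem coll_inf_inf {x y z : G ⧸ P1} (hx : x ∈ L0 P1 P2) (hy : y ∈ L0 P1 P2) (hz : z ∉ L0 P1 P2) :
    Coll P1 P2 x y z ↔ x = y := by
  constructor
  · rintro ⟨g, h1, h2, h3⟩
    by_contra hne
    have h4 := line_unique D (g := 1) hne (by rw [one_smul]; exact hx) (by rw [one_smul]; exact hy) h1 h2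
    rw [one_smul] at h4
    rw [← h4] at h3
    exact hz h3
  · rintro rfl
    obtain ⟨g, h1, h2⟩ := exists_line D x z
    exact ⟨g, h1, h1, h2⟩

section beta

variable {φ : V2 → F × F} (C : Coord P1 P2 V1 V2 φ) (x0 : G ⧸ P1) (hx0 : x0 ∉ L0 P1 P2)

/-- relation between points of the plane and points of the projective plane over `F` -/
def Rel (φ : V2 → F × F) (x0 : G ⧸ P1) (P2 V1 : Subgroup G) (x : G ⧸ P1) (y : ℙ F (Fin 3 → F)) : Prop :=
  (∃ v : V2, (v : G) • x0 = x ∧ y = mk F (av (φ v)) (av_ne _)) ∨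
  (∃ p ∈ P2, p • o P1 = x ∧ ∃ (d : F × F) (hd : d ≠ 0),
    (∀ v : V2, (p⁻¹ * (v : G) * p ∈ V1 ↔ ∃ a : F, φ v = (a * d.1, a * d.2))) ∧ y = mk F (iv d) (iv_ne hd))

include C D in
theorem exists_rel (x : G ⧸ P1) (hx0 : x0 ∉ L0 P1 P2) : ∃ y, Rel φ x0 P2 V1 x y := by
  by_cases hx : x ∈ L0 P1 P2
  · obtain ⟨p, hp, rfl⟩ := (mem_L0_iff x).1 hx
    obtain ⟨d, hd, hdir⟩ := C.dir p hp
    exact ⟨_, Or.inr ⟨p, hp, rfl, d, hd, hdir, rfl⟩⟩
  · obtain ⟨v, hv, hvx⟩ := V2_regular D hx0 hx
    exact ⟨_, Or.inl ⟨⟨v, hv⟩, hvx, rfl⟩⟩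

include D in
theorem not_mem_of_smul {x0 : G ⧸ P1} (hx0 : x0 ∉ L0 P1 P2) (v : V2) : (v : G) • x0 ∉ L0 P1 P2 := by
  intro h
  apply hx0
  have := smul_mem_L0 (D.V2_le_P2 (V2.inv_mem v.2)) h
  rwa [inv_smul_smul] at this

include C D in
/-- directions of spread members: same point iff parallel -/
theorem dir_iff {p r : G} (hp : p ∈ P2) (hr : r ∈ P2) {d e : F × F} (hd : d ≠ 0) (he : e ≠ 0)
    (hdir : ∀ v : V2, (p⁻¹ * (v : G) * p ∈ V1 ↔ ∃ a : F, φ v = (a * d.1, a * d.2)))
    (hdir' : ∀ v : V2, (r⁻¹ * (v : G) * r ∈ V1 ↔ ∃ a : F, φ v = (a * e.1, a * e.2))) :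
    p • o P1 = r • o P1 ↔ d.1 * e.2 - d.2 * e.1 = 0 := by
  constructor
  · intro h
    obtain ⟨v, hv⟩ := C.bij.2 e
    have h1 : r⁻¹ * (v : G) * r ∈ V1 := (hdir' v).2 ⟨1, by rw [hv, one_mul, one_mul]⟩
    have h2 := (hdir v).1 ((conj_mem_iff D h _).2 h1)
    rw [hv] at h2
    exact det_of_mul h2
  · intro h
    obtain ⟨v, hv⟩ := C.bij.2 e
    have h1 : r⁻¹ * (v : G) * r ∈ V1 := (hdir' v).2 ⟨1, by rw [hv, one_mul, one_mul]⟩
    have h2 : p⁻¹ * (v : G) * p ∈ V1 := (hdir v).2 (by rw [hv]; exact exists_mul_of_det hd h)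
    refine eq_of_conj_mem D hp hr v.2 ?_ h2 h1
    intro h3
    have : v = 1 := Subtype.ext h3
    rw [this, map_one C] at hv
    exact he hv.symm

include C D hx0 in
/-- collinearity is preserved and reflected -/
theorem coll_iff {x y z : G ⧸ P1} {x' y' z' : ℙ F (Fin 3 → F)} (hx : Rel φ x0 P2 V1 x x')
    (hy : Rel φ x0 P2 V1 y y') (hz : Rel φ x0 P2 V1 z z') : Coll P1 P2 x y z ↔ CollP x' y' z' := by
  -- the mixed cases
  have AAI : ∀ {x y z : G ⧸ P1} {x' y' z' : ℙ F (Fin 3 → F)},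
      (∃ p ∈ P2, p • o P1 = x ∧ ∃ (d : F × F) (hd : d ≠ 0),
        (∀ v : V2, (p⁻¹ * (v : G) * p ∈ V1 ↔ ∃ a : F, φ v = (a * d.1, a * d.2))) ∧ x' = mk F (iv d) (iv_ne hd)) →
      (∃ v : V2, (v : G) • x0 = y ∧ y' = mk F (av (φ v)) (av_ne _)) →
      (∃ v : V2, (v : G) • x0 = z ∧ z' = mk F (av (φ v)) (av_ne _)) →
      (Coll P1 P2 x y z ↔ CollP x' y' z') := by
    rintro _ _ _ _ _ _ ⟨p, hp, rfl, d, hd, hdir, rfl⟩ ⟨u, rfl, rfl⟩ ⟨v, rfl, rfl⟩
    rw [coll_inf_aff_aff D hx0 hp, collP_mk, D3_inf_aff_aff, hdir, map_div C]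
    constructor
    · intro h
      have := det_of_mul h
      simpa using this
    · intro h
      apply exists_mul_of_det hd
      simpa using h
  have AII : ∀ {x y z : G ⧸ P1} {x' y' z' : ℙ F (Fin 3 → F)},
      (∃ p ∈ P2, p • o P1 = x ∧ ∃ (d : F × F) (hd : d ≠ 0),
        (∀ v : V2, (p⁻¹ * (v : G) * p ∈ V1 ↔ ∃ a : F, φ v = (a * d.1, a * d.2))) ∧ x' = mk F (iv d) (iv_ne hd)) →
      (∃ p ∈ P2, p • o P1 = y ∧ ∃ (d : F × F) (hd : d ≠ 0),
        (∀ v : V2, (p⁻¹ * (v : G) * p ∈ V1 ↔ ∃ a : F, φ v = (a * d.1, a * d.2))) ∧ y' = mk F (iv d) (iv_ne hd)) →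
      (∃ v : V2, (v : G) • x0 = z ∧ z' = mk F (av (φ v)) (av_ne _)) →
      (Coll P1 P2 x y z ↔ CollP x' y' z') := by
    rintro _ _ _ _ _ _ ⟨p, hp, rfl, d, hd, hdir, rfl⟩ ⟨r, hr, rfl, e, he, hdir', rfl⟩ ⟨v, rfl, rfl⟩
    rw [coll_inf_inf D ((mem_L0_iff _).2 ⟨p, hp, rfl⟩) ((mem_L0_iff _).2 ⟨r, hr, rfl⟩) (not_mem_of_smul D hx0 v),
      collP_mk, D3_inf_inf_aff]
    exact dir_iff D C hp hr hd he hdir hdir'
  have rot : ∀ {x y z : G ⧸ P1} {x' y' z' : ℙ F (Fin 3 → F)}, (Coll P1 P2 x y z ↔ CollP x' y' z') →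
      (Coll P1 P2 y z x ↔ CollP y' z' x') := by
    intro x y z x' y' z' h
    exact ⟨fun h1 => collP_rot (h.1 h1.rot.rot), fun h1 => (h.2 (collP_rot (collP_rot h1))).rot⟩
  rcases hx with hx | hx
  · rcases hy with hy | hy
    · rcases hz with hz | hz
      · -- three affine points
        obtain ⟨u, rfl, rfl⟩ := hx
        obtain ⟨v, rfl, rfl⟩ := hy
        obtain ⟨w, rfl, rfl⟩ := hz
        rw [collP_mk, D3_aff_aff_aff]
        by_cases huw : u = w
        · subst huw
          rw [sub_self, sub_self, zero_mul, zero_mul, sub_self]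
          simp only [iff_true]
          obtain ⟨g, h1, h2⟩ := exists_line D ((u : G) • x0) ((v : G) • x0)
          exact ⟨g, h1, h2, h1⟩
        · have ht1 : ((u * w⁻¹ : V2) : G) ≠ 1 := by
            intro h
            apply huw
            have : u * w⁻¹ = 1 := Subtype.ext h
            exact mul_inv_eq_one.1 this
          obtain ⟨p, hp, hpW⟩ := exists_conj_mem_W D (u * w⁻¹ : V2).2
          obtain ⟨d, hd, hdir⟩ := C.dir p hp
          obtain ⟨a, ha⟩ := (hdir _).1 hpW.1
          rw [map_div C] at ha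
          have ha0 : a ≠ 0 := by
            rintro rfl
            rw [zero_mul, zero_mul] at ha
            apply huw
            apply C.bij.1
            exact sub_eq_zero.1 ha
          have hcol : Coll P1 P2 (p • o P1) ((u : G) • x0) ((w : G) • x0) := (coll_inf_aff_aff D hx0 hp u w).2 hpW.1
          have hne : (u : G) • x0 ≠ (w : G) • x0 := by
            intro h
            apply ht1
            apply V2_semiregular D (u * w⁻¹ : V2).2 (x := (w : G) • x0) (not_mem_of_smul D hx0 w)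
            rw [smul_smul]
            have e : ((u * w⁻¹ : V2) : G) * (w : G) = u := by push_cast; group
            rw [e, h]
          -- collinear iff `v w⁻¹` in the same spread member
          have h1 : Coll P1 P2 ((u : G) • x0) ((v : G) • x0) ((w : G) • x0) ↔
              Coll P1 P2 (p • o P1) ((v : G) • x0) ((w : G) • x0) := by
            obtain ⟨k, k1, k2, k3⟩ := hcol
            constructor
            · rintro ⟨g, g1, g2, g3⟩
              have := line_unique D hne g1 g3 k2 k3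
              exact ⟨k, k1, this ▸ g2, k3⟩
            · rintro ⟨g, g1, g2, g3⟩
              have hne2 : p • o P1 ≠ (w : G) • x0 := by
                intro h
                exact not_mem_of_smul D hx0 w (h ▸ (mem_L0_iff _).2 ⟨p, hp, rfl⟩)
              have := line_unique D hne2 g1 g3 k1 k3
              exact ⟨k, k2, this ▸ g2, k3⟩
          rw [h1, coll_inf_aff_aff D hx0 hp, hdir, map_div C]
          have e1 : (φ u).1 - (φ w).1 = a * d.1 := congrArg Prod.fst ha
          have e2 : (φ u).2 - (φ w).2 = a * d.2 := congrArg Prod.snd ha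
          rw [e1, e2]
          constructor
          · intro h
            have := det_of_mul h
            simp only [Prod.fst_sub, Prod.snd_sub] at this
            linear_combination a * this
          · intro h
            apply exists_mul_of_det hd
            simp only [Prod.fst_sub, Prod.snd_sub]
            have : a * (d.1 * ((φ v).2 - (φ w).2) - d.2 * ((φ v).1 - (φ w).1)) = 0 := by linear_combination h
            rcases mul_eq_zero.1 this with h | h
            · exact absurd h ha0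
            · exact h
      · exact rot (AAI hz hx hy)
    · rcases hz with hz | hz
      · exact rot (rot (AAI hy hz hx))
      · exact rot (rot (AII hy hz hx))
  · rcases hy with hy | hy
    · rcases hz with hz | hz
      · exact AAI hx hy hz
      · exact rot (AII hz hx hy)
    · rcases hz with hz | hz
      · exact AII hx hy hz
      · obtain ⟨p, hp, rfl, d, hd, hdir, rfl⟩ := hx
        obtain ⟨r, hr, rfl, e, he, hdir', rfl⟩ := hy
        obtain ⟨s, hs, rfl, g, hg, hdir'', rfl⟩ := hz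
        rw [collP_mk, D3_inf_inf_inf]
        simp only [iff_true]
        refine ⟨1, ?_, ?_, ?_⟩ <;> rw [one_smul, mem_L0_iff]
        · exact ⟨p, hp, rfl⟩
        · exact ⟨r, hr, rfl⟩
        · exact ⟨s, hs, rfl⟩

end beta

end Cfsg.Agent.LieExceptional.PlaneCoord
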