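import Mathlib
import Cfsg.Agent.LieExceptional.PlaneCoord
import Cfsg.Agent.LieClassical.SLGen

/-!
# The group of a coordinatised projective plane is `PSL₃`

`G` simple with `PlaneData` whose spread is coordinatised by a field `F`: then `G ≃* PSL₃(F)`.
-/

set_option autoImplicit false

namespace Cfsg.Agent.LieExceptional.PlaneMap

open scoped Pointwise LinearAlgebra.Projectivization
open Projectivization Cfsg.Agent.LieExceptional.PlaneGeom Cfsg.Agent.LieExceptional.PlaneElation
  Cfsg.Agent.LieExceptional.PlaneCoord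

universe u w

variable {G : Type u} [Group G] {P1 P2 V1 V2 : Subgroup G} {q : ℕ} {F : Type w} [Field F]

theorem iv_parallel_iff {d e : F × F} (hd : d ≠ 0) (he : e ≠ 0) :
    mk F (iv d) (iv_ne hd) = mk F (iv e) (iv_ne he) ↔ d.1 * e.2 - d.2 * e.1 = 0 := by
  rw [mk_eq_mk_iff']
  constructor
  · rintro ⟨a, ha⟩
    have h0 := congrFun ha 0
    have h1 := congrFun ha 1
    simp only [iv, Pi.smul_apply, Matrix.cons_val_zero, Matrix.cons_val_one, smul_eq_mul] at h0 h1
    rw [← h0, ← h1]
    ring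
  · intro h
    obtain ⟨a, ha⟩ := exists_mul_of_det he (e := d) (by linear_combination -h)
    refine ⟨a, ?_⟩
    rw [ha]
    funext i
    fin_cases i <;> simp [iv]

theorem av_eq_iff (a b : F × F) : mk F (av a) (av_ne a) = mk F (av b) (av_ne b) ↔ a = b := by
  rw [mk_eq_mk_iff']
  constructor
  · rintro ⟨c, hc⟩
    have h0 := congrFun hc 0
    have h1 := congrFun hc 1
    have h2 := congrFun hc 2
    simp only [av, Pi.smul_apply, Matrix.cons_val_zero, Matrix.cons_val_one, Matrix.cons_val, smul_eq_mul] at h0 h1 h2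
    rw [mul_one] at h2
    rw [h2, one_mul] at h0 h1
    exact Prod.ext h0.symm h1.symm
  · rintro rfl
    exact ⟨1, one_smul _ _⟩

theorem av_ne_iv (a : F × F) {d : F × F} (hd : d ≠ 0) : mk F (av a) (av_ne a) ≠ mk F (iv d) (iv_ne hd) := by
  intro h
  rw [mk_eq_mk_iff'] at h
  obtain ⟨c, hc⟩ := h
  have h2 := congrFun hc 2
  simp [av, iv] at h2

variable (D : PlaneData G P1 P2 V1 V2 q) {φ : V2 → F × F} (C : Coord P1 P2 V1 V2 φ)

include D C in
theorem rel_eq_iff {x0 : G ⧸ P1} (hx0 : x0 ∉ L0 P1 P2) {x y : G ⧸ P1} {x' y' : ℙ F (Fin 3 → F)}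
    (hx : Rel φ x0 P2 V1 x x') (hy : Rel φ x0 P2 V1 y y') : x = y ↔ x' = y' := by
  rcases hx with ⟨u, rfl, rfl⟩ | ⟨p, hp, rfl, d, hd, hdir, rfl⟩
  · rcases hy with ⟨v, rfl, rfl⟩ | ⟨r, hr, rfl, e, he, hdir', rfl⟩
    · rw [av_eq_iff]
      constructor
      · intro h
        have h1 : ((v : G)⁻¹ * (u : G)) = 1 := by
          apply V2_semiregular D (V2.mul_mem (V2.inv_mem v.2) u.2) hx0
          rw [mul_smul, h, inv_smul_smul]
        have h2 : u = v := Subtype.ext (inv_mul_eq_one.1 h1).symm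
        rw [h2]
      · intro h
        rw [C.bij.1 h]
    · constructor
      · intro h
        exact absurd (h ▸ (mem_L0_iff _).2 ⟨r, hr, rfl⟩) (not_mem_of_smul D hx0 u)
      · intro h
        exact absurd h (av_ne_iv _ he)
  · rcases hy with ⟨v, rfl, rfl⟩ | ⟨r, hr, rfl, e, he, hdir', rfl⟩
    · constructor
      · intro h
        exact absurd (h ▸ (mem_L0_iff _).2 ⟨p, hp, rfl⟩) (not_mem_of_smul D hx0 v)
      · intro h
        exact absurd h.symm (av_ne_iv _ hd)
    · rw [dir_iff D C hp hr hd he hdir hdir', iv_parallel_iff hd he]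

include D C in
theorem rel_surj {x0 : G ⧸ P1} (y : ℙ F (Fin 3 → F)) : ∃ x, Rel φ x0 P2 V1 x y := by
  induction y using Projectivization.ind with
  | h z hz =>
    by_cases h2 : z 2 = 0
    · have hd : ((z 0, z 1) : F × F) ≠ 0 := by
        intro h
        apply hz
        have h0 : z 0 = 0 := congrArg Prod.fst h
        have h1 : z 1 = 0 := congrArg Prod.snd h
        funext i
        fin_cases i
        · exact h0
        · exact h1
        · exact h2
      obtain ⟨v, hv⟩ := C.bij.2 (z 0, z 1)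
      obtain ⟨p, hp, hpW⟩ := exists_conj_mem_W D v.2
      obtain ⟨e, he, hdir⟩ := C.dir p hp
      obtain ⟨a, ha⟩ := (hdir v).1 hpW.1
      refine ⟨p • o P1, Or.inr ⟨p, hp, rfl, e, he, hdir, ?_⟩⟩
      rw [hv] at ha
      rw [mk_eq_mk_iff']
      refine ⟨a, ?_⟩
      funext i
      have ha1 : z 0 = a * e.1 := congrArg Prod.fst ha
      have ha2 : z 1 = a * e.2 := congrArg Prod.snd ha
      fin_cases i
      · simp [iv, ha1]
      · simp [iv, ha2]
      · simp [iv, h2]
    · obtain ⟨v, hv⟩ := C.bij.2 (z 0 / z 2, z 1 / z 2)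
      refine ⟨(v : G) • x0, Or.inl ⟨v, rfl, ?_⟩⟩
      rw [mk_eq_mk_iff']
      refine ⟨z 2, ?_⟩
      rw [hv]
      funext i
      fin_cases i
      · show z 2 * (z 0 / z 2) = z 0
        field_simp
      · show z 2 * (z 1 / z 2) = z 1
        field_simp
      · simp [av]

include D in
theorem exists_not_mem_L0 : ∃ x0 : G ⧸ P1, x0 ∉ L0 P1 P2 := by
  by_contra h
  push Not at h
  have h1 : L0 P1 P2 = Set.univ := Set.eq_univ_of_forall h
  have h2 := card_L0 D
  rw [h1] at h2
  have h3 : Nat.card (Set.univ : Set (G ⧸ P1)) = q ^ 2 + q + 1 := by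
    rw [← card_quot D]
    exact Nat.card_congr (Equiv.Set.univ _)
  rw [h3] at h2
  have := D.hq
  have : 0 < q ^ 2 := by positivity
  omega

include D C in
/-- the identification of the plane with the projective plane over `F` -/
theorem exists_beta : ∃ β : (G ⧸ P1) ≃ ℙ F (Fin 3 → F), ∀ x y z,
    Coll P1 P2 x y z ↔ CollP (β x) (β y) (β z) := by
  obtain ⟨x0, hx0⟩ := exists_not_mem_L0 D
  choose b hb using fun x : G ⧸ P1 => exists_rel D C x0 x hx0
  have hbij : Function.Bijective b := by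
    constructor
    · intro x y hxy
      exact (rel_eq_iff D C hx0 (hb x) (hb y)).2 hxy
    · intro y
      obtain ⟨x, hx⟩ := rel_surj D C (x0 := x0) y
      exact ⟨x, (rel_eq_iff D C hx0 (hb x) hx).1 rfl⟩
  refine ⟨Equiv.ofBijective b hbij, fun x y z => ?_⟩
  exact coll_iff D C x0 hx0 (hb x) (hb y) (hb z)

section group

variable (β : (G ⧸ P1) ≃ ℙ F (Fin 3 → F))
  (hβ : ∀ x y z, Coll P1 P2 x y z ↔ CollP (β x) (β y) (β z))

/-- the permutation representation on the projective plane over `F` -/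
def rho : G →* Equiv.Perm (ℙ F (Fin 3 → F)) :=
  β.permCongrHom.toMonoidHom.comp (MulAction.toPermHom G (G ⧸ P1))

theorem rho_apply (g : G) (y : ℙ F (Fin 3 → F)) : rho β g y = β (g • β.symm y) := rfl

include hβ in
theorem rho_coll (g : G) (x y z : ℙ F (Fin 3 → F)) (h : CollP x y z) :
    CollP (rho β g x) (rho β g y) (rho β g z) := by
  rw [rho_apply, rho_apply, rho_apply, ← hβ]
  apply Coll.smul
  rw [hβ, β.apply_symm_apply, β.apply_symm_apply, β.apply_symm_apply]
  exact h

/-- cross product -/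
def cr (a b : Fin 3 → F) : Fin 3 → F := ![a 1 * b 2 - a 2 * b 1, a 2 * b 0 - a 0 * b 2, a 0 * b 1 - a 1 * b 0]

theorem dot_cr (a b z : Fin 3 → F) : dot (cr a b) z = D3 a b z := by
  simp only [dot_def, cr, D3_def, Matrix.cons_val_zero, Matrix.cons_val_one, Matrix.cons_val]
  ring

theorem cr_ne {a b : Fin 3 → F} (ha : a ≠ 0) (hb : b ≠ 0) (h : mk F a ha ≠ mk F b hb) : cr a b ≠ 0 := by
  intro h0
  apply h
  have e0 := congrFun h0 0
  have e1 := congrFun h0 1
  have e2 := congrFun h0 2
  simp only [cr, Matrix.cons_val_zero, Matrix.cons_val_one, Matrix.cons_val, Pi.zero_apply] at e0 e1 e2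
  obtain ⟨μ, hμ⟩ := parallel (w := a) hb (by linear_combination e2) (by linear_combination -e1)
    (by linear_combination e0)
  rw [mk_eq_mk_iff']
  exact ⟨μ, hμ.symm⟩

/-- the matrix of a transvection -/
def tv (f c : Fin 3 → F) (h : dot f c = 0) : Matrix.SpecialLinearGroup (Fin 3) F :=
  ⟨1 + Matrix.vecMulVec c f, by
    rw [Matrix.det_fin_three]
    simp only [Matrix.add_apply, Matrix.vecMulVec_apply, Matrix.one_apply_eq]
    rw [Matrix.one_apply_ne (by decide), Matrix.one_apply_ne (by decide), Matrix.one_apply_ne (by decide),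
      Matrix.one_apply_ne (by decide), Matrix.one_apply_ne (by decide), Matrix.one_apply_ne (by decide)]
    rw [dot_def] at h
    linear_combination h⟩

theorem tv_smul (f c : Fin 3 → F) (h : dot f c = 0) (x : Fin 3 → F) : tv f c h • x = x + dot f x • c := by
  rw [Matrix.SpecialLinearGroup.smul_def]
  change ((1 : Matrix (Fin 3) (Fin 3) F) + Matrix.vecMulVec c f).mulVec x = _
  rw [Matrix.add_mulVec, Matrix.one_mulVec]
  congr 1
  funext i
  simp only [Matrix.mulVec, dotProduct, Matrix.vecMulVec_apply, Fin.sum_univ_three, dot_def, Pi.smul_apply,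
    smul_eq_mul]
  ring

include D in
theorem exists_two : ∃ x ∈ L0 P1 P2, ∃ y ∈ L0 P1 P2, x ≠ y := by
  have h1 := card_L0 D
  have hq := D.hq
  have h2 : 1 < (L0 P1 P2).ncard := by
    rw [← Nat.card_coe_set_eq, h1]
    omega
  obtain ⟨x, hx, y, hy, hxy⟩ := (Set.one_lt_ncard (Set.finite_of_ncard_pos (by omega))).1 h2
  exact ⟨x, hx, y, hy, hxy⟩

include D hβ in
/-- the equation of a line -/
theorem exists_axis (g : G) : ∃ f : Fin 3 → F, f ≠ 0 ∧ ∀ (x : Fin 3 → F) (hx : x ≠ 0),
    dot f x = 0 ↔ β.symm (mk F x hx) ∈ g • L0 P1 P2 := by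
  obtain ⟨z1, hz1, z2, hz2, hne⟩ := exists_two D
  have hg1 : g • z1 ∈ g • L0 P1 P2 := Set.smul_mem_smul_set hz1
  have hg2 : g • z2 ∈ g • L0 P1 P2 := Set.smul_mem_smul_set hz2
  have hne' : g • z1 ≠ g • z2 := fun h => hne (MulAction.injective g h)
  obtain ⟨a, ha, hza⟩ : ∃ (a : Fin 3 → F) (ha : a ≠ 0), β (g • z1) = mk F a ha :=
    ⟨(β (g • z1)).rep, rep_nonzero _, (mk_rep _).symm⟩
  obtain ⟨b, hb, hzb⟩ : ∃ (b : Fin 3 → F) (hb : b ≠ 0), β (g • z2) = mk F b hb :=
    ⟨(β (g • z2)).rep, rep_nonzero _, (mk_rep _).symm⟩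
  refine ⟨cr a b, cr_ne ha hb ?_, fun x hx => ?_⟩
  · rw [← hza, ← hzb]
    exact fun h => hne' (β.injective h)
  · rw [dot_cr, ← collP_mk ha hb hx, ← hza, ← hzb]
    have h1 : CollP (β (g • z1)) (β (g • z2)) (mk F x hx) ↔
        Coll P1 P2 (g • z1) (g • z2) (β.symm (mk F x hx)) := by
      rw [hβ, β.apply_symm_apply]
    rw [h1]
    constructor
    · rintro ⟨k, k1, k2, k3⟩
      rw [line_unique D hne' hg1 hg2 k1 k2]
      exact k3
    · intro h
      exact ⟨g, hg1, hg2, h⟩

include D hβ in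
/-- conjugates of elements of `V2` are transvections -/
theorem rho_conj {g p v : G} (hv : v ∈ V2) (hvp : p⁻¹ * v * p ∈ V1) {f c : Fin 3 → F}
    (hf : f ≠ 0) (hc : c ≠ 0) (hfc : dot f c = 0)
    (hax : ∀ (x : Fin 3 → F) (hx : x ≠ 0), dot f x = 0 → β.symm (mk F x hx) ∈ g • L0 P1 P2)
    (hcen : β (g • p • o P1) = mk F c hc) :
    ∃ b : F, ∀ (x : Fin 3 → F) (hx : x ≠ 0), ∃ h : x + (b * dot f x) • c ≠ 0,
      rho β (g * v * g⁻¹) (mk F x hx) = mk F (x + (b * dot f x) • c) h := by
  refine elation (rho β (g * v * g⁻¹)) (rho_coll β hβ _) hc hfc ?_ ?_ hf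
  · intro x hx h
    rw [rho_apply]
    have h1 := hax x hx h
    have h2 : (g * v * g⁻¹) • (β.symm (mk F x hx)) = β.symm (mk F x hx) := by
      rw [Set.mem_smul_set_iff_inv_smul_mem] at h1
      rw [mul_smul, mul_smul, V2_fix D hv h1, smul_inv_smul]
    rw [h2, β.apply_symm_apply]
  · intro y
    rw [rho_apply, ← hcen]
    have h1 : Coll P1 P2 (β.symm y) ((g * v * g⁻¹) • β.symm y) (g • p • o P1) := by
      obtain ⟨k, k1, k2, k3⟩ := center_V1 D hvp (g⁻¹ • β.symm y)
      have h2 := Coll.smul (P1 := P1) (P2 := P2) ⟨k, k1, k2, k3⟩ g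
      rw [smul_inv_smul] at h2
      have h3 : g • v • g⁻¹ • β.symm y = (g * v * g⁻¹) • β.symm y := by
        rw [mul_smul, mul_smul]
      rwa [h3] at h2
    rw [hβ, β.apply_symm_apply] at h1
    exact h1

include D hβ in
theorem rho_conj_mem {g v : G} (hv : v ∈ V2) :
    rho β (g * v * g⁻¹) ∈ (MulAction.toPermHom (Matrix.SpecialLinearGroup (Fin 3) F) (ℙ F (Fin 3 → F))).range := by
  obtain ⟨p, hp, hpW⟩ := exists_conj_mem_W D hv
  obtain ⟨f, hf, hax⟩ := exists_axis D β hβ g
  obtain ⟨c, hc, hcen⟩ : ∃ (c : Fin 3 → F) (hc : c ≠ 0), β (g • p • o P1) = mk F c hc :=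
    ⟨(β (g • p • o P1)).rep, rep_nonzero _, (mk_rep _).symm⟩
  have hfc : dot f c = 0 := by
    rw [hax c hc, ← hcen, β.symm_apply_apply]
    exact Set.smul_mem_smul_set ((mem_L0_iff _).2 ⟨p, hp, rfl⟩)
  obtain ⟨b, hb⟩ := rho_conj D β hβ hv hpW.1 hf hc hfc (fun x hx h => (hax x hx).1 h) hcen
  have hfbc : dot f (b • c) = 0 := by rw [dot_smul, hfc, mul_zero]
  refine ⟨tv f (b • c) hfbc, ?_⟩
  ext y
  induction y using Projectivization.ind with
  | h x hx =>
    obtain ⟨h, hx'⟩ := hb x hx
    rw [MulAction.toPermHom_apply, MulAction.toPerm_apply, smul_mk, hx']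
    congr 1
    rw [tv_smul, smul_smul, mul_comm]

include D hβ in
theorem rho_mem [IsSimpleGroup G] (g : G) :
    rho β g ∈ (MulAction.toPermHom (Matrix.SpecialLinearGroup (Fin 3) F) (ℙ F (Fin 3 → F))).range := by
  have hN : Subgroup.normalClosure (V2 : Set G) = ⊤ := by
    rcases Subgroup.Normal.eq_bot_or_eq_top (Subgroup.normalClosure_normal (s := (V2 : Set G))) with h | h
    · exfalso
      have h1 : V2 = ⊥ := by
        rw [eq_bot_iff, ← h]
        exact Subgroup.subset_normalClosure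
      have h2 := D.card_V2
      rw [h1, Subgroup.card_bot] at h2
      have := D.hq
      nlinarith
    · exact h
  have h1 : (⊤ : Subgroup G) ≤
      (MulAction.toPermHom (Matrix.SpecialLinearGroup (Fin 3) F) (ℙ F (Fin 3 → F))).range.comap (rho β) := by
    rw [← hN, Subgroup.normalClosure, Subgroup.closure_le]
    intro x hx
    rw [Group.mem_conjugatesOfSet_iff] at hx
    obtain ⟨v, hv, hvx⟩ := hx
    obtain ⟨k, rfl⟩ := isConj_iff.1 hvx
    exact rho_conj_mem D β hβ hv
  exact h1 (Subgroup.mem_top g)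

include D in
theorem rho_injective [IsSimpleGroup G] : Function.Injective (rho β) := by
  rw [← MonoidHom.ker_eq_bot_iff]
  rcases Subgroup.Normal.eq_bot_or_eq_top (MonoidHom.normal_ker (rho β)) with h | h
  · exact h
  · exfalso
    have h1 : P1 = ⊤ := by
      rw [eq_top_iff]
      intro g _
      have h2 : g ∈ (rho β).ker := by rw [h]; trivial
      rw [MonoidHom.mem_ker] at h2
      have h3 := rho_apply β g (β (o P1))
      rw [h2, β.symm_apply_apply] at h3
      have h4 : g • o P1 = o P1 := β.injective h3.symm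
      exact (smul_o_eq_o_iff g).1 h4
    have h2 := D.index_G
    rw [h1, Subgroup.index_top] at h2
    have := D.hq
    nlinarith

include D C in
theorem card_F : Finite F ∧ Nat.card F = q := by
  have hq := D.hq
  have hVfin : Finite V2 := (Nat.card_pos_iff.1 (by rw [D.card_V2]; positivity)).2
  have h1 : Nat.card (F × F) = q ^ 2 := by
    rw [← D.card_V2]
    exact (Nat.card_congr (Equiv.ofBijective φ C.bij)).symm
  have hF2 : Finite (F × F) := Finite.of_surjective φ C.bij.2
  have hF : Finite F := Finite.of_injective (fun x : F => ((x, 0) : F × F)) (fun x y h => congrArg Prod.fst h)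
  refine ⟨hF, ?_⟩
  rw [Nat.card_prod, ← sq] at h1
  exact Nat.pow_left_injective (n := 2) (by norm_num) h1

include D C hβ in
/-- the elementary transvections lie in the image -/
theorem transvection_mem [IsSimpleGroup G] {i j : Fin 3} (hij : i ≠ j) (b : F) :
    MulAction.toPermHom (Matrix.SpecialLinearGroup (Fin 3) F) (ℙ F (Fin 3 → F))
      (Matrix.SpecialLinearGroup.transvection hij b) ∈ (rho β).range := by
  obtain ⟨hFfin, hFcard⟩ := card_F D C
  obtain ⟨k, hki, hkj⟩ : ∃ k : Fin 3, k ≠ i ∧ k ≠ j := by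
    revert i j
    decide
  -- the coordinate vectors
  let e : Fin 3 → (Fin 3 → F) := fun l => Pi.single l 1
  have he : ∀ l, e l ≠ 0 := fun l h => by
    have := congrFun h l
    simp [e] at this
  have hdot : ∀ x : Fin 3 → F, dot (e j) x = x j := by
    intro x
    fin_cases j <;> simp [e, dot_def, Pi.single_apply]
  have hcoll : ∀ (x : Fin 3 → F), x j = 0 → D3 (e i) (e k) x = 0 := by
    intro x hx
    fin_cases i <;> fin_cases j <;> fin_cases k <;> simp_all [e, D3_def, Pi.single_apply]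
  have hne : mk F (e i) (he i) ≠ mk F (e k) (he k) := by
    intro h
    rw [mk_eq_mk_iff'] at h
    obtain ⟨a, ha⟩ := h
    have := congrFun ha i
    simp [e, Pi.single_apply, hki.symm] at this
  have hne' : β.symm (mk F (e i) (he i)) ≠ β.symm (mk F (e k) (he k)) := fun h => hne (β.symm.injective h)
  obtain ⟨g, hg1, hg2⟩ := exists_line D (β.symm (mk F (e i) (he i))) (β.symm (mk F (e k) (he k)))
  have hax : ∀ (x : Fin 3 → F) (hx : x ≠ 0), dot (e j) x = 0 → β.symm (mk F x hx) ∈ g • L0 P1 P2 := by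
    intro x hx h
    rw [hdot] at h
    have h1 : CollP (mk F (e i) (he i)) (mk F (e k) (he k)) (mk F x hx) := by
      rw [collP_mk]
      exact hcoll x h
    rw [← β.apply_symm_apply (mk F (e i) (he i)), ← β.apply_symm_apply (mk F (e k) (he k)),
      ← β.apply_symm_apply (mk F x hx), ← hβ] at h1
    obtain ⟨l, l1, l2, l3⟩ := h1
    rw [line_unique D hne' hg1 hg2 l1 l2]
    exact l3
  obtain ⟨p, hp, hpe⟩ := (mem_L0_iff _).1 (Set.mem_smul_set_iff_inv_smul_mem.1 hg1)
  have hcen : β (g • p • o P1) = mk F (e i) (he i) := by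
    rw [hpe, smul_inv_smul, β.apply_symm_apply]
  have hfc : dot (e j) (e i) = 0 := by
    rw [hdot]
    simp [e, Pi.single_apply, hij.symm]
  -- the group of elations with this axis and centre
  let S := {v : G // v ∈ V2 ∧ p⁻¹ * v * p ∈ V1}
  have hS : Nat.card S = q := by
    rw [← D.card_W]
    refine Nat.card_congr ⟨fun v => ⟨p⁻¹ * v.1 * p, v.2.2, ?_⟩, fun w => ⟨p * w.1 * p⁻¹, ?_, ?_⟩, ?_, ?_⟩
    · have := D.V2_norm p⁻¹ (P2.inv_mem hp) v.1 v.2.1
      simpa using this
    · exact D.V2_norm p hp w.1 w.2.2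
    · have : p⁻¹ * (p * (w : G) * p⁻¹) * p = w := by group
      rw [this]
      exact w.2.1
    · intro v
      apply Subtype.ext
      show p * (p⁻¹ * v.1 * p) * p⁻¹ = v.1
      group
    · intro w
      apply Subtype.ext
      show p⁻¹ * (p * (w : G) * p⁻¹) * p = w
      group
  choose t ht using fun v : S => rho_conj D β hβ v.2.1 v.2.2 (he j) (he i) hfc hax hcen
  have hinj : Function.Injective t := by
    intro u v huv
    have h1 : rho β (g * u.1 * g⁻¹) = rho β (g * v.1 * g⁻¹) := by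
      ext y
      induction y using Projectivization.ind with
      | h x hx =>
        obtain ⟨h2, h3⟩ := ht u x hx
        obtain ⟨h4, h5⟩ := ht v x hx
        rw [h3, h5]
        congr 1
        rw [huv]
    have h2 := rho_injective D β h1
    exact Subtype.ext (mul_left_cancel (mul_right_cancel h2))
  have hSfin : Finite S := (Nat.card_pos_iff.1 (by rw [hS]; have := D.hq; omega)).2
  have hsurj : Function.Surjective t :=
    ((Nat.bijective_iff_injective_and_card t).2 ⟨hinj, by rw [hS, hFcard]⟩).2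
  obtain ⟨v, hv⟩ := hsurj b
  refine ⟨g * v.1 * g⁻¹, ?_⟩
  ext y
  induction y using Projectivization.ind with
  | h x hx =>
    obtain ⟨h2, h3⟩ := ht v x hx
    rw [MulAction.toPermHom_apply, MulAction.toPerm_apply, smul_mk, h3]
    congr 1
    rw [Cfsg.Agent.LieClassical.SLGen.transvection_smul, hv, hdot]

end group

include D C in
/-- the identification theorem -/
theorem psl_of_coord [IsSimpleGroup G] : Nonempty (G ≃* Matrix.ProjectiveSpecialLinearGroup (Fin 3) F) := by
  obtain ⟨β, hβ⟩ := exists_beta D C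
  have hrange : (rho β).range = (PSLAction.toPermHom (K := F) (ι := Fin 3)).range := by
    have h1 : (PSLAction.toPermHom (K := F) (ι := Fin 3)).range =
        (MulAction.toPermHom (Matrix.SpecialLinearGroup (Fin 3) F) (ℙ F (Fin 3 → F))).range := by
      ext y
      constructor
      · rintro ⟨x, rfl⟩
        obtain ⟨x, rfl⟩ := QuotientGroup.mk_surjective x
        exact ⟨x, rfl⟩
      · rintro ⟨x, rfl⟩
        exact ⟨(x : Matrix.ProjectiveSpecialLinearGroup (Fin 3) F), rfl⟩
    rw [h1]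
    apply le_antisymm
    · rintro _ ⟨g, rfl⟩
      exact rho_mem D β hβ g
    · rintro _ ⟨A, rfl⟩
      have h2 : (⊤ : Subgroup (Matrix.SpecialLinearGroup (Fin 3) F)) ≤ (rho β).range.comap
          (MulAction.toPermHom (Matrix.SpecialLinearGroup (Fin 3) F) (ℙ F (Fin 3 → F))) := by
        rw [← Cfsg.Agent.LieClassical.SLGen.closure_transvections, Subgroup.closure_le]
        rintro _ ⟨i, j, hij, b, rfl⟩
        exact transvection_mem D C β hβ hij b
      exact h2 (Subgroup.mem_top A)
  refine ⟨(MonoidHom.ofInjective (rho_injective D β)).trans ((MulEquiv.subgroupCongr hrange).trans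
    (MonoidHom.ofInjective Matrix.ProjectiveSpecialLinearGroup.toPermHom_injective).symm)⟩

end Cfsg.Agent.LieExceptional.PlaneMap
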