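import Cfsg.Agent.LieExceptional.CITDihedral
import Cfsg.Agent.S0508

/-!
# Simple CIT groups with a self-centralising four-group are groups `PSL₂(F)`, `|F|` odd
-/

set_option autoImplicit false

namespace Cfsg.Agent.LieExceptional.CITDihedralPsl

open Subgroup

/-- a finite simple CIT group with a self-centralising four-group is `PSL₂(F)` with `|F|` odd -/
theorem psl {G : Type*} [Group G] [Finite G] [IsSimpleGroup G]
    (hCIT : ∀ t : G, orderOf t = 2 → IsPGroup 2 (centralizer ({t} : Set G)))
    (V : Subgroup G) (hV4 : Nat.card V = 4) (hV2 : ∀ v ∈ V, v * v = 1)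
    (hCV : centralizer (V : Set G) = V) :
    ∃ (F : Type) (_ : Field F) (_ : Fintype F), Odd (Fintype.card F) ∧
      Nonempty (G ≃* Matrix.ProjectiveSpecialLinearGroup (Fin 2) F) := by
  have : Fact (Nat.Prime 2) := ⟨Nat.prime_two⟩
  obtain ⟨S⟩ : Nonempty (Sylow 2 G) := inferInstance
  obtain ⟨m, hm, hS⟩ := CITDihedral.dihedral_sylow hCIT V hV4 hV2 hCV S
  have hSnt : Nontrivial (S : Subgroup G) := by
    obtain ⟨e⟩ := hS
    rw [← Finite.one_lt_card_iff_nontrivial, Nat.card_congr e.toEquiv, DihedralGroup.nat_card]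
    omega
  have hZnt : Nontrivial (center (S : Subgroup G)) := S.isPGroup'.center_nontrivial
  have hZp : IsPGroup 2 (center (S : Subgroup G)) := S.isPGroup'.to_subgroup _
  obtain ⟨n, hn0, hn⟩ := hZp.nontrivial_iff_card.1 hZnt
  obtain ⟨t, ht⟩ := exists_prime_orderOf_dvd_card' (G := center (S : Subgroup G)) 2
    (by rw [hn]; exact dvd_pow_self 2 hn0.ne')
  have ht2 : orderOf (((t : (S : Subgroup G)) : G)) = 2 := by
    have h1 : orderOf ((t : (S : Subgroup G)) : G) = orderOf (t : (S : Subgroup G)) := orderOf_coe _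
    have h2 : orderOf (t : (S : Subgroup G)) = orderOf t := orderOf_coe _
    rw [h1, h2, ht]
  refine Cfsg.Agent.S0508.result S m hm hS ((t : (S : Subgroup G)) : G) ht2 (t : (S : Subgroup G)).2
    ?_ ⊥ ?_ ?_ ?_ ?_
  · intro s hs
    exact congrArg Subtype.val ((mem_center_iff.1 t.2) ⟨s, hs⟩)
  · symm
    rw [map_eq_bot_iff_of_injective _ (subtype_injective _), eq_bot_iff_card]
    have h1 := Cfsg.Agent.Lib.Cores.pPrimeCore_coprime
      (G := centralizer ({((t : (S : Subgroup G)) : G)} : Set G)) 2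
    have h2 : IsPGroup 2 (Cfsg.oddCore (centralizer ({((t : (S : Subgroup G)) : G)} : Set G))) :=
      (hCIT _ ht2).to_subgroup _
    obtain ⟨k, hk⟩ := IsPGroup.iff_card.1 h2
    rcases Nat.eq_zero_or_pos k with rfl | hk0
    · rw [hk, pow_zero]
    · exfalso
      rw [hk] at h1
      have h3 : (2 ^ k).Coprime 2 := h1
      rw [Nat.coprime_pow_left_iff hk0] at h3
      norm_num at h3
  · intro h; exact absurd rfl h
  · intro s _ hs
    exfalso
    apply hs
    rw [mem_centralizer_iff]
    intro x hx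
    rw [SetLike.mem_coe, mem_bot] at hx
    rw [hx]; simp
  · intro Y hY hY1
    exact absurd (le_bot_iff.1 hY) hY1

end Cfsg.Agent.LieExceptional.CITDihedralPsl
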