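import Cfsg.Agent.LieExceptional.CITDefs

/-!
# The amalgam configuration of the CIT project (S0348)
-/

set_option autoImplicit false

namespace Cfsg.Agent.LieExceptional.CITDefs

variable {G : Type*} [Group G]

/-- the amalgam configuration: `T = V₁ V₂` is a Sylow 2-subgroup of the two distinct maximal 2-locals
`Mᵢ = N(Vᵢ)`, `Mᵢ/Vᵢ ≅ PSL₂(q)`, `Vᵢ` elementary abelian of order `q²`, `V₁ ⊓ V₂ = Ω₁(Z(T))` of order `q`. -/
structure Amal (M₁ M₂ V₁ V₂ T : Subgroup G) (q : ℕ) : Prop where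
  ff₁ : FFType M₁ V₁ T q
  ff₂ : FFType M₂ V₂ T q
  max₁ : IsMaxLocal M₁
  max₂ : IsMaxLocal M₂
  ne : M₁ ≠ M₂
  elem₁ : Elem V₁
  elem₂ : Elem V₂
  sup : T = V₁ ⊔ V₂
  inf : V₁ ⊓ V₂ = omegaZ T
  inv : ∀ x ∈ T, x * x = 1 → x ∈ V₁ ∨ x ∈ V₂
  card : Nat.card T = q ^ 3

end Cfsg.Agent.LieExceptional.CITDefs
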