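import Mathlib

/-!
# Definitions for the CIT project (S0348): groups in which centralisers of involutions are 2-groups.

All subgroups live in one ambient group `G`.
-/

set_option autoImplicit false

namespace Cfsg.Agent.LieExceptional.CITDefs

variable {G : Type*} [Group G]

/-- CIT groups: centralisers of involutions are 2-groups. -/
def IsCIT (G : Type*) [Group G] : Prop :=
  ∀ t : G, orderOf t = 2 → IsPGroup 2 (Subgroup.centralizer ({t} : Set G))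

/-- `A` is an elementary abelian 2-subgroup (all squares are 1). -/
def Elem (A : Subgroup G) : Prop := ∀ x ∈ A, x * x = 1

theorem Elem.comm {A : Subgroup G} (hA : Elem A) {x y : G} (hx : x ∈ A) (hy : y ∈ A) :
    x * y = y * x := by
  have h1 : (x * y) * (x * y) = 1 := hA _ (A.mul_mem hx hy)
  have hxx := hA x hx
  have hyy := hA y hy
  have h2 : x * y = (x * y)⁻¹ := eq_inv_of_mul_eq_one_left h1
  have hx' : x⁻¹ = x := inv_eq_of_mul_eq_one_left hxx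
  have hy' : y⁻¹ = y := inv_eq_of_mul_eq_one_left hyy
  rw [mul_inv_rev, hx', hy'] at h2
  exact h2

/-- `A` is an elementary abelian 2-subgroup of `T` of maximal order. -/
def MaxElem (T A : Subgroup G) : Prop :=
  A ≤ T ∧ Elem A ∧ ∀ B : Subgroup G, B ≤ T → Elem B → Nat.card B ≤ Nat.card A

/-- Thompson subgroup (elementary abelian version). -/
def J (T : Subgroup G) : Subgroup G := sSup {A | MaxElem T A}

/-- `Ω₁(Z(T))` for the prime 2: elements of order dividing 2 in the centre of `T`. -/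
def omegaZ (T : Subgroup G) : Subgroup G where
  carrier := {x | x ∈ T ∧ x * x = 1 ∧ ∀ y ∈ T, x * y = y * x}
  one_mem' := ⟨T.one_mem, one_mul 1, fun y _ => by rw [one_mul, mul_one]⟩
  mul_mem' := by
    rintro a b ⟨ha, ha2, hac⟩ ⟨hb, hb2, hbc⟩
    refine ⟨T.mul_mem ha hb, ?_, fun y hy => ?_⟩
    · calc a * b * (a * b) = a * (b * a) * b := by group
        _ = a * (a * b) * b := by rw [hbc a ha]
        _ = (a * a) * (b * b) := by group
        _ = 1 := by rw [ha2, hb2, one_mul]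
    · rw [mul_assoc, hbc y hy, ← mul_assoc, hac y hy, mul_assoc]
  inv_mem' := by
    rintro a ⟨ha, ha2, hac⟩
    have : a⁻¹ = a := inv_eq_of_mul_eq_one_left ha2
    rw [this]
    exact ⟨ha, ha2, hac⟩

theorem mem_omegaZ {T : Subgroup G} {x : G} :
    x ∈ omegaZ T ↔ x ∈ T ∧ x * x = 1 ∧ ∀ y ∈ T, x * y = y * x := Iff.rfl

/-- `X = O₂(M)`. -/
structure IsO2 (M X : Subgroup G) : Prop where
  le : X ≤ M
  two : IsPGroup 2 X
  normal : ∀ m ∈ M, ∀ x ∈ X, m * x * m⁻¹ ∈ X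
  max : ∀ Y : Subgroup G, Y ≤ M → IsPGroup 2 Y → (∀ m ∈ M, ∀ y ∈ Y, m * y * m⁻¹ ∈ Y) → Y ≤ X

/-- `T` is a Sylow 2-subgroup of the subgroup `M`. -/
structure IsSyl2 (M T : Subgroup G) : Prop where
  le : T ≤ M
  two : IsPGroup 2 T
  max : ∀ Y : Subgroup G, Y ≤ M → IsPGroup 2 Y → T ≤ Y → Y = T

/-- `M` is a maximal 2-local subgroup: `O₂(M) ≠ 1` and every subgroup `L ≥ M` with `O₂(L) ≠ 1` equals `M`. -/
def IsMaxLocal (M : Subgroup G) : Prop :=
  (∃ X : Subgroup G, X ≠ ⊥ ∧ IsO2 M X) ∧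
    ∀ L : Subgroup G, M ≤ L → (∃ X : Subgroup G, X ≠ ⊥ ∧ IsO2 L X) → L = M

/-- The conclusion of the FF-lemma: `M/X ≅ PSL₂(q)` (`S₃` if `q = 2`) acting on `V = Ω₁(Z(X))` of order `q²`. -/
structure FFType (M X T : Subgroup G) (q : ℕ) : Prop where
  o2 : IsO2 M X
  syl : IsSyl2 M T
  pow : ∃ n : ℕ, 1 ≤ n ∧ q = 2 ^ n
  card_V : Nat.card (omegaZ X) = q ^ 2
  card_C : Nat.card (omegaZ T) = q
  C_le : omegaZ T ≤ omegaZ X
  card_T : Nat.card T = q * Nat.card X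
  card_M : Nat.card M = (q + 1) * q * (q - 1) * Nat.card X
  /-- `C_M(V) = X` -/
  centralizer_V : ∀ m ∈ M, (∀ v ∈ omegaZ X, m * v = v * m) → m ∈ X
  /-- `[V, T] ≤ C` -/
  comm_mem : ∀ t ∈ T, ∀ v ∈ omegaZ X, t * v * t⁻¹ * v⁻¹ ∈ omegaZ T
  /-- elements of `T ∖ X` centralise in `V` only `C` -/
  mem_of_comm : ∀ t ∈ T, t ∉ X → ∀ v ∈ omegaZ X, t * v = v * t → v ∈ omegaZ T
  /-- squares and commutators of `T` lie in `X` -/
  sq_mem : ∀ t ∈ T, t * t ∈ X
  comm_T : ∀ t ∈ T, ∀ s ∈ T, t * s * t⁻¹ * s⁻¹ ∈ X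
  /-- every nontrivial element of `V` is `M`-conjugate to every other one -/
  trans : ∀ v ∈ omegaZ X, v ≠ 1 → ∀ w ∈ omegaZ X, w ≠ 1 → ∃ m ∈ M, m * v * m⁻¹ = w
  /-- the conjugates of `C` under `M` form a spread of `V`: distinct ones meet trivially -/
  spread : ∀ m ∈ M, (∃ v ∈ omegaZ T, v ≠ 1 ∧ m * v * m⁻¹ ∈ omegaZ T) →
    ∀ v ∈ omegaZ T, m * v * m⁻¹ ∈ omegaZ T
  /-- the stabiliser of `C` in `M` normalises `T` -/
  normalizes : ∀ m ∈ M, (∀ v ∈ omegaZ T, m * v * m⁻¹ ∈ omegaZ T) → ∀ t ∈ T, m * t * m⁻¹ ∈ T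
  /-- `M` is generated by `T` and the elements of order 3 -/
  gen : ∀ L : Subgroup G, T ≤ L → (∀ d ∈ M, orderOf d = 3 → d ∈ L) → M ≤ L
  /-- a normal subgroup of `M` not contained in `X` contains a nontrivial element of odd order -/
  normal_odd : ∀ N : Subgroup G, N ≤ M → (∀ m ∈ M, ∀ n ∈ N, m * n * m⁻¹ ∈ N) → ¬ N ≤ X →
    ∃ d ∈ N, d ≠ 1 ∧ Odd (orderOf d)

end Cfsg.Agent.LieExceptional.CITDefs
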