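import Cfsg.Agent.LieRecognition.PSLTwoLocal
import Cfsg.Agent.LieExceptional.CITDefs

/-!
# `PSL₂(q)`, `q` odd, in which centralisers of involutions are 2-groups

If `PSL₂(q)`, `q ≥ 5` odd, is a CIT group, then `q = 9` or `q` is a Fermat or Mersenne prime.
-/

set_option autoImplicit false

namespace Cfsg.Agent.LieExceptional.CITPsl

open Matrix
open Cfsg.Agent.ClassicalGeometry.SLTwoFour (w ext2 det2 mul00 mul01 mul10 mul11 w00 w01 w10 w11
  w_mul_self two_ne_zero_of_odd neg_ij one00 one01 one10 one11)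
open Cfsg.Agent.ClassicalGeometry.PSL2Klein (mk mk_eq_mk mk_eq_one mk_neg involution_iff)
open Cfsg.Agent.LieRecognition.PSLTwoLocal (card_centralizer_mk_w)

local notation "SL2" => Matrix.SpecialLinearGroup (Fin 2)
local notation "PSL2" => Matrix.ProjectiveSpecialLinearGroup (Fin 2)

/-! ### Arithmetic -/

theorem odd_geom {x : ℤ} (hx : Odd x) (f : ℕ) : Odd (∑ i ∈ Finset.range (2 * f + 1), x ^ i) := by
  induction f with
  | zero => simp
  | succ n ih =>
    rw [show 2 * (n + 1) + 1 = (2 * n + 1) + 1 + 1 by ring, Finset.sum_range_succ,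
      Finset.sum_range_succ, add_assoc]
    exact ih.add_even ((hx.pow).add_odd (hx.pow))

theorem eq_one_of_odd_dvd_two_pow {x : ℤ} {k : ℕ} (hx : Odd x) (h : x ∣ 2 ^ k) : x = 1 ∨ x = -1 := by
  have h1 : x.natAbs ∣ 2 ^ k := by
    have := Int.natAbs_dvd_natAbs.2 h
    rwa [Int.natAbs_pow] at this
  obtain ⟨j, -, hj⟩ := (Nat.dvd_prime_pow Nat.prime_two).1 h1
  have h2 : Odd x.natAbs := Int.natAbs_odd.2 hx
  rcases Nat.eq_zero_or_pos j with rfl | hj0
  · rw [pow_zero] at hj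
    omega
  · exfalso
    rw [hj] at h2
    exact (Nat.not_even_iff_odd.2 h2) ((Nat.even_pow.2 ⟨even_two, hj0.ne'⟩))

/-- `p ^ f + 1 = 2 ^ k` forces `f = 1`. -/
theorem mersenne_exponent {p f k : ℕ} (hp : 1 < p) (hodd : Odd p) (hf : f ≠ 0)
    (h : p ^ f + 1 = 2 ^ k) : f = 1 := by
  have hp3 : 3 ≤ p := by
    rcases hodd with ⟨m, rfl⟩
    omega
  have hpf : 3 ≤ p ^ f := hp3.trans (Nat.le_self_pow hf p)
  rcases Nat.even_or_odd' f with ⟨g, rfl | rfl⟩
  · exfalso
    have h1 : p ^ (2 * g) % 4 = 1 := by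
      rw [mul_comm, pow_mul, sq]
      obtain ⟨m, hm⟩ := hodd.pow (n := g)
      rw [hm, show (2 * m + 1) * (2 * m + 1) = 4 * (m * m + m) + 1 by ring]
      omega
    have hk : 2 ≤ k := by
      by_contra hk
      have : k = 0 ∨ k = 1 := by omega
      rcases this with rfl | rfl
      · rw [pow_zero] at h; omega
      · rw [pow_one] at h; omega
    have h4 : 4 ∣ 2 ^ k := by
      have := pow_dvd_pow 2 hk
      simpa using this
    rw [← h] at h4
    omega
  · have hx : Odd (-(p : ℤ)) := by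
      have h0 : Odd (p : ℤ) := by exact_mod_cast hodd
      exact h0.neg
    have h1 : (∑ i ∈ Finset.range (2 * g + 1), (-(p : ℤ)) ^ i) * (-(p : ℤ) - 1) =
        (-(p : ℤ)) ^ (2 * g + 1) - 1 := geom_sum_mul _ _
    have h2 : (-(p : ℤ)) ^ (2 * g + 1) = -(p : ℤ) ^ (2 * g + 1) := Odd.neg_pow ⟨g, rfl⟩ _
    have h3 : (p : ℤ) ^ (2 * g + 1) + 1 = 2 ^ k := by exact_mod_cast h
    have h4 : (∑ i ∈ Finset.range (2 * g + 1), (-(p : ℤ)) ^ i) * ((p : ℤ) + 1) = 2 ^ k := by
      rw [← h3]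
      rw [h2] at h1
      linear_combination -h1
    have h5 := eq_one_of_odd_dvd_two_pow (odd_geom hx g) (Dvd.intro _ h4)
    have hpos : (0 : ℤ) < (p : ℤ) + 1 := by positivity
    rcases h5 with h5 | h5
    · rw [h5, one_mul, ← h3] at h4
      have h6 : p ^ (2 * g + 1) = p ^ 1 := by
        have h7 : (p : ℤ) ^ (2 * g + 1) = (p : ℤ) := by linarith
        rw [pow_one]
        exact_mod_cast h7
      exact Nat.pow_right_injective hp h6
    · exfalso
      rw [h5] at h4
      have : (0 : ℤ) < 2 ^ k := by positivity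
      linarith

/-- `p ^ f = 2 ^ k + 1` forces `f = 1` or `p ^ f = 9`. -/
theorem fermat_exponent {p f k : ℕ} (hp : 1 < p) (hodd : Odd p) (hf : f ≠ 0)
    (h : p ^ f = 2 ^ k + 1) : f = 1 ∨ p ^ f = 9 := by
  have hp3 : 3 ≤ p := by
    rcases hodd with ⟨m, rfl⟩
    omega
  rcases Nat.even_or_odd' f with ⟨g, rfl | rfl⟩
  · right
    have hg : g ≠ 0 := by rintro rfl; simp at hf
    have hpg : 3 ≤ p ^ g := hp3.trans (Nat.le_self_pow hg p)
    obtain ⟨m, hm⟩ : ∃ m, p ^ g = m + 1 := ⟨p ^ g - 1, by omega⟩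
    have h1 : m * (m + 2) = 2 ^ k := by
      rw [mul_comm, pow_mul, hm] at h
      nlinarith
    obtain ⟨a, -, ha⟩ := (Nat.dvd_prime_pow Nat.prime_two).1 (Dvd.intro _ h1)
    obtain ⟨b, -, hb⟩ := (Nat.dvd_prime_pow Nat.prime_two).1 (Dvd.intro_left _ h1)
    have hm2 : m = 2 := by
      have ha1 : a ≠ 0 := by rintro rfl; rw [pow_zero] at ha; omega
      by_cases ha2 : a = 1
      · rw [ha, ha2, pow_one]
      · exfalso
        have ha3 : 2 ≤ a := by omega
        have hb3 : 2 ≤ b := by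
          by_contra hb4
          have : b = 0 ∨ b = 1 := by omega
          rcases this with rfl | rfl
          · rw [pow_zero] at hb; omega
          · rw [pow_one] at hb; omega
        have h4a : 4 ∣ m := by
          rw [ha]
          exact pow_dvd_pow 2 ha3
        have h4b : 4 ∣ m + 2 := by
          rw [hb]
          exact pow_dvd_pow 2 hb3
        omega
    rw [mul_comm, pow_mul, hm, hm2]
    norm_num
  · left
    have hx : Odd (p : ℤ) := by exact_mod_cast hodd
    have h1 : (∑ i ∈ Finset.range (2 * g + 1), (p : ℤ) ^ i) * ((p : ℤ) - 1) =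
        (p : ℤ) ^ (2 * g + 1) - 1 := geom_sum_mul _ _
    have h3 : (p : ℤ) ^ (2 * g + 1) = 2 ^ k + 1 := by exact_mod_cast h
    have h4 : (∑ i ∈ Finset.range (2 * g + 1), (p : ℤ) ^ i) * ((p : ℤ) - 1) = 2 ^ k := by
      rw [h1, h3]; ring
    have h5 := eq_one_of_odd_dvd_two_pow (odd_geom hx g) (Dvd.intro _ h4)
    have hp3' : (3 : ℤ) ≤ p := by exact_mod_cast hp3
    rcases h5 with h5 | h5
    · rw [h5, one_mul] at h1
      have h6 : p ^ (2 * g + 1) = p ^ 1 := by
        have h7 : (p : ℤ) ^ (2 * g + 1) = (p : ℤ) := by linarith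
        rw [pow_one]
        exact_mod_cast h7
      exact Nat.pow_right_injective hp h6
    · exfalso
      rw [h5] at h4
      have : (0 : ℤ) < 2 ^ k := by positivity
      linarith

/-! ### The two tori -/

variable {F : Type*} [Field F]

theorem orderOf_mk_eq_two {A : SL2 F} (h2 : (2 : F) ≠ 0) (hA : A.1 * A.1 = -1) :
    orderOf (mk A) = 2 := by
  obtain ⟨h1, h3⟩ := (involution_iff h2).2 hA
  exact orderOf_eq_prime (by rw [sq, h3]) h1

/-- The case `q ≡ 3 (mod 4)`. -/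
theorem exists_of_three_mod_four [Fintype F]
    (hCIT : ∀ t : PSL2 F, orderOf t = 2 → IsPGroup 2 (Subgroup.centralizer {t}))
    (hq : Fintype.card F % 4 = 3) : ∃ k : ℕ, Fintype.card F + 1 = 2 ^ k := by
  have h2 : (2 : F) ≠ 0 := two_ne_zero_of_odd (Nat.odd_iff.2 (by omega))
  have hw : (w : SL2 F).1 * (w : SL2 F).1 = -1 := by
    have h := congrArg Subtype.val (w_mul_self (F := F))
    rw [Matrix.SpecialLinearGroup.coe_mul] at h
    rw [h]
    simp
  have hP := hCIT _ (orderOf_mk_eq_two h2 hw)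
  obtain ⟨k, hk⟩ := IsPGroup.iff_card.1 hP
  exact ⟨k, by rw [← card_centralizer_mk_w hq, hk]⟩

/-- Diagonal elements of `SL₂`. -/
def dgm (a : Fˣ) : SL2 F := ⟨!![(a : F), 0; 0, ((a⁻¹ : Fˣ) : F)], by rw [det_fin_two_of]; simp⟩

theorem dgm00 (a : Fˣ) : (dgm a) 0 0 = (a : F) := rfl
theorem dgm01 (a : Fˣ) : (dgm a) 0 1 = 0 := rfl
theorem dgm10 (a : Fˣ) : (dgm a) 1 0 = 0 := rfl
theorem dgm11 (a : Fˣ) : (dgm a) 1 1 = ((a⁻¹ : Fˣ) : F) := rfl

/-- The diagonal torus of `SL₂`. -/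
def dg : Fˣ →* SL2 F where
  toFun := dgm
  map_one' := by
    apply ext2
    · rw [dgm00, one00]; simp
    · rw [dgm01, one01]
    · rw [dgm10, one10]
    · rw [dgm11, one11]; simp
  map_mul' a b := by
    apply ext2
    · rw [mul00, dgm00, dgm00, dgm00, dgm01]; simp
    · rw [mul01, dgm01, dgm01, dgm01, dgm11]; simp
    · rw [mul10, dgm10, dgm10, dgm10, dgm00]; simp
    · rw [mul11, dgm11, dgm11, dgm11, dgm01]; simp [mul_comm]

theorem dg00 (a : Fˣ) : (dg a) 0 0 = (a : F) := rfl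

/-- The case `q ≡ 1 (mod 4)`. -/
theorem exists_of_one_mod_four [Fintype F]
    (hCIT : ∀ t : PSL2 F, orderOf t = 2 → IsPGroup 2 (Subgroup.centralizer {t}))
    (hq : Fintype.card F % 4 = 1) (h5 : 5 ≤ Fintype.card F) :
    ∃ k : ℕ, Fintype.card F = 2 ^ k + 1 := by
  classical
  have h2 : (2 : F) ≠ 0 := two_ne_zero_of_odd (Nat.odd_iff.2 (by omega))
  obtain ⟨i, hi⟩ := (FiniteField.isSquare_neg_one_iff (F := F)).2 (by omega)
  have hi0 : i ≠ 0 := by
    rintro rfl
    rw [mul_zero] at hi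
    exact one_ne_zero (neg_eq_zero.1 hi)
  let u : Fˣ := Units.mk0 i hi0
  have hu : u * u = -1 := by
    apply Units.ext
    show i * i = _
    rw [← hi]
    simp
  have huinv : ((u⁻¹ : Fˣ) : F) = - i := by
    have h1 : (u⁻¹ : Fˣ) = -u := by
      rw [inv_eq_iff_mul_eq_one, mul_neg, hu, neg_neg]
    rw [h1]
    rfl
  have hw : (dg u).1 * (dg u).1 = -1 := by
    have h3 : (dg u).1 = !![i, 0; 0, -i] := by
      rw [← huinv]
      rfl
    rw [h3]
    ext a b
    fin_cases a <;> fin_cases b <;> simp [Matrix.mul_apply, Fin.sum_univ_two, ← hi]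
  have hP := hCIT _ (orderOf_mk_eq_two h2 hw)
  have hmem : ∀ a : Fˣ, mk (dg a) ∈ Subgroup.centralizer {mk (dg u)} := by
    intro a
    rw [Subgroup.mem_centralizer_singleton_iff]
    show mk (dg a * dg u) = mk (dg u * dg a)
    rw [← map_mul, ← map_mul, mul_comm]
  have hU : IsPGroup 2 Fˣ := by
    intro a
    obtain ⟨k, hk⟩ := hP ⟨mk (dg a), hmem a⟩
    refine ⟨k + 1, ?_⟩
    have h3 : (mk (dg a)) ^ (2 ^ k) = 1 := congrArg Subtype.val hk
    have h4 : mk (dg (a ^ 2 ^ k)) = 1 := by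
      rw [map_pow]
      exact h3
    have h6 : ∀ b : Fˣ, mk (dg b) = 1 → b * b = 1 := by
      intro b hb
      apply Units.ext
      rcases mk_eq_one.1 hb with h | h
      · have h7 := congrArg (fun y : SL2 F => y 0 0) h
        simp only [dg00, one00] at h7
        rw [Units.val_mul, h7]; simp
      · have h7 := congrArg (fun y : SL2 F => y 0 0) h
        simp only [dg00, neg_ij, one00] at h7
        rw [Units.val_mul, h7]; simp
    have h8 := h6 _ h4
    rw [pow_succ, pow_mul, sq]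
    exact h8
  obtain ⟨k, hk⟩ := IsPGroup.iff_card.1 hU
  refine ⟨k, ?_⟩
  rw [← hk, Nat.card_eq_fintype_card, Fintype.card_units]
  omega

/-- If `PSL₂(F)`, `|F| ≥ 5` odd, is a CIT group, then `|F| = 9` or `|F|` is a Fermat or Mersenne
prime. -/
theorem card_of_cit [Fintype F]
    (hCIT : ∀ t : PSL2 F, orderOf t = 2 → IsPGroup 2 (Subgroup.centralizer {t}))
    (hodd : Odd (Fintype.card F)) (h5 : 5 ≤ Fintype.card F) :
    Fintype.card F = 9 ∨ ((Fintype.card F).Prime ∧
      ∃ k : ℕ, Fintype.card F = 2 ^ k + 1 ∨ Fintype.card F + 1 = 2 ^ k) := by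
  obtain ⟨p, hchar⟩ := CharP.exists F
  obtain ⟨n, hp, hn⟩ := FiniteField.card F p
  have hn0 : (n : ℕ) ≠ 0 := n.2.ne'
  have hpodd : Odd p := by
    rw [hn, Nat.odd_pow_iff hn0] at hodd
    exact hodd
  have hmod : Fintype.card F % 4 = 1 ∨ Fintype.card F % 4 = 3 := by
    obtain ⟨m, hm⟩ := hodd
    omega
  rcases hmod with h1 | h3
  · obtain ⟨k, hk⟩ := exists_of_one_mod_four hCIT h1 h5
    rcases fermat_exponent hp.one_lt hpodd hn0 (hn ▸ hk) with h | h
    · right
      refine ⟨?_, k, Or.inl hk⟩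
      rw [hn, h, pow_one]
      exact hp
    · left
      rw [hn, h]
  · obtain ⟨k, hk⟩ := exists_of_three_mod_four hCIT h3
    right
    refine ⟨?_, k, Or.inr hk⟩
    rw [hn, mersenne_exponent hp.one_lt hpodd hn0 (hn ▸ hk), pow_one]
    exact hp

/-- The fields `F` for which `PSL₂(F)` is a CIT group. -/
theorem psl2_card [Fintype F] (h : CITDefs.IsCIT (Matrix.ProjectiveSpecialLinearGroup (Fin 2) F)) :
    Fintype.card F = 9 ∨ (∃ n : ℕ, Fintype.card F = 2 ^ n) ∨
      ((Fintype.card F).Prime ∧ ∃ k : ℕ, Fintype.card F = 2 ^ k + 1 ∨ Fintype.card F + 1 = 2 ^ k) := by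
  rcases Nat.even_or_odd (Fintype.card F) with he | ho
  · right; left
    obtain ⟨p, hchar⟩ := CharP.exists F
    obtain ⟨n, hp, hn⟩ := FiniteField.card F p
    refine ⟨n, ?_⟩
    rw [hn] at he ⊢
    have h2 : 2 ∣ p := Nat.prime_two.dvd_of_dvd_pow (even_iff_two_dvd.1 he)
    rw [(Nat.prime_dvd_prime_iff_eq Nat.prime_two hp).1 h2]
  · rcases Nat.lt_or_ge (Fintype.card F) 5 with hlt | hge
    · right; right
      have h1 : 1 < Fintype.card F := Fintype.one_lt_card
      have h3 : Fintype.card F = 3 := by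
        obtain ⟨m, hm⟩ := ho
        omega
      rw [h3]
      exact ⟨Nat.prime_three, 1, Or.inl rfl⟩
    · rcases card_of_cit h ho hge with h9 | h9
      · exact Or.inl h9
      · exact Or.inr (Or.inr h9)

end Cfsg.Agent.LieExceptional.CITPsl
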