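import Mathlib
import Cfsg.Prelude.Def_Solvable
import Cfsg.Agent.Lib.Cores
import Cfsg.Agent.S0044
import Cfsg.Agent.S0030

set_option autoImplicit false

/-!
A finite solvable group `K = C D` with `C` a 2-group and `D` abelian of odd order, in which no involution commutes with
a nontrivial element of odd order and all involutions lie in `O₂(K)`, has a normal Sylow 2-subgroup.
-/

namespace Cfsg.Agent.LieExceptional.CITSylow

open Cfsg Subgroup
open scoped Pointwise

variable {K : Type*} [Group K] [Finite K]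

omit [Finite K] in
theorem eq_one_of_coprime_pow {x : K} {m n : ℕ} (hmn : m.Coprime n) (hm : x ^ m = 1) (hn : x ^ n = 1) :
    x = 1 := by
  have h := Nat.dvd_gcd (orderOf_dvd_of_pow_eq_one hm) (orderOf_dvd_of_pow_eq_one hn)
  rw [Nat.coprime_iff_gcd_eq_one.1 hmn] at h
  exact orderOf_eq_one_iff.1 (Nat.dvd_one.1 h)

/-- A nontrivial 2-element has a power of order two. -/
theorem exists_pow_orderOf_two {x : K} (hx1 : x ≠ 1) {k : ℕ} (hk : x ^ 2 ^ k = 1) :
    ∃ m : ℕ, orderOf (x ^ m) = 2 := by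
  obtain ⟨j, -, hj⟩ := (Nat.dvd_prime_pow Nat.prime_two).1 (orderOf_dvd_of_pow_eq_one hk)
  have hj0 : j ≠ 0 := by
    rintro rfl
    rw [pow_zero, orderOf_eq_one_iff] at hj
    exact hx1 hj
  obtain ⟨i, rfl⟩ := Nat.exists_eq_succ_of_ne_zero hj0
  refine ⟨2 ^ i, ?_⟩
  rw [orderOf_pow_of_dvd (by positivity) (by rw [hj]; exact ⟨2, by rw [pow_succ]⟩), hj, pow_succ]
  exact Nat.mul_div_cancel_left 2 (by positivity)

/-- The Fitting subgroup has odd order if `O₂ = 1`. -/
theorem odd_card_fitting (h : pCore 2 K = ⊥) : Odd (Nat.card (fittingSubgroup K)) := by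
  have : Fact (Nat.Prime 2) := ⟨Nat.prime_two⟩
  have hn : (fittingSubgroup K).Normal := Cfsg.Agent.Lib.Cores.fittingSubgroup_normal
  have hnil : Group.IsNilpotent (fittingSubgroup K) := Cfsg.Agent.Lib.Cores.fittingSubgroup_isNilpotent
  have h1 := Cfsg.Agent.Lib.Cores.map_subtype_pCore 2 hn
  have h2 : pCore 2 (fittingSubgroup K) = ⊥ := by
    rw [← Subgroup.map_eq_bot_iff_of_injective _ (fittingSubgroup K).subtype_injective, h1, h, inf_bot_eq]
  by_contra hodd
  rw [Nat.not_odd_iff_even, even_iff_two_dvd] at hodd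
  let P : Sylow 2 (fittingSubgroup K) := default
  have hP : (P : Subgroup (fittingSubgroup K)).Normal := by
    have h0 := ((Group.isNilpotent_of_finite_tfae (G := fittingSubgroup K)).out 0 3).1 hnil
    exact h0 2 inferInstance P
  have h3 : (P : Subgroup (fittingSubgroup K)) ≤ ⊥ := by
    rw [← h2]
    exact Cfsg.Agent.Lib.Cores.le_pCore hP P.isPGroup'
  have h4 : 2 ∣ Nat.card (P : Subgroup (fittingSubgroup K)) := P.dvd_card_of_dvd_card hodd
  rw [le_bot_iff.1 h3, Subgroup.card_bot] at h4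
  norm_num at h4

theorem odd_index_pCore (hsol : Group.IsSolvable K)
    (hfree : ∀ s d : K, orderOf s = 2 → Odd (orderOf d) → s * d = d * s → d = 1)
    (C D : Subgroup K) (hC : IsPGroup 2 C) (hDodd : Odd (Nat.card D))
    (hDab : ∀ x ∈ D, ∀ y ∈ D, x * y = y * x) (hCD : ∀ g : K, ∃ c ∈ C, ∃ d ∈ D, g = c * d)
    (hinv : ∀ s : K, orderOf s = 2 → s ∈ pCore 2 K) : Odd (pCore 2 K).index := by
  have : Fact (Nat.Prime 2) := ⟨Nat.prime_two⟩
  set Q := pCore 2 K with hQdef
  have hQn : Q.Normal := Cfsg.Agent.Lib.Cores.pCore_normal 2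
  have hQp : IsPGroup 2 Q := Cfsg.Agent.Lib.Cores.pCore_isPGroup 2
  have h2el : ∀ x ∈ Q, ∃ k : ℕ, x ^ 2 ^ k = 1 := by
    intro x hx
    obtain ⟨k, hk⟩ := hQp ⟨x, hx⟩
    exact ⟨k, congrArg Subtype.val hk⟩
  have hcardD : ∀ x ∈ D, x ^ Nat.card D = 1 := by
    intro x hx
    have := pow_card_eq_one' (x := (⟨x, hx⟩ : D))
    exact congrArg Subtype.val this
  have hQD : ∀ x ∈ Q, x ∈ D → x = 1 := by
    intro x hxQ hxD
    obtain ⟨k, hk⟩ := h2el x hxQ
    exact eq_one_of_coprime_pow (Nat.Coprime.pow_left k ((Nat.coprime_two_left).2 hDodd)) hk (hcardD x hxD)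
  by_cases hD1 : D = ⊥
  · -- `K` is a 2-group
    have hK : IsPGroup 2 K := by
      intro g
      obtain ⟨c, hc, d, hd, rfl⟩ := hCD g
      rw [hD1, Subgroup.mem_bot] at hd
      obtain ⟨k, hk⟩ := hC ⟨c, hc⟩
      refine ⟨k, ?_⟩
      rw [hd, mul_one]
      exact congrArg Subtype.val hk
    have : Q = ⊤ := (Cfsg.Agent.Lib.Cores.pCore_eq_top_iff 2).2 hK
    rw [this, Subgroup.index_top]
    exact odd_one
  obtain ⟨⟨d0, hd0⟩, hd01'⟩ := Subgroup.ne_bot_iff_exists_ne_one.1 hD1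
  have hd01 : d0 ≠ 1 := fun h => hd01' (Subtype.ext h)
  have hd0odd : Odd (orderOf d0) := Odd.of_dvd_nat hDodd (orderOf_dvd_of_pow_eq_one (hcardD d0 hd0))
  -- the quotient
  have hbar : pCore 2 (K ⧸ Q) = ⊥ := Cfsg.Agent.Lib.Cores.pCore_quotient_pCore 2
  have hF := odd_card_fitting hbar
  set F := fittingSubgroup (K ⧸ Q) with hFdef
  have hFn : F.Normal := Cfsg.Agent.Lib.Cores.fittingSubgroup_normal
  set Db := D.map (QuotientGroup.mk' Q) with hDb
  have hDbodd : Odd (Nat.card Db) := Odd.of_dvd_nat hDodd (Subgroup.card_map_dvd D _)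
  have hFD : F ≤ Db := by
    intro f hf
    obtain ⟨g, rfl⟩ := QuotientGroup.mk'_surjective Q f
    obtain ⟨c, hc, d, hd, rfl⟩ := hCD g
    have h1 : Nat.card ↥(F ⊔ Db) ∣ Nat.card F * Nat.card Db :=
      Cfsg.Agent.Lib.Cores.card_sup_dvd F Db hFn
    have h2 : Odd (Nat.card ↥(F ⊔ Db)) := Odd.of_dvd_nat (hF.mul hDbodd) h1
    have hdm : QuotientGroup.mk' Q d ∈ Db := ⟨d, hd, rfl⟩
    have h3 : QuotientGroup.mk' Q c ∈ F ⊔ Db := by
      have : QuotientGroup.mk' Q c = QuotientGroup.mk' Q (c * d) * (QuotientGroup.mk' Q d)⁻¹ := by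
        rw [map_mul, mul_inv_cancel_right]
      rw [this]
      exact mul_mem (Subgroup.mem_sup_left hf) (inv_mem (Subgroup.mem_sup_right hdm))
    obtain ⟨k, hk⟩ := hC ⟨c, hc⟩
    have hk' : c ^ 2 ^ k = 1 := congrArg Subtype.val hk
    have h4 : QuotientGroup.mk' Q c = 1 := by
      refine eq_one_of_coprime_pow (m := 2 ^ k) (n := Nat.card ↥(F ⊔ Db))
        (Nat.Coprime.pow_left k ((Nat.coprime_two_left).2 h2)) ?_ ?_
      · rw [← map_pow, hk', map_one]
      · have := pow_card_eq_one' (x := (⟨_, h3⟩ : ↥(F ⊔ Db)))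
        exact congrArg Subtype.val this
    rw [map_mul, h4, one_mul]
    exact hdm
  have hDF : Db ≤ F := by
    have hs : Group.IsSolvable (K ⧸ Q) := inferInstance
    refine le_trans ?_ (Cfsg.Agent.S0044.result (G := K ⧸ Q))
    rintro _ ⟨x, hx, rfl⟩
    rw [Subgroup.mem_centralizer_iff]
    intro f hf
    obtain ⟨y, hy, rfl⟩ := hFD hf
    rw [← map_mul, ← map_mul, hDab x hx y hy]
  have hDbF : Db = F := le_antisymm hDF hFD
  -- Frattini argument
  have hfrat : ∀ g : K, ∃ q ∈ Q, ∃ n ∈ normalizer (D : Set K), g = q * n := by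
    intro g
    have hle : MulAut.conj g • D ≤ Q ⊔ D := by
      intro x hx
      rw [Subgroup.mem_smul_pointwise_iff_exists] at hx
      obtain ⟨y, hy, rfl⟩ := hx
      have h1 : QuotientGroup.mk' Q (g * y * g⁻¹) ∈ Db := by
        rw [hDbF, map_mul, map_mul, map_inv]
        apply hFn.conj_mem
        rw [← hDbF]
        exact ⟨y, hy, rfl⟩
      obtain ⟨z, hz, hzy⟩ := h1
      have h2 : z⁻¹ * (g * y * g⁻¹) ∈ Q := by
        rw [← QuotientGroup.eq]
        exact hzy
      have h3 : g * y * g⁻¹ = z * (z⁻¹ * (g * y * g⁻¹)) := by group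
      change g * y * g⁻¹ ∈ Q ⊔ D
      rw [h3]
      exact mul_mem (Subgroup.mem_sup_right hz) (Subgroup.mem_sup_left h2)
    have hcop : (Nat.card D).Coprime (Nat.card Q) := by
      obtain ⟨k, hk⟩ := IsPGroup.iff_card.1 hQp
      rw [hk]
      exact Nat.Coprime.pow_right k ((Nat.coprime_two_right).2 hDodd)
    obtain ⟨q, hq, hqD⟩ := Cfsg.Agent.S0030.exists_conj_eq D Q (MulAut.conj g • D)
      (le_trans le_top (by rw [Subgroup.normalizer_eq_top])) hcop
      (Or.inl (by
        have : IsMulCommutative D := ⟨⟨fun a b => Subtype.ext (hDab a a.2 b b.2)⟩⟩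
        infer_instance)) hle
      (by
        have := Subgroup.card_map_of_injective (K := D) (f := (MulAut.conj g).toMonoidHom)
          (MulAut.conj g).injective
        exact this)
    refine ⟨q, hq, q⁻¹ * g, ?_, by group⟩
    have h4 : MulAut.conj (q⁻¹ * g) • D = D := by
      rw [map_mul, mul_smul, ← hqD, ← mul_smul, ← map_mul, inv_mul_cancel, map_one, one_smul]
    rw [Subgroup.mem_normalizer_iff]
    intro x
    constructor
    · intro hx
      have : (MulAut.conj (q⁻¹ * g)) • x ∈ MulAut.conj (q⁻¹ * g) • D :=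
        Subgroup.smul_mem_pointwise_smul x _ D hx
      rw [h4] at this
      exact this
    · intro hx
      have h5 : (MulAut.conj (q⁻¹ * g)) • x ∈ MulAut.conj (q⁻¹ * g) • D := by
        rw [h4]; exact hx
      exact (Subgroup.smul_mem_pointwise_smul_iff).1 h5
  -- `Q ∩ N(D) = 1`
  have hQN : ∀ x ∈ Q, x ∈ normalizer (D : Set K) → x = 1 := by
    intro x hxQ hxN
    by_contra hx1
    have hcomm : x * d0 = d0 * x := by
      have h1 : x * d0 * x⁻¹ ∈ D := (Subgroup.mem_normalizer_iff.1 hxN d0).1 hd0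
      have h2 : x * d0 * x⁻¹ * d0⁻¹ ∈ D := mul_mem h1 (inv_mem hd0)
      have h3 : x * d0 * x⁻¹ * d0⁻¹ ∈ Q := by
        have : x * d0 * x⁻¹ * d0⁻¹ = x * (d0 * x⁻¹ * d0⁻¹) := by group
        rw [this]
        exact mul_mem hxQ (hQn.conj_mem _ (inv_mem hxQ) d0)
      have h4 := hQD _ h3 h2
      rw [mul_inv_eq_one, mul_inv_eq_iff_eq_mul] at h4
      exact h4
    obtain ⟨k, hk⟩ := h2el x hxQ
    obtain ⟨m, hm⟩ := exists_pow_orderOf_two hx1 hk
    exact hd01 (hfree (x ^ m) d0 hm hd0odd (Commute.pow_left (show Commute x d0 from hcomm) m))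
  -- `N(D)` has odd order
  have hNodd : Odd (Nat.card (normalizer (D : Set K))) := by
    by_contra hodd
    rw [Nat.not_odd_iff_even, even_iff_two_dvd] at hodd
    obtain ⟨i, hi⟩ := exists_prime_orderOf_dvd_card' 2 hodd
    have hi' : orderOf (i : K) = 2 := by rw [Subgroup.orderOf_coe, hi]
    have := hQN i (hinv i hi') i.2
    rw [this, orderOf_one] at hi'
    norm_num at hi'
  have hsurj : Function.Surjective ((QuotientGroup.mk' Q).comp (normalizer (D : Set K)).subtype) := by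
    intro y
    obtain ⟨g, rfl⟩ := QuotientGroup.mk'_surjective Q y
    obtain ⟨q, hq, n, hn, rfl⟩ := hfrat g
    refine ⟨⟨n, hn⟩, ?_⟩
    change QuotientGroup.mk' Q n = QuotientGroup.mk' Q (q * n)
    have : QuotientGroup.mk' Q q = 1 := (QuotientGroup.eq_one_iff q).2 hq
    rw [map_mul, this, one_mul]
  have h5 := Subgroup.card_dvd_of_surjective _ hsurj
  rw [Subgroup.index]
  exact Odd.of_dvd_nat hNodd h5

end Cfsg.Agent.LieExceptional.CITSylow
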