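import Cfsg.Agent.LieExceptional.CITAmal
import Cfsg.Agent.LieExceptional.CITDihedralPsl

/-!
# CIT project, piece G: the amalgam configuration with `q = 2` gives `PSL₂(F)`, `|F|` odd
-/

set_option autoImplicit false

namespace Cfsg.Agent.LieExceptional.CITTwo

open Subgroup Cfsg.Agent.LieExceptional.CITDefs

variable {G : Type*} [Group G] [Finite G]

/-- `O₂(L)` exists, and is nontrivial if `L` has a nontrivial normal 2-subgroup -/
theorem exists_isO2_ne_bot (L V : Subgroup G) (hVL : V ≤ L)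
    (hn : ∀ m ∈ L, ∀ v ∈ V, m * v * m⁻¹ ∈ V) (hV : IsPGroup 2 V) (hV1 : V ≠ ⊥) :
    ∃ X : Subgroup G, X ≠ ⊥ ∧ IsO2 L X := by
  have key : ∀ Y : Subgroup G, Y ≤ L → IsPGroup 2 Y → (∀ m ∈ L, ∀ y ∈ Y, m * y * m⁻¹ ∈ Y) →
      Y ≤ (Cfsg.pCore 2 L).map L.subtype := by
    intro Y hYL hY hYn
    have h1 : (Y.subgroupOf L).Normal := by
      refine ⟨fun y hy g => ?_⟩
      rw [mem_subgroupOf] at hy ⊢
      exact hYn g g.2 y hy
    have h2 : IsPGroup 2 (Y.subgroupOf L) :=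
      hY.of_injective (subgroupOfEquivOfLe hYL).toMonoidHom (subgroupOfEquivOfLe hYL).injective
    have h3 := Cfsg.Agent.Lib.Cores.le_pCore h1 h2
    intro y hy
    exact mem_map.2 ⟨⟨y, hYL hy⟩, h3 (mem_subgroupOf.2 hy), rfl⟩
  refine ⟨(Cfsg.pCore 2 L).map L.subtype, ?_, map_subtype_le _, ?_, ?_, key⟩
  · intro h
    have := key V hVL hV hn
    rw [h, le_bot_iff] at this
    exact hV1 this
  · exact (Cfsg.Agent.Lib.Cores.pCore_isPGroup (G := L) 2).map L.subtype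
  · rintro m hm _ ⟨x, hx, rfl⟩
    exact ⟨⟨m, hm⟩ * x * ⟨m, hm⟩⁻¹,
      (Cfsg.Agent.Lib.Cores.pCore_normal (G := L) 2).conj_mem x hx ⟨m, hm⟩, rfl⟩

omit [Finite G] in
theorem omegaZ_of_elem {V : Subgroup G} (hV : Elem V) : omegaZ V = V := by
  ext x
  rw [mem_omegaZ]
  exact ⟨fun h => h.1, fun h => ⟨h, hV x h, fun y hy => hV.comm h hy⟩⟩

/-- **piece G** -/
theorem psl2_of_two [IsSimpleGroup G] (_hnab : ∃ a b : G, a * b ≠ b * a) (hG : IsCIT G)
    {M₁ M₂ V₁ V₂ T : Subgroup G} (h : Amal M₁ M₂ V₁ V₂ T 2) :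
    ∃ (F : Type) (_ : Field F) (_ : Fintype F), Odd (Fintype.card F) ∧
        Nonempty (G ≃* Matrix.ProjectiveSpecialLinearGroup (Fin 2) F) := by
  have hΩ : omegaZ V₁ = V₁ := omegaZ_of_elem h.elem₁
  have hcard : Nat.card V₁ = 4 := by
    have := h.ff₁.card_V
    rw [hΩ] at this
    rw [this]; norm_num
  have hV1 : V₁ ≠ ⊥ := by
    rintro h1
    rw [h1, card_bot] at hcard
    norm_num at hcard
  have hnorm : ∀ m ∈ normalizer (V₁ : Set G), ∀ v ∈ V₁, m * v * m⁻¹ ∈ V₁ :=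
    fun m hm v hv => (mem_normalizer_iff.1 hm v).1 hv
  have hM : M₁ ≤ normalizer (V₁ : Set G) := by
    intro m hm
    rw [mem_normalizer_iff]
    intro v
    refine ⟨fun hv => h.ff₁.o2.normal m hm v hv, fun hv => ?_⟩
    have := h.ff₁.o2.normal m⁻¹ (inv_mem hm) _ hv
    have h2 : m⁻¹ * (m * v * m⁻¹) * m⁻¹⁻¹ = v := by group
    rwa [h2] at this
  have hN : normalizer (V₁ : Set G) = M₁ :=
    h.max₁.2 _ hM (exists_isO2_ne_bot _ V₁ le_normalizer hnorm h.ff₁.o2.two hV1)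
  refine CITDihedralPsl.psl hG V₁ hcard h.elem₁ ?_
  apply le_antisymm
  · intro g hg
    have hgM : g ∈ M₁ := by
      rw [← hN]
      exact centralizer_le_normalizer _ hg
    apply h.ff₁.centralizer_V g hgM
    intro v hv
    rw [hΩ] at hv
    exact ((mem_centralizer_iff.1 hg) v hv).symm
  · intro g hg
    rw [mem_centralizer_iff]
    intro v hv
    exact h.elem₁.comm hv hg

end Cfsg.Agent.LieExceptional.CITTwo
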