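import Mathlib

/-!
# A transfer argument for sharply triply transitive groups

Let `G` act sharply triply transitively, let `H = G_{a,b}`, let `s` swap `a` and `b` and fix a further
point, and let `N` be a normal subgroup of index two of `H` normalised by `s`.  Then `G` has a
nontrivial homomorphism to `{1, -1}` (transfer from the setwise stabiliser of `{a, b}`).
-/

set_option autoImplicit false

namespace Cfsg.Agent.LieExceptional.SharpThreeTransfer

open MulAction

/-- The value of the transfer of `lam : L →* A` at an element `u` of `L` no nontrivial power of which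
has a conjugate by an element outside `L` in `L` and outside the kernel of `lam`. -/
theorem transfer_eq_of_mem {G A : Type*} [Group G] [CommGroup A] {L : Subgroup G} [L.FiniteIndex]
    (lam : L →* A) (u : G) (hu : u ∈ L)
    (hker : ∀ (g : G) (k : ℕ) (h : g⁻¹ * u ^ k * g ∈ L), g ∉ L → lam ⟨g⁻¹ * u ^ k * g, h⟩ = 1) :
    MonoidHom.transfer lam u = lam ⟨u, hu⟩ := by
  classical
  let _ := L.fintypeQuotientOfFiniteIndex
  have hfin : Finite (Quotient (orbitRel (Subgroup.zpowers u) (G ⧸ L))) := inferInstance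
  let _ := Fintype.ofFinite (Quotient (orbitRel (Subgroup.zpowers u) (G ⧸ L)))
  rw [MonoidHom.transfer_eq_prod_quotient_orbitRel_zpowers_quot]
  let q₀ : Quotient (orbitRel (Subgroup.zpowers u) (G ⧸ L)) := Quotient.mk _ ((1 : G) : G ⧸ L)
  have hmem : ∀ g : G, g ∈ L ↔ ((g : G) : G ⧸ L) = ((1 : G) : G ⧸ L) := by
    intro g
    rw [eq_comm, QuotientGroup.eq]
    simp
  have hout : ∀ q : Quotient (orbitRel (Subgroup.zpowers u) (G ⧸ L)), q.out.out ∈ L → q = q₀ := by
    intro q hq
    rw [hmem, QuotientGroup.out_eq'] at hq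
    rw [← Quotient.out_eq q, hq]
  have hq0 : q₀.out = ((1 : G) : G ⧸ L) := by
    have h1 : (orbitRel (Subgroup.zpowers u) (G ⧸ L)) q₀.out ((1 : G) : G ⧸ L) :=
      Quotient.mk_out (s := orbitRel (Subgroup.zpowers u) (G ⧸ L)) ((1 : G) : G ⧸ L)
    obtain ⟨⟨z, hz⟩, hz'⟩ := h1
    rw [← hz']
    obtain ⟨n, rfl⟩ := Subgroup.mem_zpowers_iff.mp hz
    change ((u ^ n * 1 : G) : G ⧸ L) = _
    rw [mul_one, ← hmem]
    exact L.zpow_mem hu n
  have hq0' : q₀.out.out ∈ L := by
    rw [hmem, QuotientGroup.out_eq', hq0]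
  rw [Fintype.prod_eq_single q₀]
  · have hper : Function.minimalPeriod (u • ·) q₀.out = 1 := by
      rw [Function.minimalPeriod_eq_one_iff_isFixedPt, hq0]
      change ((u * 1 : G) : G ⧸ L) = _
      rw [mul_one, ← hmem]
      exact hu
    have key : ∀ (k : ℕ) (g : G) (h : g⁻¹ * u ^ k * g ∈ L), k = 1 → g ∈ L →
        lam ⟨g⁻¹ * u ^ k * g, h⟩ = lam ⟨u, hu⟩ := by
      intro k g h hk hg
      subst hk
      have : (⟨g⁻¹ * u ^ 1 * g, h⟩ : L) = ⟨g, hg⟩⁻¹ * ⟨u, hu⟩ * ⟨g, hg⟩ := by
        apply Subtype.ext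
        simp
      rw [this, map_mul, map_mul, map_inv, mul_comm, mul_inv_cancel_left]
    exact key _ _ _ hper hq0'
  · intro q hq
    refine hker _ _ _ ?_
    intro h
    exact hq (hout q h)

variable {G Ω : Type*} [Group G] [MulAction G Ω]

/-- The setwise stabiliser of `{a, b}`. -/
def pairStab (G : Type*) {Ω : Type*} [Group G] [MulAction G Ω] (a b : Ω) : Subgroup G where
  carrier := {g | (g • a = a ∧ g • b = b) ∨ (g • a = b ∧ g • b = a)}
  one_mem' := Or.inl ⟨one_smul _ _, one_smul _ _⟩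
  mul_mem' := by
    rintro g h (⟨hg1, hg2⟩ | ⟨hg1, hg2⟩) (⟨hh1, hh2⟩ | ⟨hh1, hh2⟩)
    · exact Or.inl ⟨by rw [mul_smul, hh1, hg1], by rw [mul_smul, hh2, hg2]⟩
    · exact Or.inr ⟨by rw [mul_smul, hh1, hg2], by rw [mul_smul, hh2, hg1]⟩
    · exact Or.inr ⟨by rw [mul_smul, hh1, hg1], by rw [mul_smul, hh2, hg2]⟩
    · exact Or.inl ⟨by rw [mul_smul, hh1, hg2], by rw [mul_smul, hh2, hg1]⟩
  inv_mem' := by
    rintro g (⟨hg1, hg2⟩ | ⟨hg1, hg2⟩)
    · exact Or.inl ⟨by rw [inv_smul_eq_iff, hg1], by rw [inv_smul_eq_iff, hg2]⟩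
    · exact Or.inr ⟨by rw [inv_smul_eq_iff, hg2], by rw [inv_smul_eq_iff, hg1]⟩

theorem mem_pairStab {a b : Ω} {g : G} :
    g ∈ pairStab G a b ↔ (g • a = a ∧ g • b = b) ∨ (g • a = b ∧ g • b = a) := Iff.rfl

/-- The extension of an `s`-invariant subgroup `N` by an involution `s`. -/
def ext (N : Subgroup G) (s : G) (hs : s * s = 1) (hsN : ∀ n ∈ N, s * n * s⁻¹ ∈ N) :
    Subgroup G where
  carrier := {g | g ∈ N ∨ s * g ∈ N}
  one_mem' := Or.inl N.one_mem
  mul_mem' := by
    rintro g h (hg | hg) (hh | hh)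
    · exact Or.inl (N.mul_mem hg hh)
    · refine Or.inr ?_
      have : s * (g * h) = (s * g * s⁻¹) * (s * h) := by group
      rw [this]
      exact N.mul_mem (hsN g hg) hh
    · refine Or.inr ?_
      rw [← mul_assoc]
      exact N.mul_mem hg hh
    · refine Or.inl ?_
      have : g * h = (s * (s * g) * s⁻¹) * (s * h) := by
        have : (s * (s * g) * s⁻¹) * (s * h) = (s * s) * g * h := by group
        rw [this, hs, one_mul]
      rw [this]
      exact N.mul_mem (hsN _ hg) hh
  inv_mem' := by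
    rintro g (hg | hg)
    · exact Or.inl (N.inv_mem hg)
    · refine Or.inr ?_
      have h1 : s⁻¹ = s := inv_eq_of_mul_eq_one_left hs
      have : s * g⁻¹ = s * (s * g)⁻¹ * s⁻¹ := by
        rw [mul_inv_rev, h1]
        rw [mul_assoc, mul_assoc, hs, mul_one]
      rw [this]
      exact hsN _ (N.inv_mem hg)

theorem mem_ext {N : Subgroup G} {s : G} {hs : s * s = 1} {hsN : ∀ n ∈ N, s * n * s⁻¹ ∈ N} {g : G} :
    g ∈ ext N s hs hsN ↔ g ∈ N ∨ s * g ∈ N := Iff.rfl

/-- The transfer argument: existence of a nontrivial sign. -/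
theorem exists_sign [Finite G] (h3 : ∀ x y z x' y' z' : Ω, x ≠ y → y ≠ z → x ≠ z → x' ≠ y' → y' ≠ z' →
      x' ≠ z' → ∃ g : G, g • x = x' ∧ g • y = y' ∧ g • z = z')
    (hsharp : ∀ g : G, ∀ a b c : Ω, a ≠ b → b ≠ c → a ≠ c → g • a = a → g • b = b → g • c = c → g = 1)
    {a b c : Ω} (hab : a ≠ b) (hac : a ≠ c) (hbc : b ≠ c) (s : G) (hsa : s • a = b) (hsb : s • b = a)
    (hsc : s • c = c) (N : Subgroup G) (hN : N ≤ stabilizer G a ⊓ stabilizer G b)
    (hidx : N.relIndex (stabilizer G a ⊓ stabilizer G b) = 2) (hsN : ∀ n ∈ N, s * n * s⁻¹ ∈ N) :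
    ∃ f : G →* ℤˣ, f ≠ 1 := by
  classical
  set H : Subgroup G := stabilizer G a ⊓ stabilizer G b with hH
  have memH : ∀ g : G, g ∈ H ↔ g • a = a ∧ g • b = b := fun g => Iff.rfl
  have hss : s * s = 1 := by
    refine hsharp _ a b c hab hbc hac ?_ ?_ ?_
    · rw [mul_smul, hsa, hsb]
    · rw [mul_smul, hsb, hsa]
    · rw [mul_smul, hsc, hsc]
  have hsinv : s⁻¹ = s := inv_eq_of_mul_eq_one_left hss
  have hsH : ∀ h ∈ H, s * h * s⁻¹ ∈ H := by
    intro h hh
    rw [memH] at hh ⊢
    rw [hsinv]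
    exact ⟨by rw [mul_smul, mul_smul, hsa, hh.2, hsb], by rw [mul_smul, mul_smul, hsb, hh.1, hsa]⟩
  -- index two
  have hidx' : (N.subgroupOf H).index = 2 := hidx
  have hmul : ∀ x ∈ H, ∀ y ∈ H, (x * y ∈ N ↔ (x ∈ N ↔ y ∈ N)) := by
    intro x hx y hy
    have := Subgroup.mul_mem_iff_of_index_two hidx' (a := ⟨x, hx⟩) (b := ⟨y, hy⟩)
    simpa [Subgroup.mem_subgroupOf] using this
  have hsN' : ∀ x, s * x * s⁻¹ ∈ N → x ∈ N := by
    intro x hx
    have := hsN _ hx
    have h2 : s * (s * x * s⁻¹) * s⁻¹ = x := by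
      rw [hsinv]
      have : s * (s * x * s) * s = (s * s) * x * (s * s) := by group
      rw [this, hss, one_mul, mul_one]
    rwa [h2] at this
  obtain ⟨u, huH, huN⟩ : ∃ u ∈ H, u ∉ N := by
    by_contra hcon
    push Not at hcon
    have : (N.subgroupOf H) = ⊤ := Subgroup.subgroupOf_eq_top.mpr hcon
    rw [this, Subgroup.index_top] at hidx'
    omega
  set L : Subgroup G := pairStab G a b with hL
  set N' : Subgroup G := ext N s hss hsN with hN'
  have memL : ∀ g : G, g ∈ L ↔ g ∈ H ∨ s * g ∈ H := by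
    intro g
    rw [hL, mem_pairStab, memH, memH]
    constructor
    · rintro (h | h)
      · exact Or.inl h
      · exact Or.inr ⟨by rw [mul_smul, h.1, hsb], by rw [mul_smul, h.2, hsa]⟩
    · rintro (h | h)
      · exact Or.inl h
      · refine Or.inr ⟨?_, ?_⟩
        · have := h.1
          rw [mul_smul, ← hsinv, inv_smul_eq_iff, hsa] at this
          exact this
        · have := h.2
          rw [mul_smul, ← hsinv, inv_smul_eq_iff, hsb] at this
          exact this
  have hnot : ∀ g ∈ H, s * g ∉ H := by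
    intro g hg h
    rw [memH] at hg h
    have := h.1
    rw [mul_smul, hg.1, hsa] at this
    exact hab this.symm
  have hnot' : ∀ g ∈ L, g ∉ N' → (g ∈ H ∧ g ∉ N) ∨ (s * g ∈ H ∧ s * g ∉ N) := by
    intro g hg hgN
    rw [hN', mem_ext, not_or] at hgN
    rcases (memL g).1 hg with h | h
    · exact Or.inl ⟨h, hgN.1⟩
    · exact Or.inr ⟨h, hgN.2⟩
  have hmul' : ∀ x ∈ L, ∀ y ∈ L, x ∉ N' → y ∉ N' → x * y ∈ N' := by
    intro x hx y hy hx' hy'
    rw [hN', mem_ext]
    rcases hnot' x hx hx' with ⟨h1, h2⟩ | ⟨h1, h2⟩ <;> rcases hnot' y hy hy' with ⟨h3, h4⟩ | ⟨h3, h4⟩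
    · exact Or.inl ((hmul x h1 y h3).2 (by tauto))
    · refine Or.inr ?_
      have : s * (x * y) = (s * x * s⁻¹) * (s * y) := by group
      rw [this]
      exact (hmul _ (hsH x h1) _ h3).2 ⟨fun h => absurd (hsN' x h) h2, fun h => absurd h h4⟩
    · refine Or.inr ?_
      rw [← mul_assoc]
      exact (hmul _ h1 _ h3).2 (by tauto)
    · refine Or.inl ?_
      have : x * y = (s * (s * x) * s⁻¹) * (s * y) := by
        have : (s * (s * x) * s⁻¹) * (s * y) = (s * s) * x * y := by group
        rw [this, hss, one_mul]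
      rw [this]
      exact (hmul _ (hsH _ h1) _ h3).2 ⟨fun h => absurd (hsN' _ h) h2, fun h => absurd h h4⟩
  let lam : L →* ℤˣ :=
    { toFun := fun x => if (x : G) ∈ N' then 1 else -1
      map_one' := if_pos N'.one_mem
      map_mul' := by
        intro x y
        by_cases hx : (x : G) ∈ N' <;> by_cases hy : (y : G) ∈ N'
        · rw [if_pos hx, if_pos hy, if_pos (by exact N'.mul_mem hx hy), one_mul]
        · have : ((x * y : L) : G) ∉ N' := by
            intro h
            apply hy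
            have h1 := N'.mul_mem (N'.inv_mem hx) h
            rwa [Subgroup.coe_mul, inv_mul_cancel_left] at h1
          rw [if_pos hx, if_neg hy, if_neg this, one_mul]
        · have : ((x * y : L) : G) ∉ N' := by
            intro h
            apply hx
            have h1 := N'.mul_mem h (N'.inv_mem hy)
            rwa [Subgroup.coe_mul, mul_inv_cancel_right] at h1
          rw [if_neg hx, if_pos hy, if_neg this, mul_one]
        · rw [if_neg hx, if_neg hy, if_pos (by exact hmul' x x.2 y y.2 hx hy)]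
          rfl }
  have hlam : ∀ x : L, lam x = if (x : G) ∈ N' then 1 else -1 := fun x => rfl
  have huL : u ∈ L := (memL u).2 (Or.inl huH)
  have huN' : u ∉ N' := by
    rw [hN', mem_ext, not_or]
    exact ⟨huN, fun h => hnot u huH (hN h)⟩
  have hT : MonoidHom.transfer lam u = lam ⟨u, huL⟩ := by
    refine transfer_eq_of_mem lam u huL ?_
    intro g k hgk hgL
    rw [hlam]
    refine if_pos ?_
    change g⁻¹ * u ^ k * g ∈ N'
    set x : G := g⁻¹ * u ^ k * g with hx
    have hukH : u ^ k ∈ H := H.pow_mem huH k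
    have hxa : x • (g⁻¹ • a) = g⁻¹ • a := by
      rw [hx, mul_smul, smul_inv_smul, mul_smul, ((memH _).1 hukH).1]
    have hxb : x • (g⁻¹ • b) = g⁻¹ • b := by
      rw [hx, mul_smul, smul_inv_smul, mul_smul, ((memH _).1 hukH).2]
    have hne : g⁻¹ • a ≠ g⁻¹ • b := fun h => hab (smul_left_cancel _ h)
    -- a fixed point outside `{a, b}`
    obtain ⟨d, hda, hdb, hxd⟩ : ∃ d : Ω, a ≠ d ∧ b ≠ d ∧ x • d = d := by
      by_contra hcon
      push Not at hcon
      apply hgL
      have ha : a = g⁻¹ • a ∨ b = g⁻¹ • a := by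
        by_contra h
        push Not at h
        exact hcon _ h.1 h.2 hxa
      have hb : a = g⁻¹ • b ∨ b = g⁻¹ • b := by
        by_contra h
        push Not at h
        exact hcon _ h.1 h.2 hxb
      have : g⁻¹ ∈ L := by
        rw [hL, mem_pairStab]
        rcases ha with ha | ha <;> rcases hb with hb | hb
        · exact absurd (ha.symm.trans hb) hne
        · exact Or.inl ⟨ha.symm, hb.symm⟩
        · exact Or.inr ⟨ha.symm, hb.symm⟩
        · exact absurd (ha.symm.trans hb) hne
      have := L.inv_mem this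
      rwa [inv_inv] at this
    rcases (mem_pairStab).1 hgk with h | h
    · have : x = 1 := hsharp x a b d hab hdb hda h.1 h.2 hxd
      rw [this]
      exact N'.one_mem
    · -- conjugate `s` into `x`
      obtain ⟨h', h1, h2, h4⟩ := h3 a b c a b d hab hbc hac hab hdb hda
      have h1' : h'⁻¹ • a = a := by rw [inv_smul_eq_iff, h1]
      have h2' : h'⁻¹ • b = b := by rw [inv_smul_eq_iff, h2]
      have h4' : h'⁻¹ • d = c := by rw [inv_smul_eq_iff, h4]
      have hh' : h' ∈ H := (memH _).2 ⟨h1, h2⟩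
      have hxs : x = h' * s * h'⁻¹ := by
        have : (h' * s * h'⁻¹)⁻¹ * x = 1 := by
          have e : (h' * s * h'⁻¹)⁻¹ = h' * s * h'⁻¹ := by
            rw [mul_inv_rev, mul_inv_rev, inv_inv, hsinv, mul_assoc]
          rw [e]
          refine hsharp _ a b d hab hdb hda ?_ ?_ ?_
          · rw [mul_smul, h.1, mul_smul, mul_smul, h2', hsb, h1]
          · rw [mul_smul, h.2, mul_smul, mul_smul, h1', hsa, h2]
          · rw [mul_smul, hxd, mul_smul, mul_smul, h4', hsc, h4]
        exact (inv_mul_eq_one.mp this).symm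
      rw [hN', mem_ext]
      refine Or.inr ?_
      have : s * x = (s * h' * s⁻¹) * h'⁻¹ := by
        rw [hxs, hsinv]; group
      rw [this]
      refine (hmul _ (hsH _ hh') _ (H.inv_mem hh')).2 ⟨fun h => ?_, fun h => ?_⟩
      · exact N.inv_mem (hsN' _ h)
      · refine hsN _ ?_
        have := N.inv_mem h
        rwa [inv_inv] at this
  refine ⟨MonoidHom.transfer lam, ?_⟩
  intro h
  rw [h, MonoidHom.one_apply, hlam] at hT
  rw [if_neg (by exact huN')] at hT
  exact absurd hT (by decide)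

end Cfsg.Agent.LieExceptional.SharpThreeTransfer
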