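/-
Zassenhaus groups of odd degree: elementary theory.
Author: helper215.  Everything here is for a finite doubly transitive group of odd degree whose
three-point stabilisers are trivial (`OddZ`).
* `OddZ.inv_fix`, `OddZ.inv_fix_unique`: an involution fixes exactly one point;
* `OddZ.swap_sq`: an element swapping two points is an involution;
* `OddZ.odd_order`: elements fixing two points have odd order;
* `OddZ.comm_trans`, `OddZ.comm_free`: the centraliser of an involution fixing `c` is regular on the rest;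
* `OddZ.comm_of_free`: it contains every element of the stabiliser of `c` with no other fixed point;
* `OddZ.inv_comm`: involutions with a common fixed point commute;
* `OddZ.simple`: such a group with a nontrivial two-point stabiliser is simple.
-/
import Mathlib

set_option autoImplicit false

namespace Cfsg.Agent.LieExceptional.ZassenhausOdd

/-- the working hypotheses: doubly transitive, three-point stabilisers trivial, odd degree -/
structure OddZ (G Ω : Type*) [Group G] [MulAction G Ω] [Fintype Ω] : Prop where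
  faithful : FaithfulSMul G Ω
  two : ∀ {a b c d : Ω}, a ≠ b → c ≠ d → ∃ g : G, g • a = c ∧ g • b = d
  three : ∀ g : G, ∀ a b c : Ω, a ≠ b → b ≠ c → a ≠ c →
    g • a = a → g • b = b → g • c = c → g = 1
  odd : Odd (Fintype.card Ω)

section
variable {G Ω : Type*} [Group G] [MulAction G Ω] [Fintype Ω]

theorem OddZ.finite (h : OddZ G Ω) : Finite G := by
  have := h.faithful
  exact Finite.of_injective (MulAction.toPermHom G Ω) MulAction.toPerm_injective

/-- an involution has a fixed point -/
theorem OddZ.inv_fix (h : OddZ G Ω) {t : G} (ht : t * t = 1) : ∃ c : Ω, t • c = c := by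
  classical
  have h2 : ¬ 2 ∣ Fintype.card Ω := by
    have := h.odd
    rw [Nat.odd_iff] at this
    omega
  have : (MulAction.toPerm t : Equiv.Perm Ω) ^ 2 ^ 1 = 1 := by
    ext x
    simp only [pow_one, pow_two, Equiv.Perm.coe_mul, Function.comp_apply, MulAction.toPerm_apply,
      Equiv.Perm.coe_one, id_eq]
    rw [← mul_smul, ht, one_smul]
  obtain ⟨c, hc⟩ := Equiv.Perm.exists_fixed_point_of_prime (p := 2) h2 this
  exact ⟨c, hc⟩

/-- the fixed point of an involution is unique -/
theorem OddZ.inv_fix_unique (h : OddZ G Ω) {t : G} (ht : t * t = 1) (ht1 : t ≠ 1) {c x : Ω}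
    (hc : t • c = c) (hx : t • x = x) : x = c := by
  classical
  by_contra hxc
  have h2 : (MulAction.toPerm t : Equiv.Perm Ω) ^ 2 ^ 1 = 1 := by
    ext x
    simp only [pow_one, pow_two, Equiv.Perm.coe_mul, Function.comp_apply, MulAction.toPerm_apply,
      Equiv.Perm.coe_one, id_eq]
    rw [← mul_smul, ht, one_smul]
  have h3 := Equiv.Perm.card_compl_support_modEq h2
  have h4 : (MulAction.toPerm t : Equiv.Perm Ω).supportᶜ = {c, x} := by
    ext y
    simp only [Finset.mem_compl, Equiv.Perm.mem_support, MulAction.toPerm_apply, not_not,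
      Finset.mem_insert, Finset.mem_singleton]
    constructor
    · intro hy
      by_contra hne
      push Not at hne
      exact ht1 (h.three t c x y (Ne.symm hxc) (Ne.symm hne.2) (Ne.symm hne.1) hc hx hy)
    · rintro (rfl | rfl) <;> assumption
  rw [h4, Finset.card_pair (Ne.symm hxc)] at h3
  have := h.odd
  rw [Nat.odd_iff] at this
  have h5 : Fintype.card Ω % 2 = 2 % 2 := h3.symm
  omega

omit [Fintype Ω] in
theorem pow_swap {a b : Ω} {g : G} (ha : g • a = b) (hb : g • b = a) (k : ℕ) :
    g ^ (2 * k) • a = a ∧ g ^ (2 * k + 1) • a = b := by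
  induction k with
  | zero => simp [ha]
  | succ k ih =>
    have h1 : g ^ (2 * (k + 1)) • a = a := by
      have : 2 * (k + 1) = 1 + (2 * k + 1) := by ring
      rw [this, pow_add, mul_smul, ih.2, pow_one, hb]
    refine ⟨h1, ?_⟩
    rw [add_comm, pow_add, mul_smul, h1, pow_one, ha]

/-- an element swapping two points is an involution -/
theorem OddZ.swap_sq (h : OddZ G Ω) {g : G} {a b : Ω} (hab : a ≠ b)
    (ha : g • a = b) (hb : g • b = a) : g * g = 1 := by
  have := h.finite
  have hpos : 0 < orderOf g := orderOf_pos g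
  have heven : Even (orderOf g) := by
    by_contra hodd
    rw [Nat.not_even_iff_odd] at hodd
    obtain ⟨k, hk⟩ := hodd
    have := (pow_swap ha hb k).2
    rw [← hk, pow_orderOf_eq_one, one_smul] at this
    exact hab this
  obtain ⟨k, hk⟩ := heven
  have hk0 : 0 < k := by omega
  set t := g ^ k with htdef
  have ht : t * t = 1 := by
    rw [htdef, ← pow_add, ← hk, pow_orderOf_eq_one]
  have ht1 : t ≠ 1 := by
    intro h1
    have := orderOf_le_of_pow_eq_one hk0 h1
    omega
  obtain ⟨c, hc⟩ := h.inv_fix ht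
  have hgc : g • c = c := by
    apply h.inv_fix_unique ht ht1 hc
    rw [← mul_smul, show t * g = g * t from (pow_mul_comm' g k), mul_smul, hc]
  have hca : a ≠ c := by
    rintro rfl
    exact hab (hgc.symm.trans ha)
  have hcb : b ≠ c := by
    rintro rfl
    exact hab (hb.symm.trans hgc)
  apply h.three (g * g) a b c hab hcb hca
  · rw [mul_smul, ha, hb]
  · rw [mul_smul, hb, ha]
  · rw [mul_smul, hgc, hgc]

/-- elements fixing two points have odd order -/
theorem OddZ.odd_order (h : OddZ G Ω) {d : G} {a b : Ω} (hab : a ≠ b)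
    (ha : d • a = a) (hb : d • b = b) : Odd (orderOf d) := by
  have := h.finite
  have hpos : 0 < orderOf d := orderOf_pos d
  by_contra hne
  rw [Nat.not_odd_iff_even] at hne
  obtain ⟨k, hk⟩ := hne
  have hk0 : 0 < k := by omega
  have ht : d ^ k * d ^ k = 1 := by
    rw [← pow_add, ← hk, pow_orderOf_eq_one]
  have ht1 : d ^ k ≠ 1 := by
    intro h1
    have := orderOf_le_of_pow_eq_one hk0 h1
    omega
  have hfix : ∀ (x : Ω), d • x = x → ∀ n : ℕ, d ^ n • x = x := by
    intro x hx n
    induction n with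
    | zero => simp
    | succ n ih => rw [pow_succ, mul_smul, hx, ih]
  exact hab (h.inv_fix_unique ht ht1 (hfix b hb k) (hfix a ha k))

theorem exists_sqrt {d : G} (hd : Odd (orderOf d)) : ∃ k : ℕ, d ^ k * d ^ k = d := by
  obtain ⟨k, hk⟩ := hd
  refine ⟨k + 1, ?_⟩
  have : d ^ (k + 1) * d ^ (k + 1) = d ^ (orderOf d) * d := by
    rw [← pow_add, ← pow_succ, hk]
    congr 1
    ring
  rw [this, pow_orderOf_eq_one, one_mul]

/-- an element commuting with an involution fixes its fixed point -/
theorem OddZ.comm_fix (h : OddZ G Ω) {t g : G} {c : Ω} (ht : t * t = 1) (ht1 : t ≠ 1)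
    (hc : t • c = c) (hg : g * t = t * g) : g • c = c := by
  apply h.inv_fix_unique ht ht1 hc
  rw [← mul_smul, ← hg, mul_smul, hc]

theorem OddZ.comm_free (h : OddZ G Ω) {t g : G} {c x : Ω} (ht : t * t = 1) (ht1 : t ≠ 1)
    (hc : t • c = c) (hg : g * t = t * g) (hx : g • x = x) (hxc : x ≠ c) : g = 1 := by
  have h1 := h.comm_fix ht ht1 hc hg
  have htx : t • x ≠ x := fun h2 => hxc (h.inv_fix_unique ht ht1 hc h2)
  have htc : t • x ≠ c := by
    intro h2
    apply hxc
    have : t • x = t • c := h2.trans hc.symm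
    exact smul_left_cancel t this
  refine h.three g c x (t • x) (Ne.symm hxc) (Ne.symm htx) (Ne.symm htc) h1 hx ?_
  rw [← mul_smul, hg, mul_smul, hx]

/-- the centraliser of an involution `t` fixing `c` is transitive on the other points -/
theorem OddZ.comm_trans (h : OddZ G Ω) {t : G} {c x y : Ω} (ht : t * t = 1) (ht1 : t ≠ 1)
    (hc : t • c = c) (hx : x ≠ c) (hy : y ≠ c) : ∃ g : G, g * t = t * g ∧ g • x = y := by
  have htx : x ≠ t • x := fun h2 => hx (h.inv_fix_unique ht ht1 hc h2.symm)
  have hty : y ≠ t • y := fun h2 => hy (h.inv_fix_unique ht ht1 hc h2.symm)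
  have httx : t • t • x = x := by rw [← mul_smul, ht, one_smul]
  have htty : t • t • y = y := by rw [← mul_smul, ht, one_smul]
  obtain ⟨g, hg1, hg2⟩ := h.two htx hty
  -- `g t g⁻¹` swaps `y` and `t y`
  have hgy : g⁻¹ • y = x := by rw [inv_smul_eq_iff, hg1]
  have hgty : g⁻¹ • t • y = t • x := by rw [inv_smul_eq_iff, hg2]
  set d := g * t * g⁻¹ * t with hd
  have hd1 : d • y = y := by
    rw [hd, mul_smul, mul_smul, mul_smul, hgty, httx, hg1]
  have hd2 : d • (t • y) = t • y := by
    rw [hd, mul_smul, mul_smul, mul_smul, htty, hgy, hg2]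
  have hdt : (d * t) * (d * t) = 1 := by
    apply h.swap_sq hty
    · rw [mul_smul, hd2]
    · rw [mul_smul, htty, hd1]
  obtain ⟨k, hk⟩ := exists_sqrt (h.odd_order hty hd1 hd2)
  have htinv : t⁻¹ = t := inv_eq_of_mul_eq_one_left ht
  -- `t` inverts `d`, hence `d ^ k`
  have hinv : t * d * t⁻¹ = d⁻¹ := by
    rw [htinv]
    apply eq_inv_of_mul_eq_one_right
    simpa [mul_assoc] using hdt
  have hinvk : t * d ^ k * t⁻¹ = (d ^ k)⁻¹ := by
    rw [← conj_pow, hinv, inv_pow]
  have hfix : ∀ n : ℕ, d ^ n • y = y := by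
    intro n
    induction n with
    | zero => simp
    | succ n ih => rw [pow_succ, mul_smul, hd1, ih]
  refine ⟨(d ^ k)⁻¹ * g, ?_, ?_⟩
  · -- commutes with `t`
    have e1 : g * t = d * t * g := by
      rw [hd]
      rw [mul_assoc (g * t * g⁻¹), ht, mul_one, inv_mul_cancel_right]
    have e2 : t * (d ^ k)⁻¹ = d ^ k * t := by
      rw [← hinvk, htinv]
      rw [← mul_assoc, ← mul_assoc, ht, one_mul]
    calc (d ^ k)⁻¹ * g * t = (d ^ k)⁻¹ * (g * t) := by rw [mul_assoc]
      _ = (d ^ k)⁻¹ * (d ^ k * d ^ k * t * g) := by rw [e1, hk]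
      _ = d ^ k * t * g := by group
      _ = t * (d ^ k)⁻¹ * g := by rw [e2]
      _ = t * ((d ^ k)⁻¹ * g) := by rw [mul_assoc]
  · rw [mul_smul, hg1, inv_smul_eq_iff, hfix k]

/-- an element of the stabiliser of `c` without other fixed points centralises every involution
fixing `c` -/
theorem OddZ.comm_of_free (h : OddZ G Ω) {t : G} {c x : Ω} (ht : t * t = 1) (ht1 : t ≠ 1)
    (hc : t • c = c) (hx : x ≠ c) {g : G} (hg : g • c = c) (hfree : ∀ y : Ω, y ≠ c → g • y ≠ y) :
    g * t = t * g := by
  classical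
  have := h.finite
  have hch : ∀ y : {y : Ω // y ≠ c}, ∃ k : G, k * t = t * k ∧ k • x = y :=
    fun y => h.comm_trans ht ht1 hc hx y.2
  choose k hk1 hk2 using hch
  have hne : ∀ s : MulAction.stabilizer G c, (s : G) • x ≠ c := by
    intro s h1
    have h2 : (s : G) • c = c := s.2
    exact hx (smul_left_cancel (s : G) (h1.trans h2.symm))
  let K : MulAction.stabilizer G c → G := fun s => k ⟨(s : G) • x, hne s⟩
  have hK1 : ∀ s, K s * t = t * K s := fun s => hk1 _
  have hK2 : ∀ s, K s • x = (s : G) • x := fun s => hk2 _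
  have hKc : ∀ s, K s • c = c := fun s => h.comm_fix ht ht1 hc (hK1 s)
  let f : MulAction.stabilizer G c → MulAction.stabilizer G c := fun s =>
    if (s : G) * t = t * s then s else
      ⟨(s : G) * (K s)⁻¹, by
        rw [MulAction.mem_stabilizer_iff, mul_smul, inv_smul_eq_iff.mpr (hKc s).symm]
        exact s.2⟩
  -- for `s` not commuting with `t`
  have hf1 : ∀ s : MulAction.stabilizer G c, (s : G) * t = t * s → f s = s := by
    intro s hs
    simp only [f, if_pos hs]
  have hf2 : ∀ s : MulAction.stabilizer G c, ¬ (s : G) * t = t * s →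
      ((f s : G) = (s : G) * (K s)⁻¹) := by
    intro s hs
    simp only [f, if_neg hs]
  have hf3 : ∀ s : MulAction.stabilizer G c, ¬ (s : G) * t = t * s →
      (f s : G) • ((s : G) • x) = (s : G) • x := by
    intro s hs
    rw [hf2 s hs, mul_smul]
    congr 1
    rw [inv_smul_eq_iff, hK2]
  have hf4 : ∀ s : MulAction.stabilizer G c, ¬ (s : G) * t = t * s → (f s : G) ≠ 1 := by
    intro s hs h1
    rw [hf2 s hs, mul_inv_eq_one] at h1
    apply hs
    rw [h1]
    exact hK1 s
  have hinj : Function.Injective f := by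
    intro s s' hss
    by_cases hs : (s : G) * t = t * s
    · by_cases hs' : (s' : G) * t = t * s'
      · rw [hf1 s hs, hf1 s' hs'] at hss
        exact hss
      · exfalso
        have h3 := hf3 s' hs'
        have h4 := hf4 s' hs'
        rw [← hss, hf1 s hs] at h3 h4
        exact h4 (h.comm_free ht ht1 hc hs h3 (hne s'))
    · by_cases hs' : (s' : G) * t = t * s'
      · exfalso
        have h3 := hf3 s hs
        have h4 := hf4 s hs
        rw [hss, hf1 s' hs'] at h3 h4
        exact h4 (h.comm_free ht ht1 hc hs' h3 (hne s))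
      · have h3 := hf3 s hs
        have h4 := hf4 s hs
        have h3' := hf3 s' hs'
        rw [← hss] at h3'
        have hxx : (s : G) • x = (s' : G) • x := by
          by_contra hne'
          exact h4 (h.three _ c _ _ (Ne.symm (hne s)) hne' (Ne.symm (hne s')) (f s).2 h3 h3')
        have hKK : K s = K s' := by
          simp only [K]
          congr 1
          exact Subtype.ext hxx
        have h5 : (f s : G) = (f s' : G) := by rw [hss]
        rw [hf2 s hs, hf2 s' hs', hKK] at h5
        exact Subtype.ext (mul_right_cancel h5)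
  have hsurj : Function.Surjective f := Finite.surjective_of_injective hinj
  obtain ⟨s, hs⟩ := hsurj ⟨g, hg⟩
  by_cases hs' : (s : G) * t = t * s
  · rw [hf1 s hs'] at hs
    rw [hs] at hs'
    exact hs'
  · exfalso
    have h3 := hf3 s hs'
    rw [hs] at h3
    exact hfree _ (hne s) h3

/-- two involutions with a common fixed point commute -/
theorem OddZ.inv_comm (h : OddZ G Ω) {t u : G} {c : Ω} (ht : t * t = 1) (ht1 : t ≠ 1)
    (hc : t • c = c) (hu : u * u = 1) (hu1 : u ≠ 1) (huc : u • c = c) (x : Ω) (hx : x ≠ c) :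
    u * t = t * u :=
  h.comm_of_free ht ht1 hc hx huc
    (fun _ hy h1 => hy (h.inv_fix_unique hu hu1 huc h1))

/-- the main theorem -/
theorem OddZ.simple (h : OddZ G Ω) {a b : Ω} (hab : a ≠ b) {d : G} (hd1 : d ≠ 1)
    (hda : d • a = a) (hdb : d • b = b) : IsSimpleGroup G := by
  classical
  have hfin := h.finite
  have hfaith := h.faithful
  have hnt : Nontrivial G := ⟨d, 1, hd1⟩
  have h2 : MulAction.IsMultiplyPretransitive G Ω 2 :=
    MulAction.is_two_pretransitive_iff.mpr h.two
  have hprim : MulAction.IsPreprimitive G Ω := MulAction.isPreprimitive_of_is_two_pretransitive h2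
  refine { exists_pair_ne := hnt.exists_pair_ne, eq_bot_or_eq_top_of_normal := ?_ }
  intro M hM
  by_cases hMb : M = ⊥
  · exact Or.inl hMb
  right
  -- `M` is transitive
  have hMt : MulAction.IsPretransitive M Ω := by
    apply MulAction.IsQuasiPreprimitive.isPretransitive_of_normal (G := G)
    intro hfix
    apply hMb
    rw [Subgroup.eq_bot_iff_forall]
    intro m hm
    apply hfaith.eq_of_smul_eq_smul
    intro y
    have hy : y ∈ MulAction.fixedPoints M Ω := by rw [hfix]; trivial
    rw [one_smul]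
    exact hy ⟨m, hm⟩
  have hMt' : ∀ x y : Ω, ∃ m : G, m ∈ M ∧ m • x = y := by
    intro x y
    obtain ⟨m, hm⟩ := hMt.exists_smul_eq x y
    exact ⟨m, m.2, hm⟩
  have hexne : ∀ c : Ω, ∃ x : Ω, x ≠ c := by
    intro c
    by_cases hac : a = c
    · exact ⟨b, fun h1 => hab (hac.trans h1.symm)⟩
    · exact ⟨a, hac⟩
  -- all two-point stabilisers are contained in `M`
  have hD : ∀ (x y : Ω) (e : G), x ≠ y → e • x = x → e • y = y → e ∈ M := by
    intro x y e hxy hex hey
    obtain ⟨s, hs1, hs2⟩ := h.two hxy (Ne.symm hxy)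
    have hss : s * s = 1 := h.swap_sq hxy hs1 hs2
    have hss1 : s ≠ 1 := by
      rintro rfl
      rw [one_smul] at hs1
      exact hxy hs1
    have hes1 : (e * s) • x = y := by rw [mul_smul, hs1, hey]
    have hes2 : (e * s) • y = x := by rw [mul_smul, hs2, hex]
    have hess : (e * s) * (e * s) = 1 := h.swap_sq hxy hes1 hes2
    have hess1 : e * s ≠ 1 := by
      intro h1
      rw [h1, one_smul] at hes1
      exact hxy hes1
    obtain ⟨p, hp⟩ := h.inv_fix hss
    obtain ⟨q, hq⟩ := h.inv_fix hess
    obtain ⟨m, hm, hmq⟩ := hMt' q p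
    have hmp : m⁻¹ • p = q := by rw [inv_smul_eq_iff, hmq]
    obtain ⟨z, hz⟩ := hexne p
    have hcomm : (m * (e * s) * m⁻¹) * s = s * (m * (e * s) * m⁻¹) := by
      apply h.inv_comm hss hss1 hp _ _ _ z hz
      · have : m * (e * s) * m⁻¹ * (m * (e * s) * m⁻¹) = m * ((e * s) * (e * s)) * m⁻¹ := by group
        rw [this, hess, mul_one, mul_inv_cancel]
      · intro h1
        apply hess1
        have := congrArg (fun w => m⁻¹ * w * m) h1
        simpa [mul_assoc] using this
      · rw [mul_smul, mul_smul, hmp, hq, hmq]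
    -- pass to the quotient
    have hq1 : (QuotientGroup.mk' M) m = 1 := by
      rw [← MonoidHom.mem_ker, QuotientGroup.ker_mk']; exact hm
    have hcomm' := congrArg (QuotientGroup.mk' M) hcomm
    simp only [map_mul, map_inv, hq1, one_mul, inv_one, mul_one] at hcomm'
    -- hcomm' : ē s̄ s̄ = s̄ ē s̄
    have hss' : (QuotientGroup.mk' M) s * (QuotientGroup.mk' M) s = 1 := by
      rw [← map_mul, hss, map_one]
    have hess' : ((QuotientGroup.mk' M) e * (QuotientGroup.mk' M) s) *
        ((QuotientGroup.mk' M) e * (QuotientGroup.mk' M) s) = 1 := by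
      rw [← map_mul, ← map_mul, hess, map_one]
    have hee : (QuotientGroup.mk' M) e * (QuotientGroup.mk' M) e = 1 := by
      -- `s̄ (ē s̄) = (ē s̄) s̄ = ē`
      have e1 : (QuotientGroup.mk' M) e = (QuotientGroup.mk' M) s *
          ((QuotientGroup.mk' M) e * (QuotientGroup.mk' M) s) := by
        rw [← hcomm', mul_assoc, hss', mul_one]
      calc (QuotientGroup.mk' M) e * (QuotientGroup.mk' M) e
          = (QuotientGroup.mk' M) e * ((QuotientGroup.mk' M) s *
          ((QuotientGroup.mk' M) e * (QuotientGroup.mk' M) s)) := by rw [← e1]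
        _ = ((QuotientGroup.mk' M) e * (QuotientGroup.mk' M) s) *
        ((QuotientGroup.mk' M) e * (QuotientGroup.mk' M) s) := by rw [mul_assoc]
        _ = 1 := hess'
    have he2 : e * e ∈ M := by
      rw [← QuotientGroup.ker_mk' M, MonoidHom.mem_ker, map_mul, hee]
    obtain ⟨k, hk⟩ := exists_sqrt (h.odd_order hxy hex hey)
    have : e = (e * e) ^ k := by
      rw [← pow_two, ← pow_mul, two_mul, pow_add, hk]
    rw [this]
    exact M.pow_mem he2 k
  -- an involution fixing `a`
  obtain ⟨t, ht, ht1, hta⟩ : ∃ t : G, t * t = 1 ∧ t ≠ 1 ∧ t • a = a := by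
    obtain ⟨s, hs1, hs2⟩ := h.two hab (Ne.symm hab)
    have hss : s * s = 1 := h.swap_sq hab hs1 hs2
    have hss1 : s ≠ 1 := by
      rintro rfl
      rw [one_smul] at hs1
      exact hab hs1
    obtain ⟨p, hp⟩ := h.inv_fix hss
    obtain ⟨m, -, hmp⟩ := hMt' p a
    have hmp' : m⁻¹ • a = p := by rw [inv_smul_eq_iff, hmp]
    refine ⟨m * s * m⁻¹, ?_, ?_, ?_⟩
    · have : m * s * m⁻¹ * (m * s * m⁻¹) = m * (s * s) * m⁻¹ := by group
      rw [this, hss, mul_one, mul_inv_cancel]
    · intro h1
      apply hss1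
      have := congrArg (fun w => m⁻¹ * w * m) h1
      simpa [mul_assoc] using this
    · rw [mul_smul, mul_smul, hmp', hp, hmp]
  -- the centraliser of `t` is contained in `M`
  have hC : ∀ k : G, k * t = t * k → k ∈ M := by
    -- the commutator map
    have hnorm : ∀ k : G, k * t = t * k → (k * (d * k⁻¹ * d⁻¹)) * t = t * (k * (d * k⁻¹ * d⁻¹)) := by
      intro k hk
      have hka : k • a = a := h.comm_fix ht ht1 hta hk
      have hka' : k⁻¹ • a = a := by rw [inv_smul_eq_iff, hka]
      have hda' : d⁻¹ • a = a := by rw [inv_smul_eq_iff, hda]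
      have hk' : k⁻¹ * t = t * k⁻¹ := by
        rw [inv_mul_eq_iff_eq_mul, ← mul_assoc, hk, mul_inv_cancel_right]
      have h1 : (d * k⁻¹ * d⁻¹) * t = t * (d * k⁻¹ * d⁻¹) := by
        by_cases hk1 : k = 1
        · subst hk1
          simp
        · apply h.comm_of_free ht ht1 hta (Ne.symm hab)
          · rw [mul_smul, mul_smul, hda', hka', hda]
          · intro y hy h1
            apply hk1
            have hyy : k⁻¹ • (d⁻¹ • y) = d⁻¹ • y := by
              rw [mul_smul, mul_smul] at h1
              rw [eq_inv_smul_iff, h1]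
            have hyy' : d⁻¹ • y ≠ a := by
              intro h2
              apply hy
              rw [← h2, smul_inv_smul] at hda
              exact hda.trans h2
            have := h.comm_free ht ht1 hta hk' hyy hyy'
            exact inv_eq_one.mp this
      calc k * (d * k⁻¹ * d⁻¹) * t = k * ((d * k⁻¹ * d⁻¹) * t) := by rw [mul_assoc k]
        _ = k * (t * (d * k⁻¹ * d⁻¹)) := by rw [h1]
        _ = (k * t) * (d * k⁻¹ * d⁻¹) := by rw [mul_assoc k]
        _ = t * k * (d * k⁻¹ * d⁻¹) := by rw [hk]
        _ = t * (k * (d * k⁻¹ * d⁻¹)) := by rw [mul_assoc t]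
    let C := {k : G // k * t = t * k}
    let f : C → C := fun k => ⟨k.1 * (d * k.1⁻¹ * d⁻¹), hnorm k.1 k.2⟩
    have hinj : Function.Injective f := by
      intro k k' hkk
      have h1 : k.1 * (d * k.1⁻¹ * d⁻¹) = k'.1 * (d * k'.1⁻¹ * d⁻¹) := congrArg Subtype.val hkk
      -- `z = k'⁻¹ k` commutes with `d`
      have h2 : (k'.1⁻¹ * k.1) * d = d * (k'.1⁻¹ * k.1) := by
        have h3 : k.1 * d * k.1⁻¹ = k'.1 * d * k'.1⁻¹ := by
          have := congrArg (fun w => w * d) h1
          simpa [mul_assoc] using this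
        have := congrArg (fun w => k'.1⁻¹ * w * k.1) h3
        simpa [mul_assoc] using this
      have h3 : (k'.1⁻¹ * k.1) * t = t * (k'.1⁻¹ * k.1) := by
        have hk' : k'.1⁻¹ * t = t * k'.1⁻¹ := by
          rw [inv_mul_eq_iff_eq_mul, ← mul_assoc, k'.2, mul_inv_cancel_right]
        rw [mul_assoc, k.2, ← mul_assoc, hk', mul_assoc]
      have h4 : (k'.1⁻¹ * k.1) • a = a := h.comm_fix ht ht1 hta h3
      have h5 : (k'.1⁻¹ * k.1) • b = b := by
        by_contra hne
        apply hd1
        refine h.three d a b ((k'.1⁻¹ * k.1) • b) hab (Ne.symm hne) ?_ hda hdb ?_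
        · intro h6
          apply hab
          have : (k'.1⁻¹ * k.1) • a = (k'.1⁻¹ * k.1) • b := h4.trans h6
          exact smul_left_cancel _ this
        · rw [← mul_smul, ← h2, mul_smul, hdb]
      have h6 := h.comm_free ht ht1 hta h3 h5 (Ne.symm hab)
      apply Subtype.ext
      exact (inv_mul_eq_one.mp h6).symm
    have hsurj : Function.Surjective f := Finite.surjective_of_injective hinj
    intro k hk
    obtain ⟨k', hk'⟩ := hsurj ⟨k, hk⟩
    have h1 : k'.1 * (d * k'.1⁻¹ * d⁻¹) = k := congrArg Subtype.val hk'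
    have hdM : d ∈ M := hD a b d hab hda hdb
    have h2 : k'.1 * d * k'.1⁻¹ ∈ M := hM.conj_mem d hdM k'.1
    have h3 : k = (k'.1 * d * k'.1⁻¹) * d⁻¹ := by rw [← h1]; group
    rw [h3]
    exact M.mul_mem h2 (M.inv_mem hdM)
  -- the stabiliser of `a` is contained in `M`
  have hH : ∀ g : G, g • a = a → g ∈ M := by
    intro g hg
    have hgb : g • b ≠ a := by
      intro h1
      apply hab
      exact smul_left_cancel g (hg.trans h1.symm)
    obtain ⟨k, hk1, hk2⟩ := h.comm_trans ht ht1 hta (Ne.symm hab) hgb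
    have hka : k • a = a := h.comm_fix ht ht1 hta hk1
    have h1 : k⁻¹ * g ∈ M := by
      apply hD a b _ hab
      · rw [mul_smul, hg, inv_smul_eq_iff, hka]
      · rw [mul_smul, inv_smul_eq_iff, hk2]
    have := M.mul_mem (hC k hk1) h1
    simpa using this
  rw [Subgroup.eq_top_iff']
  intro g
  obtain ⟨m, hm, hmg⟩ := hMt' a (g • a)
  have h1 : m⁻¹ * g ∈ M := by
    apply hH
    rw [mul_smul, inv_smul_eq_iff, hmg]
  have := M.mul_mem hm h1
  simpa using this

end

end Cfsg.Agent.LieExceptional.ZassenhausOdd
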