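/-
Suzuki's theorem on the order of a Zassenhaus group of odd degree with non-abelian kernel, elementary part.
Author: helper132.
* `relation` : `t² = y⁴ = (t y)³ = 1` implies that `t y² t` commutes with `y²`;
* `OddZ.cover` : for `g • c ≠ c` the products `t g`, `t` an involution swapping `c` and `g • c`, meet every coset
  of the kernel `Fr c` in the stabiliser of `c`;
* `OddZ.not_three_dvd` : if kernels have exponent dividing 4 and are not elementary abelian, then `3` does not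
  divide the order of a two-point stabiliser;
* `OddZ.card_le` : if moreover `3` divides the degree then the kernel has at most `8 * #(involutions fixing a point)` elements.
-/
import Mathlib
import Cfsg.Agent.LieExceptional.ZassenhausOdd

set_option autoImplicit false

namespace Cfsg.Agent.LieExceptional.ZTCore

open Cfsg.Agent.LieExceptional.ZassenhausOdd

/-- The `S₄` relation. -/
theorem relation {G : Type*} [Group G] {t y : G} (ht : t * t = 1) (hy : y ^ 4 = 1)
    (hty : (t * y) ^ 3 = 1) :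
    (t * (y * y) * t) * (y * y) = (y * y) * (t * (y * y) * t) := by
  have htinv : t⁻¹ = t := inv_eq_of_mul_eq_one_left ht
  -- `t y t = y⁻¹ t y⁻¹`
  have h1 : t * y * t = y⁻¹ * t * y⁻¹ := by
    have h3 : t * y * (t * y) * (t * y) = 1 := by
      simpa [pow_succ] using hty
    have h4 : t * y * t = (y * (t * y))⁻¹ := by
      apply eq_inv_of_mul_eq_one_left
      simpa [mul_assoc] using h3
    rw [h4, mul_inv_rev, mul_inv_rev, htinv]
  set w := t * (y * y) * t with hw
  have h2 : w = (t * y * t) * (t * y * t) := by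
    rw [hw]
    have : (t * y * t) * (t * y * t) = t * y * (t * t) * y * t := by simp only [mul_assoc]
    rw [this, ht]
    simp only [mul_assoc, one_mul]
  have hz : y⁻¹ * y⁻¹ = y * y := by
    have : y * y * (y * y) = 1 := by
      have : y ^ 4 = y * y * (y * y) := by simp [pow_succ, mul_assoc]
      rw [← this, hy]
    rw [← mul_inv_rev]
    exact inv_eq_of_mul_eq_one_left this
  -- `w = y⁻¹ w y⁻¹`
  have h5 : w = y⁻¹ * w * y⁻¹ := by
    conv_lhs => rw [h2, h1]
    have : y⁻¹ * t * y⁻¹ * (y⁻¹ * t * y⁻¹) = y⁻¹ * (t * (y⁻¹ * y⁻¹) * t) * y⁻¹ := by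
      simp only [mul_assoc]
    rw [this, hz]
  have h6 : y * w = w * y⁻¹ := by
    conv_lhs => rw [h5]
    simp only [mul_assoc, mul_inv_cancel_left]
  have h7 : y⁻¹ * w = w * y := by
    have := congrArg (fun x => y⁻¹ * x * y) h6
    simpa [mul_assoc] using this.symm
  calc w * (y * y) = (y⁻¹ * y⁻¹) * w := by
        rw [← mul_assoc w y y, ← h7, mul_assoc y⁻¹ w y, ← h7, ← mul_assoc]
    _ = (y * y) * w := by rw [hz]

section
variable {G Ω : Type*} [Group G] [MulAction G Ω] [Fintype Ω]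

/-- `g` lies in the kernel at `c`: it fixes `c`, and fixes nothing else unless it is `1`. -/
def Fr (c : Ω) (g : G) : Prop := g • c = c ∧ ∀ y, y ≠ c → g • y = y → g = 1

theorem OddZ.exists_inv (h : OddZ G Ω) {c x : Ω} (hx : x ≠ c) :
    ∃ s : G, s * s = 1 ∧ s ≠ 1 ∧ s • c = c := by
  obtain ⟨t, ht1, ht2⟩ := h.two hx (Ne.symm hx)
  have ht : t * t = 1 := h.swap_sq hx ht1 ht2
  have htne : t ≠ 1 := by
    rintro rfl
    rw [one_smul] at ht1
    exact hx ht1
  obtain ⟨e, he⟩ := h.inv_fix ht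
  -- move `e` to `c`
  have : ∃ g : G, g • e = c := by
    by_cases hec : e = c
    · exact ⟨1, by rw [one_smul, hec]⟩
    · obtain ⟨g, hg, -⟩ := h.two (Ne.symm (show c ≠ e from Ne.symm hec)) (Ne.symm hec)
      exact ⟨g, hg⟩
  obtain ⟨g, hg⟩ := this
  refine ⟨g * t * g⁻¹, ?_, ?_, ?_⟩
  · have : g * t * g⁻¹ * (g * t * g⁻¹) = g * (t * t) * g⁻¹ := by group
    rw [this, ht, mul_one, mul_inv_cancel]
  · intro h1
    apply htne
    have : t = g⁻¹ * (g * t * g⁻¹) * g := by group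
    rw [this, h1, mul_one, inv_mul_cancel]
  · rw [mul_smul, mul_smul, ← hg, inv_smul_smul, he]

theorem OddZ.fr_iff (h : OddZ G Ω) {c x : Ω} (hx : x ≠ c) {s : G} (hs : s * s = 1) (hs1 : s ≠ 1)
    (hsc : s • c = c) (g : G) : Fr c g ↔ g * s = s * g := by
  constructor
  · rintro ⟨h1, h2⟩
    by_cases hg : g = 1
    · rw [hg, one_mul, mul_one]
    · exact h.comm_of_free hs hs1 hsc hx h1 (fun y hy hyy => hg (h2 y hy hyy))
  · intro hg
    exact ⟨h.comm_fix hs hs1 hsc hg, fun y hy hyy => h.comm_free hs hs1 hsc hg hyy hy⟩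

omit [Fintype Ω] in
theorem fr_one (c : Ω) : Fr c (1 : G) := ⟨one_smul _ _, fun _ _ _ => rfl⟩

theorem OddZ.fr_mul (h : OddZ G Ω) {c x : Ω} (hx : x ≠ c) {g k : G} (hg : Fr c g) (hk : Fr c k) :
    Fr c (g * k) := by
  obtain ⟨s, hs, hs1, hsc⟩ := OddZ.exists_inv h hx
  rw [OddZ.fr_iff h hx hs hs1 hsc] at hg hk ⊢
  rw [mul_assoc, hk, ← mul_assoc, hg, mul_assoc]

omit [Fintype Ω] in
theorem fr_inv {c : Ω} {g : G} (hg : Fr c g) : Fr c g⁻¹ := by
  refine ⟨by rw [inv_smul_eq_iff, hg.1], fun y hy hyy => ?_⟩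
  rw [inv_smul_eq_iff] at hyy
  rw [hg.2 y hy hyy.symm, inv_one]

omit [Fintype Ω] in
theorem fr_conj {c : Ω} {g : G} (hg : Fr c g) (x : G) : Fr (x • c) (x * g * x⁻¹) := by
  refine ⟨by rw [mul_smul, mul_smul, inv_smul_smul, hg.1], fun y hy hyy => ?_⟩
  have h1 : g • (x⁻¹ • y) = x⁻¹ • y := by
    rw [eq_inv_smul_iff]
    rw [mul_smul, mul_smul] at hyy
    exact hyy
  have h2 : x⁻¹ • y ≠ c := by
    intro h3
    apply hy
    rw [← h3, smul_inv_smul]
  rw [hg.2 _ h2 h1, mul_one, mul_inv_cancel]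

omit [Fintype Ω] in
theorem fr_conj' {c : Ω} {g : G} (hg : Fr c g) {x : G} (hx : x • c = c) :
    Fr c (x * g * x⁻¹) := by
  have := fr_conj hg x
  rwa [hx] at this

/-- an involution fixing `c` is in the kernel at `c` -/
theorem OddZ.fr_of_inv (h : OddZ G Ω) {c : Ω} {s : G} (hs : s * s = 1) (hs1 : s ≠ 1)
    (hsc : s • c = c) : Fr c s :=
  ⟨hsc, fun _ hy hyy => absurd (h.inv_fix_unique hs hs1 hsc hyy) hy⟩

/-- Two commuting involutions have the same fixed point. -/
theorem OddZ.fix_of_comm (h : OddZ G Ω) {z t : G} {c : Ω} (hz : z * z = 1) (hz1 : z ≠ 1)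
    (hzc : z • c = c) (ht : t * t = 1) (hc : (t * z * t) * z = z * (t * z * t)) : t • c = c := by
  have htinv : t⁻¹ = t := inv_eq_of_mul_eq_one_left ht
  have h1 : (t * z * t) • c = c := h.comm_fix hz hz1 hzc hc
  have h2 : (t * z * t) • (t • c) = t • c := by
    rw [← mul_smul, mul_assoc, ht, mul_one, mul_smul, hzc]
  have h3 : (t * z * t) * (t * z * t) = 1 := by
    have : (t * z * t) * (t * z * t) = t * z * (t * t) * z * t := by simp only [mul_assoc]
    rw [this, ht, mul_one, mul_assoc t z z, hz, mul_one, ht]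
  have h4 : t * z * t ≠ 1 := by
    intro h5
    apply hz1
    have : z = t * (t * z * t) * t := by
      have : t * (t * z * t) * t = (t * t) * z * (t * t) := by simp only [mul_assoc]
      rw [this, ht, one_mul, mul_one]
    rw [this, h5, mul_one, ht]
  exact h.inv_fix_unique h3 h4 h1 h2

/-- The stabiliser of `c` is the kernel times a two-point stabiliser. -/
theorem OddZ.decomp (h : OddZ G Ω) {c e : Ω} (he : e ≠ c) {x : G} (hx : x • c = c) :
    ∃ k u : G, x = k * u ∧ k • c = c ∧ k • e = e ∧ Fr c u := by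
  obtain ⟨s, hs, hs1, hsc⟩ := OddZ.exists_inv h he
  have hxe : x⁻¹ • e ≠ c := by
    intro h1
    apply he
    rw [inv_smul_eq_iff, hx] at h1
    exact h1
  obtain ⟨u, hu, hue⟩ := h.comm_trans hs hs1 hsc he hxe
  have hfu : Fr c u := (OddZ.fr_iff h he hs hs1 hsc u).2 hu
  refine ⟨x * u, u⁻¹, by group, ?_, ?_, fr_inv hfu⟩
  · rw [mul_smul, hfu.1, hx]
  · rw [mul_smul, hue, smul_inv_smul]

/-- Covering lemma. -/
theorem OddZ.cover (h : OddZ G Ω) {g : G} {c : Ω} (hgc : g • c ≠ c) {d : G} (hdc : d • c = c)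
    (hd : d • (g • c) = g • c) :
    ∃ t u : G, t * t = 1 ∧ t ≠ 1 ∧ t • c = g • c ∧ t • (g • c) = c ∧ t * g = d * u ∧ Fr c u := by
  obtain ⟨t₀, h1, h2⟩ := h.two hgc (Ne.symm hgc)
  have hx : (t₀ * g) • c = c := by rw [mul_smul, h1]
  obtain ⟨k, u, hk, hkc, hke, hu⟩ := OddZ.decomp h hgc hx
  have hk' : k⁻¹ • c = c := by rw [inv_smul_eq_iff, hkc]
  have hk'' : k⁻¹ • (g • c) = g • c := by rw [inv_smul_eq_iff, hke]
  have ht1 : (d * k⁻¹ * t₀) • c = g • c := by
    rw [mul_smul, mul_smul, h2, hk'', hd]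
  have ht2 : (d * k⁻¹ * t₀) • (g • c) = c := by
    rw [mul_smul, mul_smul, h1, hk', hdc]
  refine ⟨d * k⁻¹ * t₀, u, h.swap_sq (Ne.symm hgc) ht1 ht2, ?_, ht1, ht2, ?_, hu⟩
  · intro h3
    rw [h3, one_smul] at ht1
    exact hgc ht1.symm
  · rw [mul_assoc, hk]
    group

/-- An element `d * u` with `d ^ 3 = 1`, `d` in a two-point stabiliser, not in the kernel has cube `1`. -/
theorem OddZ.cube (h : OddZ G Ω) {c e : Ω} (he : e ≠ c) {d u x : G} (hdc : d • c = c)
    (hde : d • e = e) (hd3 : d ^ 3 = 1) (hd1 : d ≠ 1) (hu : Fr c u) (hx : x = d * u) :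
    x ^ 3 = 1 ∧ ¬ Fr c x := by
  have hnot : ¬ Fr c x := by
    intro hf
    have h1 : Fr c d := by
      have : d = x * u⁻¹ := by rw [hx, mul_inv_cancel_right]
      rw [this]
      exact OddZ.fr_mul h he hf (fr_inv hu)
    exact hd1 (h1.2 e he hde)
  refine ⟨?_, hnot⟩
  have hxc : x • c = c := by rw [hx, mul_smul, hu.1, hdc]
  have hx1 : x ≠ 1 := by
    intro h1
    apply hnot
    rw [h1]
    exact fr_one c
  -- another fixed point
  obtain ⟨y, hy, hxy⟩ : ∃ y, y ≠ c ∧ x • y = y := by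
    by_contra hno
    push Not at hno
    exact hnot ⟨hxc, fun y hy hyy => absurd hyy (hno y hy)⟩
  have hf3 : Fr c (x ^ 3) := by
    have : x ^ 3 = (d * u * d⁻¹) * ((d * d) * u * (d * d)⁻¹) * (d ^ 3 * u) := by
      rw [hx]
      simp only [pow_succ, pow_zero, one_mul]
      group
    rw [this, hd3, one_mul]
    refine OddZ.fr_mul h he (OddZ.fr_mul h he (fr_conj' hu hdc) (fr_conj' hu ?_)) hu
    rw [mul_smul, hdc, hdc]
  apply hf3.2 y hy
  rw [pow_succ, pow_succ, pow_succ, pow_zero, one_mul, mul_smul, mul_smul, hxy, hxy, hxy]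

/-- If the kernels have exponent dividing `4` and some kernel contains an element of order `4`, then
a two-point stabiliser has no element of order `3`. -/
theorem OddZ.no_three (h : OddZ G Ω) (hexp : ∀ (c : Ω) (g : G), Fr c g → g ^ 4 = 1)
    {a : Ω} {y : G} (hy : Fr a y) (hy2 : y * y ≠ 1) {b e : Ω} (hbe : b ≠ e) {d : G}
    (hdb : d • b = b) (hde : d • e = e) (hd3 : d ^ 3 = 1) : d = 1 := by
  by_contra hd1
  have hy1 : y ≠ 1 := by
    rintro rfl
    exact hy2 (one_mul 1)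
  -- a point `c ≠ a`
  obtain ⟨c, hca⟩ : ∃ c : Ω, c ≠ a := by
    by_cases hba : b = a
    · exact ⟨e, fun h1 => hbe (hba.trans h1.symm)⟩
    · exact ⟨b, hba⟩
  have hyc : y • c ≠ c := fun h1 => hy1 (hy.2 c hca h1)
  obtain ⟨x, hx1, hx2⟩ := h.two hbe (Ne.symm hyc)
  -- move `d`
  have hd'c : (x * d * x⁻¹) • c = c := by
    rw [mul_smul, mul_smul, inv_smul_eq_iff.2 hx1.symm, hdb, hx1]
  have hd'e : (x * d * x⁻¹) • (y • c) = y • c := by
    rw [mul_smul, mul_smul, inv_smul_eq_iff.2 hx2.symm, hde, hx2]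
  have hd'3 : (x * d * x⁻¹) ^ 3 = 1 := by
    rw [conj_pow, hd3, mul_one, mul_inv_cancel]
  have hd'1 : x * d * x⁻¹ ≠ 1 := by
    intro h1
    apply hd1
    have : d = x⁻¹ * (x * d * x⁻¹) * x := by group
    rw [this, h1, mul_one, inv_mul_cancel]
  obtain ⟨t, u, ht, ht1, htc, htyc, hty, hu⟩ := OddZ.cover h hyc hd'c hd'e
  obtain ⟨h3, hnot⟩ := OddZ.cube h hyc hd'c hd'e hd'3 hd'1 hu hty
  have hy4 : y ^ 4 = 1 := hexp a y hy
  have hcomm := relation ht hy4 h3
  have hz : (y * y) * (y * y) = 1 := by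
    rw [← hy4]
    simp [pow_succ, mul_assoc]
  have hza : (y * y) • a = a := by rw [mul_smul, hy.1, hy.1]
  have hta : t • a = a := OddZ.fix_of_comm h hz hy2 hza ht hcomm
  have hft : Fr a t := OddZ.fr_of_inv h ht ht1 hta
  have hfty : Fr a (t * y) := OddZ.fr_mul h hca hft hy
  have h4 : (t * y) ^ 4 = 1 := hexp a _ hfty
  have h5 : t * y = 1 := by
    have : (t * y) ^ 4 = (t * y) ^ 3 * (t * y) := pow_succ _ _
    rw [h4, h3, one_mul] at this
    exact this.symm
  apply hnot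
  rw [h5]
  exact fr_one c

end

end Cfsg.Agent.LieExceptional.ZTCore
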