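/-
Suzuki's theorem on the order of a Zassenhaus group of odd degree with non-abelian kernel: a fixed-point-free
element of order three bounds the kernel.
Author: helper132.
* `card_le_eight` : a finite group of exponent dividing `4` with a unique involution (central) has order at most `8`;
* `OddZ.card_le_of_free` : if kernels have exponent dividing `4`, at most `i` involutions fix a given point, and `g` of order
  three has no fixed point, then the degree is at most `8 * i + 1`.
-/
import Mathlib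
import Cfsg.Agent.LieExceptional.ZTCore

set_option autoImplicit false

namespace Cfsg.Agent.LieExceptional.ZTDegree

open Cfsg.Agent.LieExceptional.ZassenhausOdd Cfsg.Agent.LieExceptional.ZTCore

theorem card_le_eight {E : Type*} [Group E] [Finite E] {s : E} (hs1 : s ≠ 1) (hs : s * s = 1)
    (hcen : ∀ e : E, e * s = s * e) (hun : ∀ e : E, e * e = 1 → e = 1 ∨ e = s)
    (hexp : ∀ e : E, e ^ 4 = 1) : Nat.card E ≤ 8 := by
  classical
  have := Fintype.ofFinite E
  rw [Nat.card_eq_fintype_card, ← Finset.card_univ]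
  have hsq : ∀ e : E, e ≠ 1 → e ≠ s → e * e = s := by
    intro e h1 h2
    have h4 : (e * e) * (e * e) = 1 := by
      rw [← hexp e]
      simp [pow_succ, mul_assoc]
    rcases hun _ h4 with h | h
    · rcases hun e h with h' | h'
      · exact absurd h' h1
      · exact absurd h' h2
    · exact h
  have hinv : ∀ e : E, e ≠ 1 → e ≠ s → e⁻¹ = e * s := by
    intro e h1 h2
    apply inv_eq_of_mul_eq_one_right
    rw [← mul_assoc, hsq e h1 h2, hs]
  have anti : ∀ e f : E, e ≠ 1 → e ≠ s → f ≠ 1 → f ≠ s → e * f ≠ 1 → e * f ≠ s →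
      e * f = s * (f * e) := by
    intro e f h1 h2 h3 h4 h5 h6
    have h7 := hinv _ h5 h6
    rw [mul_inv_rev, hinv e h1 h2, hinv f h3 h4] at h7
    have h8 : f * s * (e * s) = f * e := by
      rw [mul_assoc, ← mul_assoc s e s, ← hcen e, mul_assoc e s s, hs, mul_one]
    rw [h8] at h7
    rw [h7, ← hcen, mul_assoc, hs, mul_one]
  by_cases hall : ∀ e : E, e = 1 ∨ e = s
  · have h1 : (Finset.univ : Finset E) ⊆ {1, s} := by
      intro e _
      simpa using hall e
    exact (Finset.card_le_card h1).trans (Finset.card_le_two.trans (by norm_num))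
  push Not at hall
  obtain ⟨e, he1, hes⟩ := hall
  let T : Finset E := {1, s, e, s * e}
  have hT4 : T.card ≤ 4 := Finset.card_le_four
  by_cases hall2 : ∀ f : E, f ∈ T
  · exact (Finset.card_le_card (fun f _ => hall2 f)).trans (hT4.trans (by norm_num))
  push Not at hall2
  obtain ⟨f, hf⟩ := hall2
  have key : ∀ f' : E, f' ∉ T → f * f' ∈ T := by
    intro f' hf'
    by_contra hp
    have hmem : ∀ x : E, x ∉ T → x ≠ 1 ∧ x ≠ s ∧ e * x ≠ 1 ∧ e * x ≠ s := by
      intro x hx
      simp only [T, Finset.mem_insert, Finset.mem_singleton, not_or] at hx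
      obtain ⟨h1, h2, h3, h4⟩ := hx
      refine ⟨h1, h2, fun h5 => h4 ?_, fun h5 => h3 ?_⟩
      · have : x = e⁻¹ := (eq_inv_of_mul_eq_one_right h5)
        rw [this, hinv e he1 hes, hcen]
      · have h6 : x = e⁻¹ * s := by rw [← h5, inv_mul_cancel_left]
        rw [h6, hinv e he1 hes, mul_assoc, hs, mul_one]
    obtain ⟨a1, a2, a3, a4⟩ := hmem f hf
    obtain ⟨b1, b2, b3, b4⟩ := hmem f' hf'
    obtain ⟨c1, c2, c3, c4⟩ := hmem _ hp
    have h1 := anti e f he1 hes a1 a2 a3 a4
    have h2 := anti e f' he1 hes b1 b2 b3 b4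
    have h3 := anti e (f * f') he1 hes c1 c2 c3 c4
    have h4 : e * (f * f') = f * f' * e := by
      calc e * (f * f') = (e * f) * f' := by rw [mul_assoc]
        _ = s * (f * (e * f')) := by rw [h1]; simp only [mul_assoc]
        _ = s * (f * (s * (f' * e))) := by rw [h2]
        _ = s * (s * (f * (f' * e))) := by rw [← mul_assoc f s, hcen f, mul_assoc]
        _ = f * f' * e := by rw [← mul_assoc, hs, one_mul, mul_assoc]
    rw [h4] at h3
    exact hs1 (by simpa using h3.symm)
  have hsub : (Finset.univ : Finset E) ⊆ T ∪ T.image (fun x => f⁻¹ * x) := by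
    intro f' _
    by_cases hf' : f' ∈ T
    · exact Finset.mem_union_left _ hf'
    · refine Finset.mem_union_right _ (Finset.mem_image.2 ⟨f * f', key f' hf', ?_⟩)
      rw [inv_mul_cancel_left]
  have h1 := Finset.card_le_card hsub
  have h2 := Finset.card_union_le T (T.image (fun x => f⁻¹ * x))
  have h3 : (T.image (fun x => f⁻¹ * x)).card ≤ T.card := Finset.card_image_le
  omega

section
variable {G Ω : Type*} [Group G] [MulAction G Ω] [Fintype Ω]

/-- An involution normalising a semiregular subgroup inverts it. -/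
theorem OddZ.inverts (h : OddZ G Ω) {A : Subgroup G}
    (hfree : ∀ k ∈ A, ∀ c : Ω, k • c = c → k = 1) {t : G} (ht : t * t = 1) (ht1 : t ≠ 1)
    (hn : ∀ k ∈ A, t * k * t ∈ A) : ∀ k ∈ A, t * k * t = k⁻¹ := by
  classical
  have := h.finite
  obtain ⟨c, hc⟩ := h.inv_fix ht
  let f : A → A := fun k => ⟨(k : G)⁻¹ * (t * k * t), A.mul_mem (A.inv_mem k.2) (hn k k.2)⟩
  have hinj : Function.Injective f := by
    intro k l hkl
    have h1 : (k : G)⁻¹ * (t * k * t) = (l : G)⁻¹ * (t * l * t) := congrArg Subtype.val hkl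
    have h2 : (k : G)⁻¹ * t * k = (l : G)⁻¹ * t * l := by
      have := congrArg (fun x => x * t) h1
      simpa [mul_assoc, ht] using this
    have h3 : ((l : G) * (k : G)⁻¹) * t = t * ((l : G) * (k : G)⁻¹) := by
      have := congrArg (fun x => (l : G) * x * (k : G)⁻¹) h2
      simpa [mul_assoc] using this
    have h4 := h.comm_fix ht ht1 hc h3
    have h5 := hfree _ (A.mul_mem l.2 (A.inv_mem k.2)) c h4
    exact Subtype.ext (mul_inv_eq_one.1 h5).symm
  have hsurj : Function.Surjective f := Finite.surjective_of_injective hinj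
  intro m hm
  obtain ⟨k, hk⟩ := hsurj ⟨m, hm⟩
  have hk' : (k : G)⁻¹ * (t * k * t) = m := congrArg Subtype.val hk
  rw [← hk', mul_inv_rev, mul_inv_rev, mul_inv_rev, inv_inv,
    inv_eq_of_mul_eq_one_left ht]
  have : t * ((k : G)⁻¹ * (t * k * t)) * t = t * (k : G)⁻¹ * t * k * (t * t) := by
    simp only [mul_assoc]
  rw [this, ht, mul_one]
  simp only [mul_assoc]

/-- The counting argument. -/
theorem OddZ.card_le (h : OddZ G Ω) (hexp : ∀ (c : Ω) (g : G), Fr c g → g ^ 4 = 1) {i : ℕ}
    (hi : ∀ c : Ω, Nat.card {w : G // w * w = 1 ∧ w ≠ 1 ∧ w • c = c} ≤ i)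
    {A : Subgroup G} (hfree : ∀ k ∈ A, ∀ c : Ω, k • c = c → k = 1)
    (hreg : ∀ c d : Ω, ∃ k ∈ A, k • c = d) {t : G} (ht : t * t = 1) (ht1 : t ≠ 1)
    (hn : ∀ k ∈ A, t * k * t ∈ A) {c x : Ω} (hx : x ≠ c) : Fintype.card Ω ≤ 8 * i + 1 := by
  classical
  have hfin := h.finite
  have := Fintype.ofFinite G
  have hinv := OddZ.inverts h hfree ht ht1 hn
  have hcomm : ∀ k ∈ A, ∀ l ∈ A, k * l = l * k := by
    intro k hk l hl
    have h1 := hinv _ (A.mul_mem hk hl)
    have h2 : t * (k * l) * t = (t * k * t) * (t * l * t) := by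
      have : (t * k * t) * (t * l * t) = t * k * (t * t) * l * t := by simp only [mul_assoc]
      rw [this, ht]
      simp only [mul_assoc, one_mul]
    rw [h2, hinv k hk, hinv l hl, mul_inv_rev] at h1
    have := congrArg (fun x => x⁻¹) h1
    simpa using this.symm
  have hsq : ∀ k ∈ A, k ≠ 1 → k * k ≠ 1 := by
    intro k hk hk1 hkk
    obtain ⟨e, he⟩ := h.inv_fix hkk
    exact hk1 (hfree k hk e he)
  have hcent : ∀ k ∈ A, k ≠ 1 → ∀ m : G, m * k = k * m → m ∈ A := by
    intro k hk hk1 m hm
    obtain ⟨k', hk', hk'c⟩ := hreg c (m • c)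
    have h1 : (k'⁻¹ * m) • c = c := by rw [mul_smul, ← hk'c, inv_smul_smul]
    have h2 : (k'⁻¹ * m) * k = k * (k'⁻¹ * m) := by
      rw [mul_assoc, hm, ← mul_assoc, hcomm _ (A.inv_mem hk') _ hk, mul_assoc]
    have h3 : k'⁻¹ * m = 1 := by
      have h5 : (k'⁻¹ * m) • (k • c) = k • c := by rw [← mul_smul, h2, mul_smul, h1]
      refine h.three _ c (k • c) (k • k • c) ?_ ?_ ?_ h1 h5 ?_
      · intro h4
        exact hk1 (hfree k hk c h4.symm)
      · intro h4
        exact hk1 (hfree k hk (k • c) h4.symm)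
      · intro h4
        rw [← mul_smul] at h4
        exact hsq k hk hk1 (hfree _ (A.mul_mem hk hk) c h4.symm)
      · rw [← mul_smul, h2, mul_smul, h5]
    have h4 : m = k' := by
      rw [inv_mul_eq_one] at h3
      exact h3.symm
    rw [h4]
    exact hk'
  have hTI : ∀ v : G, ∀ k ∈ A, k ≠ 1 → v * k * v⁻¹ ∈ A → ∀ l ∈ A, v * l * v⁻¹ ∈ A := by
    intro v k hk hk1 hv l hl
    refine hcent _ hv ?_ _ ?_
    · intro h1
      apply hk1
      have : k = v⁻¹ * (v * k * v⁻¹) * v := by group
      rw [this, h1, mul_one, inv_mul_cancel]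
    · have e1 : v * l * v⁻¹ * (v * k * v⁻¹) = v * (l * k) * v⁻¹ := by group
      have e2 : v * k * v⁻¹ * (v * l * v⁻¹) = v * (k * l) * v⁻¹ := by group
      rw [e1, e2, hcomm l hl k hk]
  -- the involution `s` of `tA` fixing `c`
  obtain ⟨k0, hk0, hk0c⟩ := hreg c (t • c)
  obtain ⟨s, hsdef⟩ : ∃ s, s = k0⁻¹ * t := ⟨_, rfl⟩
  have hsc : s • c = c := by rw [hsdef, mul_smul, ← hk0c, inv_smul_smul]
  have hss : s * s = 1 := by
    have h1 := hinv _ (A.inv_mem hk0)
    rw [inv_inv] at h1
    have : s * s = k0⁻¹ * (t * k0⁻¹ * t) := by rw [hsdef]; simp only [mul_assoc]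
    rw [this, h1, inv_mul_cancel]
  have hs1 : s ≠ 1 := by
    intro h1
    obtain ⟨e, he⟩ := h.inv_fix ht
    rw [hsdef, inv_mul_eq_one] at h1
    rw [← h1] at he ht1
    exact ht1 (hfree k0 hk0 e he)
  have hsinv : s⁻¹ = s := inv_eq_of_mul_eq_one_left hss
  have hsA : ∀ l ∈ A, s * l * s = l⁻¹ := by
    intro l hl
    have h1 := hinv _ (A.mul_mem hl (A.inv_mem hk0))
    have : s * l * s = k0⁻¹ * (t * (l * k0⁻¹) * t) := by rw [hsdef]; simp only [mul_assoc]
    rw [this, h1, mul_inv_rev, inv_inv, inv_mul_cancel_left]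
  let K : Subgroup G := Subgroup.centralizer {s}
  have hK : ∀ g : G, g ∈ K ↔ Fr c g := by
    intro g
    rw [OddZ.fr_iff h hx hss hs1 hsc, Subgroup.mem_centralizer_singleton_iff]
  have hKs : ∀ g ∈ K, g * s = s * g := by
    intro g hg
    exact (OddZ.fr_iff h hx hss hs1 hsc g).1 ((hK g).1 hg)
  -- `N` is the degree minus one
  obtain ⟨N, hN⟩ : ∃ N, Fintype.card Ω = N + 1 := by
    have : 0 < Fintype.card Ω := Fintype.card_pos_iff.2 ⟨c⟩
    exact ⟨Fintype.card Ω - 1, by omega⟩
  have hN1 : (Finset.univ.erase c).card = N := by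
    rw [Finset.card_erase_of_mem (Finset.mem_univ c), Finset.card_univ, hN]
    omega
  have hNpos : 0 < N := by
    rw [← hN1]
    exact Finset.card_pos.2 ⟨x, Finset.mem_erase.2 ⟨hx, Finset.mem_univ x⟩⟩
  have hKcard : N ≤ Nat.card K := by
    have hsurj : ∀ y : {y : Ω // y ∈ Finset.univ.erase c}, ∃ u : K, (u : G) • x = y := by
      rintro ⟨y, hy⟩
      obtain ⟨u, hu1, hu2⟩ := h.comm_trans hss hs1 hsc hx (Finset.mem_erase.1 hy).1
      refine ⟨⟨u, ?_⟩, hu2⟩
      rw [hK, OddZ.fr_iff h hx hss hs1 hsc]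
      exact hu1
    choose φ hφ using hsurj
    have hφi : Function.Injective φ := by
      intro y y' hyy
      apply Subtype.ext
      rw [← hφ y, ← hφ y', hyy]
    have h1 := Nat.card_le_card_of_injective φ hφi
    rw [Nat.card_eq_fintype_card (α := {y : Ω // y ∈ Finset.univ.erase c}), Fintype.card_coe, hN1] at h1
    exact h1
  have hAcard : Nat.card A = N + 1 := by
    rw [← hN, ← Nat.card_eq_fintype_card]
    refine Nat.card_congr (Equiv.ofBijective (fun k : A => (k : G) • c) ⟨?_, ?_⟩)
    · intro k l hkl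
      have h1 : ((l : G)⁻¹ * k) • c = c := by
        rw [mul_smul, inv_smul_eq_iff]
        exact hkl
      have h2 := hfree _ (A.mul_mem (A.inv_mem l.2) k.2) c h1
      rw [inv_mul_eq_one] at h2
      exact Subtype.ext h2.symm
    · intro d
      obtain ⟨k, hk, hkd⟩ := hreg c d
      exact ⟨⟨k, hk⟩, hkd⟩
  -- the normaliser of `A` in `K`
  let E : Subgroup G := K ⊓ Subgroup.normalizer (A : Set G)
  have hEA : ∀ v : G, (∀ l ∈ A, v * l * v⁻¹ ∈ A) → v ∈ Subgroup.normalizer (A : Set G) := by
    intro v hv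
    rw [Subgroup.mem_normalizer_iff]
    intro l
    refine ⟨hv l, fun hl => ?_⟩
    -- conjugation by `v` maps `A` into itself, hence onto
    let f : A → A := fun k => ⟨v * k * v⁻¹, hv k k.2⟩
    have hf : Function.Injective f := by
      intro k l hkl
      have h1 : v * (k : G) * v⁻¹ = v * (l : G) * v⁻¹ := congrArg Subtype.val hkl
      exact Subtype.ext (mul_left_cancel (mul_right_cancel h1))
    obtain ⟨k, hk⟩ := (Finite.surjective_of_injective hf) ⟨_, hl⟩
    have h1 : v * (k : G) * v⁻¹ = v * l * v⁻¹ := congrArg Subtype.val hk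
    have h2 : (k : G) = l := mul_left_cancel (mul_right_cancel h1)
    rw [← h2]
    exact k.2
  have hE8 : Nat.card E ≤ 8 := by
    have hsE : s ∈ E := by
      refine Subgroup.mem_inf.2 ⟨?_, hEA s fun l hl => ?_⟩
      · rw [hK, OddZ.fr_iff h hx hss hs1 hsc]
      · rw [hsinv, hsA l hl]
        exact A.inv_mem hl
    refine card_le_eight (E := E) (s := ⟨s, hsE⟩) ?_ ?_ ?_ ?_ ?_
    · intro h1
      exact hs1 (congrArg Subtype.val h1)
    · exact Subtype.ext hss
    · intro e
      exact Subtype.ext (hKs e (Subgroup.mem_inf.1 e.2).1)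
    · rintro ⟨e, he⟩ hee
      obtain ⟨heK, heA⟩ := Subgroup.mem_inf.1 he
      have hee' : e * e = 1 := congrArg Subtype.val hee
      by_cases he1 : e = 1
      · left
        exact Subtype.ext he1
      right
      apply Subtype.ext
      change e = s
      have heinv : e⁻¹ = e := inv_eq_of_mul_eq_one_left hee'
      have h1 : ∀ k ∈ A, e * k * e = k⁻¹ := by
        refine OddZ.inverts h hfree hee' he1 fun k hk => ?_
        have := (Subgroup.mem_normalizer_iff.1 heA k).1 hk
        rwa [heinv] at this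
      obtain ⟨l, hl, hlc⟩ := hreg c x
      have hl1 : l ≠ 1 := by
        rintro rfl
        rw [one_smul] at hlc
        exact hx hlc.symm
      have h2 : (s * e) * l = l * (s * e) := by
        have h3 : e * l = l⁻¹ * e := by
          rw [← h1 l hl, mul_assoc, hee', mul_one]
        have h4 : s * l⁻¹ = l * s := by
          have h8 := hsA _ (A.inv_mem hl)
          rw [inv_inv] at h8
          calc s * l⁻¹ = (s * l⁻¹ * s) * s := by rw [mul_assoc _ s s, hss, mul_one]
            _ = l * s := by rw [h8]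
        rw [mul_assoc, h3, ← mul_assoc, h4, mul_assoc]
      have h5 := hcent l hl hl1 _ h2
      have h6 : (s * e) • c = c := by
        rw [mul_smul, ((hK e).1 heK).1, hsc]
      have h7 := hfree _ h5 c h6
      rw [mul_eq_one_iff_eq_inv, heinv] at h7
      exact h7.symm
    · intro e
      apply Subtype.ext
      exact hexp c _ ((hK _).1 (Subgroup.mem_inf.1 e.2).1)
  -- the involutions moving `c`
  let W : Finset G := Finset.univ.filter fun w => w * w = 1 ∧ w ≠ 1 ∧ w • c ≠ c
  have hWcard : W.card ≤ i * N := by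
    have hch : ∀ w : G, ∃ d : Ω, w * w = 1 → w • d = d := by
      intro w
      by_cases hw : w * w = 1
      · obtain ⟨d, hd⟩ := h.inv_fix hw
        exact ⟨d, fun _ => hd⟩
      · exact ⟨c, fun h1 => absurd h1 hw⟩
    choose p hp using hch
    have h1 : W.card ≤ i * (W.image p).card := by
      apply Finset.card_le_mul_card_image
      intro d _
      refine le_trans ?_ (hi d)
      rw [Nat.card_eq_fintype_card, Fintype.card_subtype]
      apply Finset.card_le_card
      intro w hw
      rw [Finset.mem_filter] at hw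
      obtain ⟨hw1, hw2⟩ := hw
      have hw3 := (Finset.mem_filter.1 hw1).2
      refine Finset.mem_filter.2 ⟨Finset.mem_univ _, hw3.1, hw3.2.1, ?_⟩
      rw [← hw2]
      exact hp w hw3.1
    have h2 : (W.image p).card ≤ N := by
      rw [← hN1]
      apply Finset.card_le_card
      intro d hd
      obtain ⟨w, hw, rfl⟩ := Finset.mem_image.1 hd
      have hw3 := (Finset.mem_filter.1 hw).2
      refine Finset.mem_erase.2 ⟨fun h3 => hw3.2.2 ?_, Finset.mem_univ _⟩
      have := hp w hw3.1
      rwa [h3] at this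
    exact h1.trans (Nat.mul_le_mul_left i h2)
  -- count the pairs `(u, k)`
  let S : Finset (K × A) := Finset.univ.filter fun q => q.2 ≠ 1
  have hScard : N * N ≤ S.card := by
    have h1 : S = (Finset.univ : Finset K) ×ˢ ((Finset.univ : Finset A).erase 1) := by
      ext q
      simp [S]
    rw [h1, Finset.card_product, Finset.card_erase_of_mem (Finset.mem_univ _), Finset.card_univ,
      Finset.card_univ, ← Nat.card_eq_fintype_card, ← Nat.card_eq_fintype_card, hAcard,
      Nat.add_sub_cancel]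
    exact Nat.mul_le_mul_right N hKcard
  let F : K × A → G := fun q => s * ((q.1 : G)⁻¹ * q.2 * q.1)
  have hSE : S.card ≤ Nat.card E * (S.image F).card := by
    apply Finset.card_le_mul_card_image
    intro w hw
    obtain ⟨⟨u, k⟩, huk, rfl⟩ := Finset.mem_image.1 hw
    have hk1 : (k : G) ≠ 1 := fun h1 => (Finset.mem_filter.1 huk).2 (Subtype.ext h1)
    -- map the fibre into `E`
    have hmem : ∀ q ∈ S.filter (fun q => F q = F (u, k)), (q.1 : G) * (u : G)⁻¹ ∈ E ∧
        (q.2 : G) = ((q.1 : G) * (u : G)⁻¹) * k * ((q.1 : G) * (u : G)⁻¹)⁻¹ := by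
      rintro ⟨u', k'⟩ hq
      have h1 : s * ((u' : G)⁻¹ * k' * u') = s * ((u : G)⁻¹ * k * u) := (Finset.mem_filter.1 hq).2
      have h2 := mul_left_cancel h1
      have h3 : (k' : G) = ((u' : G) * (u : G)⁻¹) * k * ((u' : G) * (u : G)⁻¹)⁻¹ := by
        have : (k' : G) = (u' : G) * ((u' : G)⁻¹ * k' * u') * (u' : G)⁻¹ := by group
        rw [this, h2]
        group
      refine ⟨Subgroup.mem_inf.2 ⟨K.mul_mem u'.2 (K.inv_mem u.2), hEA _ ?_⟩, h3⟩
      apply hTI _ k k.2 hk1
      rw [← h3]
      exact k'.2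
    rw [Nat.card_eq_fintype_card, ← Finset.card_univ]
    refine Finset.card_le_card_of_injOn
      (fun q => if hq : (q.1 : G) * (u : G)⁻¹ ∈ E then (⟨_, hq⟩ : E) else 1)
      (fun _ _ => Finset.mem_coe.2 (Finset.mem_univ _)) ?_
    intro q hq q' hq' hqq
    obtain ⟨h1, h2⟩ := hmem q hq
    obtain ⟨h3, h4⟩ := hmem q' hq'
    simp only [dif_pos h1, dif_pos h3] at hqq
    have h5 : (q.1 : G) * (u : G)⁻¹ = (q'.1 : G) * (u : G)⁻¹ := congrArg Subtype.val hqq
    refine Prod.ext (Subtype.ext (mul_right_cancel h5)) (Subtype.ext ?_)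
    rw [h2, h4, h5]
  have himg : (S.image F).card ≤ W.card := by
    apply Finset.card_le_card
    intro w hw
    obtain ⟨⟨u, k⟩, huk, rfl⟩ := Finset.mem_image.1 hw
    have hk1 : (k : G) ≠ 1 := fun h1 => (Finset.mem_filter.1 huk).2 (Subtype.ext h1)
    change s * ((u : G)⁻¹ * k * u) ∈ W
    have hus : (u : G) * s = s * u := hKs u u.2
    have hus' : s * (u : G)⁻¹ = (u : G)⁻¹ * s := by
      have := congrArg (fun x => (u : G)⁻¹ * x * (u : G)⁻¹) hus
      simpa [mul_assoc] using this
    have e1 : s * ((u : G)⁻¹ * k * u) = (u : G)⁻¹ * (s * k) * u := by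
      calc s * ((u : G)⁻¹ * k * u) = (s * (u : G)⁻¹) * k * u := by simp only [mul_assoc]
        _ = _ := by rw [hus']; simp only [mul_assoc]
    have e2 : (s * k) * (s * k) = (1 : G) := by
      have : (s * (k : G)) * (s * k) = (s * k * s) * k := by simp only [mul_assoc]
      rw [this, hsA k k.2, inv_mul_cancel]
    refine Finset.mem_filter.2 ⟨Finset.mem_univ _, ?_, ?_, ?_⟩
    · rw [e1]
      have : (u : G)⁻¹ * (s * k) * u * ((u : G)⁻¹ * (s * k) * u) =
          (u : G)⁻¹ * ((s * k) * (s * k)) * u := by group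
      rw [this, e2, mul_one, inv_mul_cancel]
    · intro h1
      rw [e1] at h1
      have h2 : s * (k : G) = 1 := by
        have : s * (k : G) = (u : G) * ((u : G)⁻¹ * (s * k) * u) * (u : G)⁻¹ := by group
        rw [this, h1, mul_one, mul_inv_cancel]
      have h3 : (k : G) = s := by
        rw [← hsinv]
        exact (inv_eq_of_mul_eq_one_right h2).symm
      apply hk1
      apply hfree k k.2 c
      rw [h3, hsc]
    · intro h1
      rw [mul_smul] at h1
      have h2 : ((u : G)⁻¹ * k * u) • c = c := by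
        have h9 : s • (s • (((u : G)⁻¹ * k * u) • c)) = s • c := by rw [h1]
        rwa [← mul_smul s s, hss, one_smul, hsc] at h9
      have h3 : (k : G) • c = c := by
        have huc : (u : G) • c = c := ((hK u).1 u.2).1
        rw [mul_smul, mul_smul, huc, inv_smul_eq_iff, huc] at h2
        exact h2
      exact hk1 (hfree k k.2 c h3)
  have h1 : N * N ≤ 8 * (i * N) :=
    hScard.trans (hSE.trans (Nat.mul_le_mul hE8 (himg.trans hWcard)))
  have h2 : N ≤ 8 * i := by
    have : N * N ≤ (8 * i) * N := by rw [mul_assoc]; exact h1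
    exact Nat.le_of_mul_le_mul_right this hNpos
  omega

/-- A fixed-point-free element of order three bounds the degree. -/
theorem OddZ.card_le_of_free (h : OddZ G Ω) (hexp : ∀ (c : Ω) (g : G), Fr c g → g ^ 4 = 1) {i : ℕ}
    (hi : ∀ c : Ω, Nat.card {w : G // w * w = 1 ∧ w ≠ 1 ∧ w • c = c} ≤ i)
    {g : G} (hg3 : g ^ 3 = 1) (hg : ∀ c : Ω, g • c ≠ c) {c x : Ω} (hx : x ≠ c) :
    Fintype.card Ω ≤ 8 * i + 1 := by
  classical
  have hfin := h.finite
  have hg3' : g * g * g = 1 := by rw [← hg3]; simp [pow_succ]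
  -- the inverting involutions
  have hex : ∀ c : Ω, ∃ t : G, t * t = 1 ∧ t ≠ 1 ∧ (t * g) * (t * g) = 1 ∧ t * g ≠ 1 ∧
      (t * g) • c = c := by
    intro c
    obtain ⟨t, u, ht, ht1, htc, htgc, htu, hu⟩ := OddZ.cover h (hg c) (one_smul G c) (one_smul G _)
    rw [one_mul] at htu
    have hf : Fr c (t * g) := by rw [htu]; exact hu
    have h4 := hexp c _ hf
    have h3 : (t * (t * g)) ^ 3 = 1 := by
      rw [← mul_assoc, ht, one_mul, hg3]
    refine ⟨t, ht, ht1, ?_, ?_, hf.1⟩
    · by_contra hz1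
      have hz : ((t * g) * (t * g)) * ((t * g) * (t * g)) = 1 := by
        rw [← h4]
        simp [pow_succ, mul_assoc]
      have hzc : ((t * g) * (t * g)) • c = c := by rw [mul_smul, hf.1, hf.1]
      have h5 := OddZ.fix_of_comm h hz hz1 hzc ht (relation ht h4 h3)
      rw [htc] at h5
      exact hg c h5
    · intro h5
      have h6 : g = t := by
        rw [mul_eq_one_iff_eq_inv] at h5
        have := congrArg (fun x => x⁻¹) h5
        rw [inv_inv] at this
        rw [← this]
        exact inv_eq_of_mul_eq_one_left ht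
      rw [← h6] at ht
      rw [ht, one_mul] at hg3'
      exact hg c (by rw [hg3', one_smul])
  choose t ht ht1 htg htg1 htc using hex
  have hinv : ∀ c, t c * g = g⁻¹ * t c := by
    intro c
    have h1 : t c * g = (t c * g)⁻¹ := (eq_inv_of_mul_eq_one_left (htg c))
    rw [h1, mul_inv_rev, inv_eq_of_mul_eq_one_left (ht c)]
  have hinv' : ∀ c, t c * g⁻¹ = g * t c := by
    intro c
    have h1 := hinv c
    have h2 := congrArg (fun x => g * x * g⁻¹) h1
    simp only [mul_assoc, mul_inv_cancel_left, mul_inv_cancel, mul_one] at h2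
    exact h2.symm
  let A : Subgroup G := Subgroup.centralizer {g}
  have hA : ∀ k : G, k ∈ A ↔ k * g = g * k := by
    intro k
    rw [Subgroup.mem_centralizer_singleton_iff]
  have hfree : ∀ k ∈ A, ∀ c : Ω, k • c = c → k = 1 := by
    intro k hk c hkc
    rw [hA] at hk
    have h5 : k • (g • c) = g • c := by rw [← mul_smul, hk, mul_smul, hkc]
    refine h.three k c (g • c) (g • g • c) (Ne.symm (hg c)) (Ne.symm (hg _)) ?_ hkc h5 ?_
    · intro h1
      apply hg c
      have : (g * g * g) • c = c := by rw [hg3', one_smul]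
      rw [mul_assoc, mul_smul, mul_smul, ← h1] at this
      exact this
    · rw [← mul_smul, hk, mul_smul, h5]
  have htt : ∀ c d : Ω, t c * t d ∈ A := by
    intro c d
    rw [hA, mul_assoc, hinv d, ← mul_assoc, hinv' c, mul_assoc]
  have hreg : ∀ c d : Ω, ∃ k ∈ A, k • c = d := by
    intro c d
    have hinj1 : Function.Injective (fun e : Ω => (⟨t c * t e, htt c e⟩ : A)) := by
      intro e e' hee
      have h1 : t c * t e = t c * t e' := congrArg Subtype.val hee
      have h2 : t e = t e' := mul_left_cancel h1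
      have h3 := htc e'
      rw [← h2] at h3
      exact (h.inv_fix_unique (htg e) (htg1 e) (htc e) h3).symm
    have hinj2 : Function.Injective (fun k : A => (k : G) • c) := by
      intro k l hkl
      have h1 : ((l : G)⁻¹ * k) • c = c := by
        rw [mul_smul, inv_smul_eq_iff]
        exact hkl
      have h2 := hfree _ (A.mul_mem (A.inv_mem l.2) k.2) c h1
      rw [inv_mul_eq_one] at h2
      exact Subtype.ext h2.symm
    have hcard : Nat.card A = Nat.card Ω :=
      le_antisymm (Nat.card_le_card_of_injective _ hinj2) (Nat.card_le_card_of_injective _ hinj1)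
    have hsurj : Function.Surjective (fun k : A => (k : G) • c) :=
      ((Nat.bijective_iff_injective_and_card _).2 ⟨hinj2, hcard⟩).2
    obtain ⟨k, hk⟩ := hsurj d
    exact ⟨k, k.2, hk⟩
  refine OddZ.card_le h hexp hi hfree hreg (ht c) (ht1 c) ?_ hx
  intro k hk
  rw [hA] at hk ⊢
  rw [mul_assoc, hinv c, ← mul_assoc, mul_assoc (t c) k g⁻¹]
  have h1 : k * g⁻¹ = g⁻¹ * k := by
    have := congrArg (fun x => g⁻¹ * x * g⁻¹) hk
    simpa [mul_assoc] using this.symm
  rw [h1, ← mul_assoc, hinv' c]
  simp only [mul_assoc]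

end

end Cfsg.Agent.LieExceptional.ZTDegree
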