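import Mathlib
import Cfsg.Prelude.Def_LieExceptional
import Cfsg.Prelude.Def_LieRecognition
import Cfsg.Prelude.Def_Exceptional
import Cfsg.Agent.LieExceptional.ZassenhausOdd
import Cfsg.Agent.CharactersDeep.ZassenhausOdd
import Cfsg.Agent.CharactersDeep.ZassenhausCount
import Cfsg.Agent.CharactersDeep.ZassenhausTransfer

/-!
# ZT: group-level set-up for Zassenhaus groups of odd degree with a 2-group kernel  (helper215)
-/

set_option autoImplicit false

namespace Cfsg.Agent.LieExceptional.ZTSetup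

open Cfsg.Agent.LieExceptional.ZassenhausOdd

/-- The standing data: `B = G_a = U H`, `H = G_{ab}`, `Z = Ω₁(U)`, `t` an involution swapping `a` and `b`. -/
structure ZT (G : Type*) [Group G] (B U H Z : Subgroup G) (t : G) (q : ℕ) : Prop where
  simple : IsSimpleGroup G
  -- orders
  q_eq : ∃ n : ℕ, 2 ≤ n ∧ q = 2 ^ n
  card_Z : Nat.card Z = q
  card_H : Nat.card H = q - 1
  card_U : ∃ k : ℕ, Nat.card U = 2 ^ k
  card_B : Nat.card B = Nat.card U * (q - 1)
  card_G : Nat.card G = (Nat.card U + 1) * Nat.card U * (q - 1)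
  dvd_card : (q - 1) ∣ Nat.card U - 1
  -- subgroups
  U_le : U ≤ B
  H_le : H ≤ B
  Z_le : Z ≤ U
  U_normal : ∀ g ∈ B, ∀ u ∈ U, g * u * g⁻¹ ∈ U
  exists_eq_mul : ∀ g ∈ B, ∃ u ∈ U, ∃ h ∈ H, g = u * h
  U_inf_H : U ⊓ H = ⊥
  U_inf_conj : ∀ g ∉ B, ∀ u ∈ U, u ≠ 1 → g * u * g⁻¹ ∉ B
  -- `U`
  U_nonab : ∃ u ∈ U, ∃ v ∈ U, u * v ≠ v * u
  suzuki : Cfsg.IsSuzukiTwoGroup U
  centralizer_U : ∀ u ∈ U, u ≠ 1 → ∀ g : G, g * u = u * g → g ∈ U
  -- `Z`
  mem_Z : ∀ z : G, z ∈ Z ↔ z ∈ B ∧ z * z = 1
  Z_central : ∀ z ∈ Z, ∀ u ∈ U, u * z = z * u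
  H_regular : ∀ z ∈ Z, z ≠ 1 → ∀ z' ∈ Z, z' ≠ 1 → ∃! h : H, (h : G) * z * (h : G)⁻¹ = z'
  -- involutions
  exists_conj_Z : ∀ s : G, s * s = 1 → ∃ g : G, g * s * g⁻¹ ∈ Z
  card_involutions : Nat.card {s : G // s * s = 1 ∧ s ≠ 1} = (Nat.card U + 1) * (q - 1)
  -- `H`
  H_cyclic : IsCyclic H
  centralizer_H : ∀ h ∈ H, h ≠ 1 → ∀ g : G, g * h = h * g → g ∈ H
  conj_H : ∀ h ∈ H, h ≠ 1 → ∀ g : G, g * h * g⁻¹ ∈ H → g ∈ H ∨ g * t ∈ H
  -- an element of `B` outside `U` is `U`-conjugate to an element of `H`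
  conj_mem_H : ∀ g ∈ B, g ∉ U → ∃ u ∈ U, u * g * u⁻¹ ∈ H
  -- `t`
  t_mul_t : t * t = 1
  t_ne_one : t ≠ 1
  t_not_mem : t ∉ B
  t_inv : ∀ h ∈ H, t * h * t⁻¹ = h⁻¹
  swap_sq : ∀ h ∈ H, (h * t) * (h * t) = 1
  B_inf_conj : ∀ g : G, g ∈ B → t * g * t⁻¹ ∈ B → g ∈ H
  bruhat : ∀ g : G, g ∉ B → ∃ u ∈ U, ∃ b ∈ B, g = u * t * b
  -- number of elements of `G` not conjugate into `B`
  card_free : 2 * Nat.card {g : G // ∀ x : G, x * g * x⁻¹ ∉ B} + Nat.card U * (Nat.card U - 1) = Nat.card G

section odd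

variable {G Ω : Type*} [Group G] [MulAction G Ω] [Fintype Ω]

/-- conjugacy of involutions with control of one moved point -/
theorem conj_trans (h : OddZ G Ω) {s s' : G} {c c' x x' : Ω} (hs : s * s = 1) (hs1 : s ≠ 1)
    (hs' : s' * s' = 1) (hs1' : s' ≠ 1) (hc : s • c = c) (hc' : s' • c' = c')
    (hx : x ≠ c) (hx' : x' ≠ c') :
    ∃ g : G, g * s = s' * g ∧ g • x = x' ∧ g • c = c' := by
  have htx : x ≠ s • x := fun h2 => hx (h.inv_fix_unique hs hs1 hc h2.symm)
  have hty : x' ≠ s' • x' := fun h2 => hx' (h.inv_fix_unique hs' hs1' hc' h2.symm)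
  have httx : s • s • x = x := by rw [← mul_smul, hs, one_smul]
  have htty : s' • s' • x' = x' := by rw [← mul_smul, hs', one_smul]
  obtain ⟨g, hg1, hg2⟩ := h.two htx hty
  have hgy : g⁻¹ • x' = x := by rw [inv_smul_eq_iff, hg1]
  have hgty : g⁻¹ • s' • x' = s • x := by rw [inv_smul_eq_iff, hg2]
  set d := g * s * g⁻¹ * s' with hd
  have hd1 : d • x' = x' := by
    rw [hd, mul_smul, mul_smul, mul_smul, hgty, httx, hg1]
  have hd2 : d • (s' • x') = s' • x' := by
    rw [hd, mul_smul, mul_smul, mul_smul, htty, hgy, hg2]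
  have hdt : (d * s') * (d * s') = 1 := by
    apply h.swap_sq hty
    · rw [mul_smul, hd2]
    · rw [mul_smul, htty, hd1]
  obtain ⟨k, hk⟩ := exists_sqrt (h.odd_order hty hd1 hd2)
  have htinv : s'⁻¹ = s' := inv_eq_of_mul_eq_one_left hs'
  have hinv : s' * d * s'⁻¹ = d⁻¹ := by
    rw [htinv]
    apply eq_inv_of_mul_eq_one_right
    simpa [mul_assoc] using hdt
  have hinvk : s' * d ^ k * s'⁻¹ = (d ^ k)⁻¹ := by
    rw [← conj_pow, hinv, inv_pow]
  have hfix : ∀ n : ℕ, d ^ n • x' = x' := by
    intro n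
    induction n with
    | zero => simp
    | succ n ih => rw [pow_succ, mul_smul, hd1, ih]
  have hcomm : (d ^ k)⁻¹ * g * s = s' * ((d ^ k)⁻¹ * g) := by
    have e1 : g * s = d * s' * g := by
      rw [hd]
      rw [mul_assoc (g * s * g⁻¹), hs', mul_one, inv_mul_cancel_right]
    have e2 : s' * (d ^ k)⁻¹ = d ^ k * s' := by
      rw [← hinvk, htinv]
      rw [← mul_assoc, ← mul_assoc, hs', one_mul]
    calc (d ^ k)⁻¹ * g * s = (d ^ k)⁻¹ * (g * s) := by rw [mul_assoc]
      _ = (d ^ k)⁻¹ * (d ^ k * d ^ k * s' * g) := by rw [e1, hk]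
      _ = d ^ k * s' * g := by group
      _ = s' * (d ^ k)⁻¹ * g := by rw [e2]
      _ = s' * ((d ^ k)⁻¹ * g) := by rw [mul_assoc]
  refine ⟨(d ^ k)⁻¹ * g, hcomm, ?_, ?_⟩
  · rw [mul_smul, hg1, inv_smul_eq_iff, hfix k]
  · apply h.inv_fix_unique hs' hs1' hc'
    rw [← mul_smul, ← hcomm, mul_smul, hc]

variable (h : OddZ G Ω) {a : Ω} {U : Subgroup G} (hUle : U ≤ MulAction.stabilizer G a)
  (hreg : ∀ c d : Ω, c ≠ a → d ≠ a → ∃! u : U, (u : G) • c = d)

include hreg in
omit [Fintype Ω] in
theorem kernel_free {u : G} (hu : u ∈ U) (hu1 : u ≠ 1) {c : Ω} (hc : u • c = c) : c = a := by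
  by_contra hca
  obtain ⟨v, -, hv⟩ := hreg c c hca hca
  have h1 := hv ⟨u, hu⟩ hc
  have h2 := hv 1 (by simp)
  apply hu1
  have := congrArg (fun w : U => (w : G)) (h1.trans h2.symm)
  simpa using this

include h hreg hUle in
/-- an element commuting with an involution fixing `a` is in `U` -/
theorem mem_of_comm {s g : G} (hs : s * s = 1) (hs1 : s ≠ 1) (hsa : s • a = a)
    (hg : g * s = s * g) {b : Ω} (hab : a ≠ b) : g ∈ U := by
  have hga := h.comm_fix hs hs1 hsa hg
  have hgb : g • b ≠ a := by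
    intro h1
    apply hab
    exact smul_left_cancel g (hga.trans h1.symm)
  obtain ⟨u, hu, -⟩ := hreg b (g • b) hab.symm hgb
  have hu : (u : G) • b = g • b := hu
  by_cases hu1 : (u : G) = 1
  · rw [hu1, one_smul] at hu
    have := h.comm_free hs hs1 hsa hg hu.symm hab.symm
    rw [this]
    exact U.one_mem
  have hua : (u : G) • a = a := hUle u.2
  have hus : (u : G) * s = s * u :=
    h.comm_of_free hs hs1 hsa hab.symm hua
      (fun y hy h1 => hy (kernel_free hreg u.2 hu1 h1))
  have hus' : (u : G)⁻¹ * s = s * (u : G)⁻¹ := by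
    rw [inv_mul_eq_iff_eq_mul, ← mul_assoc, hus, mul_inv_cancel_right]
  have h1 : ((u : G)⁻¹ * g) * s = s * ((u : G)⁻¹ * g) := by
    rw [mul_assoc, hg, ← mul_assoc, hus', mul_assoc]
  have h2 : ((u : G)⁻¹ * g) • b = b := by rw [mul_smul, ← hu, inv_smul_smul]
  have h3 := h.comm_free hs hs1 hsa h1 h2 hab.symm
  have h4 : g = u := (inv_mul_eq_one.mp h3).symm
  rw [h4]
  exact u.2

include h hreg hUle in
/-- `U` is the set of elements of `G_a` fixing no further point -/
theorem mem_kernel_iff' {b : Ω} (hab : a ≠ b) {s : G} (hs : s * s = 1) (hs1 : s ≠ 1)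
    (hsa : s • a = a) (g : G) :
    g ∈ U ↔ g • a = a ∧ (g ≠ 1 → ∀ x : Ω, x ≠ a → g • x ≠ x) := by
  constructor
  · intro hg
    exact ⟨hUle hg, fun hg1 x hx h1 => hx (kernel_free hreg hg hg1 h1)⟩
  · rintro ⟨hga, hg⟩
    by_cases hg1 : g = 1
    · rw [hg1]; exact U.one_mem
    · exact mem_of_comm h hUle hreg hs hs1 hsa (h.comm_of_free hs hs1 hsa hab.symm hga (hg hg1)) hab

end odd

/-- from the hypotheses of S0347 / S1147 -/
theorem exists_ZT {G Ω : Type*} [Group G] [Finite G] [MulAction G Ω] [Finite Ω]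
    (hZ : Cfsg.IsZassenhausGroup G Ω) {a b : Ω} (hab : a ≠ b)
    (U : Subgroup G) (hUle : U ≤ MulAction.stabilizer G a)
    (hreg : ∀ c d : Ω, c ≠ a → d ≠ a → ∃! u : U, (u : G) • c = d)
    (hU2 : IsPGroup 2 U) (hUna : ∃ u ∈ U, ∃ v ∈ U, u * v ≠ v * u) :
    Nat.card Ω = Nat.card U + 1 ∧ ∃ (Z : Subgroup G) (t : G) (q : ℕ), ZT G (MulAction.stabilizer G a) U
      (MulAction.stabilizer G a ⊓ MulAction.stabilizer G b) Z t q ∧ t • a = b ∧ t • b = a := by
  classical
  have : Fintype Ω := Fintype.ofFinite Ω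
  -- the degree
  have hdeg : Nat.card Ω = Nat.card U + 1 := by
    have e : U ≃ {x : Ω // x ≠ a} :=
      Equiv.ofBijective (fun u => ⟨(u : G) • b, by
        intro h1
        have h2 : (u : G) • a = a := hUle u.2
        exact hab (smul_left_cancel (u : G) (h2.trans h1.symm))⟩)
        ⟨by
          intro u v huv
          have h1 : (u : G) • b = (v : G) • b := congrArg Subtype.val huv
          have hvb : (v : G) • b ≠ a := by
            intro h1
            have h2 : (v : G) • a = a := hUle v.2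
            exact hab (smul_left_cancel (v : G) (h2.trans h1.symm))
          exact (hreg b ((v : G) • b) hab.symm hvb).unique h1 rfl, by
          rintro ⟨x, hx⟩
          obtain ⟨u, hu, -⟩ := hreg b x hab.symm hx
          exact ⟨u, Subtype.ext hu⟩⟩
    rw [Nat.card_congr e, Nat.card_eq_fintype_card, Nat.card_eq_fintype_card,
      Fintype.card_subtype_compl (fun x => x = a)]
    simp only [Fintype.card_subtype_eq]
    have : 0 < Fintype.card Ω := Fintype.card_pos_iff.mpr ⟨a⟩
    omega
  refine ⟨hdeg, ?_⟩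
  obtain ⟨k, hk⟩ := (IsPGroup.iff_card).mp hU2
  have hk1 : 1 ≤ k := by
    rcases Nat.eq_zero_or_pos k with h0 | h0
    · exfalso
      rw [h0, pow_zero] at hk
      have hb : U = ⊥ := Subgroup.card_eq_one.mp hk
      obtain ⟨u, hu, v, hv, huv⟩ := hUna
      rw [hb, Subgroup.mem_bot] at hu hv
      rw [hu, hv] at huv
      exact huv rfl
    · exact h0
  have heven : 2 ∣ Nat.card U := by rw [hk]; exact dvd_pow_self 2 (by omega)
  have h : OddZ G Ω :=
    { faithful := hZ.1
      two := fun {a b c d} h1 h1' => MulAction.is_two_pretransitive_iff.mp hZ.2.1 h1 h1'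
      three := hZ.2.2.1
      odd := by
        rw [← Nat.card_eq_fintype_card, hdeg]
        exact (even_iff_two_dvd.mpr heven).add_one }
  obtain ⟨-, -, -, ⟨g0, hg01, a0, b0, hab0, hga0, hgb0⟩, -⟩ := id hZ
  set B := MulAction.stabilizer G a with hB
  set H := MulAction.stabilizer G a ⊓ MulAction.stabilizer G b with hH
  have hmemB : ∀ g : G, g ∈ B ↔ g • a = a := fun g => Iff.rfl
  have hmemH : ∀ g : G, g ∈ H ↔ g • a = a ∧ g • b = b := fun g => Iff.rfl
  have htr : ∀ c d : Ω, ∃ g : G, g • c = d := by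
    intro c d
    have := hZ.2.1
    have : MulAction.IsPretransitive G Ω := MulAction.isPretransitive_of_is_two_pretransitive
    exact MulAction.exists_smul_eq G c d
  -- the swapping involution
  obtain ⟨t, hta, htb⟩ := h.two hab hab.symm
  have htt : t * t = 1 := h.swap_sq hab hta htb
  have ht1 : t ≠ 1 := by
    rintro rfl
    rw [one_smul] at hta
    exact hab hta
  have htinv : t⁻¹ = t := inv_eq_of_mul_eq_one_left htt
  -- an involution fixing `a`
  obtain ⟨s, hss, hs1, hsa⟩ : ∃ s : G, s * s = 1 ∧ s ≠ 1 ∧ s • a = a := by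
    obtain ⟨p, hp⟩ := h.inv_fix htt
    obtain ⟨m, hmp⟩ := htr p a
    have hmp' : m⁻¹ • a = p := by rw [inv_smul_eq_iff, hmp]
    refine ⟨m * t * m⁻¹, ?_, ?_, ?_⟩
    · have : m * t * m⁻¹ * (m * t * m⁻¹) = m * (t * t) * m⁻¹ := by group
      rw [this, htt, mul_one, mul_inv_cancel]
    · intro h1
      apply ht1
      have := congrArg (fun w => m⁻¹ * w * m) h1
      simpa [mul_assoc] using this
    · rw [mul_smul, mul_smul, hmp', hp, hmp]
  have hmemU : ∀ g : G, g ∈ U ↔ g • a = a ∧ (g ≠ 1 → ∀ x : Ω, x ≠ a → g • x ≠ x) :=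
    fun g => mem_kernel_iff' h hUle hreg hab hss hs1 hsa g
  -- `H`
  have hHswap : ∀ x ∈ H, (x * t) * (x * t) = 1 := by
    intro x hx
    apply h.swap_sq hab
    · rw [mul_smul, hta, hx.2]
    · rw [mul_smul, htb, hx.1]
  have hHinv : ∀ x ∈ H, t * x * t⁻¹ = x⁻¹ := by
    intro x hx
    rw [htinv]
    apply eq_inv_of_mul_eq_one_right
    have := hHswap x hx
    simpa [mul_assoc] using this
  have hHsq : ∀ x ∈ H, x * x = 1 → x = 1 := by
    intro x hx hxx
    by_contra hx1
    exact hab (h.inv_fix_unique hxx hx1 hx.1 hx.2).symm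
  have hoddH : Odd (Nat.card H) := by
    rw [← Nat.not_even_iff_odd, even_iff_two_dvd]
    intro h2
    obtain ⟨x, hx⟩ := exists_prime_orderOf_dvd_card' (p := 2) h2
    have hx2 : x ^ 2 = 1 := by rw [← hx]; exact pow_orderOf_eq_one x
    have : x = 1 := by
      apply Subtype.ext
      apply hHsq x x.2
      have := congrArg (fun w : H => (w : G)) hx2
      simpa [pow_two] using this
    rw [this, orderOf_one] at hx
    omega
  have hsimple : IsSimpleGroup G := h.simple hab0 hg01 hga0 hgb0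
  have hcyc : IsCyclic H :=
    Cfsg.Agent.CharactersDeep.ZassenhausOdd.isCyclic_two_point hZ hab hoddH
  -- `Z`
  let Z : Subgroup G :=
    { carrier := {z | z • a = a ∧ z * z = 1}
      one_mem' := ⟨one_smul _ _, one_mul _⟩
      mul_mem' := by
        rintro x y ⟨hxa, hxx⟩ ⟨hya, hyy⟩
        refine ⟨by rw [mul_smul, hya, hxa], ?_⟩
        by_cases hx1 : x = 1
        · rw [hx1, one_mul]; exact hyy
        by_cases hy1 : y = 1
        · rw [hy1, mul_one]; exact hxx
        have hcomm : y * x = x * y := h.inv_comm hxx hx1 hxa hyy hy1 hya b hab.symm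
        calc x * y * (x * y) = x * (y * x) * y := by group
          _ = x * (x * y) * y := by rw [hcomm]
          _ = (x * x) * (y * y) := by group
          _ = 1 := by rw [hxx, hyy, one_mul]
      inv_mem' := by
        rintro x ⟨hxa, hxx⟩
        refine ⟨by rw [inv_smul_eq_iff, hxa], ?_⟩
        rw [← mul_inv_rev, hxx, inv_one] }
  have hmemZ : ∀ z : G, z ∈ Z ↔ z ∈ B ∧ z * z = 1 := fun z => Iff.rfl
  have hZU : Z ≤ U := by
    rintro z ⟨hza, hzz⟩
    by_cases hz1 : z = 1
    · rw [hz1]; exact U.one_mem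
    · exact mem_of_comm h hUle hreg hzz hz1 hza rfl hab
  have hcentral : ∀ z ∈ Z, ∀ u ∈ U, u * z = z * u := by
    rintro z ⟨hza, hzz⟩ u hu
    by_cases hz1 : z = 1
    · rw [hz1, one_mul, mul_one]
    by_cases hu1 : u = 1
    · rw [hu1, one_mul, mul_one]
    exact h.comm_of_free hzz hz1 hza hab.symm (hUle hu)
      (fun y hy h1 => hy (kernel_free hreg hu hu1 h1))
  have hregH : ∀ z ∈ Z, z ≠ 1 → ∀ z' ∈ Z, z' ≠ 1 → ∃! x : H, (x : G) * z * (x : G)⁻¹ = z' := by
    rintro z ⟨hza, hzz⟩ hz1 z' ⟨hza', hzz'⟩ hz1'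
    obtain ⟨g, hg, hgb, hga⟩ := conj_trans h hzz hz1 hzz' hz1' hza hza' hab.symm hab.symm
    refine ⟨⟨g, hga, hgb⟩, ?_, ?_⟩
    · change g * z * g⁻¹ = z'
      rw [hg, mul_inv_cancel_right]
    · rintro ⟨x, hxa, hxb⟩ hx
      have hx : x * z * x⁻¹ = z' := hx
      apply Subtype.ext
      change x = g
      have h1 : g⁻¹ * x * z = z * (g⁻¹ * x) := by
        have e1 : x * z = z' * x := by rw [← hx, inv_mul_cancel_right]
        calc g⁻¹ * x * z = g⁻¹ * (x * z) := by rw [mul_assoc]
          _ = g⁻¹ * (z' * x) := by rw [e1]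
          _ = g⁻¹ * (z' * g) * (g⁻¹ * x) := by group
          _ = g⁻¹ * (g * z) * (g⁻¹ * x) := by rw [hg]
          _ = z * (g⁻¹ * x) := by group
      have h2 : (g⁻¹ * x) • b = b := by
        have : x • b = b := hxb
        rw [mul_smul, this, inv_smul_eq_iff, hgb]
      have h3 := h.comm_free hzz hz1 hza h1 h2 hab.symm
      exact (inv_mul_eq_one.mp h3).symm
  have hsZ : s ∈ Z := ⟨hsa, hss⟩
  -- nontriviality of `H`
  have hHne : ∃ x ∈ H, x ≠ 1 := by
    obtain ⟨g, hg1, hg2⟩ := h.two hab0 hab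
    refine ⟨g * g0 * g⁻¹, ⟨?_, ?_⟩, ?_⟩
    · change (g * g0 * g⁻¹) • a = a
      rw [mul_smul, mul_smul, inv_smul_eq_iff.mpr hg1.symm, hga0, hg1]
    · change (g * g0 * g⁻¹) • b = b
      rw [mul_smul, mul_smul, inv_smul_eq_iff.mpr hg2.symm, hgb0, hg2]
    · intro h1
      apply hg01
      have := congrArg (fun w => g⁻¹ * w * g) h1
      simpa [mul_assoc] using this
  -- cardinality of `H`
  have hcardHZ : Nat.card H = Nat.card Z - 1 := by
    have e : H ≃ {z : Z // z ≠ 1} := by
      refine Equiv.ofBijective (fun x => ⟨⟨(x : G) * s * (x : G)⁻¹, ?_, ?_⟩, ?_⟩) ⟨?_, ?_⟩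
      · have hxa : (x : G) • a = a := x.2.1
        change ((x : G) * s * (x : G)⁻¹) • a = a
        rw [mul_smul, mul_smul, inv_smul_eq_iff.mpr hxa.symm, hsa, hxa]
      · have : (x : G) * s * (x : G)⁻¹ * ((x : G) * s * (x : G)⁻¹) = (x : G) * (s * s) * (x : G)⁻¹ := by
          group
        rw [this, hss, mul_one, mul_inv_cancel]
      · intro h1
        apply hs1
        have h2 : (x : G) * s * (x : G)⁻¹ = 1 := congrArg Subtype.val h1
        have := congrArg (fun w => (x : G)⁻¹ * w * x) h2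
        simpa [mul_assoc] using this
      · intro x y hxy
        have h1 : (x : G) * s * (x : G)⁻¹ = (y : G) * s * (y : G)⁻¹ :=
          congrArg (fun w : {z : Z // z ≠ 1} => ((w : Z) : G)) hxy
        have hyZ : (y : G) * s * (y : G)⁻¹ ∈ Z := by
          refine ⟨?_, ?_⟩
          · have hxa : (y : G) • a = a := y.2.1
            change ((y : G) * s * (y : G)⁻¹) • a = a
            rw [mul_smul, mul_smul, inv_smul_eq_iff.mpr hxa.symm, hsa, hxa]
          · have : (y : G) * s * (y : G)⁻¹ * ((y : G) * s * (y : G)⁻¹) = (y : G) * (s * s) * (y : G)⁻¹ := by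
              group
            rw [this, hss, mul_one, mul_inv_cancel]
        have hy1 : (y : G) * s * (y : G)⁻¹ ≠ 1 := by
          intro h2
          apply hs1
          have := congrArg (fun w => (y : G)⁻¹ * w * y) h2
          simpa [mul_assoc] using this
        exact (hregH s hsZ hs1 _ hyZ hy1).unique h1 rfl
      · rintro ⟨⟨z, hz⟩, hz1⟩
        have hz1' : z ≠ 1 := fun h1 => hz1 (Subtype.ext h1)
        obtain ⟨x, hx, -⟩ := hregH s hsZ hs1 z hz hz1'
        exact ⟨x, Subtype.ext (Subtype.ext hx)⟩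
    rw [Nat.card_congr e]
    have := Fintype.ofFinite Z
    rw [Nat.card_eq_fintype_card, Nat.card_eq_fintype_card, Fintype.card_subtype_compl (fun x => x = 1)]
    simp only [Fintype.card_subtype_eq]
  -- the prime power
  obtain ⟨n, hn⟩ := (IsPGroup.iff_card).mp (hU2.to_le hZU)
  have hn2 : 2 ≤ n := by
    have h1 : 2 ≤ Nat.card H := by
      obtain ⟨x, hx, hx1⟩ := hHne
      have : Nontrivial H := ⟨⟨x, hx⟩, 1, fun h1 => hx1 (congrArg Subtype.val h1)⟩
      exact Finite.one_lt_card
    have h2 : 3 ≤ Nat.card H := by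
      rcases hoddH with ⟨m, hm⟩
      omega
    rw [hcardHZ, hn] at h2
    rcases Nat.lt_or_ge n 2 with h3 | h3
    · interval_cases n <;> omega
    · exact h3
  -- order of `G` and `B`
  have hcardG : Nat.card G = (Nat.card U + 1) * Nat.card U * (Nat.card Z - 1) := by
    rw [Cfsg.Agent.CharactersDeep.ZassenhausCount.card_eq hZ hab, hdeg, ← hcardHZ]
    simp [hH]
  have hcardB : Nat.card B = Nat.card U * (Nat.card Z - 1) := by
    have h1 : Nat.card B * B.index = Nat.card G := B.card_mul_index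
    have h2 : B.index = Nat.card Ω := by
      have := hZ.2.1
      have : MulAction.IsPretransitive G Ω := MulAction.isPretransitive_of_is_two_pretransitive
      exact MulAction.index_stabilizer_of_transitive G a
    rw [h2, hdeg, hcardG] at h1
    have h3 : 0 < Nat.card U + 1 := by omega
    apply Nat.eq_of_mul_eq_mul_right h3
    rw [h1]; ring
  have hHB : H ≤ B := inf_le_left
  have hUnorm : ∀ g ∈ B, ∀ u ∈ U, g * u * g⁻¹ ∈ U := by
    intro g hg u hu
    have hga : g • a = a := hg
    have hga' : g⁻¹ • a = a := inv_smul_eq_iff.mpr hga.symm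
    rw [hmemU] at hu ⊢
    refine ⟨by rw [mul_smul, mul_smul, hga', hu.1, hga], ?_⟩
    intro h1 x hx h2
    have hu1 : u ≠ 1 := by
      rintro rfl
      apply h1; group
    have hx' : g⁻¹ • x ≠ a := by
      intro h3
      apply hx
      rw [← hga', smul_left_cancel_iff] at h3
      exact h3
    apply hu.2 hu1 (g⁻¹ • x) hx'
    rw [mul_smul, mul_smul] at h2
    rw [eq_inv_smul_iff]
    exact h2
  have hfac : ∀ g ∈ B, ∃ u ∈ U, ∃ x ∈ H, g = u * x := by
    intro g hg
    have hga : g • a = a := hg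
    have hgb : g • b ≠ a := by
      intro h1
      apply hab
      exact smul_left_cancel g (hga.trans h1.symm)
    obtain ⟨u, hu, -⟩ := hreg b (g • b) hab.symm hgb
    have hu : (u : G) • b = g • b := hu
    have hua : (u : G) • a = a := hUle u.2
    refine ⟨u, u.2, (u : G)⁻¹ * g, ⟨?_, ?_⟩, by group⟩
    · change ((u : G)⁻¹ * g) • a = a
      rw [mul_smul, hga, inv_smul_eq_iff, hua]
    · change ((u : G)⁻¹ * g) • b = b
      rw [mul_smul, ← hu, inv_smul_smul]
  have hconjH : ∀ x ∈ H, x ≠ 1 → ∀ g : G, g * x * g⁻¹ ∈ H → g ∈ H ∨ g * t ∈ H := by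
    intro x hx hx1 g hg
    have hxfix : ∀ y : Ω, x • y = y → y = a ∨ y = b := by
      intro y hy
      by_contra hne
      push Not at hne
      exact hx1 (h.three x a b y hab hne.2.symm hne.1.symm hx.1 hx.2 hy)
    have h1 : x • (g⁻¹ • a) = g⁻¹ • a := by
      have : (g * x * g⁻¹) • a = a := hg.1
      rw [mul_smul, mul_smul] at this
      rw [eq_inv_smul_iff]; exact this
    have h2 : x • (g⁻¹ • b) = g⁻¹ • b := by
      have : (g * x * g⁻¹) • b = b := hg.2
      rw [mul_smul, mul_smul] at this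
      rw [eq_inv_smul_iff]; exact this
    rcases hxfix _ h1 with h3 | h3
    · left
      rcases hxfix _ h2 with h4 | h4
      · exfalso
        apply hab
        exact smul_left_cancel g⁻¹ (h3.trans h4.symm)
      · exact ⟨(inv_smul_eq_iff.mp h3).symm, (inv_smul_eq_iff.mp h4).symm⟩
    · right
      rcases hxfix _ h2 with h4 | h4
      · refine ⟨?_, ?_⟩
        · change (g * t) • a = a
          rw [mul_smul, hta]
          rw [inv_smul_eq_iff] at h3
          exact h3.symm
        · change (g * t) • b = b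
          rw [mul_smul, htb]
          rw [inv_smul_eq_iff] at h4
          exact h4.symm
      · exfalso
        apply hab
        exact smul_left_cancel g⁻¹ (h3.trans h4.symm)
  have hcentU : ∀ u ∈ U, u ≠ 1 → ∀ g : G, g * u = u * g → g ∈ U := by
    intro u hu hu1 g hg
    have hua : u • a = a := hUle hu
    have hga : g • a = a := by
      apply kernel_free hreg hu hu1
      rw [← mul_smul, ← hg, mul_smul, hua]
    rw [hmemU]
    refine ⟨hga, ?_⟩
    intro hg1 x hx hgx
    have hux : u • x ≠ x := fun h1 => hx (kernel_free hreg hu hu1 h1)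
    have hux' : u • x ≠ a := by
      intro h1
      apply hx
      exact smul_left_cancel u (h1.trans hua.symm)
    apply hg1
    refine h.three g a x (u • x) hx.symm hux.symm hux'.symm hga hgx ?_
    rw [← mul_smul, hg, mul_smul, hgx]
  -- `U` is a Suzuki 2-group
  let φ : H →* MulAut U :=
    { toFun := fun x =>
        { toFun := fun u => ⟨(x : G) * u * (x : G)⁻¹, hUnorm x (hHB x.2) u u.2⟩
          invFun := fun u => ⟨(x : G)⁻¹ * u * (x : G), by
            have := hUnorm (x : G)⁻¹ (B.inv_mem (hHB x.2)) u u.2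
            rwa [inv_inv] at this⟩
          left_inv := fun u => Subtype.ext (by simp [mul_assoc])
          right_inv := fun u => Subtype.ext (by simp [mul_assoc])
          map_mul' := fun u v => Subtype.ext (by simp [mul_assoc]) }
      map_one' := by
        ext u
        simp
      map_mul' := fun x y => by
        ext u
        simp [mul_assoc] }
  have hφ : ∀ (x : H) (u : U), ((φ x u : U) : G) = (x : G) * u * (x : G)⁻¹ := fun _ _ => rfl
  have hsuz : Cfsg.IsSuzukiTwoGroup U := by
    refine ⟨inferInstance, hU2, ?_, ?_, φ.range, ?_, ?_⟩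
    · obtain ⟨u, hu, v, hv, huv⟩ := hUna
      exact ⟨⟨u, hu⟩, ⟨v, hv⟩, fun h1 => huv (congrArg Subtype.val h1)⟩
    · obtain ⟨x, hx, hx1⟩ := hHne
      have hxs : x * s * x⁻¹ ∈ Z := by
        refine ⟨?_, ?_⟩
        · change (x * s * x⁻¹) • a = a
          rw [mul_smul, mul_smul, inv_smul_eq_iff.mpr hx.1.symm, hsa, hx.1]
        · have : x * s * x⁻¹ * (x * s * x⁻¹) = x * (s * s) * x⁻¹ := by group
          rw [this, hss, mul_one, mul_inv_cancel]
      have hxs1 : x * s * x⁻¹ ≠ 1 := by
        intro h1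
        apply hs1
        have := congrArg (fun w => x⁻¹ * w * x) h1
        simpa [mul_assoc] using this
      refine ⟨⟨s, hZU hsZ⟩, ⟨x * s * x⁻¹, hZU hxs⟩, ?_, ?_, ?_, ?_, ?_⟩
      · intro h1
        have h2 : s = x * s * x⁻¹ := congrArg Subtype.val h1
        have h3 := (hregH s hsZ hs1 s hsZ hs1).unique (y₁ := ⟨x, hx⟩) (y₂ := 1) h2.symm (by simp)
        exact hx1 (congrArg Subtype.val h3)
      · exact fun h1 => hs1 (congrArg Subtype.val h1)
      · exact Subtype.ext hss
      · exact fun h1 => hxs1 (congrArg Subtype.val h1)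
      · exact Subtype.ext hxs.2
    · exact isCyclic_of_surjective φ.rangeRestrict φ.rangeRestrict_surjective
    · intro x y hx1 hxx hy1 hyy
      have hxZ : (x : G) ∈ Z := ⟨hUle x.2, congrArg Subtype.val hxx⟩
      have hyZ : (y : G) ∈ Z := ⟨hUle y.2, congrArg Subtype.val hyy⟩
      have hx1' : (x : G) ≠ 1 := fun h1 => hx1 (Subtype.ext h1)
      have hy1' : (y : G) ≠ 1 := fun h1 => hy1 (Subtype.ext h1)
      obtain ⟨w, hw, hw'⟩ := hregH x hxZ hx1' y hyZ hy1'
      refine ⟨⟨φ w, w, rfl⟩, Subtype.ext hw, ?_⟩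
      rintro ⟨_, w', rfl⟩ hw2
      have h1 : (w' : G) * x * (w' : G)⁻¹ = y := congrArg (fun v : U => (v : G)) hw2
      have h2 := hw' w' h1
      rw [h2]
  have hinvfix : ∀ s : G, s * s = 1 → ∃ g : G, g * s * g⁻¹ ∈ Z := by
    intro s hs
    obtain ⟨c, hc⟩ := h.inv_fix hs
    obtain ⟨g, hg⟩ := htr c a
    refine ⟨g, ?_, ?_⟩
    · change (g * s * g⁻¹) • a = a
      rw [mul_smul, mul_smul, inv_smul_eq_iff.mpr hg.symm, hc, hg]
    · have : g * s * g⁻¹ * (g * s * g⁻¹) = g * (s * s) * g⁻¹ := by group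
      rw [this, hs, mul_one, mul_inv_cancel]
  have hcardinv : Nat.card {s : G // s * s = 1 ∧ s ≠ 1} = (Nat.card U + 1) * (Nat.card Z - 1) := by
    choose γ hγ using fun c : Ω => htr a c
    have e : Ω × {z : Z // z ≠ 1} ≃ {s : G // s * s = 1 ∧ s ≠ 1} := by
      refine Equiv.ofBijective
        (fun p => ⟨γ p.1 * ((p.2 : Z) : G) * (γ p.1)⁻¹, ?_, ?_⟩) ⟨?_, ?_⟩
      · have : γ p.1 * ((p.2 : Z) : G) * (γ p.1)⁻¹ * (γ p.1 * ((p.2 : Z) : G) * (γ p.1)⁻¹) =
            γ p.1 * (((p.2 : Z) : G) * ((p.2 : Z) : G)) * (γ p.1)⁻¹ := by group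
        rw [this, (p.2 : Z).2.2, mul_one, mul_inv_cancel]
      · intro h1
        apply p.2.2
        apply Subtype.ext
        have := congrArg (fun w => (γ p.1)⁻¹ * w * γ p.1) h1
        simpa [mul_assoc] using this
      · rintro ⟨c, z, hz⟩ ⟨c', z', hz'⟩ heq
        have h1 : γ c * (z : G) * (γ c)⁻¹ = γ c' * (z' : G) * (γ c')⁻¹ := congrArg Subtype.val heq
        have hz1 : (z : G) ≠ 1 := fun h1 => hz (Subtype.ext h1)
        have f1 : (γ c * (z : G) * (γ c)⁻¹) • c = c := by
          have hza : (z : G) • a = a := z.2.1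
          rw [mul_smul, mul_smul, inv_smul_eq_iff.mpr (hγ c).symm, hza, hγ c]
        have f2 : (γ c * (z : G) * (γ c)⁻¹) • c' = c' := by
          have hza : (z' : G) • a = a := z'.2.1
          rw [h1, mul_smul, mul_smul, inv_smul_eq_iff.mpr (hγ c').symm, hza, hγ c']
        have hcc : c' = c := by
          apply h.inv_fix_unique _ _ f1 f2
          · have : γ c * (z : G) * (γ c)⁻¹ * (γ c * (z : G) * (γ c)⁻¹) =
              γ c * ((z : G) * (z : G)) * (γ c)⁻¹ := by group
            rw [this, z.2.2, mul_one, mul_inv_cancel]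
          · intro h2
            apply hz1
            have := congrArg (fun w => (γ c)⁻¹ * w * γ c) h2
            simpa [mul_assoc] using this
        subst hcc
        have h3 : (z : G) = z' := by
          have := congrArg (fun w => (γ c')⁻¹ * w * γ c') h1
          simpa [mul_assoc] using this
        have h4 : z = z' := Subtype.ext h3
        subst h4
        rfl
      · rintro ⟨s, hs, hs1⟩
        obtain ⟨c, hc⟩ := h.inv_fix hs
        refine ⟨(c, ⟨⟨(γ c)⁻¹ * s * γ c, ?_, ?_⟩, ?_⟩), ?_⟩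
        · change ((γ c)⁻¹ * s * γ c) • a = a
          rw [mul_smul, mul_smul, hγ c, hc, inv_smul_eq_iff, hγ c]
        · have : (γ c)⁻¹ * s * γ c * ((γ c)⁻¹ * s * γ c) = (γ c)⁻¹ * (s * s) * γ c := by group
          rw [this, hs, mul_one, inv_mul_cancel]
        · intro h1
          apply hs1
          have h2 : (γ c)⁻¹ * s * γ c = 1 := congrArg Subtype.val h1
          have := congrArg (fun w => γ c * w * (γ c)⁻¹) h2
          simpa [mul_assoc] using this
        · apply Subtype.ext
          simp [mul_assoc]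
    have hcz : Nat.card {z : Z // z ≠ 1} = Nat.card Z - 1 := by
      have := Fintype.ofFinite Z
      rw [Nat.card_eq_fintype_card, Nat.card_eq_fintype_card,
        Fintype.card_subtype_compl (fun x => x = 1)]
      simp only [Fintype.card_subtype_eq]
    rw [← Nat.card_congr e, Nat.card_prod, hdeg, hcz]
  have hcardfree : 2 * Nat.card {g : G // ∀ x : G, x * g * x⁻¹ ∉ B} +
      Nat.card U * (Nat.card U - 1) = Nat.card G := by
    have h1 := Cfsg.Agent.CharactersDeep.ZassenhausCount.two_mul_card_fixedPointFree hZ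
    have e : {g : G // ∀ x : G, x * g * x⁻¹ ∉ B} ≃ {g : G // ∀ c : Ω, g • c ≠ c} := by
      apply Equiv.subtypeEquivRight
      intro g
      constructor
      · intro hg c hc
        obtain ⟨x, hx⟩ := htr c a
        apply hg x
        change (x * g * x⁻¹) • a = a
        rw [mul_smul, mul_smul, inv_smul_eq_iff.mpr hx.symm, hc, hx]
      · intro hg x hx
        have hx : (x * g * x⁻¹) • a = a := hx
        apply hg (x⁻¹ • a)
        rw [mul_smul, mul_smul] at hx
        rw [eq_inv_smul_iff]; exact hx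
    rw [Nat.card_congr e]
    rw [hdeg] at h1
    have e2 : Nat.card U + 1 - 1 = Nat.card U := by omega
    have e3 : Nat.card U + 1 - 2 = Nat.card U - 1 := by omega
    rw [e2, e3] at h1
    exact h1
  have hdvd : (Nat.card Z - 1) ∣ Nat.card U - 1 := by
    have h1 := Cfsg.Agent.CharactersDeep.ZassenhausTransfer.two_point_card_dvd hZ hab
    rw [hdeg] at h1
    have e3 : Nat.card U + 1 - 2 = Nat.card U - 1 := by omega
    rw [e3] at h1
    rw [← hcardHZ]
    exact h1
  refine ⟨Z, t, Nat.card Z, ?_, hta, htb⟩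
  exact
    { simple := hsimple
      q_eq := ⟨n, hn2, hn⟩
      card_Z := rfl
      card_H := hcardHZ
      card_U := ⟨k, hk⟩
      card_B := hcardB
      card_G := hcardG
      dvd_card := hdvd
      U_le := hUle
      H_le := hHB
      Z_le := hZU
      U_normal := hUnorm
      exists_eq_mul := hfac
      U_inf_H := by
        rw [Subgroup.eq_bot_iff_forall]
        rintro x ⟨hxU, hxH⟩
        by_contra hx1
        exact hab (kernel_free hreg hxU hx1 hxH.2).symm
      U_inf_conj := by
        intro g hg u hu hu1 h1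
        apply hg
        have h2 : (g * u * g⁻¹) • a = a := h1
        have h3 : u • (g⁻¹ • a) = g⁻¹ • a := by
          rw [mul_smul, mul_smul] at h2
          rw [eq_inv_smul_iff]; exact h2
        have h4 := kernel_free hreg hu hu1 h3
        exact (inv_smul_eq_iff.mp h4).symm
      U_nonab := hUna
      suzuki := hsuz
      centralizer_U := hcentU
      mem_Z := hmemZ
      Z_central := hcentral
      H_regular := hregH
      exists_conj_Z := hinvfix
      card_involutions := hcardinv
      H_cyclic := hcyc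
      centralizer_H := by
        intro x hx hx1 g hg
        have hcomm : ∀ y ∈ H, ∀ z ∈ H, y * z = z * y := by
          intro y hy z hz
          have := hcyc.commGroup.mul_comm (⟨y, hy⟩ : H) ⟨z, hz⟩
          exact congrArg Subtype.val this
        have h1 : g * x * g⁻¹ ∈ H := by rw [hg, mul_inv_cancel_right]; exact hx
        rcases hconjH x hx hx1 g h1 with h2 | h2
        · exact h2
        · exfalso
          have h3 : (g * t) * x = x * (g * t) := hcomm _ h2 _ hx
          have h4 : t * x * t⁻¹ = x := by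
            have h5 : g * (t * x) = g * (x * t) := by
              calc g * (t * x) = (g * t) * x := by rw [mul_assoc]
                _ = x * (g * t) := h3
                _ = (x * g) * t := by rw [mul_assoc]
                _ = (g * x) * t := by rw [hg]
                _ = g * (x * t) := by rw [mul_assoc]
            rw [mul_left_cancel h5, mul_inv_cancel_right]
          rw [hHinv x hx] at h4
          apply hx1
          apply hHsq x hx
          calc x * x = x⁻¹ * x := by rw [h4]
            _ = 1 := inv_mul_cancel x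
      conj_H := hconjH
      conj_mem_H := by
        intro g hg hgU
        have hga : g • a = a := hg
        rw [hmemU] at hgU
        have h1 : ∃ x : Ω, x ≠ a ∧ g • x = x := by
          by_contra hne
          push Not at hne
          exact hgU ⟨hga, fun _ x hx => hne x hx⟩
        obtain ⟨x, hx, hgx⟩ := h1
        obtain ⟨u, hu, -⟩ := hreg x b hx hab.symm
        have hu : (u : G) • x = b := hu
        have hua : (u : G) • a = a := hUle u.2
        refine ⟨u, u.2, ?_, ?_⟩
        · change ((u : G) * g * (u : G)⁻¹) • a = a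
          rw [mul_smul, mul_smul, inv_smul_eq_iff.mpr hua.symm, hga, hua]
        · change ((u : G) * g * (u : G)⁻¹) • b = b
          rw [mul_smul, mul_smul, inv_smul_eq_iff.mpr hu.symm, hgx, hu]
      t_mul_t := htt
      t_ne_one := ht1
      t_not_mem := by
        intro h1
        have h1 : t • a = a := h1
        exact hab (h1.symm.trans hta)
      t_inv := hHinv
      swap_sq := hHswap
      B_inf_conj := by
        intro g hg htg
        have h1 : (t * g * t⁻¹) • a = a := htg
        rw [htinv, mul_smul, mul_smul, hta] at h1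
        refine ⟨hg, ?_⟩
        change g • b = b
        have h2 : g • b = t⁻¹ • a := by rw [eq_inv_smul_iff]; exact h1
        rw [h2, htinv, hta]
      bruhat := by
        intro g hg
        have hga : g • a ≠ a := hg
        obtain ⟨u, hu, -⟩ := hreg b (g • a) hab.symm hga
        have hu : (u : G) • b = g • a := hu
        refine ⟨u, u.2, t⁻¹ * (u : G)⁻¹ * g, ?_, by group⟩
        change (t⁻¹ * (u : G)⁻¹ * g) • a = a
        rw [mul_smul, mul_smul, ← hu, inv_smul_smul, htinv, htb]
      card_free := hcardfree }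

end Cfsg.Agent.LieExceptional.ZTSetup
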