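/-
Suzuki's theorem on the order of a Zassenhaus group of odd degree with non-abelian kernel.
Author: helper132 (uses the set-up `ZTSetup.exists_ZT` of helper215 and Higman's theorem S1138).
* `zassenhaus_order` : if `G` is a Zassenhaus group, `U ≤ G_a` a non-abelian 2-group regular on the points
  different from `a`, then `G` is simple, `U` is a Suzuki 2-group, and there is an odd `n > 1` with `|U| = 2^(2n)`,
  `|Z(U)| = 2^n`, `|Ω| = 2^(2n) + 1`, `|G_ab| = 2^n - 1`, `G_ab` cyclic and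
  `|G| = (2^n)² ((2^n)² + 1) (2^n - 1)`.
-/
import Cfsg.Agent.LieExceptional.ZTCore
import Cfsg.Agent.LieExceptional.ZTDegree
import Cfsg.Agent.LieExceptional.ZTSetup
import Cfsg.Agent.S1137
import Cfsg.Agent.S1138

set_option autoImplicit false

namespace Cfsg.Agent.LieExceptional.ZTMain

open Cfsg.Agent.LieExceptional.ZassenhausOdd Cfsg.Agent.LieExceptional.ZTCore
open Cfsg.Agent.LieExceptional.ZTDegree Cfsg.Agent.LieExceptional.ZTSetup

theorem three_dvd_pow_sub_one {n : ℕ} (hn : Even n) : 3 ∣ 2 ^ n - 1 := by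
  obtain ⟨k, rfl⟩ := hn
  have h1 : 2 ^ (k + k) = 4 ^ k := by rw [← two_mul, pow_mul]; norm_num
  rw [h1]
  have h2 : 4 ^ k % 3 = 1 := by
    rw [Nat.pow_mod]; simp
  omega

theorem three_dvd_pow_add_one {n : ℕ} (hn : Odd n) : 3 ∣ (2 ^ n) ^ 3 + 1 := by
  obtain ⟨k, rfl⟩ := hn
  have h2 : (2 ^ (2 * k + 1)) % 3 = 2 := by
    rw [pow_succ, pow_mul, Nat.mul_mod, Nat.pow_mod]; simp
  have h3 : (2 ^ (2 * k + 1)) ^ 3 % 3 = 2 := by
    rw [Nat.pow_mod, h2]
  omega

theorem zassenhaus_order {G Ω : Type*} [Group G] [Finite G] [MulAction G Ω] [Finite Ω]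
    (hZ : Cfsg.IsZassenhausGroup G Ω) {a b : Ω} (hab : a ≠ b)
    (U : Subgroup G) (hUle : U ≤ MulAction.stabilizer G a)
    (hreg : ∀ c d : Ω, c ≠ a → d ≠ a → ∃! u : U, (u : G) • c = d)
    (hU2 : IsPGroup 2 U) (hUna : ∃ u ∈ U, ∃ v ∈ U, u * v ≠ v * u) :
    IsSimpleGroup G ∧ Cfsg.IsSuzukiTwoGroup U ∧ ∃ n : ℕ, Odd n ∧ 1 < n ∧
      Nat.card U = 2 ^ (2 * n) ∧ Nat.card (Subgroup.center U) = 2 ^ n ∧
      Nat.card Ω = 2 ^ (2 * n) + 1 ∧
      Nat.card (MulAction.stabilizer G a ⊓ MulAction.stabilizer G b : Subgroup G) = 2 ^ n - 1 ∧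
      IsCyclic (MulAction.stabilizer G a ⊓ MulAction.stabilizer G b : Subgroup G) ∧
      Nat.card G = (2 ^ n) ^ 2 * ((2 ^ n) ^ 2 + 1) * (2 ^ n - 1) := by
  classical
  have : Fintype Ω := Fintype.ofFinite Ω
  obtain ⟨hdeg, Z, t, q, hT, hta, htb⟩ := exists_ZT hZ hab U hUle hreg hU2 hUna
  obtain ⟨n, hn2, rfl⟩ := hT.q_eq
  obtain ⟨k, hk⟩ := hT.card_U
  have hsuz := hT.suzuki
  -- `U` is nontrivial
  have hU1 : 2 ≤ Nat.card U := by
    obtain ⟨u, hu, v, hv, huv⟩ := hUna
    have : Nontrivial U := ⟨⟨u, hu⟩, 1, fun h1 => huv (by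
      rw [show u = 1 from congrArg Subtype.val h1, one_mul, mul_one])⟩
    exact Finite.one_lt_card
  have heven : Even (Nat.card U) := by
    rcases Nat.eq_zero_or_pos k with h0 | h0
    · rw [hk, h0] at hU1; omega
    · rw [hk]; exact (Nat.even_pow.2 ⟨even_two, by omega⟩)
  have h : OddZ G Ω :=
    { faithful := hZ.1
      two := fun {a b c d} h1 h1' => MulAction.is_two_pretransitive_iff.mp hZ.2.1 h1 h1'
      three := hZ.2.2.1
      odd := by
        rw [← Nat.card_eq_fintype_card, hdeg]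
        exact heven.add_one }
  have htr : ∀ c d : Ω, ∃ g : G, g • c = d := by
    intro c d
    have := hZ.2.1
    have : MulAction.IsPretransitive G Ω := MulAction.isPretransitive_of_is_two_pretransitive
    exact MulAction.exists_smul_eq G c d
  -- an involution in `Z`
  obtain ⟨s, hss, hs1, hsa⟩ := OddZ.exists_inv h hab.symm
  -- `U` is the kernel at `a`
  have hFU : ∀ g : G, Fr a g ↔ g ∈ U := by
    intro g
    constructor
    · intro hg
      exact mem_of_comm h hUle hreg hss hs1 hsa ((OddZ.fr_iff h hab.symm hss hs1 hsa g).1 hg) hab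
    · intro hg
      refine ⟨hUle hg, fun y hy hyy => ?_⟩
      by_contra hg1
      exact hy (kernel_free hreg hg hg1 hyy)
  -- Higman
  obtain ⟨hS1, hS2⟩ := Cfsg.Agent.S1137.result hsuz
  obtain ⟨hH1, hH2, hH3, hH4⟩ := Cfsg.Agent.S1138.result hsuz
  have hexp : ∀ (c : Ω) (g : G), Fr c g → g ^ 4 = 1 := by
    intro c g hg
    obtain ⟨m, hm⟩ := htr c a
    have h1 := fr_conj hg m
    rw [hm, hFU] at h1
    have h2 : (⟨m * g * m⁻¹, h1⟩ : U) ^ 4 = 1 := by
      rw [← hH4]
      exact Monoid.pow_exponent_eq_one _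
    have h3 : (m * g * m⁻¹) ^ 4 = 1 := congrArg Subtype.val h2
    rw [conj_pow] at h3
    have : g ^ 4 = m⁻¹ * (m * g ^ 4 * m⁻¹) * m := by group
    rw [this, h3, mul_one, inv_mul_cancel]
  -- the centre
  have hcen : Nat.card (Subgroup.center U) = 2 ^ n := by
    rw [← hT.card_Z]
    refine Nat.card_congr (Equiv.ofBijective (fun z => (⟨((z : U) : G), ?_⟩ : Z)) ⟨?_, ?_⟩)
    · rw [hT.mem_Z]
      exact ⟨hUle (z : U).2, congrArg Subtype.val (hS2 z z.2)⟩
    · intro z z' hzz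
      have h1 : ((z : U) : G) = ((z' : U) : G) := congrArg (fun w : Z => (w : G)) hzz
      exact Subtype.ext (Subtype.ext h1)
    · rintro ⟨z, hz⟩
      have hzU : z ∈ U := hT.Z_le hz
      refine ⟨⟨⟨z, hzU⟩, ?_⟩, rfl⟩
      by_cases hz1 : (⟨z, hzU⟩ : U) = 1
      · rw [hz1]; exact Subgroup.one_mem _
      · exact ((hS1 ⟨z, hzU⟩).1 ⟨hz1, Subtype.ext ((hT.mem_Z z).1 hz).2⟩).1
  -- an element of order four
  obtain ⟨y, hyU, hy2⟩ : ∃ y ∈ U, y * y ≠ 1 := by
    by_contra hcon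
    push Not at hcon
    obtain ⟨u, hu, v, hv, huv⟩ := hUna
    apply huv
    have h1 := hcon u hu
    have h2 := hcon v hv
    have h3 := hcon _ (U.mul_mem hu hv)
    calc u * v = u * (u * v * (u * v)) * v := by rw [h3, mul_one]
      _ = (u * u) * (v * u) * (v * v) := by simp only [mul_assoc]
      _ = v * u := by rw [h1, h2, one_mul, mul_one]
  -- no elements of order three fixing two points
  have h3H : ¬ 3 ∣ 2 ^ n - 1 := by
    intro h3
    rw [← hT.card_H] at h3
    obtain ⟨d, hd⟩ := exists_prime_orderOf_dvd_card' (p := 3) h3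
    have hd3 : (d : G) ^ 3 = 1 := by
      have : d ^ 3 = 1 := by rw [← hd]; exact pow_orderOf_eq_one d
      exact congrArg Subtype.val this
    have hd1 := OddZ.no_three h hexp ((hFU y).2 hyU) hy2 hab d.2.1 d.2.2 hd3
    rw [show d = 1 from Subtype.ext hd1, orderOf_one] at hd
    omega
  have hodd : Odd n := by
    by_contra hne
    rw [Nat.not_odd_iff_even] at hne
    exact h3H (three_dvd_pow_sub_one hne)
  have hn1 : 1 < n := by omega
  have hq4 : 4 ≤ 2 ^ n := by
    calc 4 = 2 ^ 2 := by norm_num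
      _ ≤ 2 ^ n := Nat.pow_le_pow_right (by norm_num) hn2
  -- the involutions fixing a point
  have hi : ∀ c : Ω, Nat.card {w : G // w * w = 1 ∧ w ≠ 1 ∧ w • c = c} ≤ 2 ^ n - 1 := by
    intro c
    obtain ⟨m, hm⟩ := htr c a
    have hm' : m⁻¹ • a = c := by rw [inv_smul_eq_iff, hm]
    have h1 : Nat.card {z : Z // z ≠ 1} = 2 ^ n - 1 := by
      have := Fintype.ofFinite Z
      rw [← hT.card_Z, Nat.card_eq_fintype_card, Nat.card_eq_fintype_card,
        Fintype.card_subtype_compl (fun x => x = 1)]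
      simp only [Fintype.card_subtype_eq]
    rw [← h1]
    have hmem : ∀ w : G, w * w = 1 ∧ w ≠ 1 ∧ w • c = c → m * w * m⁻¹ ∈ Z ∧ m * w * m⁻¹ ≠ 1 := by
      rintro w ⟨hw1, hw2, hw3⟩
      refine ⟨?_, ?_⟩
      · rw [hT.mem_Z]
        refine ⟨?_, ?_⟩
        · change (m * w * m⁻¹) • a = a
          rw [mul_smul, mul_smul, hm', hw3, hm]
        · have : m * w * m⁻¹ * (m * w * m⁻¹) = m * (w * w) * m⁻¹ := by group
          rw [this, hw1, mul_one, mul_inv_cancel]
      · intro h2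
        apply hw2
        have : w = m⁻¹ * (m * w * m⁻¹) * m := by group
        rw [this, h2, mul_one, inv_mul_cancel]
    refine Nat.card_le_card_of_injective
      (fun w => (⟨⟨m * w * m⁻¹, (hmem w w.2).1⟩, fun h2 => (hmem w w.2).2 (congrArg Subtype.val h2)⟩ :
        {z : Z // z ≠ 1})) ?_
    intro w w' hww
    have h2 : m * (w : G) * m⁻¹ = m * (w' : G) * m⁻¹ :=
      congrArg (fun z : {z : Z // z ≠ 1} => ((z : Z) : G)) hww
    exact Subtype.ext (mul_left_cancel (mul_right_cancel h2))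
  -- exclude the cube
  have hsq : Nat.card U = (2 ^ n) ^ 2 := by
    rw [hcen] at hH3
    rcases hH3 with h3 | h3
    · exact h3
    exfalso
    have h4 : 3 ∣ Nat.card G := by
      rw [hT.card_G, h3]
      exact Dvd.dvd.mul_right (Dvd.dvd.mul_right (three_dvd_pow_add_one hodd) _) _
    obtain ⟨g, hg⟩ := exists_prime_orderOf_dvd_card' (p := 3) h4
    have hg3 : g ^ 3 = 1 := by rw [← hg]; exact pow_orderOf_eq_one g
    have hgfree : ∀ c : Ω, g • c ≠ c := by
      intro c hc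
      obtain ⟨m, hm⟩ := htr c a
      have hm' : m⁻¹ • a = c := by rw [inv_smul_eq_iff, hm]
      have h5 : m * g * m⁻¹ ∈ MulAction.stabilizer G a := by
        change (m * g * m⁻¹) • a = a
        rw [mul_smul, mul_smul, hm', hc, hm]
      have h6 : orderOf (⟨m * g * m⁻¹, h5⟩ : MulAction.stabilizer G a) = 3 := by
        rw [Subgroup.orderOf_mk]
        rw [← hg]
        exact orderOf_injective (MulAut.conj m).toMonoidHom (MulAut.conj m).injective g
      have h7 : 3 ∣ Nat.card (MulAction.stabilizer G a) := by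
        rw [← h6]; exact orderOf_dvd_natCard _
      rw [hT.card_B, Nat.Prime.dvd_mul Nat.prime_three] at h7
      rcases h7 with h7 | h7
      · rw [hk] at h7
        have := Nat.Prime.dvd_of_dvd_pow Nat.prime_three h7
        omega
      · exact h3H h7
    have h5 := OddZ.card_le_of_free h hexp hi hg3 hgfree hab
    rw [← Nat.card_eq_fintype_card, hdeg, h3] at h5
    have h6 : (2 ^ n) ^ 3 ≥ 16 * 2 ^ n := by
      have : (2 ^ n) ^ 3 = (2 ^ n) * (2 ^ n) * 2 ^ n := by ring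
      rw [this]
      exact Nat.mul_le_mul_right _ (Nat.mul_le_mul hq4 hq4)
    omega
  refine ⟨hT.simple, hsuz, n, hodd, hn1, ?_, hcen, ?_, hT.card_H, hT.H_cyclic, ?_⟩
  · rw [hsq, ← pow_mul, mul_comm]
  · rw [hdeg, hsq, ← pow_mul, mul_comm]
  · rw [hT.card_G, hsq]
    ring

end Cfsg.Agent.LieExceptional.ZTMain
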