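import Cfsg.Agent.LieExceptional.CITDefs

/-!
# CIT project, piece E1: commuting case of the amalgam argument
-/

set_option autoImplicit false

namespace Cfsg.Agent.LieExceptional.CITCommute

open Cfsg.Agent.LieExceptional.CITDefs

variable {G : Type*} [Group G]

/-- `O₂(M) ≤ T`. -/
theorem o2_le_syl {M X T : Subgroup G} (hX : IsO2 M X) (hT : IsSyl2 M T) : X ≤ T := by
  have hnorm : T ≤ Subgroup.normalizer (X : Set G) := by
    intro t ht
    rw [Subgroup.mem_normalizer_iff]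
    intro x
    constructor
    · intro hx
      exact hX.normal t (hT.le ht) x hx
    · intro hx
      have := hX.normal t⁻¹ (M.inv_mem (hT.le ht)) _ hx
      have e : t⁻¹ * (t * x * t⁻¹) * t⁻¹⁻¹ = x := by group
      rwa [e] at this
  have h2 : IsPGroup 2 (T ⊔ X : Subgroup G) :=
    IsPGroup.to_sup_of_normal_right' hT.two hX.two hnorm
  have h3 := hT.max (T ⊔ X) (sup_le hT.le hX.le) h2 le_sup_left
  rw [← h3]
  exact le_sup_right

/-- a nontrivial 2-element has an involution among its powers -/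
theorem exists_involution {y : G} {k : ℕ} (hy : y ^ 2 ^ k = 1) (hne : y ≠ 1) :
    ∃ j : ℕ, orderOf (y ^ j) = 2 := by
  induction k generalizing y with
  | zero => simp at hy; exact absurd hy hne
  | succ k ih =>
    by_cases h : y ^ 2 = 1
    · exact ⟨1, by rw [pow_one]; exact orderOf_eq_prime h hne⟩
    · have h1 : (y ^ 2) ^ 2 ^ k = 1 := by rw [← pow_mul, ← pow_succ']; exact hy
      obtain ⟨j, hj⟩ := ih h1 h
      exact ⟨2 * j, by rw [pow_mul]; exact hj⟩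

/-- powers of `x * d` lie in the coset `X * d ^ m`. -/
theorem pow_coset {X : Subgroup G} {d x : G} (hdX : ∀ x ∈ X, d * x * d⁻¹ ∈ X) (hx : x ∈ X)
    (m : ℕ) : (x * d) ^ m * (d ^ m)⁻¹ ∈ X := by
  induction m with
  | zero => simp
  | succ m ih =>
    have e : (x * d) ^ (m + 1) * (d ^ (m + 1))⁻¹ = x * (d * ((x * d) ^ m * (d ^ m)⁻¹) * d⁻¹) := by
      rw [pow_succ' (x * d), pow_succ d]
      have : (d ^ m * d)⁻¹ = (d ^ m)⁻¹ * d⁻¹ := by
        rw [← pow_succ, pow_succ', mul_inv_rev]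
      rw [this]; group
    rw [e]
    exact X.mul_mem hx (hdX _ ih)

/-- An element of order 3 normalising a 2-group `X` in a CIT group: `x · x^d · x^(d²) = 1`. -/
theorem triple (hG : IsCIT G) {X : Subgroup G} (hX : IsPGroup 2 X) {d : G} (hd : orderOf d = 3)
    (hdX : ∀ x ∈ X, d * x * d⁻¹ ∈ X) {x : G} (hx : x ∈ X) :
    x * (d * x * d⁻¹) * (d * (d * x * d⁻¹) * d⁻¹) = 1 := by
  have hd3 : d ^ 3 = 1 := by rw [← hd]; exact pow_orderOf_eq_one d
  have hy : (x * d) ^ 3 ∈ X := by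
    have := pow_coset hdX hx 3
    rwa [hd3, inv_one, mul_one] at this
  have e : x * (d * x * d⁻¹) * (d * (d * x * d⁻¹) * d⁻¹) = (x * d) ^ 3 := by
    have h1 : (x * d) ^ 3 = x * (d * x * d⁻¹) * (d * (d * x * d⁻¹) * d⁻¹) * d ^ 3 := by
      simp only [pow_succ, pow_zero]; group
    rw [h1, hd3, mul_one]
  rw [e]
  by_contra hne
  obtain ⟨k, hk⟩ := hX ⟨_, hy⟩
  have hk' : ((x * d) ^ 3) ^ 2 ^ k = 1 := by
    have := congrArg Subtype.val hk
    simpa using this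
  obtain ⟨j, hj⟩ := exists_involution hk' hne
  have hcent : x * d ∈ Subgroup.centralizer ({((x * d) ^ 3) ^ j} : Set G) := by
    rw [Subgroup.mem_centralizer_singleton_iff]
    rw [← pow_mul]
    exact (Commute.self_pow (x * d) (3 * j)).eq
  obtain ⟨l, hl⟩ := hG _ hj ⟨_, hcent⟩
  have hl' : (x * d) ^ 2 ^ l = 1 := by
    have := congrArg Subtype.val hl
    simpa using this
  have hdl : d ^ 2 ^ l ∈ X := by
    have := pow_coset hdX hx (2 ^ l)
    rw [hl', one_mul] at this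
    exact (X.inv_mem_iff).1 this
  obtain ⟨r, hr⟩ := hX ⟨_, hdl⟩
  have hr' : (d ^ 2 ^ l) ^ 2 ^ r = 1 := by
    have := congrArg Subtype.val hr
    simpa using this
  rw [← pow_mul, ← pow_add] at hr'
  have h3 := orderOf_dvd_of_pow_eq_one hr'
  rw [hd] at h3
  have := (Nat.Prime.dvd_of_dvd_pow Nat.prime_three h3)
  omega

/-- `Ω₁(Z(X))` is normalised by whatever normalises `X`. -/
theorem omegaZ_conj {M X : Subgroup G} (hX : ∀ m ∈ M, ∀ x ∈ X, m * x * m⁻¹ ∈ X) {m v : G}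
    (hm : m ∈ M) (hv : v ∈ omegaZ X) : m * v * m⁻¹ ∈ omegaZ X := by
  obtain ⟨h1, h2, h3⟩ := hv
  refine ⟨hX m hm v h1, ?_, fun y hy => ?_⟩
  · calc m * v * m⁻¹ * (m * v * m⁻¹) = m * (v * v) * m⁻¹ := by group
      _ = 1 := by rw [h2]; group
  · have hy' : m⁻¹ * y * m ∈ X := by
      have := hX m⁻¹ (M.inv_mem hm) y hy
      rwa [inv_inv] at this
    calc m * v * m⁻¹ * y = m * (v * (m⁻¹ * y * m)) * m⁻¹ := by group
      _ = m * ((m⁻¹ * y * m) * v) * m⁻¹ := by rw [h3 _ hy']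
      _ = y * (m * v * m⁻¹) := by group

/-- The key bilinear computation: if `n ∈ X` has `[X, n] ≤ V ≤ Ω₁(Z(X))` and `d` has order 3 and
normalises `X`, then `C_X(n)` is normalised by `d`. -/
theorem centralizer_conj (hG : IsCIT G) {X : Subgroup G} (hX : IsPGroup 2 X) {d : G}
    (hd : orderOf d = 3) (hdX : ∀ x ∈ X, d * x * d⁻¹ ∈ X) {n : G} (hn : n ∈ X)
    (hB : ∀ c ∈ X, c * n * c⁻¹ * n⁻¹ ∈ omegaZ X) {c : G} (hc : c ∈ X) (hcn : c * n = n * c) :
    (d * c * d⁻¹) * n = n * (d * c * d⁻¹) := by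
  have hd3 : d ^ 3 = 1 := by rw [← hd]; exact pow_orderOf_eq_one d
  have hd3' : d * (d * d) = 1 := by
    have := hd3
    simpa [pow_succ, mul_assoc] using this
  -- notation
  set D : G → G := fun x => d * x * d⁻¹ with hD
  have hDX : ∀ x ∈ X, D x ∈ X := hdX
  have hDmul : ∀ x y, D (x * y) = D x * D y := by intro x y; simp only [hD]; group
  have hDinv : ∀ x, D x⁻¹ = (D x)⁻¹ := by intro x; simp only [hD]; group
  have hDDD : ∀ x, D (D (D x)) = x := by
    intro x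
    have e : D (D (D x)) = (d * (d * d)) * x * (d * (d * d))⁻¹ := by simp only [hD]; group
    rw [e, hd3']; simp
  have hDone : D 1 = 1 := by simp [hD]
  have htr : ∀ x ∈ X, x * D x * D (D x) = 1 := fun x hx => triple hG hX hd hdX hx
  -- commutator map
  set B : G → G → G := fun m c => c * m * c⁻¹ * m⁻¹ with hBdef
  have hBD : ∀ m c, B (D m) (D c) = D (B m c) := by
    intro m c; simp only [hBdef, hDmul, hDinv]
  have hZ : ∀ v ∈ omegaZ X, ∀ y ∈ X, v * y = y * v := fun v hv => hv.2.2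
  have hV : ∀ v ∈ omegaZ X, D v ∈ omegaZ X := by
    intro v hv
    exact omegaZ_conj (M := Subgroup.zpowers d) (X := X) (by
      intro m hm x hx
      obtain ⟨k, rfl⟩ := Subgroup.mem_zpowers_iff.1 hm
      have hfin : IsOfFinOrder d := by
        rw [← orderOf_pos_iff, hd]; norm_num
      obtain ⟨k', hk'⟩ : ∃ k' : ℕ, d ^ k' = d ^ k := by
        have := (hfin.mem_powers_iff_mem_zpowers).2 hm
        obtain ⟨k', hk'⟩ := this
        exact ⟨k', hk'⟩
      rw [← hk']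
      clear hm hk'
      induction k' with
      | zero => simpa using hx
      | succ k' ih =>
        have e : d ^ (k' + 1) * x * (d ^ (k' + 1))⁻¹ = d * (d ^ k' * x * (d ^ k')⁻¹) * d⁻¹ := by
          rw [pow_succ']; group
        rw [e]; exact hdX _ ih) (Subgroup.mem_zpowers d) hv
  -- members of N
  have hN : ∀ m ∈ X, (∀ c ∈ X, B m c ∈ omegaZ X) →
      (D m ∈ X ∧ ∀ c ∈ X, B (D m) c ∈ omegaZ X) := by
    intro m hm h
    refine ⟨hDX m hm, fun c hc => ?_⟩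
    have e : B (D m) c = D (B m (D (D c))) := by
      rw [← hBD, hDDD]
    rw [e]
    exact hV _ (h _ (hDX _ (hDX _ hc)))
  have hBn : ∀ c ∈ X, B n c ∈ omegaZ X := hB
  obtain ⟨hn1, hBn1⟩ := hN n hn hBn
  obtain ⟨hn2, hBn2⟩ := hN (D n) hn1 hBn1
  -- multiplicativity in `c`
  have hmulc : ∀ m ∈ X, (∀ c ∈ X, B m c ∈ omegaZ X) → ∀ c ∈ X, ∀ c' ∈ X,
      B m (c * c') = B m c' * B m c := by
    intro m hm h c hc c' hc'
    have e1 : B m (c * c') = c * (B m c') * m * c⁻¹ * m⁻¹ := by simp only [hBdef]; group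
    rw [e1, ← hZ _ (h c' hc') c hc]
    simp only [hBdef]; group
  -- multiplicativity in `m`
  have hmulm : ∀ m ∈ X, ∀ m' ∈ X, (∀ c ∈ X, B m' c ∈ omegaZ X) → ∀ c ∈ X,
      B (m * m') c = B m c * B m' c := by
    intro m hm m' hm' h c hc
    have e1 : B (m * m') c = c * m * c⁻¹ * (B m' c * m⁻¹) := by simp only [hBdef]; group
    rw [e1, hZ _ (h c hc) m⁻¹ (X.inv_mem hm)]
    simp only [hBdef]; group
  have hBone : ∀ c, B 1 c = 1 := by intro c; simp [hBdef]
  have hBone' : ∀ m, B m 1 = 1 := by intro c; simp [hBdef]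
  -- the three values
  have ha : B n c = 1 := by
    simp only [hBdef]; rw [hcn]; group
  have hDc := hDX c hc
  have hDDc := hDX _ hDc
  -- row relation
  have hrow : B n (D (D c)) * (B n (D c) * B n c) = 1 := by
    rw [← hmulc n hn hBn c hc (D c) hDc,
      ← hmulc n hn hBn (c * D c) (X.mul_mem hc hDc) (D (D c)) hDDc, htr c hc, hBone']
  -- column relation
  have hcol : B n c * B (D n) c * B (D (D n)) c = 1 := by
    rw [← hmulm n hn (D n) hn1 hBn1 c hc,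
      ← hmulm (n * D n) (X.mul_mem hn hn1) (D (D n)) hn2 hBn2 c hc, htr n hn, hBone]
  have e1 : B (D n) c = D (B n (D (D c))) := by rw [← hBD, hDDD]
  have e2 : B (D (D n)) c = D (D (B n (D c))) := by rw [← hBD, ← hBD, hDDD]
  rw [ha, mul_one] at hrow
  rw [ha, one_mul, e1, e2] at hcol
  have hbV : B n (D c) ∈ omegaZ X := hBn _ hDc
  have hbsq : B n (D c) * B n (D c) = 1 := hbV.2.1
  have he : B n (D (D c)) = B n (D c) := by
    have := hrow.trans hbsq.symm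
    exact mul_right_cancel this
  rw [he] at hcol
  have hfin := htr _ hbV.1
  rw [mul_assoc, hcol, mul_one] at hfin
  have hfin' : (D c) * n * (D c)⁻¹ * n⁻¹ = 1 := hfin
  have : (D c) * n * (D c)⁻¹ = n := mul_inv_eq_one.1 hfin'
  calc (D c) * n = (D c) * n * (D c)⁻¹ * (D c) := by group
    _ = n * (D c) := by rw [this]

/-- **E1.** If `V₁` and `V₂` commute then `X₁ ∩ X₂` is normal in `M₂`. -/
theorem inf_normal_of_commute [Finite G] (hG : IsCIT G) {M₁ M₂ X₁ X₂ T : Subgroup G} {q : ℕ}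
    (h₁ : FFType M₁ X₁ T q) (h₂ : FFType M₂ X₂ T q)
    (hc : ∀ v ∈ omegaZ X₁, ∀ w ∈ omegaZ X₂, v * w = w * v) :
    ∀ m ∈ M₂, ∀ x ∈ X₁ ⊓ X₂, m * x * m⁻¹ ∈ X₁ ⊓ X₂ := by
  have hX1T : X₁ ≤ T := o2_le_syl h₁.o2 h₁.syl
  have hX2T : X₂ ≤ T := o2_le_syl h₂.o2 h₂.syl
  have hT1 : T ≤ M₁ := h₁.syl.le
  have hT2 : T ≤ M₂ := h₂.syl.le
  -- `V₁ ≤ X₂`
  have hV1 : ∀ v ∈ omegaZ X₁, v ∈ X₂ := fun v hv =>
    h₂.centralizer_V v (hT2 (hX1T hv.1)) (fun w hw => hc v hv w hw)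
  -- `[X₂, V₁] ≤ V₂`
  have hcomm : ∀ n ∈ omegaZ X₁, ∀ c ∈ X₂, c * n * c⁻¹ * n⁻¹ ∈ omegaZ X₂ := fun n hn c hc' =>
    h₂.C_le (h₁.comm_mem c (hX2T hc') n hn)
  -- invariance under elements of order three
  have h3 : ∀ d ∈ M₂, orderOf d = 3 → ∀ x ∈ X₁ ⊓ X₂, d * x * d⁻¹ ∈ X₁ ⊓ X₂ := by
    intro d hd hd3 x hx
    obtain ⟨hx1, hx2⟩ := Subgroup.mem_inf.1 hx
    have hdX : ∀ x ∈ X₂, d * x * d⁻¹ ∈ X₂ := h₂.o2.normal d hd
    have hmem : d * x * d⁻¹ ∈ X₂ := hdX x hx2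
    refine Subgroup.mem_inf.2 ⟨?_, hmem⟩
    refine h₁.centralizer_V _ (hT1 (hX2T hmem)) (fun v hv => ?_)
    exact centralizer_conj hG h₂.o2.two hd3 hdX (hV1 v hv) (hcomm v hv) hx2
      (hv.2.2 x hx1).symm
  -- the stabiliser of `X₁ ⊓ X₂`
  have hL : M₂ ≤ Subgroup.normalizer ((X₁ ⊓ X₂ : Subgroup G) : Set G) := by
    refine h₂.gen _ ?_ ?_
    · intro t ht
      rw [Subgroup.mem_normalizer_iff]
      intro x
      constructor
      · intro hx
        obtain ⟨hx1, hx2⟩ := Subgroup.mem_inf.1 hx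
        exact Subgroup.mem_inf.2 ⟨h₁.o2.normal t (hT1 ht) x hx1, h₂.o2.normal t (hT2 ht) x hx2⟩
      · intro hx
        obtain ⟨hx1, hx2⟩ := Subgroup.mem_inf.1 hx
        have e : t⁻¹ * (t * x * t⁻¹) * t⁻¹⁻¹ = x := by group
        have a1 := h₁.o2.normal t⁻¹ (M₁.inv_mem (hT1 ht)) _ hx1
        have a2 := h₂.o2.normal t⁻¹ (M₂.inv_mem (hT2 ht)) _ hx2
        rw [e] at a1 a2
        exact Subgroup.mem_inf.2 ⟨a1, a2⟩
    · intro d hd hd3
      rw [Subgroup.mem_normalizer_iff]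
      intro x
      constructor
      · intro hx
        exact h3 d hd hd3 x hx
      · intro hx
        have := h3 d⁻¹ (M₂.inv_mem hd) (by rw [orderOf_inv]; exact hd3) _ hx
        have e : d⁻¹ * (d * x * d⁻¹) * d⁻¹⁻¹ = x := by group
        rwa [e] at this
  intro m hm x hx
  exact (Subgroup.mem_normalizer_iff.1 (hL hm) x).1 hx

end Cfsg.Agent.LieExceptional.CITCommute
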