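import Mathlib
import Cfsg.Agent.LieExceptional.CITDefs

/-!
# CIT project, step E2: the non-commuting case

If `[Ω₁Z(X₁), Ω₁Z(X₂)] ≠ 1` for two distinct maximal 2-locals of FF-type with the same Sylow 2-subgroup `T`,
then `X₁`, `X₂` are elementary abelian, `T = X₁ X₂` has order `q³` and the involutions of `T` lie in `X₁ ∪ X₂`.
-/

set_option autoImplicit false

namespace Cfsg.Agent.LieExceptional.CITNonCommute

open Cfsg.Agent.LieExceptional.CITDefs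

variable {G : Type*} [Group G]

/-- one-sided invariance under a subgroup gives containment in the normaliser -/
theorem le_normalizer_of_forall {M P : Subgroup G} (h : ∀ m ∈ M, ∀ x ∈ P, m * x * m⁻¹ ∈ P) :
    M ≤ Subgroup.normalizer (P : Set G) := by
  intro m hm
  rw [Subgroup.mem_normalizer_iff]
  intro x
  constructor
  · intro hx
    exact h m hm x hx
  · intro hx
    have := h m⁻¹ (M.inv_mem hm) _ hx
    have e : m⁻¹ * (m * x * m⁻¹) * m⁻¹⁻¹ = x := by group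
    rwa [e] at this

theorem exists_isO2_ge [Finite G] (N P : Subgroup G) (hP : P ≤ N) (hP2 : IsPGroup 2 P)
    (hPn : ∀ m ∈ N, ∀ x ∈ P, m * x * m⁻¹ ∈ P) : ∃ X, IsO2 N X ∧ P ≤ X := by
  let S : Set (Subgroup G) := {Y | Y ≤ N ∧ IsPGroup 2 Y ∧ ∀ m ∈ N, ∀ x ∈ Y, m * x * m⁻¹ ∈ Y}
  have hS : S.Finite := Set.toFinite S
  obtain ⟨X, hPX, hX⟩ := hS.exists_le_maximal (show P ∈ S from ⟨hP, hP2, hPn⟩)
  obtain ⟨⟨hX1, hX2, hX3⟩, hmax⟩ := hX
  refine ⟨X, ⟨hX1, hX2, hX3, ?_⟩, hPX⟩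
  intro Y hY1 hY2 hY3
  have hXY : X ⊔ Y ∈ S := by
    refine ⟨sup_le hX1 hY1, ?_, ?_⟩
    · exact hX2.to_sup_of_normal_right' hY2 (hX1.trans (le_normalizer_of_forall hY3))
    · intro m hm x hx
      have hx' : (MulAut.conj m).toMonoidHom x ∈ (X ⊔ Y).map (MulAut.conj m).toMonoidHom :=
        Subgroup.mem_map_of_mem _ hx
      rw [Subgroup.map_sup] at hx'
      have h1 : X.map (MulAut.conj m).toMonoidHom ≤ X := by
        rintro _ ⟨a, ha, rfl⟩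
        exact hX3 m hm a ha
      have h2 : Y.map (MulAut.conj m).toMonoidHom ≤ Y := by
        rintro _ ⟨a, ha, rfl⟩
        exact hY3 m hm a ha
      exact (sup_le_sup h1 h2) hx'
  exact le_sup_right.trans (hmax hXY le_sup_left)

/-- two maximal 2-locals which normalise a common nontrivial 2-subgroup are equal -/
theorem eq_of_normalize [Finite G] {M₁ M₂ P : Subgroup G} (hm₁ : IsMaxLocal M₁) (hm₂ : IsMaxLocal M₂)
    (hP : P ≠ ⊥) (hP2 : IsPGroup 2 P)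
    (h₁ : ∀ m ∈ M₁, ∀ x ∈ P, m * x * m⁻¹ ∈ P) (h₂ : ∀ m ∈ M₂, ∀ x ∈ P, m * x * m⁻¹ ∈ P) :
    M₁ = M₂ := by
  have hPn : ∀ m ∈ Subgroup.normalizer (P : Set G), ∀ x ∈ P, m * x * m⁻¹ ∈ P := by
    intro m hm x hx
    exact (Subgroup.mem_normalizer_iff.1 hm x).1 hx
  obtain ⟨X, hX, hPX⟩ := exists_isO2_ge (Subgroup.normalizer (P : Set G)) P
    Subgroup.le_normalizer hP2 hPn
  have hX1 : X ≠ ⊥ := fun h => hP (le_bot_iff.1 (h ▸ hPX))
  have e1 := hm₁.2 _ (le_normalizer_of_forall h₁) ⟨X, hX1, hX⟩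
  have e2 := hm₂.2 _ (le_normalizer_of_forall h₂) ⟨X, hX1, hX⟩
  rw [← e1, ← e2]

theorem o2_le_syl [Finite G] {M X T : Subgroup G} (hX : IsO2 M X) (hT : IsSyl2 M T) : X ≤ T := by
  have h := hT.max (X ⊔ T) (sup_le hX.le hT.le)
    (hX.two.to_sup_of_normal_left' hT.two (hT.le.trans (le_normalizer_of_forall hX.normal)))
    le_sup_right
  rw [← h]
  exact le_sup_left

/-- half of the argument: `V₁ ∩ X₂ = C` and `T = V₁ X₂` -/
theorem half [Finite G] {M₁ M₂ X₁ X₂ T : Subgroup G} {q : ℕ}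
    (h₁ : FFType M₁ X₁ T q) (h₂ : FFType M₂ X₂ T q)
    (hc : ¬ ∀ v ∈ omegaZ X₁, ∀ w ∈ omegaZ X₂, v * w = w * v) :
    (∀ v ∈ omegaZ X₁, v ∈ X₂ → v ∈ omegaZ T) ∧ (∀ t ∈ T, ∃ v ∈ omegaZ X₁, ∃ x ∈ X₂, t = v * x) := by
  have hX₁T : X₁ ≤ T := o2_le_syl h₁.o2 h₁.syl
  have hX₂T : X₂ ≤ T := o2_le_syl h₂.o2 h₂.syl
  have hV₁X₁ : omegaZ X₁ ≤ X₁ := fun x hx => hx.1
  have hV₂X₂ : omegaZ X₂ ≤ X₂ := fun x hx => hx.1
  -- an element of `V₂` outside `X₁`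
  obtain ⟨w, hw, hwX⟩ : ∃ w ∈ omegaZ X₂, w ∉ X₁ := by
    by_contra hcon
    push Not at hcon
    exact hc fun v hv w hw => hv.2.2 w (hcon w hw)
  have hA : ∀ v ∈ omegaZ X₁, v ∈ X₂ → v ∈ omegaZ T := by
    intro v hv hvX
    exact h₁.mem_of_comm w (hX₂T (hV₂X₂ hw)) hwX v hv (hw.2.2 v hvX)
  refine ⟨hA, ?_⟩
  have hinf : X₂ ⊓ omegaZ X₁ = omegaZ T := by
    apply le_antisymm
    · rintro v ⟨hv2, hv1⟩
      exact hA v hv1 hv2
    · exact le_inf (h₂.C_le.trans hV₂X₂) h₁.C_le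
  obtain ⟨n, hn, hq⟩ := h₁.pow
  have hq0 : 0 < q := by rw [hq]; positivity
  -- relative index of `X₂` in `V₁` is `q`
  have r1 : X₂.relIndex (omegaZ X₁) = q := by
    have e := Subgroup.relIndex_mul_relIndex (⊥ : Subgroup G) (X₂ ⊓ omegaZ X₁) (omegaZ X₁) bot_le
      inf_le_right
    rw [Subgroup.relIndex_bot_left, Subgroup.relIndex_bot_left, Subgroup.inf_relIndex_right, hinf,
      h₁.card_C, h₁.card_V, pow_two] at e
    exact Nat.eq_of_mul_eq_mul_left hq0 e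
  have hle : omegaZ X₁ ⊔ X₂ ≤ T := sup_le (hV₁X₁.trans hX₁T) hX₂T
  have r2 : q ≤ X₂.relIndex (omegaZ X₁ ⊔ X₂) := by
    rw [← r1]
    refine Subgroup.relIndex_le_of_le_right le_sup_left ?_
    exact Subgroup.index_ne_zero_of_finite
  have r3 : Nat.card X₂ * X₂.relIndex (omegaZ X₁ ⊔ X₂) = Nat.card ↥(omegaZ X₁ ⊔ X₂) := by
    have e := Subgroup.relIndex_mul_relIndex (⊥ : Subgroup G) X₂ (omegaZ X₁ ⊔ X₂) bot_le
      le_sup_right
    rwa [Subgroup.relIndex_bot_left, Subgroup.relIndex_bot_left] at e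
  have hT : omegaZ X₁ ⊔ X₂ = T := by
    apply Subgroup.eq_of_le_of_card_ge hle
    rw [h₂.card_T, ← r3, mul_comm]
    exact Nat.mul_le_mul_left _ r2
  intro t ht
  rw [← hT] at ht
  have ht' : t ∈ ((omegaZ X₁ ⊔ X₂ : Subgroup G) : Set G) := ht
  rw [Subgroup.coe_mul_of_left_le_normalizer_right (omegaZ X₁) X₂
    ((hV₁X₁.trans hX₁T).trans (h₂.syl.le.trans (le_normalizer_of_forall h₂.o2.normal)))] at ht'
  obtain ⟨v, hv, x, hx, rfl⟩ := Set.mem_mul.1 ht'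
  exact ⟨v, hv, x, hx, rfl⟩

/-- squares of `X₁` are squares of elements of `X₂` -/
theorem sq_transfer [Finite G] {M₁ X₁ X₂ T : Subgroup G} {q : ℕ}
    (h₁ : FFType M₁ X₁ T q)
    (hT : ∀ t ∈ T, ∃ v ∈ omegaZ X₁, ∃ x ∈ X₂, t = v * x) (x : G) (hx : x ∈ X₁) :
    ∃ y ∈ X₁ ⊓ X₂, x * x = y * y := by
  have hX₁T : X₁ ≤ T := o2_le_syl h₁.o2 h₁.syl
  obtain ⟨v, hv, y, hy, rfl⟩ := hT x (hX₁T hx)
  have hyX : y ∈ X₁ := (X₁.mul_mem_cancel_left hv.1).1 hx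
  refine ⟨y, ⟨hyX, hy⟩, ?_⟩
  have e := hv.2.2 y hyX
  calc v * y * (v * y) = v * (y * v) * y := by group
    _ = v * (v * y) * y := by rw [e]
    _ = (v * v) * (y * y) := by group
    _ = y * y := by rw [hv.2.1, one_mul]

/-- E2 -/
theorem eq_of_not_commute [Finite G] (_hG : IsCIT G) {M₁ M₂ X₁ X₂ T : Subgroup G} {q : ℕ}
    (h₁ : FFType M₁ X₁ T q) (h₂ : FFType M₂ X₂ T q) (hm₁ : IsMaxLocal M₁) (hm₂ : IsMaxLocal M₂)
    (hne : M₁ ≠ M₂)
    (hc : ¬ ∀ v ∈ omegaZ X₁, ∀ w ∈ omegaZ X₂, v * w = w * v) :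
    Elem X₁ ∧ Elem X₂ ∧ T = X₁ ⊔ X₂ ∧ X₁ ⊓ X₂ = omegaZ T ∧ (∀ x ∈ T, x * x = 1 → x ∈ X₁ ∨ x ∈ X₂) ∧
      Nat.card T = q ^ 3 := by
  have hc' : ¬ ∀ v ∈ omegaZ X₂, ∀ w ∈ omegaZ X₁, v * w = w * v :=
    fun h => hc fun v hv w hw => (h w hw v hv).symm
  obtain ⟨a1, a2⟩ := half h₁ h₂ hc
  obtain ⟨b1, b2⟩ := half h₂ h₁ hc'
  have hX₁T : X₁ ≤ T := o2_le_syl h₁.o2 h₁.syl
  have hX₂T : X₂ ≤ T := o2_le_syl h₂.o2 h₂.syl
  -- the subgroup generated by the squares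
  let P : Subgroup G := Subgroup.closure {y | ∃ x ∈ X₁, y = x * x}
  have hset : {y | ∃ x ∈ X₁, y = x * x} = {y | ∃ x ∈ X₂, y = x * x} := by
    ext y
    constructor
    · rintro ⟨x, hx, rfl⟩
      obtain ⟨z, hz, e⟩ := sq_transfer h₁ a2 x hx
      exact ⟨z, hz.2, e⟩
    · rintro ⟨x, hx, rfl⟩
      obtain ⟨z, hz, e⟩ := sq_transfer h₂ b2 x hx
      exact ⟨z, hz.2, e⟩
  have hnorm : ∀ (M X : Subgroup G), IsO2 M X → ∀ m ∈ M,
      ∀ p ∈ Subgroup.closure {y | ∃ x ∈ X, y = x * x},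
      m * p * m⁻¹ ∈ Subgroup.closure {y | ∃ x ∈ X, y = x * x} := by
    intro M X hX m hm p hp
    have : (MulAut.conj m).toMonoidHom p ∈
        (Subgroup.closure {y | ∃ x ∈ X, y = x * x}).map (MulAut.conj m).toMonoidHom :=
      Subgroup.mem_map_of_mem _ hp
    rw [MonoidHom.map_closure] at this
    refine (Subgroup.closure_mono ?_) this
    rintro _ ⟨y, ⟨x, hx, rfl⟩, rfl⟩
    refine ⟨m * x * m⁻¹, hX.normal m hm x hx, ?_⟩
    simp [MulAut.conj_apply]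
  have hPX : P ≤ X₁ := by
    rw [Subgroup.closure_le]
    rintro _ ⟨x, hx, rfl⟩
    exact X₁.mul_mem hx hx
  have hP2 : IsPGroup 2 P := h₁.o2.two.to_le hPX
  have hPbot : P = ⊥ := by
    by_contra hPb
    refine hne (eq_of_normalize hm₁ hm₂ hPb hP2 (hnorm M₁ X₁ h₁.o2) ?_)
    have := hnorm M₂ X₂ h₂.o2
    rw [← hset] at this
    exact this
  have hE₁ : Elem X₁ := by
    intro x hx
    have : x * x ∈ P := Subgroup.subset_closure ⟨x, hx, rfl⟩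
    rw [hPbot] at this
    exact Subgroup.mem_bot.1 this
  have hE₂ : Elem X₂ := by
    intro x hx
    have : x * x ∈ P := Subgroup.subset_closure (by rw [hset]; exact ⟨x, hx, rfl⟩)
    rw [hPbot] at this
    exact Subgroup.mem_bot.1 this
  have hV : ∀ X : Subgroup G, Elem X → omegaZ X = X := by
    intro X hX
    apply le_antisymm
    · exact fun x hx => hx.1
    · exact fun x hx => ⟨hx, hX x hx, fun y hy => hX.comm hx hy⟩
  have hV₁ := hV X₁ hE₁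
  have hV₂ := hV X₂ hE₂
  rw [hV₁] at a1 a2
  rw [hV₂] at b1 b2
  have hinf : X₁ ⊓ X₂ = omegaZ T := by
    apply le_antisymm
    · rintro v ⟨hv1, hv2⟩
      exact a1 v hv1 hv2
    · exact le_inf (h₁.C_le.trans hV₁.le) (h₂.C_le.trans hV₂.le)
  refine ⟨hE₁, hE₂, ?_, hinf, ?_, ?_⟩
  · apply le_antisymm
    · intro t ht
      obtain ⟨v, hv, x, hx, rfl⟩ := a2 t ht
      exact Subgroup.mul_mem_sup hv hx
    · exact sup_le hX₁T hX₂T
  · intro x hx hxx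
    obtain ⟨v, hv, y, hy, rfl⟩ := a2 x hx
    by_cases hyX : y ∈ X₁
    · exact Or.inl (X₁.mul_mem hv hyX)
    · right
      -- `v` and `y` commute
      have hvv := hE₁ v hv
      have hyy := hE₂ y hy
      have hcomm : y * v = v * y := by
        have h2 : v * y = (v * y)⁻¹ := eq_inv_of_mul_eq_one_left hxx
        have hv' : v⁻¹ = v := inv_eq_of_mul_eq_one_left hvv
        have hy' : y⁻¹ = y := inv_eq_of_mul_eq_one_left hyy
        rw [mul_inv_rev, hv', hy'] at h2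
        exact h2.symm
      have hvC := h₁.mem_of_comm y (hX₂T hy) hyX v (hV₁.ge hv) hcomm
      have hv2 : v ∈ X₂ := by
        rw [← hinf] at hvC
        exact hvC.2
      exact X₂.mul_mem hv2 hy
  · have e1 := h₁.card_T
    have e2 := h₁.card_V
    rw [hV₁] at e2
    rw [e1, e2]
    ring

end Cfsg.Agent.LieExceptional.CITNonCommute
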