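import Mathlib
import Cfsg.Agent.LieExceptional.CITDefs
import Cfsg.Agent.LieExceptional.CITNonCommute
import Cfsg.Agent.LieExceptional.CITCommute
import Cfsg.Agent.LieExceptional.CITFFAux

/-!
# CIT project, section A: basic facts on `O₂`, Sylow 2-subgroups and maximal 2-locals as subgroups of `G`
-/

set_option autoImplicit false

namespace Cfsg.Agent.LieExceptional.CITBasic

open Cfsg.Agent.LieExceptional.CITDefs
open scoped Pointwise

variable {G : Type*} [Group G]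

theorem exists_isO2 [Finite G] (M : Subgroup G) : ∃ X : Subgroup G, IsO2 M X := by
  obtain ⟨X, hX, -⟩ := CITNonCommute.exists_isO2_ge M ⊥ bot_le IsPGroup.of_bot (by
    intro m _ x hx
    rw [Subgroup.mem_bot] at hx ⊢
    rw [hx]
    group)
  exact ⟨X, hX⟩

theorem exists_isSyl2 [Finite G] (M P : Subgroup G) (hP : P ≤ M) (hP2 : IsPGroup 2 P) :
    ∃ T : Subgroup G, IsSyl2 M T ∧ P ≤ T := by
  let S : Set (Subgroup G) := {Y | Y ≤ M ∧ IsPGroup 2 Y}
  obtain ⟨T, hPT, hT⟩ := (Set.toFinite S).exists_le_maximal (show P ∈ S from ⟨hP, hP2⟩)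
  exact ⟨T, ⟨hT.1.1, hT.1.2, fun Y h1 h2 h3 => le_antisymm (hT.2 ⟨h1, h2⟩ h3) h3⟩, hPT⟩

/-- a Sylow 2-subgroup of `M` as a term of `Sylow 2 M` -/
def IsSyl2.toSylow {M T : Subgroup G} (h : IsSyl2 M T) : Sylow 2 M where
  toSubgroup := T.subgroupOf M
  isPGroup' := h.two.of_injective (Subgroup.subgroupOfEquivOfLe h.le).toMonoidHom
    (Subgroup.subgroupOfEquivOfLe h.le).injective
  is_maximal' := by
    intro Q hQ hle
    have h1 := h.max (Q.map M.subtype) (Subgroup.map_subtype_le Q) (hQ.map M.subtype) (by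
      intro t ht
      exact ⟨⟨t, h.le ht⟩, hle (Subgroup.mem_subgroupOf.2 ht), rfl⟩)
    apply le_antisymm _ hle
    intro x hx
    rw [Subgroup.mem_subgroupOf, ← h1]
    exact ⟨x, hx, rfl⟩

theorem IsSyl2.conj [Finite G] {M T T' : Subgroup G} (h : IsSyl2 M T) (h' : IsSyl2 M T') :
    ∃ m ∈ M, T' = T.map (MulAut.conj m).toMonoidHom := by
  have : Fact (Nat.Prime 2) := ⟨Nat.prime_two⟩
  obtain ⟨m, hm⟩ := MulAction.exists_smul_eq M (IsSyl2.toSylow h) (IsSyl2.toSylow h')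
  refine ⟨m, m.2, ?_⟩
  have hm' : (MulAut.conj m) • (T.subgroupOf M) = T'.subgroupOf M :=
    congrArg Sylow.toSubgroup hm
  ext x
  constructor
  · intro hx
    have h1 : (⟨x, h'.le hx⟩ : M) ∈ (MulAut.conj m) • (T.subgroupOf M) := by
      rw [hm']
      exact Subgroup.mem_subgroupOf.2 hx
    obtain ⟨y, hy, hyx⟩ := h1
    refine ⟨y, Subgroup.mem_subgroupOf.1 hy, ?_⟩
    exact congrArg Subtype.val hyx
  · rintro ⟨y, hy, rfl⟩
    have h1 : (MulAut.conj m) (⟨y, h.le hy⟩ : M) ∈ (MulAut.conj m) • (T.subgroupOf M) :=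
      ⟨⟨y, h.le hy⟩, Subgroup.mem_subgroupOf.2 hy, rfl⟩
    rw [hm', Subgroup.mem_subgroupOf] at h1
    exact h1

/-- odd-order elements act fixed-point-freely on 2-elements -/
theorem fpf [Finite G] (hG : IsCIT G) {d x : G} (hd : Odd (orderOf d)) (hd1 : d ≠ 1)
    {k : ℕ} (hx : x ^ 2 ^ k = 1) (hc : d * x = x * d) : x = 1 := by
  by_contra hx1
  obtain ⟨j, hj⟩ := CITCommute.exists_involution hx hx1
  obtain ⟨l, hl⟩ := hG _ hj ⟨d, by
    rw [Subgroup.mem_centralizer_singleton_iff]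
    exact (Commute.pow_right (show Commute d x from hc) _).eq⟩
  have hl' : d ^ 2 ^ l = 1 := congrArg Subtype.val hl
  apply hd1
  rw [← orderOf_eq_one_iff]
  have h1 : orderOf d ∣ 2 ^ l := orderOf_dvd_of_pow_eq_one hl'
  exact Nat.Coprime.eq_one_of_dvd (Nat.Coprime.pow_right l hd.coprime_two_right) h1

theorem mem_of_centralizes [Finite G] (hG : IsCIT G) {M X : Subgroup G} (hX : IsO2 M X) (hX1 : X ≠ ⊥)
    {m : G} (hm : m ∈ M) (hc : ∀ v ∈ omegaZ X, m * v = v * m) : m ∈ X :=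
  CITFFAux.mem_of_centralizes hG hX hX1 hm hc

theorem omegaZ_ne_bot [Finite G] {X : Subgroup G} (hX : IsPGroup 2 X) (hX1 : X ≠ ⊥) : omegaZ X ≠ ⊥ :=
  CITFFAux.omegaZ_ne_bot hX hX1

theorem quotient_isCIT [Finite G] (hG : IsCIT G) (X : Subgroup G) [X.Normal] (hX : IsPGroup 2 X) :
    IsCIT (G ⧸ X) :=
  CITFFAux.quotient_isCIT hG X hX

theorem isMaxLocal_normalizer [Finite G] {M X : Subgroup G} (hM : IsMaxLocal M) (hX : X ≠ ⊥) (hXM : X ≤ M)
    (hX2 : IsPGroup 2 X) (hn : ∀ m ∈ M, ∀ x ∈ X, m * x * m⁻¹ ∈ X) :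
    Subgroup.normalizer (X : Set G) = M := by
  have hPn : ∀ m ∈ Subgroup.normalizer (X : Set G), ∀ x ∈ X, m * x * m⁻¹ ∈ X := fun m hm x hx =>
    (Subgroup.mem_normalizer_iff.1 hm x).1 hx
  obtain ⟨Y, hY, hXY⟩ := CITNonCommute.exists_isO2_ge (Subgroup.normalizer (X : Set G)) X
    Subgroup.le_normalizer hX2 hPn
  exact hM.2 _ (CITNonCommute.le_normalizer_of_forall hn) ⟨Y, fun h => hX (le_bot_iff.1 (h ▸ hXY)), hY⟩

theorem exists_isMaxLocal [Finite G] {L : Subgroup G} (hL : ∃ X : Subgroup G, X ≠ ⊥ ∧ IsO2 L X) :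
    ∃ M, L ≤ M ∧ IsMaxLocal M := by
  let S : Set (Subgroup G) := {M | ∃ X : Subgroup G, X ≠ ⊥ ∧ IsO2 M X}
  obtain ⟨M, hLM, hM⟩ := (Set.toFinite S).exists_le_maximal (show L ∈ S from hL)
  exact ⟨M, hLM, hM.1, fun K hMK hK => le_antisymm (hM.2 hK hMK) hMK⟩

end Cfsg.Agent.LieExceptional.CITBasic
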