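import Cfsg.Agent.LieExceptional.CITFF
import Cfsg.Agent.LieExceptional.CITDefs
import Cfsg.Agent.S1230

/-!
# The FF lemma for CIT groups: stub form (`blueprints/CITStub.lean.txt`, section B)
-/

set_option autoImplicit false

namespace Cfsg.Agent.LieExceptional.CITFFMain

open Cfsg.Agent.LieExceptional.CITDefs CITFF

variable {M V : Type*} [Group M] [Finite M] [CommGroup V] [Finite V] [MulDistribMulAction M V]

theorem card_fixed_sq (hV : ∀ v : V, v * v = 1)
    (hstab : ∀ v : V, v ≠ 1 → IsPGroup 2 (MulAction.stabilizer M v))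
    (hO2 : ∀ N : Subgroup M, N.Normal → IsPGroup 2 N → N = ⊥) {t : M} (ht : orderOf t = 2) :
    Nat.card {v : V // t • v = v} ^ 2 = Nat.card V := by
  have ht2 : t * t = 1 := by rw [← pow_two, ← ht, pow_orderOf_eq_one]
  have ht1 : t ≠ 1 := by
    rintro rfl
    rw [orderOf_one] at ht
    omega
  obtain ⟨k, hk1, hodd, hk⟩ := Involutions.BaerSuzuki.exists_odd_inverted t ht2 (by
    intro hP
    have h2 := hO2 _ inferInstance hP
    apply ht1
    have h3 : t ∈ Subgroup.normalClosure ({t} : Set M) :=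
      Subgroup.subset_normalClosure (Set.mem_singleton t)
    rw [h2] at h3
    exact Subgroup.mem_bot.1 h3)
  have hfree : ∀ v : V, k • v = v → v = 1 := by
    intro v hv
    by_contra hv1
    exact hk1 (eq_one_of_odd_of_isPGroup (hstab v hv1) (MulAction.mem_stabilizer_iff.2 hv) hodd)
  exact CITModule.card_fix_sq hV ht2 hk hodd hfree

theorem psl (hM : ∃ A : Subgroup M, Hyp V A ∧ 2 < Nat.card A) :
    ∃ (A : Subgroup M) (_ : Hyp V A) (F : Type) (_ : Field F) (_ : Fintype F), Fintype.card F = Nat.card A ∧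
        Nonempty (M ≃* Matrix.ProjectiveSpecialLinearGroup (Fin 2) F) := by
  obtain ⟨A, h, h2⟩ := hM
  refine ⟨A, h, ?_⟩
  have hA2 : IsPGroup 2 A := Hyp.isPGroup_elem h.elem
  haveI : Fact (Nat.Prime 2) := ⟨Nat.prime_two⟩
  obtain ⟨T, hT⟩ := hA2.exists_le_sylow
  have hTA : (T : Subgroup M) = A := h.max T.isPGroup' hT
  have hres := Cfsg.Agent.S1230.result T ?_ ?_ ?_
  · obtain ⟨F, i1, i2, hF, hiso⟩ := hres
    refine ⟨F, i1, i2, ?_, hiso⟩
    rw [hF]
    exact congrArg (fun S : Subgroup M => Nat.card S) hTA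
  · -- not cyclic
    rw [hTA]
    intro hc
    obtain ⟨g, hg⟩ := hc.exists_generator
    have h3 : Nat.card A = orderOf g := by
      rw [← Nat.card_zpowers]
      have : Subgroup.zpowers g = ⊤ := by
        rw [eq_top_iff]
        intro x _
        exact hg x
      rw [this]
      exact (Subgroup.card_top).symm
    have h4 : orderOf g ∣ 2 := by
      apply orderOf_dvd_of_pow_eq_one
      rw [pow_two]
      exact Subtype.ext (h.elem g g.2)
    have h5 := Nat.le_of_dvd (by norm_num) h4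
    omega
  · rw [hTA]
    intro hn
    exact h.A_ne (h.o2 A hn hA2)
  · intro t ht
    have ht2 : t * t = 1 := by rw [← pow_two, ← ht, pow_orderOf_eq_one]
    have ht1 : t ≠ 1 := by
      rintro rfl
      rw [orderOf_one] at ht
      omega
    obtain ⟨m, hm⟩ := h.exists_conj_mem ht2
    have hm1 : m * t * m⁻¹ ≠ 1 := by
      intro h5
      apply ht1
      rwa [mul_inv_eq_one, mul_eq_left] at h5
    have key : ∀ c ∈ Subgroup.centralizer ({t} : Set M), m * c * m⁻¹ ∈ A := by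
      intro c hc
      rw [Subgroup.mem_centralizer_singleton_iff] at hc
      apply h.mem_of_comm' hm hm1
      calc m * c * m⁻¹ * (m * t * m⁻¹) = m * (c * t) * m⁻¹ := by group
        _ = m * (t * c) * m⁻¹ := by rw [hc]
        _ = m * t * m⁻¹ * (m * c * m⁻¹) := by group
    constructor
    · refine ⟨⟨?_⟩⟩
      rintro ⟨c, hc⟩ ⟨d, hd⟩
      apply Subtype.ext
      show c * d = d * c
      have h6 := h.comm_A (key c hc) (key d hd)
      have h7 : m * (c * d) * m⁻¹ = m * (d * c) * m⁻¹ := by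
        calc m * (c * d) * m⁻¹ = m * c * m⁻¹ * (m * d * m⁻¹) := by group
          _ = m * d * m⁻¹ * (m * c * m⁻¹) := h6
          _ = m * (d * c) * m⁻¹ := by group
      exact mul_left_cancel (mul_right_cancel h7)
    · intro c hc
      have h6 := h.elem _ (key c hc)
      have h7 : m * (c * c) * m⁻¹ = 1 := by
        rw [← h6]
        group
      rw [pow_two]
      rwa [mul_inv_eq_one, mul_eq_left] at h7

/-- abstract FF lemma, in the form of the stub -/
theorem ff (hV : ∀ v : V, v * v = 1) (hfaith : ∀ m : M, (∀ v : V, m • v = v) → m = 1)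
    (hstab : ∀ v : V, v ≠ 1 → IsPGroup 2 (MulAction.stabilizer M v)) (hCIT : IsCIT M)
    (hO2 : ∀ N : Subgroup M, N.Normal → IsPGroup 2 N → N = ⊥)
    (A : Subgroup M) (hA : Elem A) (hA1 : A ≠ ⊥)
    (hoff : Nat.card V ≤ Nat.card A * Nat.card {v : V // ∀ a ∈ A, a • v = v}) :
    ∃ n : ℕ, 1 ≤ n ∧ Nat.card A = 2 ^ n ∧ Nat.card V = (2 ^ n) ^ 2 ∧
      Nat.card M = (2 ^ n + 1) * 2 ^ n * (2 ^ n - 1) ∧
      (∀ T : Subgroup M, A ≤ T → IsPGroup 2 T → T = A) ∧
      Nat.card {v : V // ∀ a ∈ A, a • v = v} = 2 ^ n ∧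
      (∀ a ∈ A, a ≠ 1 → ∀ v : V, a • v = v → ∀ b ∈ A, b • v = v) ∧
      (∀ a ∈ A, ∀ v : V, ∀ b ∈ A, b • (a • v * v⁻¹) = a • v * v⁻¹) ∧
      (∀ v w : V, v ≠ 1 → w ≠ 1 → ∃ m : M, m • v = w) ∧
      (∀ m : M, (∃ v : V, v ≠ 1 ∧ (∀ a ∈ A, a • v = v) ∧ (∀ a ∈ A, a • m • v = m • v)) →
        (∀ v : V, (∀ a ∈ A, a • v = v) → ∀ a ∈ A, a • m • v = m • v) ∧ ∀ a ∈ A, m * a * m⁻¹ ∈ A) ∧
      (∀ L : Subgroup M, A ≤ L → (∀ d : M, orderOf d = 3 → d ∈ L) → L = ⊤) ∧
      (∀ N : Subgroup M, N.Normal → N ≠ ⊥ → ∃ d ∈ N, d ≠ 1 ∧ Odd (orderOf d)) ∧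
      (2 ≤ n → ∃ (F : Type) (_ : Field F) (_ : Fintype F), Fintype.card F = 2 ^ n ∧
        Nonempty (M ≃* Matrix.ProjectiveSpecialLinearGroup (Fin 2) F)) := by
  have hne : ∃ v : V, v ≠ 1 := by
    by_contra hcon
    push Not at hcon
    apply hA1
    rw [Subgroup.eq_bot_iff_forall]
    intro a _
    apply hfaith
    intro v
    rw [hcon v, smul_one]
  have h : Hyp V A :=
    { sq := hV
      ne := hne
      cit := hCIT
      o2 := hO2
      stab := hstab
      elem := hA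
      A_ne := hA1
      ff := hoff }
  obtain ⟨n, hn, hq⟩ := h.exists_pow
  refine ⟨n, hn, hq, ?_, ?_, ?_, ?_, ?_, ?_, ?_, ?_, ?_, ?_, ?_⟩
  · rw [← hq]; exact h.card_V
  · rw [← hq]; exact h.card_M
  · intro T hAT hT
    exact h.max hT hAT
  · rw [← hq]; exact h.card_C
  · intro a ha ha1 v hv
    exact (CITFF.main h).fix_eq a ha ha1 v hv
  · intro a ha v
    exact (CITFF.main h).comm_mem a ha v
  · intro v w hv hw
    exact h.trans hv hw
  · rintro m ⟨v, hv1, hv, hmv⟩
    have h1 := h.spread (g := m) (v := v) hv hv1 hmv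
    exact ⟨h1, fun a ha => h.normalizes (m := m) h1 ha⟩
  · intro L hL h3
    exact h.gen hL h3
  · exact h.normal_odd
  · intro h2n
    have h2 : 2 < Nat.card A := by
      rw [hq]
      calc 2 < 2 ^ 2 := by norm_num
        _ ≤ 2 ^ n := Nat.pow_le_pow_right (by norm_num) h2n
    obtain ⟨B, hB, F, i1, i2, hF, hiso⟩ := psl (V := V) ⟨A, h, h2⟩
    refine ⟨F, i1, i2, ?_, hiso⟩
    rw [hF, ← hq]
    -- `|B|² = |V| = |A|²`
    have h3 := hB.card_V
    rw [h.card_V] at h3
    exact (Nat.pow_left_injective (by norm_num) h3).symm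

end Cfsg.Agent.LieExceptional.CITFFMain
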