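import Mathlib
import Cfsg.Agent.LieExceptional.CITDefs
import Cfsg.Agent.LieExceptional.CITFFAux
import Cfsg.Agent.LieExceptional.CITFFMain

/-!
# CIT project, part C1: the FF-lemma inside a subgroup `M` of a CIT group `G`
-/

set_option autoImplicit false

namespace Cfsg.Agent.LieExceptional.CITFFLocal

open Cfsg.Agent.LieExceptional.CITDefs
open Cfsg.Agent.LieExceptional.CITFFAux (mem_of_centralizes quotient_isCIT omegaZ_conj)
open Cfsg.Agent.LieExceptional.CITFFMain (ff)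

variable {G : Type*} [Group G]

/-- commutative group structure on `Ω₁(Z(X))` -/
abbrev omegaZComm (X : Subgroup G) : CommGroup (omegaZ X) :=
  { (inferInstance : Group (omegaZ X)) with
    mul_comm := fun a b => Subtype.ext (a.2.2.2 _ b.2.1) }

/-- conjugation action of `M` on a subgroup `V` it normalises -/
def conjHom (M V : Subgroup G) (h : ∀ m ∈ M, ∀ x ∈ V, m * x * m⁻¹ ∈ V) : M →* MulAut V where
  toFun m :=
    { toFun := fun v => ⟨m * v * (m : G)⁻¹, h m m.2 v v.2⟩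
      invFun := fun v => ⟨(m : G)⁻¹ * v * m, by
        have := h (m : G)⁻¹ (M.inv_mem m.2) v v.2
        simpa using this⟩
      left_inv := fun v => Subtype.ext (by
        show (m : G)⁻¹ * (m * v * (m : G)⁻¹) * m = v
        group)
      right_inv := fun v => Subtype.ext (by
        show (m : G) * ((m : G)⁻¹ * v * m) * (m : G)⁻¹ = v
        group)
      map_mul' := fun v w => Subtype.ext (by
        show (m : G) * (v * w) * (m : G)⁻¹ = (m * v * (m : G)⁻¹) * (m * w * (m : G)⁻¹)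
        group) }
  map_one' := by
    ext v
    show (1 : G) * v * (1 : G)⁻¹ = v
    group
  map_mul' m n := by
    ext v
    show ((m : G) * n) * v * ((m : G) * n)⁻¹ = m * (n * v * (n : G)⁻¹) * (m : G)⁻¹
    group

theorem conjHom_apply (M V : Subgroup G) (h : ∀ m ∈ M, ∀ x ∈ V, m * x * m⁻¹ ∈ V) (m : M) (v : V) :
    ((conjHom M V h m v : V) : G) = m * v * (m : G)⁻¹ := rfl

theorem conjHom_eq_self_iff (M V : Subgroup G) (h : ∀ m ∈ M, ∀ x ∈ V, m * x * m⁻¹ ∈ V) (m : M) (v : V) :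
    conjHom M V h m v = v ↔ (m : G) * v = v * m := by
  rw [Subtype.ext_iff, conjHom_apply, mul_inv_eq_iff_eq_mul]

theorem IsCIT.subgroup (hG : IsCIT G) (M : Subgroup G) : IsCIT M := by
  intro t ht
  have h1 : orderOf (t : G) = 2 := by rw [Subgroup.orderOf_coe, ht]
  have h2 := hG t h1
  intro ⟨x, hx⟩
  obtain ⟨k, hk⟩ := h2 ⟨(x : G), by
    rw [Subgroup.mem_centralizer_singleton_iff] at hx ⊢
    exact congrArg (Subtype.val) hx⟩
  refine ⟨k, ?_⟩
  have h3 : (x : G) ^ 2 ^ k = 1 := congrArg Subtype.val hk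
  exact Subtype.ext (Subtype.ext h3)

theorem IsCIT.equiv {G' : Type*} [Group G'] (hG : IsCIT G) (e : G ≃* G') : IsCIT G' := by
  intro t ht
  have h1 : orderOf (e.symm t) = 2 := by rw [MulEquiv.orderOf_eq, ht]
  have h2 := hG _ h1
  intro ⟨x, hx⟩
  obtain ⟨k, hk⟩ := h2 ⟨e.symm x, by
    rw [Subgroup.mem_centralizer_singleton_iff] at hx ⊢
    rw [← map_mul, ← map_mul, hx]⟩
  refine ⟨k, ?_⟩
  have h3 : (e.symm x) ^ 2 ^ k = 1 := congrArg Subtype.val hk
  rw [← map_pow] at h3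
  have h4 : x ^ 2 ^ k = 1 := by
    have := congrArg e h3
    simpa using this
  exact Subtype.ext h4

/-- a power of `m` of odd order with exponent a power of 2 -/
theorem exists_pow_odd [Finite G] (m : G) : ∃ k : ℕ, Odd (orderOf (m ^ 2 ^ k)) := by
  obtain ⟨k, r, hr, hkr⟩ := Nat.exists_eq_two_pow_mul_odd (n := orderOf m) (orderOf_pos m).ne'
  refine ⟨k, ?_⟩
  rw [orderOf_pow' m (by positivity), hkr]
  have : Nat.gcd (2 ^ k * r) (2 ^ k) = 2 ^ k := Nat.gcd_eq_right ⟨r, rfl⟩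
  rw [this, Nat.mul_div_cancel_left _ (by positivity)]
  exact hr

theorem isPGroup_of_hom {M N : Type*} [Group M] [Group N] (φ : M →* N) (hker : IsPGroup 2 φ.ker)
    {P : Subgroup N} (hP : IsPGroup 2 P) : IsPGroup 2 (P.comap φ) := by
  rintro ⟨x, hx⟩
  obtain ⟨k, hk⟩ := hP ⟨φ x, hx⟩
  have h1 : φ x ^ 2 ^ k = 1 := congrArg Subtype.val hk
  obtain ⟨l, hl⟩ := hker ⟨x ^ 2 ^ k, by rw [MonoidHom.mem_ker, map_pow, h1]⟩
  have h2 : (x ^ 2 ^ k) ^ 2 ^ l = 1 := congrArg Subtype.val hl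
  refine ⟨k + l, Subtype.ext ?_⟩
  show x ^ 2 ^ (k + l) = 1
  rw [pow_add, pow_mul, h2]

/-- the FF-lemma for a not necessarily faithful action -/
theorem ffRange {M V : Type*} [Group M] [Finite M] [CommGroup V] [Finite V] (φ : M →* MulAut V)
    (hCIT : IsCIT M) (hker : IsPGroup 2 φ.ker)
    (hO2 : ∀ N : Subgroup M, N.Normal → IsPGroup 2 N → N ≤ φ.ker)
    (hV : ∀ v : V, v * v = 1)
    (hstab : ∀ v : V, v ≠ 1 → ∀ m : M, φ m v = v → ∃ k : ℕ, m ^ 2 ^ k = 1)
    (A : Subgroup M) (hA : Elem A) (hA1 : ¬ A ≤ φ.ker)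
    (hoff : Nat.card V * Nat.card ↥(A ⊓ φ.ker) ≤
      Nat.card A * Nat.card {v : V // ∀ a ∈ A, φ a v = v}) :
    ∃ n : ℕ, 1 ≤ n ∧ Nat.card A = 2 ^ n * Nat.card ↥(A ⊓ φ.ker) ∧ Nat.card V = (2 ^ n) ^ 2 ∧
      Nat.card M = (2 ^ n + 1) * 2 ^ n * (2 ^ n - 1) * Nat.card φ.ker ∧
      (∀ T : Subgroup M, A ≤ T → IsPGroup 2 T → T ≤ A ⊔ φ.ker) ∧
      Nat.card {v : V // ∀ a ∈ A, φ a v = v} = 2 ^ n ∧
      (∀ a ∈ A, a ∉ φ.ker → ∀ v : V, φ a v = v → ∀ b ∈ A, φ b v = v) ∧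
      (∀ a ∈ A, ∀ v : V, ∀ b ∈ A, φ b (φ a v * v⁻¹) = φ a v * v⁻¹) ∧
      (∀ v w : V, v ≠ 1 → w ≠ 1 → ∃ m : M, φ m v = w) ∧
      (∀ m : M, (∃ v : V, v ≠ 1 ∧ (∀ a ∈ A, φ a v = v) ∧ (∀ a ∈ A, φ a (φ m v) = φ m v)) →
        (∀ v : V, (∀ a ∈ A, φ a v = v) → ∀ a ∈ A, φ a (φ m v) = φ m v) ∧
          ∀ a ∈ A, m * a * m⁻¹ ∈ A ⊔ φ.ker) ∧
      (∀ L : Subgroup M, A ⊔ φ.ker ≤ L → (∀ d : M, orderOf d = 3 → d ∈ L) → L = ⊤) ∧
      (∀ N : Subgroup M, N.Normal → ¬ N ≤ φ.ker → ∃ d ∈ N, d ≠ 1 ∧ Odd (orderOf d)) := by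
  classical
  set ψ : M →* φ.range := φ.rangeRestrict with hψ
  have hψs : Function.Surjective ψ := φ.rangeRestrict_surjective
  have hψk : ψ.ker = φ.ker := φ.ker_rangeRestrict
  have hsmul : ∀ (m : M) (v : V), ψ m • v = φ m v := fun m v => rfl
  have hfix : ∀ v : V, (∀ a ∈ A.map ψ, a • v = v) ↔ ∀ a ∈ A, φ a v = v := by
    intro v
    constructor
    · intro h a ha
      exact h (ψ a) (Subgroup.mem_map_of_mem ψ ha)
    · rintro h _ ⟨a, ha, rfl⟩
      exact h a ha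
  have hcardfix : Nat.card {v : V // ∀ a ∈ A.map ψ, a • v = v} = Nat.card {v : V // ∀ a ∈ A, φ a v = v} :=
    Nat.card_congr (Equiv.subtypeEquivRight hfix)
  -- cardinality of the image
  have hcardmap : ∀ B : Subgroup M, Nat.card (B.map ψ) * Nat.card ↥(B ⊓ φ.ker) = Nat.card B := by
    intro B
    have h1 := Subgroup.card_mul_index (φ.ker.subgroupOf B)
    have h2 : (φ.ker.subgroupOf B).index = Nat.card (B.map ψ) := by
      rw [← hψk]
      exact Subgroup.relIndex_ker B ψ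
    have h3 : Nat.card (φ.ker.subgroupOf B) = Nat.card ↥(B ⊓ φ.ker) := by
      rw [inf_comm, ← Subgroup.inf_subgroupOf_right]
      exact Nat.card_congr (Subgroup.subgroupOfEquivOfLe inf_le_right).toEquiv
    rw [h2, h3] at h1
    rw [← h1, mul_comm]
  have hcardM : Nat.card φ.range * Nat.card φ.ker = Nat.card M := by
    rw [← Subgroup.index_ker, mul_comm, Subgroup.card_mul_index]
  have hfaith' : ∀ m : φ.range, (∀ v : V, m • v = v) → m = 1 := by
    intro m hm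
    apply Subtype.ext
    ext v
    exact hm v
  have hstab' : ∀ v : V, v ≠ 1 → IsPGroup 2 (MulAction.stabilizer φ.range v) := by
    rintro v hv ⟨m, hm⟩
    obtain ⟨m', rfl⟩ := hψs m
    obtain ⟨k, hk⟩ := hstab v hv m' hm
    exact ⟨k, Subtype.ext (by show ψ m' ^ 2 ^ k = 1; rw [← map_pow, hk, map_one])⟩
  have hCIT' : IsCIT φ.range := by
    have h1 := quotient_isCIT hCIT φ.ker hker
    exact IsCIT.equiv h1 (QuotientGroup.quotientKerEquivRange φ)
  have hO2' : ∀ N : Subgroup φ.range, N.Normal → IsPGroup 2 N → N = ⊥ := by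
    intro N hN hN2
    have h1 : IsPGroup 2 (N.comap ψ) := isPGroup_of_hom ψ (hψk ▸ hker) hN2
    have h2 := hO2 (N.comap ψ) (hN.comap ψ) h1
    rw [eq_bot_iff]
    intro x hx
    obtain ⟨m, rfl⟩ := hψs x
    have h3 := h2 (show m ∈ N.comap ψ from hx)
    rw [← hψk, MonoidHom.mem_ker] at h3
    rw [h3]
    exact Subgroup.mem_bot.2 rfl
  have hA' : Elem (A.map ψ) := by
    rintro _ ⟨a, ha, rfl⟩
    rw [← map_mul, hA a ha, map_one]
  have hA1' : A.map ψ ≠ ⊥ := by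
    intro h
    apply hA1
    rw [← hψk]
    exact (Subgroup.map_eq_bot_iff _).1 h
  have hoff' : Nat.card V ≤ Nat.card (A.map ψ) * Nat.card {v : V // ∀ a ∈ A.map ψ, a • v = v} := by
    rw [hcardfix]
    have h1 : 0 < Nat.card ↥(A ⊓ φ.ker) := Nat.card_pos
    apply Nat.le_of_mul_le_mul_right _ h1
    calc Nat.card V * Nat.card ↥(A ⊓ φ.ker) ≤ _ := hoff
      _ = _ := by rw [← hcardmap A]; ring
  obtain ⟨n, hn1, hnA, hnV, hnM, hnT, hnC, hnc, hncomm, hntr, hnsp, hngen, hnodd, -⟩ :=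
    ff (M := φ.range) (V := V) hV hfaith' hstab' hCIT' hO2' (A.map ψ) hA' hA1' hoff'
  refine ⟨n, hn1, ?_, hnV, ?_, ?_, ?_, ?_, ?_, ?_, ?_, ?_, ?_⟩
  · rw [← hcardmap A, hnA]
  · rw [← hcardM, hnM]
  · intro T hAT hT x hx
    have h1 := hnT (T.map ψ) (Subgroup.map_mono hAT) (hT.map ψ)
    have h2 : ψ x ∈ A.map ψ := h1 ▸ Subgroup.mem_map_of_mem ψ hx
    obtain ⟨a, ha, hax⟩ := h2
    have h3 : a⁻¹ * x ∈ φ.ker := by
      rw [← hψk, MonoidHom.mem_ker, map_mul, map_inv, hax, inv_mul_cancel]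
    have h4 : x = a * (a⁻¹ * x) := by group
    rw [h4]
    exact mul_mem (Subgroup.mem_sup_left ha) (Subgroup.mem_sup_right h3)
  · rw [← hcardfix, hnC]
  · intro a ha hak v hv
    have h1 : ψ a ≠ 1 := fun h => hak (by rw [← hψk, MonoidHom.mem_ker, h])
    have h2 := hnc (ψ a) (Subgroup.mem_map_of_mem ψ ha) h1 v hv
    exact (hfix v).1 h2
  · intro a ha v b hb
    exact hncomm (ψ a) (Subgroup.mem_map_of_mem ψ ha) v (ψ b) (Subgroup.mem_map_of_mem ψ hb)
  · intro v w hv hw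
    obtain ⟨m, hm⟩ := hntr v w hv hw
    obtain ⟨m', rfl⟩ := hψs m
    exact ⟨m', hm⟩
  · rintro m ⟨v, hv1, hv2, hv3⟩
    obtain ⟨h1, h2⟩ := hnsp (ψ m) ⟨v, hv1, (hfix v).2 hv2, (hfix _).2 hv3⟩
    refine ⟨fun w hw a ha => h1 w ((hfix w).2 hw) (ψ a) (Subgroup.mem_map_of_mem ψ ha), ?_⟩
    intro a ha
    obtain ⟨b, hb, hba⟩ := h2 (ψ a) (Subgroup.mem_map_of_mem ψ ha)
    have h3 : b⁻¹ * (m * a * m⁻¹) ∈ φ.ker := by
      rw [← hψk, MonoidHom.mem_ker, map_mul, map_inv, hba, map_mul, map_mul, map_inv,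
        inv_mul_cancel]
    have h4 : m * a * m⁻¹ = b * (b⁻¹ * (m * a * m⁻¹)) := by group
    rw [h4]
    exact mul_mem (Subgroup.mem_sup_left hb) (Subgroup.mem_sup_right h3)
  · intro L hL hd
    have h1 := hngen (L.map ψ) (Subgroup.map_mono (le_sup_left.trans hL)) ?_
    · rw [eq_top_iff]
      intro x _
      have h2 : ψ x ∈ L.map ψ := h1 ▸ Subgroup.mem_top _
      obtain ⟨l, hl, hlx⟩ := h2
      have h3 : l⁻¹ * x ∈ φ.ker := by
        rw [← hψk, MonoidHom.mem_ker, map_mul, map_inv, hlx, inv_mul_cancel]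
      have h4 : x = l * (l⁻¹ * x) := by group
      rw [h4]
      exact mul_mem hl (hL (Subgroup.mem_sup_right h3))
    · intro d hd3
      obtain ⟨m, rfl⟩ := hψs d
      -- an element of order 3 in the coset
      have h3 : m ^ 3 ∈ φ.ker := by
        rw [← hψk, MonoidHom.mem_ker, map_pow, ← hd3, pow_orderOf_eq_one]
      obtain ⟨l, hl⟩ := hker ⟨m ^ 3, h3⟩
      have hl' : (m ^ 3) ^ 2 ^ l = 1 := congrArg Subtype.val hl
      have h4 : (m ^ 2 ^ l) ^ 3 = 1 := by rw [← pow_mul, mul_comm, pow_mul, hl']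
      have h5 : ((ψ m) ^ 2 ^ l) ^ 2 ^ l = ψ m := by
        have h6 : 2 ^ l * 2 ^ l ≡ 1 [MOD orderOf (ψ m)] := by
          rw [hd3, ← mul_pow]
          exact Nat.ModEq.pow l (show 2 * 2 ≡ 1 [MOD 3] from rfl) |>.trans (by rw [one_pow])
        rw [← pow_mul]
        conv_rhs => rw [← pow_one (ψ m)]
        exact pow_eq_pow_iff_modEq.2 h6
      have h6 : orderOf (m ^ 2 ^ l) = 3 := by
        apply orderOf_eq_prime h4
        intro h
        have h7 : ψ m ^ 2 ^ l = 1 := by rw [← map_pow, h, map_one]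
        rw [h7, one_pow] at h5
        rw [← h5, orderOf_one] at hd3
        omega
      rw [← h5, ← map_pow, ← map_pow]
      exact Subgroup.mem_map_of_mem ψ (pow_mem (hd _ h6) _)
  · intro N hN hNk
    have hne : N.map ψ ≠ ⊥ := by
      intro h
      apply hNk
      rw [← hψk]
      exact (Subgroup.map_eq_bot_iff _).1 h
    obtain ⟨d, hdN, hd1, hdodd⟩ := hnodd (N.map ψ) (hN.map ψ hψs) hne
    obtain ⟨m, hm, rfl⟩ := hdN
    obtain ⟨k, hk⟩ := exists_pow_odd m
    refine ⟨m ^ 2 ^ k, pow_mem hm _, ?_, hk⟩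
    intro h
    have h1 : ψ m ^ 2 ^ k = 1 := by rw [← map_pow, h, map_one]
    have h2 : orderOf (ψ m) ∣ 2 ^ k := orderOf_dvd_of_pow_eq_one h1
    have h3 : orderOf (ψ m) = 1 :=
      Nat.Coprime.eq_one_of_dvd (Nat.Coprime.pow_right k (Nat.coprime_two_right.2 hdodd)) h2
    exact hd1 (orderOf_eq_one_iff.1 h3)

theorem card_inf_mul_relIndex (H K : Subgroup G) :
    Nat.card ↥(H ⊓ K) * H.relIndex K = Nat.card K := by
  have h1 := Subgroup.card_mul_index (H.subgroupOf K)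
  have h3 : Nat.card (H.subgroupOf K) = Nat.card ↥(H ⊓ K) := by
    rw [← Subgroup.inf_subgroupOf_right]
    exact Nat.card_congr (Subgroup.subgroupOfEquivOfLe inf_le_right).toEquiv
  rw [h3] at h1
  exact h1

theorem card_mul_card_le [Finite G] {H K B : Subgroup G} (hH : H ≤ B) (hK : K ≤ B) :
    Nat.card H * Nat.card K ≤ Nat.card B * Nat.card ↥(H ⊓ K) := by
  have h1 := card_inf_mul_relIndex H K
  have h2 := card_inf_mul_relIndex H B
  rw [inf_eq_left.2 hH] at h2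
  have h3 : H.relIndex K ≤ H.relIndex B := Subgroup.relIndex_le_of_le_right hK (by
    intro h
    rw [h, mul_zero] at h2
    exact Nat.card_pos.ne h2)
  calc Nat.card H * Nat.card K = Nat.card H * (Nat.card ↥(H ⊓ K) * H.relIndex K) := by rw [h1]
    _ ≤ Nat.card H * (Nat.card ↥(H ⊓ K) * H.relIndex B) := by gcongr
    _ = (Nat.card H * H.relIndex B) * Nat.card ↥(H ⊓ K) := by ring
    _ = _ := by rw [h2]

theorem IsSyl2.le_of_normal [Finite G] {M X T : Subgroup G} (hX : IsO2 M X) (hT : IsSyl2 M T) : X ≤ T := by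
  have h1 : T ≤ Subgroup.normalizer (X : Set G) := by
    intro t ht
    rw [Subgroup.mem_normalizer_iff]
    intro x
    constructor
    · intro hx
      exact hX.normal t (hT.le ht) x hx
    · intro hx
      have := hX.normal t⁻¹ (M.inv_mem (hT.le ht)) _ hx
      have h2 : t⁻¹ * (t * x * t⁻¹) * t⁻¹⁻¹ = x := by group
      rwa [h2] at this
  have h2 := hT.max (T ⊔ X) (sup_le hT.le hX.le)
    (IsPGroup.to_sup_of_normal_right' hT.two hX.two h1) le_sup_left
  rw [← h2]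
  exact le_sup_right

theorem card_subgroupOf {H K : Subgroup G} (h : H ≤ K) : Nat.card (H.subgroupOf K) = Nat.card H :=
  Nat.card_congr (Subgroup.subgroupOfEquivOfLe h).toEquiv

/-- the product of an elementary abelian subgroup of `X` with `Ω₁(Z(X))` -/
def prodOmega (E X : Subgroup G) (hEX : E ≤ X) : Subgroup G where
  carrier := {x | ∃ a ∈ E, ∃ v ∈ omegaZ X, x = a * v}
  one_mem' := ⟨1, E.one_mem, 1, (omegaZ X).one_mem, by group⟩
  mul_mem' := by
    rintro _ _ ⟨a, ha, v, hv, rfl⟩ ⟨b, hb, w, hw, rfl⟩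
    refine ⟨a * b, E.mul_mem ha hb, v * w, (omegaZ X).mul_mem hv hw, ?_⟩
    have h1 := hv.2.2 b (hEX hb)
    calc a * v * (b * w) = a * (v * b) * w := by group
      _ = a * (b * v) * w := by rw [h1]
      _ = a * b * (v * w) := by group
  inv_mem' := by
    rintro _ ⟨a, ha, v, hv, rfl⟩
    refine ⟨a⁻¹, E.inv_mem ha, v⁻¹, (omegaZ X).inv_mem hv, ?_⟩
    have h1 := ((omegaZ X).inv_mem hv).2.2 a⁻¹ (hEX (E.inv_mem ha))
    rw [mul_inv_rev, h1]

theorem prodOmega_elem {E X : Subgroup G} (hEX : E ≤ X) (hE : Elem E) : Elem (prodOmega E X hEX) := by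
  rintro _ ⟨a, ha, v, hv, rfl⟩
  have h1 := hv.2.2 a (hEX ha)
  calc a * v * (a * v) = a * (v * a) * v := by group
    _ = a * (a * v) * v := by rw [h1]
    _ = (a * a) * (v * v) := by group
    _ = 1 := by rw [hE a ha, hv.2.1, one_mul]

theorem le_prodOmega_left {E X : Subgroup G} (hEX : E ≤ X) : E ≤ prodOmega E X hEX :=
  fun a ha => ⟨a, ha, 1, (omegaZ X).one_mem, by group⟩

theorem le_prodOmega_right {E X : Subgroup G} (hEX : E ≤ X) : omegaZ X ≤ prodOmega E X hEX :=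
  fun v hv => ⟨1, E.one_mem, v, hv, by group⟩

theorem prodOmega_le {E X : Subgroup G} (hEX : E ≤ X) : prodOmega E X hEX ≤ X := by
  rintro _ ⟨a, ha, v, hv, rfl⟩
  exact X.mul_mem (hEX ha) hv.1

/-- **Part C1**: if `J(T)` is not contained in `X = O₂(M)` then `M` is of FF-type. -/
theorem ffType [Finite G] (hG : IsCIT G) {M X T : Subgroup G} (hX : IsO2 M X) (hX1 : X ≠ ⊥)
    (hT : IsSyl2 M T) (hJ : ¬ J T ≤ X) : ∃ q, FFType M X T q := by
  classical
  have hn := omegaZ_conj hX.normal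
  have hXT : X ≤ T := IsSyl2.le_of_normal hX hT
  have hVX : omegaZ X ≤ X := fun v hv => hv.1
  obtain ⟨A₀, hA₀, hA₀X⟩ : ∃ A, MaxElem T A ∧ ¬ A ≤ X := by
    by_contra h
    push Not at h
    exact hJ (sSup_le h)
  let _ : CommGroup (omegaZ X) := omegaZComm X
  set φ : M →* MulAut (omegaZ X) := conjHom M (omegaZ X) hn with hφ
  have hφfix : ∀ (m : M) (v : omegaZ X), φ m v = v ↔ (m : G) * v = v * m := fun m v =>
    conjHom_eq_self_iff M (omegaZ X) hn m v
  have hkmem : ∀ m : M, m ∈ φ.ker ↔ (m : G) ∈ X := by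
    intro m
    constructor
    · intro h
      apply mem_of_centralizes hG hX hX1 m.2
      intro v hv
      have h1 : φ m ⟨v, hv⟩ = ⟨v, hv⟩ := by
        rw [MonoidHom.mem_ker] at h
        rw [h]
        rfl
      exact (hφfix m ⟨v, hv⟩).1 h1
    · intro h
      rw [MonoidHom.mem_ker]
      ext v
      have h1 : φ m v = v := (hφfix m v).2 (v.2.2.2 _ h).symm
      rw [h1]
      rfl
  have hkeq : φ.ker = X.subgroupOf M := by
    ext m
    rw [hkmem, Subgroup.mem_subgroupOf]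
  have hker : IsPGroup 2 φ.ker := by
    rw [hkeq]
    exact hX.two.of_equiv (Subgroup.subgroupOfEquivOfLe hX.le).symm
  have hO2 : ∀ N : Subgroup M, N.Normal → IsPGroup 2 N → N ≤ φ.ker := by
    intro N hN hN2 x hx
    rw [hkmem]
    have h1 := hX.max (N.map M.subtype) (by rintro _ ⟨y, _, rfl⟩; exact y.2) (hN2.map _) ?_
    · exact h1 (Subgroup.mem_map_of_mem M.subtype hx)
    · rintro m hm _ ⟨y, hy, rfl⟩
      exact ⟨⟨m, hm⟩ * y * ⟨m, hm⟩⁻¹, hN.conj_mem y hy ⟨m, hm⟩, rfl⟩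
  have hV : ∀ v : omegaZ X, v * v = 1 := fun v => Subtype.ext v.2.2.1
  have hstab : ∀ v : omegaZ X, v ≠ 1 → ∀ m : M, φ m v = v → ∃ k : ℕ, m ^ 2 ^ k = 1 := by
    intro v hv m hm
    have h1 : orderOf (v : G) = 2 := by
      apply orderOf_eq_prime
      · rw [sq]; exact v.2.2.1
      · intro h; exact hv (Subtype.ext h)
    obtain ⟨k, hk⟩ := hG _ h1 ⟨(m : G), by
      rw [Subgroup.mem_centralizer_singleton_iff]
      exact (hφfix m v).1 hm⟩
    have hk' : (m : G) ^ 2 ^ k = 1 := congrArg Subtype.val hk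
    exact ⟨k, Subtype.ext hk'⟩
  have hA₀M : A₀ ≤ M := hA₀.1.trans hT.le
  set A : Subgroup M := A₀.subgroupOf M with hAdef
  have hAe : Elem A := by
    intro a ha
    exact Subtype.ext (hA₀.2.1 a ha)
  have hA1 : ¬ A ≤ φ.ker := by
    intro h
    apply hA₀X
    intro a ha
    exact (hkmem ⟨a, hA₀M ha⟩).1 (h (show (⟨a, hA₀M ha⟩ : M) ∈ A from ha))
  have hcardA : Nat.card A = Nat.card A₀ := card_subgroupOf hA₀M
  have hcardAk : Nat.card ↥(A ⊓ φ.ker) = Nat.card ↥(A₀ ⊓ X) := by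
    have : A ⊓ φ.ker = (A₀ ⊓ X).subgroupOf M := by
      rw [hkeq]
      rfl
    rw [this]
    exact card_subgroupOf (inf_le_left.trans hA₀M)
  -- `(A₀ ⊓ X) V` is elementary abelian
  have hoff : Nat.card (omegaZ X) * Nat.card ↥(A ⊓ φ.ker) ≤
      Nat.card A * Nat.card {v : omegaZ X // ∀ a ∈ A, φ a v = v} := by
    rw [hcardAk, hcardA]
    have hB : Elem (prodOmega (A₀ ⊓ X) X inf_le_right) :=
      prodOmega_elem inf_le_right (fun x hx => hA₀.2.1 x hx.1)
    have h1 : Nat.card ↥(prodOmega (A₀ ⊓ X) X inf_le_right) ≤ Nat.card A₀ :=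
      hA₀.2.2 _ ((prodOmega_le _).trans hXT) hB
    have h2 := card_mul_card_le (G := G) (H := omegaZ X) (K := A₀ ⊓ X)
      (B := prodOmega (A₀ ⊓ X) X inf_le_right) (le_prodOmega_right _) (le_prodOmega_left _)
    have h3 : Nat.card ↥(omegaZ X ⊓ (A₀ ⊓ X)) ≤ Nat.card {v : omegaZ X // ∀ a ∈ A, φ a v = v} := by
      apply Nat.card_le_card_of_injective
        (fun v : ↥(omegaZ X ⊓ (A₀ ⊓ X)) => (⟨⟨v, v.2.1⟩, by
          intro a ha
          rw [hφfix]
          exact hA₀.2.1.comm ha v.2.2.1⟩ : {v : omegaZ X // ∀ a ∈ A, φ a v = v}))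
      intro v w h
      have := congrArg (fun z : {v : omegaZ X // ∀ a ∈ A, φ a v = v} => ((z : omegaZ X) : G)) h
      exact Subtype.ext this
    calc _ ≤ _ := h2
      _ ≤ _ := Nat.mul_le_mul h1 h3
  obtain ⟨n, hn1, hnA, hnV, hnM, hnT, hnC, hnc, hncomm, hntr, hnsp, hngen, hnodd⟩ :=
    ffRange (V := omegaZ X) φ (IsCIT.subgroup hG M) hker hO2 hV hstab A hAe hA1 hoff
  -- the Sylow subgroup
  have hT2 : IsPGroup 2 (T.subgroupOf M) := hT.two.of_equiv (Subgroup.subgroupOfEquivOfLe hT.le).symm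
  have hTeq : T.subgroupOf M = A ⊔ φ.ker := by
    apply le_antisymm
    · exact hnT _ (fun a ha => hA₀.1 ha) hT2
    · apply sup_le (fun a ha => hA₀.1 ha)
      rw [hkeq]
      exact fun x hx => hXT hx
  have hTmem : ∀ t ∈ T, ∃ (m : M) (a : M), (m : G) = t ∧ a ∈ A ∧ φ m = φ a := by
    intro t ht
    have h1 : (⟨t, hT.le ht⟩ : M) ∈ A ⊔ φ.ker := hTeq ▸ (show (⟨t, hT.le ht⟩ : M) ∈ T.subgroupOf M from ht)
    obtain ⟨a, ha, k, hk, hak⟩ := Subgroup.mem_sup_of_normal_right.1 h1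
    refine ⟨⟨t, hT.le ht⟩, a, rfl, ha, ?_⟩
    rw [← hak, map_mul, (MonoidHom.mem_ker).1 hk, mul_one]
  have hfixT : ∀ v : omegaZ X, (∀ a ∈ A, φ a v = v) ↔ (v : G) ∈ omegaZ T := by
    intro v
    constructor
    · intro h
      refine ⟨hXT v.2.1, v.2.2.1, fun t ht => ?_⟩
      obtain ⟨m, a, rfl, ha, hma⟩ := hTmem t ht
      have h1 : φ m v = v := by rw [hma]; exact h a ha
      exact ((hφfix m v).1 h1).symm
    · intro h a ha
      rw [hφfix]
      exact (h.2.2 _ (hA₀.1 ha)).symm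
  have hCle : omegaZ T ≤ omegaZ X := by
    intro x hx
    have h1 : x ∈ X := mem_of_centralizes hG hX hX1 (hT.le hx.1) (fun v hv => hx.2.2 v (hXT hv.1))
    exact ⟨h1, hx.2.1, fun y hy => hx.2.2 y (hXT hy)⟩
  have hcardC : Nat.card (omegaZ T) = 2 ^ n := by
    rw [← hnC]
    apply Nat.card_congr
    exact
      { toFun := fun x => ⟨⟨x, hCle x.2⟩, (hfixT _).2 x.2⟩
        invFun := fun v => ⟨v.1, (hfixT _).1 v.2⟩
        left_inv := fun x => rfl
        right_inv := fun v => rfl }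
  have hqpos : 2 ≤ 2 ^ n := by
    calc 2 = 2 ^ 1 := by norm_num
      _ ≤ 2 ^ n := Nat.pow_le_pow_right (by norm_num) hn1
  have hcardk : Nat.card φ.ker = Nat.card X := by rw [hkeq]; exact card_subgroupOf hX.le
  have hCne : ∃ v ∈ omegaZ T, v ≠ 1 := by
    by_contra h
    push Not at h
    have h1 : omegaZ T = ⊥ := by
      rw [eq_bot_iff]
      intro x hx
      exact Subgroup.mem_bot.2 (h x hx)
    rw [h1, Subgroup.card_bot] at hcardC
    omega
  have hsp : ∀ m ∈ M, (∃ v ∈ omegaZ T, v ≠ 1 ∧ m * v * m⁻¹ ∈ omegaZ T) →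
      (∀ v ∈ omegaZ T, m * v * m⁻¹ ∈ omegaZ T) ∧ ∀ t ∈ T, m * t * m⁻¹ ∈ T := by
    rintro m hm ⟨v, hv, hv1, hmv⟩
    obtain ⟨h1, h2⟩ := hnsp ⟨m, hm⟩ ⟨⟨v, hCle hv⟩, fun h => hv1 (congrArg Subtype.val h),
      (hfixT _).2 hv, (hfixT _).2 hmv⟩
    refine ⟨fun w hw => ?_, fun t ht => ?_⟩
    · have h3 := h1 ⟨w, hCle hw⟩ ((hfixT _).2 hw)
      exact (hfixT _).1 h3
    · have h3 : (⟨t, hT.le ht⟩ : M) ∈ A ⊔ φ.ker := hTeq ▸ (show (⟨t, hT.le ht⟩ : M) ∈ T.subgroupOf M from ht)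
      obtain ⟨a, ha, k, hk, hak⟩ := Subgroup.mem_sup_of_normal_right.1 h3
      have h4 : (⟨m, hm⟩ : M) * ⟨t, hT.le ht⟩ * ⟨m, hm⟩⁻¹ ∈ A ⊔ φ.ker := by
        rw [← hak]
        have h5 : (⟨m, hm⟩ : M) * (a * k) * ⟨m, hm⟩⁻¹ =
            (⟨m, hm⟩ * a * ⟨m, hm⟩⁻¹) * (⟨m, hm⟩ * k * ⟨m, hm⟩⁻¹) := by group
        rw [h5]
        exact mul_mem (h2 a ha) (Subgroup.mem_sup_right ((inferInstance : φ.ker.Normal).conj_mem k hk _))
      rw [← hTeq] at h4
      exact h4
  refine ⟨2 ^ n, ?_⟩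
  exact
    { o2 := hX
      syl := hT
      pow := ⟨n, hn1, rfl⟩
      card_V := hnV
      card_C := hcardC
      C_le := hCle
      card_T := by
        have h1 := card_inf_mul_relIndex φ.ker A
        rw [inf_comm, hnA, mul_comm] at h1
        have h2 : φ.ker.relIndex A = 2 ^ n := Nat.eq_of_mul_eq_mul_right Nat.card_pos h1
        have h3 := card_inf_mul_relIndex φ.ker (A ⊔ φ.ker)
        rw [inf_eq_left.2 le_sup_right, Subgroup.relIndex_sup_right, h2, ← hTeq,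
          card_subgroupOf hT.le, hcardk] at h3
        rw [← h3, mul_comm]
      card_M := by rw [hnM, hcardk]
      centralizer_V := fun m hm hc => mem_of_centralizes hG hX hX1 hm hc
      comm_mem := by
        intro t ht v hv
        obtain ⟨m, a, rfl, ha, hma⟩ := hTmem t ht
        have h1 := (hfixT _).1 (fun b hb => hncomm a ha ⟨v, hv⟩ b hb)
        rw [← hma] at h1
        exact h1
      mem_of_comm := by
        intro t ht htX v hv hc
        obtain ⟨m, a, rfl, ha, hma⟩ := hTmem t ht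
        have h1 : a ∉ φ.ker := by
          intro h
          rw [MonoidHom.mem_ker, ← hma, ← MonoidHom.mem_ker, hkmem] at h
          exact htX h
        have h2 : φ a ⟨v, hv⟩ = ⟨v, hv⟩ := by
          rw [← hma, hφfix]
          exact hc
        exact (hfixT ⟨v, hv⟩).1 (hnc a ha h1 ⟨v, hv⟩ h2)
      sq_mem := by
        intro t ht
        obtain ⟨m, a, rfl, ha, hma⟩ := hTmem t ht
        have h1 : m * m ∈ φ.ker := by
          rw [MonoidHom.mem_ker, map_mul, hma, ← map_mul, hAe a ha, map_one]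
        exact (hkmem _).1 h1
      comm_T := by
        intro t ht s hs
        obtain ⟨m, a, rfl, ha, hma⟩ := hTmem t ht
        obtain ⟨m', b, rfl, hb, hmb⟩ := hTmem s hs
        have h1 : m * m' * m⁻¹ * m'⁻¹ ∈ φ.ker := by
          rw [MonoidHom.mem_ker, map_mul, map_mul, map_mul, map_inv, map_inv, hma, hmb, ← map_mul,
            hAe.comm ha hb, map_mul]
          group
        exact (hkmem _).1 h1
      trans := by
        intro v hv hv1 w hw hw1
        obtain ⟨m, hm⟩ := hntr ⟨v, hv⟩ ⟨w, hw⟩ (fun h => hv1 (congrArg Subtype.val h))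
          (fun h => hw1 (congrArg Subtype.val h))
        exact ⟨m, m.2, congrArg Subtype.val hm⟩
      spread := fun m hm h => (hsp m hm h).1
      normalizes := by
        intro m hm h
        obtain ⟨v, hv, hv1⟩ := hCne
        exact (hsp m hm ⟨v, hv, hv1, h v hv⟩).2
      gen := by
        intro L hTL hd
        have h1 := hngen (L.subgroupOf M) (by rw [← hTeq]; exact fun x hx => hTL hx) (by
          intro d hd3
          exact hd d d.2 (by rw [Subgroup.orderOf_coe, hd3]))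
        intro m hm
        have h2 : (⟨m, hm⟩ : M) ∈ L.subgroupOf M := h1 ▸ Subgroup.mem_top _
        exact h2
      normal_odd := by
        intro N hNM hN hNX
        obtain ⟨d, hdN, hd1, hdodd⟩ := hnodd (N.subgroupOf M)
          ⟨fun x hx m => hN m m.2 x hx⟩ (by
            intro h
            apply hNX
            intro x hx
            exact (hkmem ⟨x, hNM hx⟩).1 (h (show (⟨x, hNM hx⟩ : M) ∈ N.subgroupOf M from hx)))
        exact ⟨d, hdN, fun h => hd1 (Subtype.ext h), by rw [Subgroup.orderOf_coe]; exact hdodd⟩ }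

end Cfsg.Agent.LieExceptional.CITFFLocal
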