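import Mathlib
import Cfsg.Agent.LieExceptional.CITDefs
import Cfsg.Agent.LieExceptional.CITNonCommute

/-!
# CIT project: existence of `O₂(M)`, Sylow 2-subgroups, maximal 2-local subgroups
-/

set_option autoImplicit false

namespace Cfsg.Agent.LieExceptional.CITGlobalBasic

open Cfsg.Agent.LieExceptional.CITDefs
open Cfsg.Agent.LieExceptional.CITNonCommute (exists_isO2_ge le_normalizer_of_forall)

variable {G : Type*} [Group G] [Finite G]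

theorem exists_isO2 (M : Subgroup G) : ∃ X : Subgroup G, IsO2 M X := by
  obtain ⟨X, hX, _⟩ := exists_isO2_ge M ⊥ bot_le IsPGroup.of_bot (fun m _ x hx => by
    rw [Subgroup.mem_bot.1 hx]
    simp)
  exact ⟨X, hX⟩

theorem exists_isSyl2 (M P : Subgroup G) (hP : P ≤ M) (hP2 : IsPGroup 2 P) :
    ∃ T : Subgroup G, IsSyl2 M T ∧ P ≤ T := by
  let S : Set (Subgroup G) := {Y | Y ≤ M ∧ IsPGroup 2 Y}
  obtain ⟨T, hPT, hT⟩ := (Set.toFinite S).exists_le_maximal (show P ∈ S from ⟨hP, hP2⟩)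
  obtain ⟨⟨h1, h2⟩, hmax⟩ := hT
  exact ⟨T, ⟨h1, h2, fun Y hY hY2 hTY => le_antisymm (hmax ⟨hY, hY2⟩ hTY) hTY⟩, hPT⟩

theorem isMaxLocal_normalizer {M X : Subgroup G} (hM : IsMaxLocal M) (hX : X ≠ ⊥) (_hXM : X ≤ M)
    (hX2 : IsPGroup 2 X) (hn : ∀ m ∈ M, ∀ x ∈ X, m * x * m⁻¹ ∈ X) :
    Subgroup.normalizer (X : Set G) = M := by
  obtain ⟨Y, hY, hXY⟩ := exists_isO2_ge (Subgroup.normalizer (X : Set G)) X
    Subgroup.le_normalizer hX2 (fun m hm x hx => (Subgroup.mem_normalizer_iff.1 hm x).1 hx)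
  exact hM.2 _ (le_normalizer_of_forall hn) ⟨Y, fun h => hX (le_bot_iff.1 (h ▸ hXY)), hY⟩

theorem exists_isMaxLocal {L : Subgroup G} (hL : ∃ X : Subgroup G, X ≠ ⊥ ∧ IsO2 L X) :
    ∃ M, L ≤ M ∧ IsMaxLocal M := by
  let S : Set (Subgroup G) := {M | ∃ X : Subgroup G, X ≠ ⊥ ∧ IsO2 M X}
  obtain ⟨M, hLM, hM⟩ := (Set.toFinite S).exists_le_maximal (show L ∈ S from hL)
  exact ⟨M, hLM, hM.1, fun L' hL' h => le_antisymm (hM.2 h hL') hL'⟩

end Cfsg.Agent.LieExceptional.CITGlobalBasic
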