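import Mathlib
import Cfsg.Agent.LieExceptional.CITDefs
import Cfsg.Agent.Lib.ProductSet

/-!
# CIT project, piece C2: `Ω₁Z(J(T)) = Ω₁Z(T)` in the FF case.
-/

set_option autoImplicit false
open Pointwise

namespace Cfsg.Agent.LieExceptional.CITZJ
open Cfsg.Agent.LieExceptional.CITDefs

variable {G : Type*} [Group G]

/-- The product of two commuting elementary abelian subgroups. -/
def prod (A B : Subgroup G) (hc : ∀ a ∈ A, ∀ b ∈ B, a * b = b * a) : Subgroup G where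
  carrier := (A : Set G) * (B : Set G)
  one_mem' := ⟨1, A.one_mem, 1, B.one_mem, mul_one 1⟩
  mul_mem' := by
    rintro _ _ ⟨a, ha, b, hb, rfl⟩ ⟨a', ha', b', hb', rfl⟩
    refine ⟨a * a', A.mul_mem ha ha', b * b', B.mul_mem hb hb', ?_⟩
    show a * a' * (b * b') = a * b * (a' * b')
    calc a * a' * (b * b') = a * (a' * b) * b' := by group
      _ = a * (b * a') * b' := by rw [hc a' ha' b hb]
      _ = a * b * (a' * b') := by group
  inv_mem' := by
    rintro _ ⟨a, ha, b, hb, rfl⟩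
    refine ⟨a⁻¹, A.inv_mem ha, b⁻¹, B.inv_mem hb, ?_⟩
    show a⁻¹ * b⁻¹ = (a * b)⁻¹
    rw [hc a ha b hb, mul_inv_rev]

theorem mem_prod {A B : Subgroup G} (hc : ∀ a ∈ A, ∀ b ∈ B, a * b = b * a) {x : G} :
    x ∈ prod A B hc ↔ ∃ a ∈ A, ∃ b ∈ B, a * b = x := Iff.rfl

theorem left_le {A B : Subgroup G} (hc : ∀ a ∈ A, ∀ b ∈ B, a * b = b * a) : A ≤ prod A B hc :=
  fun a ha => ⟨a, ha, 1, B.one_mem, mul_one a⟩

theorem right_le {A B : Subgroup G} (hc : ∀ a ∈ A, ∀ b ∈ B, a * b = b * a) : B ≤ prod A B hc :=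
  fun b hb => ⟨1, A.one_mem, b, hb, one_mul b⟩

theorem prod_le {A B T : Subgroup G} (hc : ∀ a ∈ A, ∀ b ∈ B, a * b = b * a) (hA : A ≤ T)
    (hB : B ≤ T) : prod A B hc ≤ T := by
  rintro _ ⟨a, ha, b, hb, rfl⟩
  exact T.mul_mem (hA ha) (hB hb)

theorem elem_prod {A B : Subgroup G} (hc : ∀ a ∈ A, ∀ b ∈ B, a * b = b * a) (hA : Elem A)
    (hB : Elem B) : Elem (prod A B hc) := by
  rintro _ ⟨a, ha, b, hb, rfl⟩
  show a * b * (a * b) = 1
  calc a * b * (a * b) = a * (b * a) * b := by group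
    _ = a * (a * b) * b := by rw [hc a ha b hb]
    _ = (a * a) * (b * b) := by group
    _ = 1 := by rw [hA a ha, hB b hb, one_mul]

theorem card_prod {A B : Subgroup G} (hc : ∀ a ∈ A, ∀ b ∈ B, a * b = b * a) :
    Nat.card (prod A B hc) * Nat.card (A ⊓ B : Subgroup G) = Nat.card A * Nat.card B :=
  Cfsg.Agent.Lib.ProductSet.card_mul_card_inf A B

theorem elem_mono {A B : Subgroup G} (h : A ≤ B) (hB : Elem B) : Elem A := fun x hx => hB x (h hx)

theorem elem_omegaZ (T : Subgroup G) : Elem (omegaZ T) := fun _ hx => hx.2.1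

theorem omegaZ_le (T : Subgroup G) : omegaZ T ≤ T := fun _ hx => hx.1

/-- an elementary abelian subgroup of `T` centralising a maximal one lies in it -/
theorem le_of_centralizes [Finite G] {T A B : Subgroup G} (hA : MaxElem T A) (hBT : B ≤ T)
    (hB : Elem B) (hc : ∀ a ∈ A, ∀ b ∈ B, a * b = b * a) : B ≤ A := by
  have h1 := hA.2.2 (prod A B hc) (prod_le hc hA.1 hBT) (elem_prod hc hA.2.1 hB)
  have h2 : A = prod A B hc :=
    Subgroup.eq_of_le_of_card_ge (left_le hc) h1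
  rw [h2]
  exact right_le hc

theorem maxElem_le_J {T A : Subgroup G} (hA : MaxElem T A) : A ≤ J T :=
  le_sSup (show A ∈ {A | MaxElem T A} from hA)

theorem J_le {T L : Subgroup G} (h : ∀ A, MaxElem T A → A ≤ L) : J T ≤ L := sSup_le h

theorem omegaZ_le_maxElem [Finite G] {T A : Subgroup G} (hA : MaxElem T A) : omegaZ T ≤ A :=
  le_of_centralizes hA (omegaZ_le T) (elem_omegaZ T)
    (fun a ha b hb => (hb.2.2 a (hA.1 ha)).symm)

theorem omegaZ_J_le_maxElem [Finite G] {T A : Subgroup G} (hA : MaxElem T A) :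
    omegaZ (J T) ≤ A :=
  le_of_centralizes hA ((omegaZ_le _).trans (J_le fun B hB => hB.1)) (elem_omegaZ _)
    (fun a ha b hb => (hb.2.2 a (maxElem_le_J hA ha)).symm)

/-- conjugation permutes the maximal elementary abelian subgroups of a normalised subgroup -/
theorem maxElem_map [Finite G] {X A : Subgroup G} (hA : MaxElem X A) {m : G}
    (hm : ∀ x ∈ X, m * x * m⁻¹ ∈ X) : MaxElem X (A.map (MulAut.conj m).toMonoidHom) := by
  refine ⟨?_, ?_, ?_⟩
  · rintro _ ⟨a, ha, rfl⟩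
    exact hm a (hA.1 ha)
  · rintro _ ⟨a, ha, rfl⟩
    show m * a * m⁻¹ * (m * a * m⁻¹) = 1
    calc m * a * m⁻¹ * (m * a * m⁻¹) = m * (a * a) * m⁻¹ := by group
      _ = 1 := by rw [hA.2.1 a ha]; group
  · intro B hB hBe
    rw [Subgroup.card_map_of_injective (MulAut.conj m).injective]
    exact hA.2.2 B hB hBe

theorem J_normalized [Finite G] {X : Subgroup G} {m : G} (hm : ∀ x ∈ X, m * x * m⁻¹ ∈ X) :
    ∀ x ∈ J X, m * x * m⁻¹ ∈ J X := by
  have h : J X ≤ (J X).comap (MulAut.conj m).toMonoidHom := by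
    refine J_le fun A hA a ha => ?_
    exact maxElem_le_J (maxElem_map hA hm) ⟨a, ha, rfl⟩
  intro x hx
  exact h hx

/-- `Ω₁Z(J(X))` is normalised by `m` if `X` is normalised by `m` and `m⁻¹`. -/
theorem omegaZ_normalized {X : Subgroup G} {m : G} (hm : ∀ x ∈ X, m * x * m⁻¹ ∈ X)
    (hm' : ∀ x ∈ X, m⁻¹ * x * m ∈ X) : ∀ x ∈ omegaZ X, m * x * m⁻¹ ∈ omegaZ X := by
  rintro x ⟨hx, hx2, hxc⟩
  refine ⟨hm x hx, ?_, fun y hy => ?_⟩
  · calc m * x * m⁻¹ * (m * x * m⁻¹) = m * (x * x) * m⁻¹ := by group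
      _ = 1 := by rw [hx2]; group
  · have := hxc _ (hm' y hy)
    calc m * x * m⁻¹ * y = m * (x * (m⁻¹ * y * m)) * m⁻¹ := by group
      _ = m * ((m⁻¹ * y * m) * x) * m⁻¹ := by rw [this]
      _ = y * (m * x * m⁻¹) := by group

theorem omegaZ_J [Finite G] (hG : IsCIT G) {M X T : Subgroup G} {q : ℕ} (h : FFType M X T q)
    (hX1 : X ≠ ⊥) (hJ : ¬ J T ≤ X) : omegaZ (J T) = omegaZ T := by
  classical
  set V := omegaZ X with hV
  set C := omegaZ T with hC
  -- `X ≤ T`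
  have hXT : X ≤ T := by
    have hc : ∀ m ∈ M, ∀ x ∈ X, m * x * m⁻¹ ∈ X := h.o2.normal
    -- `T X` is a 2-group
    have h2 : IsPGroup 2 (T ⊔ X : Subgroup G) := by
      refine IsPGroup.to_sup_of_normal_right' h.syl.two h.o2.two ?_
      intro t ht
      rw [Subgroup.mem_normalizer_iff]
      intro x
      constructor
      · intro hx; exact hc t (h.syl.le ht) x hx
      · intro hx
        have := hc t⁻¹ (M.inv_mem (h.syl.le ht)) _ hx
        have e : t⁻¹ * (t * x * t⁻¹) * t⁻¹⁻¹ = x := by group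
        rwa [e] at this
    have := h.syl.max (T ⊔ X) (sup_le h.syl.le h.o2.le) h2 le_sup_left
    rw [← this]
    exact le_sup_right
  -- a maximal elementary subgroup not in `X`
  obtain ⟨A, hA, hAX⟩ : ∃ A, MaxElem T A ∧ ¬ A ≤ X := by
    by_contra hne
    push Not at hne
    exact hJ (J_le hne)
  obtain ⟨a₀, ha₀, ha₀X⟩ := Set.not_subset.mp hAX
  have hqpos : 0 < q := by
    obtain ⟨n, _, rfl⟩ := h.pow; positivity
  have hVX : V ≤ X := omegaZ_le X
  -- `A ∩ V ≤ C`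
  have hAVC : A ⊓ V ≤ C := by
    rintro v ⟨hvA, hvV⟩
    exact h.mem_of_comm a₀ (hA.1 ha₀) ha₀X v hvV (hA.2.1.comm ha₀ hvA)
  have hCA : C ≤ A := omegaZ_le_maxElem hA
  have hCV : C ≤ V := h.C_le
  have hAV : A ⊓ V = C := le_antisymm hAVC (le_inf hCA hCV)
  -- the commuting product `(A ∩ X) V`
  have hc : ∀ a ∈ A ⊓ X, ∀ v ∈ V, a * v = v * a := fun a ha v hv => (hv.2.2 a ha.2).symm
  set A₁ := prod (A ⊓ X) V hc with hA₁
  have hA₁e : Elem A₁ := elem_prod hc (elem_mono inf_le_left hA.2.1) (elem_omegaZ X)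
  have hA₁X : A₁ ≤ X := prod_le hc inf_le_right hVX
  have hcard1 : Nat.card A₁ * Nat.card C = Nat.card (A ⊓ X : Subgroup G) * Nat.card V := by
    have := card_prod hc
    have e : A ⊓ X ⊓ V = C := by rw [inf_assoc, inf_eq_right.mpr hVX, hAV]
    rwa [e] at this
  have hcC : Nat.card C = q := h.card_C
  have hcV : Nat.card V = q ^ 2 := h.card_V
  have hcard2 : Nat.card A₁ = Nat.card (A ⊓ X : Subgroup G) * q := by
    rw [hcC, hcV] at hcard1
    have : Nat.card A₁ * q = (Nat.card (A ⊓ X : Subgroup G) * q) * q := by rw [hcard1]; ring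
    exact Nat.eq_of_mul_eq_mul_right hqpos this
  -- `|A| ≤ |A ∩ X| q`
  have hcard3 : Nat.card A ≤ Nat.card (A ⊓ X : Subgroup G) * q := by
    have h1 := Cfsg.Agent.Lib.ProductSet.card_mul_card_inf A X
    have h2 : Nat.card ((A : Set G) * (X : Set G) : Set G) ≤ Nat.card T := by
      have hsub : (A : Set G) * (X : Set G) ⊆ (T : Set G) := by
        rintro _ ⟨a, ha, x, hx, rfl⟩
        exact T.mul_mem (hA.1 ha) (hXT hx)
      exact Nat.card_mono (Set.toFinite _) hsub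
    rw [h.card_T] at h2
    have hXpos : 0 < Nat.card X := Nat.card_pos
    have h3 : Nat.card A * Nat.card X ≤ (q * Nat.card X) * Nat.card (A ⊓ X : Subgroup G) := by
      rw [← h1]; exact Nat.mul_le_mul_right _ h2
    have h4 : Nat.card A * Nat.card X ≤ (Nat.card (A ⊓ X : Subgroup G) * q) * Nat.card X := by
      calc _ ≤ _ := h3
        _ = _ := by ring
    exact Nat.le_of_mul_le_mul_right h4 hXpos
  have hA₁T : MaxElem T A₁ := ⟨hA₁X.trans hXT, hA₁e, fun B hB hBe => by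
    rw [hcard2]; exact (hA.2.2 B hB hBe).trans hcard3⟩
  have hA₁MX : MaxElem X A₁ := ⟨hA₁X, hA₁e, fun B hB hBe => hA₁T.2.2 B (hB.trans hXT) hBe⟩
  -- maximal elementary subgroups of `X` are maximal in `T`
  have hJJ : J X ≤ J T := by
    refine J_le fun B hB => maxElem_le_J ⟨hB.1.trans hXT, hB.2.1, fun D hD hDe => ?_⟩
    exact (hA₁T.2.2 D hD hDe).trans (hB.2.2 A₁ hA₁X hA₁e)
  set W := omegaZ (J X) with hW
  have hJX : J X ≤ X := J_le fun B hB => hB.1
  have hVW : V ≤ W := by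
    intro v hv
    refine ⟨maxElem_le_J hA₁MX (right_le hc hv), hv.2.1, fun y hy => hv.2.2 y (hJX hy)⟩
  have hWA₁ : W ≤ A₁ := omegaZ_J_le_maxElem hA₁MX
  -- normality
  have hXn : ∀ m ∈ M, ∀ x ∈ X, m * x * m⁻¹ ∈ X := h.o2.normal
  have hXn' : ∀ m ∈ M, ∀ x ∈ X, m⁻¹ * x * m ∈ X := fun m hm x hx => by
    have := hXn m⁻¹ (M.inv_mem hm) x hx
    rwa [inv_inv] at this
  have hJn : ∀ m ∈ M, ∀ x ∈ J X, m * x * m⁻¹ ∈ J X := fun m hm => J_normalized (hXn m hm)
  have hJn' : ∀ m ∈ M, ∀ x ∈ J X, m⁻¹ * x * m ∈ J X := fun m hm x hx => by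
    have := hJn m⁻¹ (M.inv_mem hm) x hx
    rwa [inv_inv] at this
  have hWn : ∀ m ∈ M, ∀ x ∈ W, m * x * m⁻¹ ∈ W := fun m hm =>
    omegaZ_normalized (hJn m hm) (hJn' m hm)
  have hVn : ∀ m ∈ M, ∀ x ∈ V, m * x * m⁻¹ ∈ V := fun m hm =>
    omegaZ_normalized (hXn m hm) (hXn' m hm)
  -- the kernel of `M` on `W / V`
  let N : Subgroup G :=
    { carrier := {m | m ∈ M ∧ ∀ w ∈ W, m * w * m⁻¹ * w⁻¹ ∈ V}
      one_mem' := ⟨M.one_mem, fun w _ => by simp⟩
      mul_mem' := by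
        rintro a b ⟨ha, ha'⟩ ⟨hb, hb'⟩
        refine ⟨M.mul_mem ha hb, fun w hw => ?_⟩
        have h1 := hb' w hw
        have h2 := ha' w hw
        have h3 := hVn a ha _ h1
        have e : a * b * w * (a * b)⁻¹ * w⁻¹ = a * (b * w * b⁻¹ * w⁻¹) * a⁻¹ * (a * w * a⁻¹ * w⁻¹) := by
          group
        show a * b * w * (a * b)⁻¹ * w⁻¹ ∈ V
        rw [e]
        exact V.mul_mem h3 h2
      inv_mem' := by
        rintro a ⟨ha, ha'⟩
        refine ⟨M.inv_mem ha, fun w hw => ?_⟩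
        have h1 := ha' w hw
        have h3 := hVn a⁻¹ (M.inv_mem ha) _ (V.inv_mem h1)
        have e : a⁻¹ * (a * w * a⁻¹ * w⁻¹)⁻¹ * a⁻¹⁻¹ = a⁻¹ * w * a⁻¹⁻¹ * w⁻¹ := by group
        rw [e] at h3
        exact h3 }
  have hNM : N ≤ M := fun m hm => hm.1
  have hNn : ∀ m ∈ M, ∀ n ∈ N, m * n * m⁻¹ ∈ N := by
    rintro m hm n ⟨hn, hn'⟩
    refine ⟨M.mul_mem (M.mul_mem hm hn) (M.inv_mem hm), fun w hw => ?_⟩
    have hw' : m⁻¹ * w * m ∈ W := by
      have := hWn m⁻¹ (M.inv_mem hm) w hw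
      rwa [inv_inv] at this
    have h1 := hVn m hm _ (hn' _ hw')
    have e : m * (n * (m⁻¹ * w * m) * n⁻¹ * (m⁻¹ * w * m)⁻¹) * m⁻¹ =
        m * n * m⁻¹ * w * (m * n * m⁻¹)⁻¹ * w⁻¹ := by group
    rwa [e] at h1
  have ha₀N : a₀ ∈ N := by
    refine ⟨h.syl.le (hA.1 ha₀), fun w hw => ?_⟩
    obtain ⟨b, hb, v, hv, rfl⟩ := hWA₁ hw
    show a₀ * (b * v) * a₀⁻¹ * (b * v)⁻¹ ∈ V
    have hbv := hc b hb v hv
    have hab : a₀ * b = b * a₀ := hA.2.1.comm ha₀ hb.1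
    have e : a₀ * (b * v) * a₀⁻¹ * (b * v)⁻¹ = b * (a₀ * v * a₀⁻¹ * v⁻¹) * b⁻¹ := by
      calc a₀ * (b * v) * a₀⁻¹ * (b * v)⁻¹ = (a₀ * b) * v * a₀⁻¹ * v⁻¹ * b⁻¹ := by group
        _ = (b * a₀) * v * a₀⁻¹ * v⁻¹ * b⁻¹ := by rw [hab]
        _ = _ := by group
    rw [e]
    exact hVn b (h.o2.le hb.2) _ (V.mul_mem (hVn a₀ (h.syl.le (hA.1 ha₀)) v hv) (V.inv_mem hv))
  have hNX : ¬ N ≤ X := fun hle => ha₀X (hle ha₀N)
  obtain ⟨d, hdN, hd1, hdodd⟩ := h.normal_odd N hNM hNn hNX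
  -- `W = V`
  have hWcomm : ∀ x ∈ W, ∀ y ∈ W, x * y = y * x := fun x hx y hy => (elem_omegaZ _).comm hx hy
  have hWV : W ≤ V := by
    have hinj : Function.Injective
        (fun w : W => (⟨d * w * d⁻¹ * (w : G)⁻¹, hdN.2 w w.2⟩ : V)) := by
      intro x y hxy
      have h1 : d * x * d⁻¹ * (x : G)⁻¹ = d * y * d⁻¹ * (y : G)⁻¹ := congrArg Subtype.val hxy
      -- `d` commutes with `x * y⁻¹`
      have hz : (x : G) * (y : G)⁻¹ ∈ W := W.mul_mem x.2 (W.inv_mem y.2)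
      have h2 : (d * y * d⁻¹)⁻¹ * (d * x * d⁻¹) = (y : G)⁻¹ * (x : G) := by
        have : d * x * d⁻¹ = d * y * d⁻¹ * (y : G)⁻¹ * x := by
          rw [← h1]; group
        rw [this]; group
      have h3 : d * ((y : G)⁻¹ * x) * d⁻¹ = (y : G)⁻¹ * x := by
        calc d * ((y : G)⁻¹ * x) * d⁻¹ = (d * y * d⁻¹)⁻¹ * (d * x * d⁻¹) := by group
          _ = _ := h2
      have hz' : (y : G)⁻¹ * (x : G) ∈ W := W.mul_mem (W.inv_mem y.2) x.2
      have hcomm : d * ((y : G)⁻¹ * x) = ((y : G)⁻¹ * x) * d := by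
        calc d * ((y : G)⁻¹ * x) = d * ((y : G)⁻¹ * x) * d⁻¹ * d := by group
          _ = _ := by rw [h3]
      by_contra hne
      have hne' : (y : G)⁻¹ * (x : G) ≠ 1 := by
        intro he
        apply hne
        have := inv_mul_eq_one.mp he
        exact Subtype.ext this.symm
      have hord : orderOf ((y : G)⁻¹ * (x : G)) = 2 := by
        refine orderOf_eq_prime ?_ hne'
        rw [pow_two]; exact hz'.2.1
      have hp := hG _ hord
      have hdc : d ∈ Subgroup.centralizer ({(y : G)⁻¹ * (x : G)} : Set G) := by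
        rw [Subgroup.mem_centralizer_iff]
        intro z hz
        rw [Set.mem_singleton_iff] at hz
        rw [hz]; exact hcomm.symm
      obtain ⟨k, hk⟩ := hp ⟨d, hdc⟩
      have hk' : d ^ 2 ^ k = 1 := congrArg Subtype.val hk
      have hdvd : orderOf d ∣ 2 ^ k := orderOf_dvd_of_pow_eq_one hk'
      obtain ⟨j, _, hj⟩ := (Nat.dvd_prime_pow Nat.prime_two).mp hdvd
      rcases Nat.eq_zero_or_pos j with rfl | hjpos
      · rw [pow_zero] at hj
        exact hd1 (orderOf_eq_one_iff.mp hj)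
      · rw [hj] at hdodd
        exact (Nat.not_even_iff_odd.mpr hdodd) ((Nat.even_pow.mpr ⟨even_two, hjpos.ne'⟩))
    have hle : Nat.card W ≤ Nat.card V := Nat.card_le_card_of_injective _ hinj
    exact (Subgroup.eq_of_le_of_card_ge hVW hle).ge
  -- conclusion
  apply le_antisymm
  · intro z hz
    have h1 : z ∈ A := omegaZ_J_le_maxElem hA hz
    have h2 : z ∈ A₁ := omegaZ_J_le_maxElem hA₁T hz
    have h3 : z ∈ W := ⟨maxElem_le_J hA₁MX h2, hz.2.1, fun y hy => hz.2.2 y (hJJ hy)⟩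
    exact hAVC ⟨h1, hWV h3⟩
  · intro z hz
    exact ⟨maxElem_le_J hA (hCA hz), hz.2.1, fun y hy =>
      hz.2.2 y ((J_le fun B hB => hB.1 : J T ≤ T) hy)⟩

end Cfsg.Agent.LieExceptional.CITZJ
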