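import Mathlib
import Cfsg.Agent.LieExceptional.CITDefs
import Cfsg.Agent.LieExceptional.CITAmal
import Cfsg.Agent.LieExceptional.CITCommute
import Cfsg.Agent.LieExceptional.CITNonCommute
import Cfsg.Agent.LieExceptional.CITGlobalBasic
import Cfsg.Agent.LieExceptional.CITFFAux
import Cfsg.Agent.LieExceptional.CITFFLocal
import Cfsg.Agent.LieExceptional.CITZJ

/-!
# CIT groups: global selection of the amalgam (section E of the blueprint)
-/

set_option autoImplicit false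

namespace Cfsg.Agent.LieExceptional.CITGlobal

open Cfsg.Agent.LieExceptional.CITDefs
open Cfsg.Agent.LieExceptional.CITGlobalBasic
open Cfsg.Agent.LieExceptional.CITFFAux (omegaZ_ne_bot mem_of_centralizes)
open Cfsg.Agent.LieExceptional.CITFFLocal (ffType)
open Cfsg.Agent.LieExceptional.CITZJ (omegaZ_J)
open Cfsg.Agent.LieExceptional.CITCommute (inf_normal_of_commute)
open Cfsg.Agent.LieExceptional.CITNonCommute (eq_of_not_commute)

variable {G : Type*} [Group G]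

/-- conjugate subgroup `g M g⁻¹` -/
abbrev cj (g : G) (M : Subgroup G) : Subgroup G := M.map (MulAut.conj g).toMonoidHom

theorem mem_cj {g x : G} {M : Subgroup G} : x ∈ cj g M ↔ g⁻¹ * x * g ∈ M := by
  constructor
  · rintro ⟨y, hy, rfl⟩
    have : g⁻¹ * ((MulAut.conj g).toMonoidHom y) * g = y := by
      simp [mul_assoc]
    rw [this]; exact hy
  · intro h
    refine ⟨g⁻¹ * x * g, h, ?_⟩
    simp [mul_assoc]

theorem cj_le_cj {g : G} {M N : Subgroup G} (h : M ≤ N) : cj g M ≤ cj g N := Subgroup.map_mono h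

theorem cj_cj_inv (g : G) (M : Subgroup G) : cj g (cj g⁻¹ M) = M := by
  ext x; simp only [mem_cj]; simp [mul_assoc]

theorem cj_inv_cj (g : G) (M : Subgroup G) : cj g⁻¹ (cj g M) = M := by
  ext x; simp only [mem_cj]; simp [mul_assoc]

theorem le_cj_iff {g : G} {M N : Subgroup G} : M ≤ cj g N ↔ cj g⁻¹ M ≤ N := by
  constructor
  · intro h
    have := cj_le_cj (g := g⁻¹) h
    rwa [cj_inv_cj] at this
  · intro h
    have := cj_le_cj (g := g) h
    rwa [cj_cj_inv] at this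

theorem cj_le_iff {g : G} {M N : Subgroup G} : cj g M ≤ N ↔ M ≤ cj g⁻¹ N := by
  rw [le_cj_iff, inv_inv]

theorem card_cj (g : G) (M : Subgroup G) : Nat.card (cj g M) = Nat.card M :=
  (Nat.card_congr (M.equivMapOfInjective _ (MulAut.conj g).injective).toEquiv).symm

theorem isPGroup_cj {g : G} {M : Subgroup G} (h : IsPGroup 2 M) : IsPGroup 2 (cj g M) := h.map _

theorem conj_mem_of_mem_normalizer {g x : G} {T : Subgroup G} (hg : g ∈ Subgroup.normalizer (T : Set G))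
    (hx : x ∈ T) : g * x * g⁻¹ ∈ T := (Subgroup.mem_normalizer_iff.1 hg x).1 hx

theorem cj_eq_of_mem_normalizer {g : G} {T : Subgroup G} (hg : g ∈ Subgroup.normalizer (T : Set G)) :
    cj g T = T := by
  ext x
  rw [mem_cj]
  have h := Subgroup.mem_normalizer_iff.1 hg (g⁻¹ * x * g)
  have e : g * (g⁻¹ * x * g) * g⁻¹ = x := by group
  rw [e] at h
  exact h

theorem isO2_cj {g : G} {M X : Subgroup G} (h : IsO2 M X) : IsO2 (cj g M) (cj g X) where
  le := cj_le_cj h.le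
  two := isPGroup_cj h.two
  normal := by
    intro m hm x hx
    rw [mem_cj] at hm hx ⊢
    have := h.normal _ hm _ hx
    have e : g⁻¹ * (m * x * m⁻¹) * g = g⁻¹ * m * g * (g⁻¹ * x * g) * (g⁻¹ * m * g)⁻¹ := by group
    rw [e]; exact this
  max := by
    intro Y hY hY2 hn
    rw [le_cj_iff]
    refine h.max _ ?_ (isPGroup_cj hY2) ?_
    · rw [cj_le_iff, inv_inv]; exact hY
    · intro m hm y hy
      rw [mem_cj] at hy ⊢
      have hm' : g * m * g⁻¹ ∈ cj g M := by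
        rw [mem_cj]; have e : g⁻¹ * (g * m * g⁻¹) * g = m := by group
        rw [e]; exact hm
      have := hn _ hm' _ hy
      have e : g⁻¹⁻¹ * (m * y * m⁻¹) * g⁻¹ = g * m * g⁻¹ * (g⁻¹⁻¹ * y * g⁻¹) * (g * m * g⁻¹)⁻¹ := by group
      rw [e]; exact this

theorem cj_ne_bot {g : G} {X : Subgroup G} (h : X ≠ ⊥) : cj g X ≠ ⊥ := by
  intro h'
  apply h
  rw [← cj_inv_cj g X, h']
  exact Subgroup.map_bot _

theorem isMaxLocal_cj {g : G} {M : Subgroup G} (h : IsMaxLocal M) : IsMaxLocal (cj g M) := by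
  obtain ⟨⟨X, hX1, hX⟩, hmax⟩ := h
  refine ⟨⟨cj g X, cj_ne_bot hX1, isO2_cj hX⟩, ?_⟩
  intro L hL ⟨Y, hY1, hY⟩
  have h1 : M ≤ cj g⁻¹ L := by rw [← cj_le_iff]; exact hL
  have h2 := hmax _ h1 ⟨cj g⁻¹ Y, cj_ne_bot hY1, isO2_cj hY⟩
  rw [← h2, cj_cj_inv]

theorem isSyl2_cj {g : G} {M T : Subgroup G} (h : IsSyl2 M T) : IsSyl2 (cj g M) (cj g T) where
  le := cj_le_cj h.le
  two := isPGroup_cj h.two
  max := by
    intro Y hY hY2 hTY
    have h1 : cj g⁻¹ Y = T := by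
      refine h.max _ ?_ (isPGroup_cj hY2) ?_
      · rw [cj_le_iff, inv_inv]; exact hY
      · rw [← cj_le_iff]; exact hTY
    rw [← h1, cj_cj_inv]

theorem isO2_unique {M X Y : Subgroup G} (hX : IsO2 M X) (hY : IsO2 M Y) : X = Y :=
  le_antisymm (hY.max _ hX.le hX.two hX.normal) (hX.max _ hY.le hY.two hY.normal)

theorem le_normalizer_of {M X : Subgroup G} (h : ∀ m ∈ M, ∀ x ∈ X, m * x * m⁻¹ ∈ X) :
    M ≤ Subgroup.normalizer (X : Set G) := by
  intro m hm
  rw [Subgroup.mem_normalizer_iff]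
  intro x
  refine ⟨h m hm x, fun hx => ?_⟩
  have := h m⁻¹ (M.inv_mem hm) _ hx
  have e : m⁻¹ * (m * x * m⁻¹) * m⁻¹⁻¹ = x := by group
  rwa [e] at this

/-- `O₂(M) ≤ T` -/
theorem isO2_le_isSyl2 {M X T : Subgroup G} (hX : IsO2 M X) (hT : IsSyl2 M T) : X ≤ T := by
  have h1 : IsPGroup 2 (T ⊔ X : Subgroup G) :=
    IsPGroup.to_sup_of_normal_right' hT.two hX.two (hT.le.trans (le_normalizer_of hX.normal))
  have h2 := hT.max _ (sup_le hT.le hX.le) h1 le_sup_left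
  rw [← h2]; exact le_sup_right

variable [Finite G]

/-- a maximal 2-local subgroup is the normaliser of `O₂(M)` -/
theorem exists_o2 {M : Subgroup G} (hM : IsMaxLocal M) :
    ∃ X : Subgroup G, X ≠ ⊥ ∧ IsO2 M X ∧ Subgroup.normalizer (X : Set G) = M := by
  obtain ⟨X, hX1, hX⟩ := hM.1
  exact ⟨X, hX1, hX, isMaxLocal_normalizer hM hX1 hX.le hX.two hX.normal⟩

theorem cj_ne_self {M : Subgroup G} (hM : IsMaxLocal M) {g : G} (hg : g ∉ M) : cj g M ≠ M := by
  intro h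
  obtain ⟨X, hX1, hX, hN⟩ := exists_o2 hM
  apply hg
  rw [← hN]
  have h1 : IsO2 M (cj g X) := by
    have := isO2_cj (g := g) hX
    rwa [h] at this
  have h2 := isO2_unique h1 hX
  rw [Subgroup.mem_normalizer_iff]
  intro x
  constructor
  · intro hx
    rw [← h2, mem_cj]
    have e : g⁻¹ * (g * x * g⁻¹) * g = x := by group
    rwa [e]
  · intro hx
    have hx' : g * x * g⁻¹ ∈ cj g X := by rw [h2]; exact hx
    rw [mem_cj] at hx'
    have e : g⁻¹ * (g * x * g⁻¹) * g = x := by group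
    rwa [e] at hx'

/-- normaliser condition: a non-Sylow 2-subgroup `T` of `M` is properly normalised inside a 2-subgroup of `M` -/
theorem exists_bigger {M T : Subgroup G} (hTM : T ≤ M) (hT2 : IsPGroup 2 T) (h : ¬ IsSyl2 M T) :
    ∃ Q : Subgroup G, T < Q ∧ Q ≤ M ∧ IsPGroup 2 Q ∧ Q ≤ Subgroup.normalizer (T : Set G) := by
  obtain ⟨S, hS, hTS⟩ := exists_isSyl2 M T hTM hT2
  have hne : T ≠ S := fun e => h (e ▸ hS)
  have hlt : T < S := lt_of_le_of_ne hTS hne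
  refine ⟨S ⊓ Subgroup.normalizer (T : Set G), ?_, inf_le_left.trans hS.le, hS.two.to_le inf_le_left,
    inf_le_right⟩
  refine lt_of_le_of_ne (le_inf hTS Subgroup.le_normalizer) ?_
  intro e
  -- use nilpotency of `S`
  have : Finite S := inferInstance
  have : Group.IsNilpotent S := hS.two.isNilpotent
  have hnc : NormalizerCondition S := Group.normalizerCondition_of_isNilpotent
  have hlt' : T.subgroupOf S < ⊤ := by
    refine lt_top_iff_ne_top.2 ?_
    intro h'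
    rw [Subgroup.subgroupOf_eq_top] at h'
    exact hne (le_antisymm hTS h')
  have h2 := hnc _ hlt'
  obtain ⟨x, hx, hxT⟩ := SetLike.exists_of_lt h2
  apply hxT
  rw [Subgroup.mem_subgroupOf, e]
  refine Subgroup.mem_inf.2 ⟨x.2, ?_⟩
  rw [Subgroup.mem_normalizer_iff] at hx ⊢
  intro y
  constructor
  · intro hy
    have := (hx ⟨y, hTS hy⟩).1 (by rw [Subgroup.mem_subgroupOf]; exact hy)
    rw [Subgroup.mem_subgroupOf] at this
    simpa using this
  · intro hy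
    have hyS : y ∈ S := by
      have h3 : (x : G) * y * (x : G)⁻¹ ∈ S := hTS hy
      have h4 := S.mul_mem (S.mul_mem (S.inv_mem x.2) h3) x.2
      have e : (x : G)⁻¹ * ((x : G) * y * (x : G)⁻¹) * x = y := by group
      rwa [e] at h4
    have := (hx ⟨y, hyS⟩).2 (by rw [Subgroup.mem_subgroupOf]; simpa using hy)
    rwa [Subgroup.mem_subgroupOf] at this

/-- every nontrivial 2-subgroup `T` has its normaliser in a maximal 2-local subgroup -/
theorem exists_maxLocal_ge_normalizer {T : Subgroup G} (hT : IsPGroup 2 T) (hT1 : T ≠ ⊥) :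
    ∃ M, Subgroup.normalizer (T : Set G) ≤ M ∧ IsMaxLocal M := by
  obtain ⟨X, hX⟩ := exists_isO2 (Subgroup.normalizer (T : Set G))
  apply exists_isMaxLocal
  refine ⟨X, ?_, hX⟩
  intro h
  apply hT1
  rw [eq_bot_iff, ← h]
  exact hX.max _ Subgroup.le_normalizer hT (fun m hm x hx => conj_mem_of_mem_normalizer hm hx)

/-- the Sylow 2-subgroup of an intersection with maximal order: the selection -/
theorem exists_common_syl (h : ∃ M₁ M₂ T : Subgroup G, IsMaxLocal M₁ ∧ IsMaxLocal M₂ ∧ M₁ ≠ M₂ ∧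
    T ≤ M₁ ∧ T ≤ M₂ ∧ IsPGroup 2 T ∧ T ≠ ⊥) :
    ∃ M₁ M₂ T : Subgroup G, IsMaxLocal M₁ ∧ IsMaxLocal M₂ ∧ M₁ ≠ M₂ ∧ IsSyl2 M₁ T ∧ IsSyl2 M₂ T ∧ T ≠ ⊥ := by
  classical
  -- choose `T` of maximal order
  let s : Set (Subgroup G) := {T | ∃ M₁ M₂ : Subgroup G, IsMaxLocal M₁ ∧ IsMaxLocal M₂ ∧ M₁ ≠ M₂ ∧
    T ≤ M₁ ∧ T ≤ M₂ ∧ IsPGroup 2 T ∧ T ≠ ⊥}
  have hs : s.Nonempty := by
    obtain ⟨M₁, M₂, T, h⟩ := h
    exact ⟨T, M₁, M₂, h⟩
  obtain ⟨T, hTs, hTmax⟩ := Set.exists_max_image s (fun T => Nat.card T) (Set.toFinite s) hs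
  obtain ⟨M₁, M₂, hM₁, hM₂, hne, hT₁, hT₂, hT2, hTb⟩ := hTs
  obtain ⟨M₃, hM₃N, hM₃⟩ := exists_maxLocal_ge_normalizer hT2 hTb
  -- if `T` is not Sylow in `Mᵢ` then `Mᵢ = M₃`
  have key : ∀ M : Subgroup G, IsMaxLocal M → T ≤ M → ¬ IsSyl2 M T → M = M₃ := by
    intro M hM hTM hns
    by_contra hne'
    obtain ⟨Q, hTQ, hQM, hQ2, hQN⟩ := exists_bigger hTM hT2 hns
    have hQb : Q ≠ ⊥ := by
      intro e; rw [e] at hTQ; exact not_lt_bot hTQ
    have h1 := hTmax Q ⟨M, M₃, hM, hM₃, hne', hQM, hQN.trans hM₃N, hQ2, hQb⟩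
    have h2 : Nat.card T < Nat.card Q :=
      Set.ncard_lt_ncard (s := (T : Set G)) (t := (Q : Set G)) hTQ (Set.toFinite _)
    exact absurd h1 (not_le.2 h2)
  -- the final step, for `T` Sylow in `M`
  have fin : ∀ M M' : Subgroup G, IsMaxLocal M → IsMaxLocal M' → M ≠ M' → IsSyl2 M T → T ≤ M' →
      ∃ M₁ M₂ T : Subgroup G, IsMaxLocal M₁ ∧ IsMaxLocal M₂ ∧ M₁ ≠ M₂ ∧ IsSyl2 M₁ T ∧ IsSyl2 M₂ T ∧ T ≠ ⊥ := by
    intro M M' hM hM' hMM' hS hTM'
    by_cases hS' : IsSyl2 M' T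
    · exact ⟨M, M', T, hM, hM', hMM', hS, hS', hTb⟩
    · obtain ⟨Q, hTQ, hQM, hQ2, hQN⟩ := exists_bigger hTM' hT2 hS'
      obtain ⟨g, hgQ, hgT⟩ := SetLike.exists_of_lt hTQ
      have hgM : g ∉ M := by
        intro hgM
        have h1 := hS.max (Q ⊓ M) inf_le_right (hQ2.to_le inf_le_left) (le_inf hTQ.le hS.le)
        exact hgT (h1 ▸ ⟨hgQ, hgM⟩)
      have hcT : cj g T = T := cj_eq_of_mem_normalizer (hQN hgQ)
      have hS2 : IsSyl2 (cj g M) T := by
        have := isSyl2_cj (g := g) hS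
        rwa [hcT] at this
      exact ⟨M, cj g M, T, hM, isMaxLocal_cj hM, (cj_ne_self hM hgM).symm, hS, hS2, hTb⟩
  by_cases h1 : IsSyl2 M₁ T
  · exact fin M₁ M₂ hM₁ hM₂ hne h1 hT₂
  · by_cases h2 : IsSyl2 M₂ T
    · exact fin M₂ M₁ hM₂ hM₁ hne.symm h2 hT₁
    · exact absurd ((key M₁ hM₁ hT₁ h1).trans (key M₂ hM₂ hT₂ h2).symm) hne

/-! ### The Thompson subgroup -/

omit [Finite G] in
theorem elem_cj {g : G} {A : Subgroup G} (h : Elem A) : Elem (cj g A) := by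
  intro x hx
  rw [mem_cj] at hx
  have h1 := h _ hx
  have e : x * x = g * ((g⁻¹ * x * g) * (g⁻¹ * x * g)) * g⁻¹ := by group
  rw [e, h1]; group

omit [Finite G] in
theorem elem_le {A B : Subgroup G} (h : Elem B) (hAB : A ≤ B) : Elem A := fun x hx => h x (hAB hx)

omit [Finite G] in
theorem isPGroup_of_elem {A : Subgroup G} (h : Elem A) : IsPGroup 2 A := by
  intro x
  refine ⟨1, ?_⟩
  apply Subtype.ext
  have := h x x.2
  simpa [pow_two] using this

omit [Finite G] in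
theorem J_le (T : Subgroup G) : J T ≤ T := sSup_le fun _ hA => hA.1

omit [Finite G] in
/-- the elementary abelian group `A ∪ v A` -/
def extend (A : Subgroup G) (v : G) (hv : v * v = 1) (hc : ∀ a ∈ A, v * a = a * v) : Subgroup G where
  carrier := {x | x ∈ A ∨ v * x ∈ A}
  one_mem' := Or.inl A.one_mem
  mul_mem' := by
    rintro x y (hx | hx) (hy | hy)
    · exact Or.inl (A.mul_mem hx hy)
    · refine Or.inr ?_
      have e : v * (x * y) = x * (v * y) := by rw [← mul_assoc, hc x hx, mul_assoc]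
      rw [e]; exact A.mul_mem hx hy
    · refine Or.inr ?_
      rw [← mul_assoc]; exact A.mul_mem hx hy
    · refine Or.inl ?_
      have e : x * y = (v * x) * (v * y) := by
        calc x * y = x * (v * v) * y := by rw [hv, mul_one]
          _ = (v * v) * x * (v * v) * y := by rw [hv, one_mul]
          _ = v * (v * x) * v * (v * y) := by group
          _ = (v * x) * v * v * (v * y) := by rw [hc _ hx]
          _ = (v * x) * (v * v) * (v * y) := by group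
          _ = _ := by rw [hv, mul_one]
      rw [e]; exact A.mul_mem hx hy
  inv_mem' := by
    rintro x (hx | hx)
    · exact Or.inl (A.inv_mem hx)
    · refine Or.inr ?_
      have hvi : v⁻¹ = v := inv_eq_of_mul_eq_one_left hv
      have h1 := A.inv_mem hx
      have e : v * x⁻¹ = (v * x)⁻¹ := by
        have h2 := hc _ h1
        calc v * x⁻¹ = v * ((v * x)⁻¹ * v) := by rw [mul_inv_rev, hvi, mul_assoc, hv, mul_one]
          _ = v * (v * x)⁻¹ * v := by group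
          _ = (v * x)⁻¹ * v * v := by rw [h2]
          _ = (v * x)⁻¹ * (v * v) := by group
          _ = _ := by rw [hv, mul_one]
      rw [e]; exact h1

omit [Finite G] in
theorem elem_extend {A : Subgroup G} {v : G} (hA : Elem A) (hv : v * v = 1)
    (hc : ∀ a ∈ A, v * a = a * v) : Elem (extend A v hv hc) := by
  rintro x (hx | hx)
  · exact hA x hx
  · have h1 := hA _ hx
    have h2 := hc _ hx
    have e : x = v * (v * x) := by rw [← mul_assoc, hv, one_mul]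
    calc x * x = (v * (v * x)) * (v * (v * x)) := by rw [← e]
      _ = v * ((v * x) * v) * (v * x) := by group
      _ = v * (v * (v * x)) * (v * x) := by rw [h2]
      _ = (v * v) * ((v * x) * (v * x)) := by group
      _ = 1 := by rw [hv, h1, one_mul]

/-- an involution of `T` centralising a maximal elementary abelian subgroup lies in it -/
theorem mem_of_maxElem {T A : Subgroup G} (hA : MaxElem T A) {v : G} (hvT : v ∈ T) (hv : v * v = 1)
    (hc : ∀ a ∈ A, v * a = a * v) : v ∈ A := by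
  have h1 : extend A v hv hc ≤ T := by
    rintro x (hx | hx)
    · exact hA.1 hx
    · have h2 := T.mul_mem (T.inv_mem hvT) (hA.1 hx)
      rwa [inv_mul_cancel_left] at h2
  have h2 : A ≤ extend A v hv hc := fun x hx => Or.inl hx
  have h3 := hA.2.2 _ h1 (elem_extend hA.2.1 hv hc)
  have h4 : A = extend A v hv hc := by
    apply SetLike.coe_injective
    exact Set.eq_of_subset_of_ncard_le h2 h3 (Set.toFinite _)
  rw [h4]
  exact Or.inr (by rw [hv]; exact A.one_mem)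

theorem exists_maxElem (T : Subgroup G) : ∃ A, MaxElem T A := by
  obtain ⟨A, hA, hmax⟩ := Set.exists_max_image {A : Subgroup G | A ≤ T ∧ Elem A} (fun A => Nat.card A)
    (Set.toFinite _) ⟨⊥, bot_le, fun x hx => by rw [Subgroup.mem_bot.1 hx, one_mul]⟩
  exact ⟨A, hA.1, hA.2, fun B hB hB' => hmax B ⟨hB, hB'⟩⟩

theorem J_ne_bot {T : Subgroup G} (hT : IsPGroup 2 T) (hT1 : T ≠ ⊥) : J T ≠ ⊥ := by
  intro h
  obtain ⟨A, hA⟩ := exists_maxElem T
  have hA' : A = ⊥ := le_bot_iff.1 (h ▸ le_sSup hA)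
  apply omegaZ_ne_bot hT hT1
  rw [eq_bot_iff]
  intro v hv
  have := mem_of_maxElem hA hv.1 hv.2.1 (fun a ha => hv.2.2 a (hA.1 ha))
  rwa [hA'] at this

omit [Finite G] in
theorem maxElem_cj {T A : Subgroup G} {g : G} (hA : MaxElem T A) (h : cj g A ≤ T) : MaxElem T (cj g A) :=
  ⟨h, elem_cj hA.2.1, fun B hB hB' => by rw [card_cj]; exact hA.2.2 B hB hB'⟩

omit [Finite G] in
/-- if `J(T) ≤ O₂(M)` then `J(T)` is normal in `M` -/
theorem J_normal {M X T : Subgroup G} (hX : IsO2 M X) (hT : IsSyl2 M T) (hJ : J T ≤ X) :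
    ∀ m ∈ M, ∀ x ∈ J T, m * x * m⁻¹ ∈ J T := by
  intro m hm x hx
  have h1 : J T ≤ cj m⁻¹ (J T) := by
    refine sSup_le fun A hA => ?_
    rw [← cj_le_iff]
    refine le_sSup (maxElem_cj hA ?_)
    have h2 : A ≤ X := (le_sSup hA).trans hJ
    refine (cj_le_cj h2).trans ?_
    rw [cj_eq_of_mem_normalizer (le_normalizer_of hX.normal hm)]
    exact isO2_le_isSyl2 hX hT
  have h2 := h1 hx
  rw [mem_cj, inv_inv] at h2
  exact h2

/-- `Ω₁Z(X) ≤ Ω₁Z(J(T))` if `J(T) ≤ X ≤ T` -/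
theorem omegaZ_le_omegaZ_J {X T : Subgroup G} (hJ : J T ≤ X) (hXT : X ≤ T) : omegaZ X ≤ omegaZ (J T) := by
  intro v hv
  obtain ⟨hvX, hv2, hvc⟩ := hv
  obtain ⟨A, hA⟩ := exists_maxElem T
  refine ⟨?_, hv2, fun y hy => hvc y (hJ hy)⟩
  exact (le_sSup hA : A ≤ J T) (mem_of_maxElem hA (hXT hvX) hv2
    (fun a ha => hvc a (hJ ((le_sSup hA : A ≤ J T) ha))))

omit [Finite G] in
theorem mem_T_of_centralizes (hG : IsCIT G) {M T : Subgroup G} (hT : IsSyl2 M T) {z c : G}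
    (hz : z ∈ omegaZ T) (hz1 : z ≠ 1) (hc : c ∈ M) (hcz : c * z = z * c) : c ∈ T := by
  have hoz : orderOf z = 2 := orderOf_eq_prime (by rw [pow_two]; exact hz.2.1) hz1
  have h1 : IsPGroup 2 (Subgroup.centralizer ({z} : Set G) ⊓ M : Subgroup G) :=
    (hG z hoz).to_le inf_le_left
  have h2 : T ≤ Subgroup.centralizer ({z} : Set G) ⊓ M := by
    intro t ht
    refine Subgroup.mem_inf.2 ⟨?_, hT.le ht⟩
    rw [Subgroup.mem_centralizer_singleton_iff]
    exact (hz.2.2 t ht).symm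
  have h3 := hT.max _ inf_le_right h1 h2
  rw [← h3]
  exact ⟨Subgroup.mem_centralizer_singleton_iff.2 hcz, hc⟩

/-- the mixed case: one FF-type, the other not, is impossible -/
theorem not_J_le (hG : IsCIT G) {M₁ M₂ X₁ X₂ T : Subgroup G} {q : ℕ} (h₁ : FFType M₁ X₁ T q)
    (hX₁ : X₁ ≠ ⊥) (hJ₁ : ¬ J T ≤ X₁) (hM₁ : IsMaxLocal M₁) (hM₂ : IsMaxLocal M₂) (hne : M₁ ≠ M₂)
    (hX₂ : IsO2 M₂ X₂) (hX₂b : X₂ ≠ ⊥) (hT₂ : IsSyl2 M₂ T) (hTb : T ≠ ⊥) : ¬ J T ≤ X₂ := by
  intro hJ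
  have hXT : X₂ ≤ T := isO2_le_isSyl2 hX₂ hT₂
  have h1 : omegaZ X₂ ≤ omegaZ T := (omegaZ_le_omegaZ_J hJ hXT).trans (omegaZ_J hG h₁ hX₁ hJ₁).le
  -- `T ≤ X₂`
  have h2 : T ≤ X₂ := fun t ht => mem_of_centralizes hG hX₂ hX₂b (hT₂.le ht)
    (fun v hv => ((h1 hv).2.2 t ht).symm)
  have h3 : X₂ = T := le_antisymm hXT h2
  -- `M₂ = N(J(T))`
  have hN : Subgroup.normalizer (J T : Set G) = M₂ :=
    isMaxLocal_normalizer hM₂ (J_ne_bot hT₂.two hTb) ((J_le T).trans hT₂.le) (hT₂.two.to_le (J_le T))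
      (J_normal hX₂ hT₂ hJ)
  -- `M₂ ≤ M₁`
  have h4 : M₂ ≤ M₁ := by
    intro m hm
    -- choose `z`
    have hzb : omegaZ T ≠ ⊥ := omegaZ_ne_bot hT₂.two hTb
    obtain ⟨z, hz, hz1⟩ : ∃ z : G, z ∈ omegaZ T ∧ z ≠ 1 := by
      obtain ⟨z, hz⟩ := Subgroup.ne_bot_iff_exists_ne_one.1 hzb
      exact ⟨z, z.2, fun e => hz (Subtype.ext e)⟩
    -- `m z m⁻¹ ∈ Ω₁Z(T)`
    have hTn : ∀ t ∈ T, m * t * m⁻¹ ∈ T := by
      intro t ht
      rw [← h3] at ht ⊢
      exact hX₂.normal m hm t ht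
    have hmz : m * z * m⁻¹ ∈ omegaZ T := by
      refine ⟨hTn z hz.1, ?_, ?_⟩
      · have : m * z * m⁻¹ * (m * z * m⁻¹) = m * (z * z) * m⁻¹ := by group
        rw [this, hz.2.1]; group
      · intro y hy
        have hy' : m⁻¹ * y * m ∈ T := by
          have := hX₂.normal m⁻¹ (M₂.inv_mem hm) y (by rw [h3]; exact hy)
          rw [h3, inv_inv] at this
          exact this
        have h5 := hz.2.2 _ hy'
        calc m * z * m⁻¹ * y = m * (z * (m⁻¹ * y * m)) * m⁻¹ := by group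
          _ = m * (m⁻¹ * y * m * z) * m⁻¹ := by rw [h5]
          _ = y * (m * z * m⁻¹) := by group
    have hmz1 : m * z * m⁻¹ ≠ 1 := by
      intro e; apply hz1
      have : z = m⁻¹ * (m * z * m⁻¹) * m := by group
      rw [this, e]; group
    obtain ⟨m₁, hm₁, e₁⟩ := h₁.trans z (h₁.C_le hz) hz1 _ (h₁.C_le hmz) hmz1
    have h6 := h₁.spread m₁ hm₁ ⟨z, hz, hz1, by rw [e₁]; exact hmz⟩
    have h7 := h₁.normalizes m₁ hm₁ h6
    -- `m₁ ∈ M₂`
    have h8 : m₁ ∈ M₂ := by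
      rw [← hN, Subgroup.mem_normalizer_iff]
      have h9 : cj m₁ T = T := by
        have hle : cj m₁ T ≤ T := by
          rintro _ ⟨t, ht, rfl⟩
          exact h7 t ht
        apply SetLike.coe_injective
        exact Set.eq_of_subset_of_ncard_le hle (card_cj m₁ T).ge (Set.toFinite _)
      have h10 : cj m₁ (J T) = J T := by
        apply le_antisymm
        · rw [cj_le_iff]
          refine sSup_le fun A hA => ?_
          rw [← cj_le_iff]
          exact le_sSup (maxElem_cj hA ((cj_le_cj hA.1).trans h9.le))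
        · rw [le_cj_iff, cj_le_iff, inv_inv]
          refine sSup_le fun A hA => ?_
          rw [le_cj_iff]
          refine le_sSup (maxElem_cj hA ?_)
          rw [cj_le_iff, inv_inv, h9]; exact hA.1
      intro x
      constructor
      · intro hx
        rw [← h10, mem_cj]
        have e : m₁⁻¹ * (m₁ * x * m₁⁻¹) * m₁ = x := by group
        rw [e]; exact hx
      · intro hx
        have hx' : m₁ * x * m₁⁻¹ ∈ cj m₁ (J T) := by rw [h10]; exact hx
        rw [mem_cj] at hx'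
        have e : m₁⁻¹ * (m₁ * x * m₁⁻¹) * m₁ = x := by group
        rwa [e] at hx'
    have h9 : m₁⁻¹ * m ∈ T := by
      refine mem_T_of_centralizes hG hT₂ hz hz1 (M₂.mul_mem (M₂.inv_mem h8) hm) ?_
      calc m₁⁻¹ * m * z = m₁⁻¹ * (m * z * m⁻¹) * m := by group
        _ = m₁⁻¹ * (m₁ * z * m₁⁻¹) * m := by rw [e₁]
        _ = z * (m₁⁻¹ * m) := by group
    have h10 : m = m₁ * (m₁⁻¹ * m) := by group
    rw [h10]
    exact M₁.mul_mem hm₁ (h₁.syl.le h9)
  exact hne (hM₂.2 M₁ h4 hM₁.1)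

/-- E main -/
theorem global [IsSimpleGroup G] (hnab : ∃ a b : G, a * b ≠ b * a) (hG : IsCIT G) (h2 : 2 ∣ Nat.card G) :
    (∃ M : Subgroup G, IsMaxLocal M ∧ M ≠ ⊤ ∧ ∀ g ∉ M, Odd (Nat.card ↥(M ⊓ M.map (MulAut.conj g).toMonoidHom))) ∨
      ∃ (M₁ M₂ V₁ V₂ T : Subgroup G) (q : ℕ), Amal M₁ M₂ V₁ V₂ T q := by
  classical
  by_cases hsel : ∃ M₁ M₂ T : Subgroup G, IsMaxLocal M₁ ∧ IsMaxLocal M₂ ∧ M₁ ≠ M₂ ∧
    T ≤ M₁ ∧ T ≤ M₂ ∧ IsPGroup 2 T ∧ T ≠ ⊥
  · right
    obtain ⟨M₁, M₂, T, hM₁, hM₂, hne, hT₁, hT₂, hTb⟩ := exists_common_syl hsel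
    obtain ⟨X₁, hX₁b, hX₁, hN₁⟩ := exists_o2 hM₁
    obtain ⟨X₂, hX₂b, hX₂, hN₂⟩ := exists_o2 hM₂
    -- the claim for an ordered pair with `J(T) ≰ X₁`
    have main : ∀ M₁ M₂ X₁ X₂ : Subgroup G, IsMaxLocal M₁ → IsMaxLocal M₂ → M₁ ≠ M₂ → IsSyl2 M₁ T →
        IsSyl2 M₂ T → X₁ ≠ ⊥ → X₂ ≠ ⊥ → IsO2 M₁ X₁ → IsO2 M₂ X₂ → ¬ J T ≤ X₁ →
        ∃ (M₁ M₂ V₁ V₂ T : Subgroup G) (q : ℕ), Amal M₁ M₂ V₁ V₂ T q := by
      clear hN₁ hN₂ hX₁ hX₂ hX₁b hX₂b X₁ X₂ hT₁ hT₂ hne hM₁ hM₂ M₁ M₂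
      intro M₁ M₂ X₁ X₂ hM₁ hM₂ hne hT₁ hT₂ hX₁b hX₂b hX₁ hX₂ hJ₁
      obtain ⟨q₁, h₁⟩ := ffType hG hX₁ hX₁b hT₁ hJ₁
      have hJ₂ := not_J_le hG h₁ hX₁b hJ₁ hM₁ hM₂ hne hX₂ hX₂b hT₂ hTb
      obtain ⟨q₂, h₂⟩ := ffType hG hX₂ hX₂b hT₂ hJ₂
      have hq : q₂ = q₁ := h₂.card_C.symm.trans h₁.card_C
      subst hq
      by_cases hc : ∀ v ∈ omegaZ X₁, ∀ w ∈ omegaZ X₂, v * w = w * v
      · exfalso
        have hn₂ := inf_normal_of_commute hG h₁ h₂ hc
        have hn₁ : ∀ m ∈ M₁, ∀ x ∈ X₁ ⊓ X₂, m * x * m⁻¹ ∈ X₁ ⊓ X₂ := by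
          have := inf_normal_of_commute hG h₂ h₁ (fun v hv w hw => (hc w hw v hv).symm)
          intro m hm x hx
          rw [inf_comm] at hx ⊢
          exact this m hm x hx
        have hb : X₁ ⊓ X₂ ≠ ⊥ := by
          intro hb
          apply omegaZ_ne_bot hX₁.two hX₁b
          rw [eq_bot_iff, ← hb]
          intro v hv
          refine ⟨hv.1, ?_⟩
          refine mem_of_centralizes hG hX₂ hX₂b (hT₂.le (isO2_le_isSyl2 hX₁ hT₁ hv.1)) ?_
          intro w hw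
          exact hc v hv w hw
        have e₁ := isMaxLocal_normalizer hM₁ hb (inf_le_left.trans hX₁.le) (hX₁.two.to_le inf_le_left) hn₁
        have e₂ := isMaxLocal_normalizer hM₂ hb (inf_le_right.trans hX₂.le) (hX₁.two.to_le inf_le_left) hn₂
        exact hne (e₁.symm.trans e₂)
      · obtain ⟨hE₁, hE₂, hsup, hinf, hinv, hcard⟩ := eq_of_not_commute hG h₁ h₂ hM₁ hM₂ hne hc
        exact ⟨M₁, M₂, X₁, X₂, T, _, h₁, h₂, hM₁, hM₂, hne, hE₁, hE₂, hsup, hinf, hinv, hcard⟩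
    by_cases hJ₁ : J T ≤ X₁
    · by_cases hJ₂ : J T ≤ X₂
      · exfalso
        have hJb := J_ne_bot hT₁.two hTb
        have e₁ := isMaxLocal_normalizer hM₁ hJb ((J_le T).trans hT₁.le) (hT₁.two.to_le (J_le T))
          (J_normal hX₁ hT₁ hJ₁)
        have e₂ := isMaxLocal_normalizer hM₂ hJb ((J_le T).trans hT₂.le) (hT₂.two.to_le (J_le T))
          (J_normal hX₂ hT₂ hJ₂)
        exact hne (e₁.symm.trans e₂)
      · exact main M₂ M₁ X₂ X₁ hM₂ hM₁ hne.symm hT₂ hT₁ hX₂b hX₁b hX₂ hX₁ hJ₂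
    · exact main M₁ M₂ X₁ X₂ hM₁ hM₂ hne hT₁ hT₂ hX₁b hX₂b hX₁ hX₂ hJ₁
  · left
    -- an involution
    obtain ⟨t, ht⟩ := exists_prime_orderOf_dvd_card' 2 h2
    have hT2 : IsPGroup 2 (Subgroup.zpowers t) :=
      IsPGroup.of_card (n := 1) (by rw [Nat.card_zpowers, ht, pow_one])
    have hTb : Subgroup.zpowers t ≠ ⊥ := by
      intro h
      rw [Subgroup.zpowers_eq_bot] at h
      rw [h, orderOf_one] at ht
      omega
    obtain ⟨M, hMN, hM⟩ := exists_maxLocal_ge_normalizer hT2 hTb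
    refine ⟨M, hM, ?_, ?_⟩
    · -- `M ≠ ⊤`
      intro htop
      obtain ⟨X, hX1, hX, hN⟩ := exists_o2 hM
      have hXn : X.Normal := by
        rw [← Subgroup.normalizer_eq_top_iff, hN, htop]
      rcases hXn.eq_bot_or_eq_top with h | h
      · exact hX1 h
      · -- `G` is a 2-group, hence nilpotent, hence abelian
        have hG2 : IsPGroup 2 (⊤ : Subgroup G) := h ▸ hX.two
        have hG2' : IsPGroup 2 G := hG2.of_equiv Subgroup.topEquiv
        have hnil : Group.IsNilpotent G := hG2'.isNilpotent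
        have hcen : Subgroup.center G ≠ ⊥ := by
          have : Nontrivial G := inferInstance
          have := hG2'.center_nontrivial
          intro e
          rw [e] at this
          exact not_subsingleton _ (inferInstance : Subsingleton (⊥ : Subgroup G))
        rcases (inferInstance : (Subgroup.center G).Normal).eq_bot_or_eq_top with h' | h'
        · exact hcen h'
        · obtain ⟨a, b, hab⟩ := hnab
          apply hab
          have ha : a ∈ Subgroup.center G := by rw [h']; exact Subgroup.mem_top a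
          exact ((Subgroup.mem_center_iff.1 ha) b).symm
    · intro g hg
      by_contra hodd
      rw [Nat.not_odd_iff_even] at hodd
      apply hsel
      obtain ⟨x, hx⟩ := exists_prime_orderOf_dvd_card' 2 hodd.two_dvd
      refine ⟨M, cj g M, Subgroup.zpowers (x : G), hM, isMaxLocal_cj hM, (cj_ne_self hM hg).symm, ?_, ?_, ?_, ?_⟩
      · rw [Subgroup.zpowers_le]; exact x.2.1
      · rw [Subgroup.zpowers_le]; exact x.2.2
      · refine IsPGroup.of_card (n := 1) ?_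
        rw [Nat.card_zpowers, Subgroup.orderOf_coe, hx, pow_one]
      · intro h
        rw [Subgroup.zpowers_eq_bot] at h
        have : x = 1 := Subtype.ext h
        rw [this, orderOf_one] at hx
        omega

end Cfsg.Agent.LieExceptional.CITGlobal
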