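import Mathlib
import Cfsg.Agent.LieExceptional.CITAmal

/-!
# Counting points in the `PSL₃(4)` case of the CIT theorem (part F of the blueprint, helper220)

`T = V₁V₂` is a Sylow 2-subgroup of order 64, `V₁`, `V₂` elementary abelian of order 16, `C = V₁ ⊓ V₂` of order 4 is
central in `T`, every involution of `T` lies in `V₁` or `V₂`, `Mᵢ = N_G(Vᵢ)` is transitive on `Vᵢ#`,
`V₁` and `V₂` are not conjugate, `G` is a CIT group. Then `|G : M₁| = 21`.
-/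

set_option autoImplicit false

namespace Cfsg.Agent.LieExceptional.CITPlaneCount

open Cfsg.Agent.LieExceptional.CITDefs

universe u

variable {G : Type u} [Group G]

/-- the conjugate `g V g⁻¹` -/
def cj (g : G) (V : Subgroup G) : Subgroup G := V.map (MulAut.conj g).toMonoidHom

theorem mem_cj {g x : G} {V : Subgroup G} : x ∈ cj g V ↔ g⁻¹ * x * g ∈ V := by
  unfold cj
  rw [Subgroup.mem_map]
  constructor
  · rintro ⟨v, hv, rfl⟩
    simpa [MulAut.conj_apply, mul_assoc] using hv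
  · intro h
    exact ⟨g⁻¹ * x * g, h, by simp [MulAut.conj_apply, mul_assoc]⟩

theorem cj_one (V : Subgroup G) : cj 1 V = V := by
  ext x; rw [mem_cj]; simp

theorem cj_mul (a b : G) (V : Subgroup G) : cj (a * b) V = cj a (cj b V) := by
  ext x; rw [mem_cj, mem_cj, mem_cj]; simp [mul_assoc]

theorem cj_inv_cj (a : G) (V : Subgroup G) : cj a⁻¹ (cj a V) = V := by
  rw [← cj_mul, inv_mul_cancel, cj_one]

theorem cj_cj_inv (a : G) (V : Subgroup G) : cj a (cj a⁻¹ V) = V := by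
  rw [← cj_mul, mul_inv_cancel, cj_one]

theorem conj_mem_cj {a x : G} {V : Subgroup G} (hx : x ∈ V) : a * x * a⁻¹ ∈ cj a V := by
  rw [mem_cj]; simpa [mul_assoc] using hx

theorem card_cj (a : G) (V : Subgroup G) : Nat.card (cj a V) = Nat.card V :=
  Nat.card_congr (V.equivMapOfInjective _ (MulAut.conj a).injective).toEquiv.symm

theorem cj_injective (a : G) : Function.Injective (cj a) := by
  intro V W h
  have := congrArg (cj a⁻¹) h
  rwa [cj_inv_cj, cj_inv_cj] at this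

theorem cj_inf (a : G) (V W : Subgroup G) : cj a (V ⊓ W) = cj a V ⊓ cj a W := by
  ext x; simp only [Subgroup.mem_inf, mem_cj]

theorem elem_cj {a : G} {V : Subgroup G} (h : Elem V) : Elem (cj a V) := by
  intro x hx
  have := h _ (mem_cj.1 hx)
  have h2 : a⁻¹ * (x * x) * a = 1 := by rw [← this]; group
  have h3 : x * x = a * (a⁻¹ * (x * x) * a) * a⁻¹ := by group
  rw [h3, h2]; group

theorem cj_eq_self_of_mem_normalizer {a : G} {V : Subgroup G} (h : a ∈ Subgroup.normalizer (V : Set G)) :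
    cj a V = V := by
  ext x
  rw [mem_cj]
  have := (Subgroup.mem_normalizer_iff''.1 h) x
  exact this.symm

theorem mem_normalizer_of_cj_eq {a : G} {V : Subgroup G} (h : cj a V = V) :
    a ∈ Subgroup.normalizer (V : Set G) := by
  rw [Subgroup.mem_normalizer_iff'']
  intro x
  have : x ∈ cj a V ↔ x ∈ V := by rw [h]
  rw [mem_cj] at this
  exact this.symm

/-- the configuration of part F -/
structure Hyp (V₁ V₂ T : Subgroup G) : Prop where
  fin : Finite G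
  cit : IsCIT G
  syl : IsSyl2 (⊤ : Subgroup G) T
  le₁ : V₁ ≤ T
  le₂ : V₂ ≤ T
  elem₁ : Elem V₁
  elem₂ : Elem V₂
  card₁ : Nat.card V₁ = 16
  card₂ : Nat.card V₂ = 16
  card_C : Nat.card (V₁ ⊓ V₂ : Subgroup G) = 4
  central : ∀ z ∈ V₁ ⊓ V₂, ∀ t ∈ T, z * t = t * z
  inv_mem : ∀ x ∈ T, x * x = 1 → x ∈ V₁ ∨ x ∈ V₂
  not_conj : ∀ g : G, cj g V₁ ≠ V₂
  trans₁ : ∀ v ∈ V₁, v ≠ 1 → ∀ w ∈ V₁, w ≠ 1 → ∃ m ∈ Subgroup.normalizer (V₁ : Set G), m * v * m⁻¹ = w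
  trans₂ : ∀ v ∈ V₂, v ≠ 1 → ∀ w ∈ V₂, w ≠ 1 → ∃ m ∈ Subgroup.normalizer (V₂ : Set G), m * v * m⁻¹ = w

/-- a subgroup consisting of squares-one elements contained in a union of two subgroups is contained in one -/
theorem le_or_le {E A B : Subgroup G} (h : ∀ x ∈ E, x ∈ A ∨ x ∈ B) : E ≤ A ∨ E ≤ B := by
  by_contra hcon
  rw [not_or] at hcon
  obtain ⟨hA, hB⟩ := hcon
  obtain ⟨a, haE, haA⟩ := SetLike.not_le_iff_exists.1 hA
  obtain ⟨b, hbE, hbB⟩ := SetLike.not_le_iff_exists.1 hB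
  have ha : a ∈ B := (h a haE).resolve_left haA
  have hb : b ∈ A := (h b hbE).resolve_right hbB
  rcases h (a * b) (E.mul_mem haE hbE) with h1 | h1
  · exact haA ((A.mul_mem_cancel_right hb).1 h1)
  · exact hbB ((B.mul_mem_cancel_left ha).1 h1)

theorem orderOf_eq_two_of {z : G} (h : z * z = 1) (h1 : z ≠ 1) : orderOf z = 2 :=
  orderOf_eq_prime (by rw [pow_two]; exact h) h1

theorem inv_eq_self_of {z : G} (h : z * z = 1) : z⁻¹ = z := inv_eq_of_mul_eq_one_left h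

/-- if an involution (or 1) `s` normalises an elementary abelian `q ≠ 1` then it centralises some element `≠ 1` of `q` -/
theorem exists_comm {s : G} {q : Subgroup G} (hs : s * s = 1) (hq : Elem q) (hne : ∃ x ∈ q, x ≠ 1)
    (hn : s ∈ Subgroup.normalizer (q : Set G)) : ∃ z ∈ q, z ≠ 1 ∧ s * z = z * s := by
  obtain ⟨x, hx, hx1⟩ := hne
  have hsx : s * x * s⁻¹ ∈ q := (Subgroup.mem_normalizer_iff.1 hn x).1 hx
  rw [inv_eq_self_of hs] at hsx
  by_cases hcase : s * x * s = x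
  · refine ⟨x, hx, hx1, ?_⟩
    have : s * x * s * s = x * s := by rw [hcase]
    rwa [mul_assoc, hs, mul_one] at this
  · refine ⟨x * (s * x * s), q.mul_mem hx hsx, ?_, ?_⟩
    · intro h
      apply hcase
      have h1 : s * x * s = x⁻¹ := (eq_inv_of_mul_eq_one_right h)
      rw [h1, inv_eq_self_of (hq x hx)]
    · have hc : x * (s * x * s) = (s * x * s) * x := hq.comm hx hsx
      calc s * (x * (s * x * s)) = (s * x * s) * x * s := by group
        _ = (x * (s * x * s)) * s := by rw [hc]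
      
namespace Hyp

variable {V₁ V₂ T : Subgroup G}

theorem exists_ne_one₁ (h : Hyp V₁ V₂ T) : ∃ x ∈ V₁, x ≠ 1 := by
  have := h.fin
  by_contra hcon
  push Not at hcon
  have : V₁ = ⊥ := by rw [eq_bot_iff]; intro x hx; exact Subgroup.mem_bot.2 (hcon x hx)
  have h1 := h.card₁
  rw [this] at h1
  simp at h1

theorem exists_ne_one_C (h : Hyp V₁ V₂ T) : ∃ x ∈ V₁ ⊓ V₂, x ≠ 1 := by
  have := h.fin
  by_contra hcon
  push Not at hcon
  have : V₁ ⊓ V₂ = ⊥ := by rw [eq_bot_iff]; intro x hx; exact Subgroup.mem_bot.2 (hcon x hx)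
  have h1 := h.card_C
  rw [this] at h1
  simp at h1

/-- the centraliser of `z ∈ C#` is `T` -/
theorem mem_T_of_comm (h : Hyp V₁ V₂ T) {z : G} (hz : z ∈ V₁ ⊓ V₂) (hz1 : z ≠ 1) {g : G}
    (hg : g * z = z * g) : g ∈ T := by
  have h2 : IsPGroup 2 (Subgroup.centralizer ({z} : Set G)) :=
    h.cit z (orderOf_eq_two_of (h.elem₁ z hz.1) hz1)
  have hle : T ≤ Subgroup.centralizer ({z} : Set G) := by
    intro t ht
    rw [Subgroup.mem_centralizer_singleton_iff]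
    exact (h.central z hz t ht).symm
  have := h.syl.max _ le_top h2 hle
  rw [← this, Subgroup.mem_centralizer_singleton_iff]
  exact hg

/-- an elementary abelian subgroup of order 16 of `T` is `V₁` or `V₂` -/
theorem eq_or_eq (h : Hyp V₁ V₂ T) {E : Subgroup G} (hE : E ≤ T) (hE2 : Elem E) (hc : Nat.card E = 16) :
    E = V₁ ∨ E = V₂ := by
  have := h.fin
  rcases le_or_le (fun x hx => h.inv_mem x (hE hx) (hE2 x hx)) with h1 | h1
  · left; exact Subgroup.eq_of_le_of_card_ge h1 (by rw [hc, h.card₁])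
  · right; exact Subgroup.eq_of_le_of_card_ge h1 (by rw [hc, h.card₂])

/-- for `z ∈ V₁#` there is `m ∈ N(V₁)` conjugating it into `C` -/
theorem exists_conj_C₁ (h : Hyp V₁ V₂ T) {z : G} (hz : z ∈ V₁) (hz1 : z ≠ 1) :
    ∃ m ∈ Subgroup.normalizer (V₁ : Set G), m * z * m⁻¹ ∈ V₁ ⊓ V₂ := by
  obtain ⟨x, hx, hx1⟩ := h.exists_ne_one_C
  obtain ⟨m, hm, hmx⟩ := h.trans₁ z hz hz1 x hx.1 hx1
  exact ⟨m, hm, by rw [hmx]; exact hx⟩

theorem exists_conj_C₂ (h : Hyp V₁ V₂ T) {z : G} (hz : z ∈ V₂) (hz1 : z ≠ 1) :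
    ∃ m ∈ Subgroup.normalizer (V₂ : Set G), m * z * m⁻¹ ∈ V₁ ⊓ V₂ := by
  obtain ⟨x, hx, hx1⟩ := h.exists_ne_one_C
  obtain ⟨m, hm, hmx⟩ := h.trans₂ z hz hz1 x hx.2 hx1
  exact ⟨m, hm, by rw [hmx]; exact hx⟩

/-- frame at a point: for `z ∈ (a V₁ a⁻¹)#` there is `g` with `g V₁ g⁻¹ = a V₁ a⁻¹` and `g⁻¹ z g ∈ C` -/
theorem frame₁ (h : Hyp V₁ V₂ T) {a z : G} (hz : z ∈ cj a V₁) (hz1 : z ≠ 1) :
    ∃ g, cj g V₁ = cj a V₁ ∧ g⁻¹ * z * g ∈ V₁ ⊓ V₂ := by
  have h1 : a⁻¹ * z * a ≠ 1 := by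
    intro h0
    apply hz1
    have : z = a * (a⁻¹ * z * a) * a⁻¹ := by group
    rw [this, h0]; group
  obtain ⟨m, hm, hmz⟩ := h.exists_conj_C₁ (mem_cj.1 hz) h1
  refine ⟨a * m⁻¹, ?_, ?_⟩
  · rw [cj_mul, cj_eq_self_of_mem_normalizer (Subgroup.inv_mem _ hm)]
  · have : (a * m⁻¹)⁻¹ * z * (a * m⁻¹) = m * (a⁻¹ * z * a) * m⁻¹ := by group
    rw [this]; exact hmz

theorem frame₂ (h : Hyp V₁ V₂ T) {a z : G} (hz : z ∈ cj a V₂) (hz1 : z ≠ 1) :
    ∃ g, cj g V₂ = cj a V₂ ∧ g⁻¹ * z * g ∈ V₁ ⊓ V₂ := by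
  have h1 : a⁻¹ * z * a ≠ 1 := by
    intro h0
    apply hz1
    have : z = a * (a⁻¹ * z * a) * a⁻¹ := by group
    rw [this, h0]; group
  obtain ⟨m, hm, hmz⟩ := h.exists_conj_C₂ (mem_cj.1 hz) h1
  refine ⟨a * m⁻¹, ?_, ?_⟩
  · rw [cj_mul, cj_eq_self_of_mem_normalizer (Subgroup.inv_mem _ hm)]
  · have : (a * m⁻¹)⁻¹ * z * (a * m⁻¹) = m * (a⁻¹ * z * a) * m⁻¹ := by group
    rw [this]; exact hmz

/-- conjugates of `V₁` form a TI family -/
theorem ti₁_C (h : Hyp V₁ V₂ T) {b z : G} (hz : z ∈ V₁ ⊓ V₂) (hz1 : z ≠ 1) (hb : z ∈ cj b V₁) :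
    cj b V₁ = V₁ := by
  have hle : cj b V₁ ≤ T := fun x hx => h.mem_T_of_comm hz hz1 ((elem_cj h.elem₁).comm hx hb)
  rcases h.eq_or_eq hle (elem_cj h.elem₁) (by rw [card_cj, h.card₁]) with h1 | h1
  · exact h1
  · exact absurd h1 (h.not_conj b)

theorem ti₂_C (h : Hyp V₁ V₂ T) {b z : G} (hz : z ∈ V₁ ⊓ V₂) (hz1 : z ≠ 1) (hb : z ∈ cj b V₂) :
    cj b V₂ = V₂ := by
  have hle : cj b V₂ ≤ T := fun x hx => h.mem_T_of_comm hz hz1 ((elem_cj h.elem₂).comm hx hb)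
  rcases h.eq_or_eq hle (elem_cj h.elem₂) (by rw [card_cj, h.card₂]) with h1 | h1
  · exfalso
    apply h.not_conj b⁻¹
    rw [← h1, cj_inv_cj]
  · exact h1

theorem conj_ne_one {g z : G} (hz : z ≠ 1) : g⁻¹ * z * g ≠ 1 := by
  intro h0
  apply hz
  have : z = g * (g⁻¹ * z * g) * g⁻¹ := by group
  rw [this, h0]; group

theorem ti₁ (h : Hyp V₁ V₂ T) {a b z : G} (hz1 : z ≠ 1) (ha : z ∈ cj a V₁) (hb : z ∈ cj b V₁) :
    cj a V₁ = cj b V₁ := by
  obtain ⟨g, hg, hgz⟩ := h.frame₁ ha hz1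
  have hb' : g⁻¹ * z * g ∈ cj (g⁻¹ * b) V₁ := by
    rw [cj_mul, mem_cj]
    have : (g⁻¹)⁻¹ * (g⁻¹ * z * g) * g⁻¹ = z := by group
    rw [this]; exact hb
  have := h.ti₁_C hgz (conj_ne_one hz1) hb'
  rw [← hg]
  have h2 := congrArg (cj g) this
  rw [cj_mul, cj_cj_inv] at h2
  exact h2.symm

theorem ti₂ (h : Hyp V₁ V₂ T) {a b z : G} (hz1 : z ≠ 1) (ha : z ∈ cj a V₂) (hb : z ∈ cj b V₂) :
    cj a V₂ = cj b V₂ := by
  obtain ⟨g, hg, hgz⟩ := h.frame₂ ha hz1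
  have hb' : g⁻¹ * z * g ∈ cj (g⁻¹ * b) V₂ := by
    rw [cj_mul, mem_cj]
    have : (g⁻¹)⁻¹ * (g⁻¹ * z * g) * g⁻¹ = z := by group
    rw [this]; exact hb
  have := h.ti₂_C hgz (conj_ne_one hz1) hb'
  rw [← hg]
  have h2 := congrArg (cj g) this
  rw [cj_mul, cj_cj_inv] at h2
  exact h2.symm

/-- an involution commuting with `z ∈ (g C g⁻¹)#` lies in `g V₁ g⁻¹` or `g V₂ g⁻¹` -/
theorem comm_cases (h : Hyp V₁ V₂ T) {g z s : G} (hz1 : z ≠ 1) (hz : g⁻¹ * z * g ∈ V₁ ⊓ V₂) (hs : s * s = 1)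
    (hc : s * z = z * s) : s ∈ cj g V₁ ∨ s ∈ cj g V₂ := by
  rw [mem_cj, mem_cj]
  have hT : g⁻¹ * s * g ∈ T := by
    apply h.mem_T_of_comm hz (conj_ne_one hz1)
    calc g⁻¹ * s * g * (g⁻¹ * z * g) = g⁻¹ * (s * z) * g := by group
      _ = g⁻¹ * (z * s) * g := by rw [hc]
      _ = _ := by group
  apply h.inv_mem _ hT
  calc g⁻¹ * s * g * (g⁻¹ * s * g) = g⁻¹ * (s * s) * g := by group
    _ = 1 := by rw [hs]; group

/-- `T ≤ N(V₁)` in conjugated form: an element commuting with `z ∈ (g C g⁻¹)#` normalises `g V₁ g⁻¹` -/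
theorem T_le_N₁ (h : Hyp V₁ V₂ T) : T ≤ Subgroup.normalizer (V₁ : Set G) := by
  obtain ⟨z, hz, hz1⟩ := h.exists_ne_one_C
  intro t ht
  apply mem_normalizer_of_cj_eq
  apply h.ti₁_C hz hz1
  rw [mem_cj]
  have : t⁻¹ * z * t = z := by rw [mul_assoc, h.central z hz t ht]; group
  rw [this]; exact hz.1

theorem T_le_N₂ (h : Hyp V₁ V₂ T) : T ≤ Subgroup.normalizer (V₂ : Set G) := by
  obtain ⟨z, hz, hz1⟩ := h.exists_ne_one_C
  intro t ht
  apply mem_normalizer_of_cj_eq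
  apply h.ti₂_C hz hz1
  rw [mem_cj]
  have : t⁻¹ * z * t = z := by rw [mul_assoc, h.central z hz t ht]; group
  rw [this]; exact hz.2

/-- an element commuting with some `z ∈ (a V₁ a⁻¹)#` normalises `a V₁ a⁻¹` -/
theorem normalizes_of_comm (h : Hyp V₁ V₂ T) {a z s : G} (hz1 : z ≠ 1) (hz : z ∈ cj a V₁)
    (hc : s * z = z * s) : s ∈ Subgroup.normalizer ((cj a V₁ : Subgroup G) : Set G) := by
  apply mem_normalizer_of_cj_eq
  rw [← cj_mul]
  symm
  apply h.ti₁ hz1 hz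
  rw [cj_mul, mem_cj]
  have : s⁻¹ * z * s = z := by rw [mul_assoc, ← hc]; group
  rw [this]; exact hz


end Hyp

/-! ### fixed-point-freeness -/

theorem fpf (hcit : IsCIT G) {k s : G} (hs : s * s = 1) (hs1 : s ≠ 1) (hk : Odd (orderOf k))
    (hc : k * s = s * k) : k = 1 := by
  have h2 := hcit s (orderOf_eq_two_of hs hs1)
  have hmem : k ∈ Subgroup.centralizer ({s} : Set G) := Subgroup.mem_centralizer_singleton_iff.2 hc
  obtain ⟨n, hn⟩ := h2 ⟨k, hmem⟩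
  have hn' : k ^ 2 ^ n = 1 := by simpa using congrArg Subtype.val hn
  have hd : orderOf k ∣ 2 ^ n := orderOf_dvd_of_pow_eq_one hn'
  have hco : Nat.Coprime (orderOf k) (2 ^ n) := Nat.Coprime.pow_right n hk.coprime_two_right
  exact orderOf_eq_one_iff.1 (Nat.Coprime.eq_one_of_dvd hco hd)

/-- `P` is a conjugate of `V` -/
def Cj (V P : Subgroup G) : Prop := ∃ a, P = cj a V

theorem Cj.cj {V P : Subgroup G} (h : Cj V P) (g : G) : Cj V (cj g P) := by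
  obtain ⟨a, rfl⟩ := h
  exact ⟨g * a, (cj_mul g a V).symm⟩

theorem Cj.self (V : Subgroup G) : Cj V V := ⟨1, (cj_one V).symm⟩

/-- dihedral trick: if `z, z'` are involutions and `z z'` has even order there is an involution centralising both -/
theorem exists_central_of_even [Finite G] {z z' : G} (hz : z * z = 1) (hz' : z' * z' = 1)
    (he : ¬ Odd (orderOf (z * z'))) : ∃ s : G, s * s = 1 ∧ s ≠ 1 ∧ s * z = z * s ∧ s * z' = z' * s := by
  set r := z * z' with hr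
  have hn : 0 < orderOf r := orderOf_pos r
  obtain ⟨k, hk⟩ := Nat.not_odd_iff_even.1 he
  have hss : r ^ k * r ^ k = 1 := by rw [← pow_add, ← hk]; exact pow_orderOf_eq_one r
  have hinv : (r ^ k)⁻¹ = r ^ k := inv_eq_of_mul_eq_one_left hss
  have hzi : z⁻¹ = z := inv_eq_self_of hz
  have hzi' : z'⁻¹ = z' := inv_eq_self_of hz'
  have h1 : z * r ^ k * z⁻¹ = r ^ k := by
    rw [← conj_pow]
    have : z * r * z⁻¹ = r⁻¹ := by
      rw [hr, mul_inv_rev, hzi, hzi', ← mul_assoc, hz, one_mul]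
    rw [this, inv_pow, hinv]
  have h2 : r ^ k * z = z * r ^ k := by
    rw [← h1]
    calc z * r ^ k * z⁻¹ * z = z * r ^ k := by group
      _ = z * (z * r ^ k * z⁻¹) := by rw [h1]
  have h3 : r ^ k * r = r * r ^ k := by rw [← pow_succ, ← pow_succ']
  refine ⟨r ^ k, hss, ?_, h2, ?_⟩
  · intro h0
    have h4 : orderOf r ∣ k := orderOf_dvd_of_pow_eq_one h0
    have h5 := Nat.le_of_dvd (by omega) h4
    omega
  · have h4 : z' = z * r := by rw [hr, ← mul_assoc, hz, one_mul]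
    calc r ^ k * z' = (r ^ k * z) * r := by rw [mul_assoc, ← h4]
      _ = z * (r ^ k * r) := by rw [h2, mul_assoc]
      _ = z * r * r ^ k := by rw [h3]; exact (mul_assoc z r (r ^ k)).symm
      _ = z' * r ^ k := by rw [← h4]

theorem exists_swap_of_odd {z z' : G} (hz : z * z = 1) (hz' : z' * z' = 1)
    (ho : Odd (orderOf (z * z'))) : ∃ t : G, t * t = 1 ∧ t * z * t = z' := by
  set r := z * z' with hr
  obtain ⟨k, hk⟩ := ho
  have hzi : z⁻¹ = z := inv_eq_self_of hz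
  have hzi' : z'⁻¹ = z' := inv_eq_self_of hz'
  have hconj : ∀ j : ℕ, z * r ^ j * z = (r ^ j)⁻¹ := by
    intro j
    have h1 : z * r ^ j * z⁻¹ = (z * r * z⁻¹) ^ j := by rw [conj_pow]
    have : z * r * z⁻¹ = r⁻¹ := by
      rw [hr, mul_inv_rev, hzi, hzi', ← mul_assoc, hz, one_mul]
    rw [this, hzi, inv_pow] at h1
    exact h1
  have hpow : r ^ (k + 1) * r ^ (k + 1) = r := by
    rw [← pow_add, show k + 1 + (k + 1) = (2 * k + 1) + 1 by ring, ← hk, pow_succ, pow_orderOf_eq_one, one_mul]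
  refine ⟨z * r ^ (k + 1), ?_, ?_⟩
  · calc z * r ^ (k + 1) * (z * r ^ (k + 1)) = (z * r ^ (k + 1) * z) * r ^ (k + 1) := by group
      _ = 1 := by rw [hconj]; group
  · have h1 := hconj (k + 1)
    calc z * r ^ (k + 1) * z * (z * r ^ (k + 1)) = (z * r ^ (k + 1) * z) * z * r ^ (k + 1) := by group
      _ = (r ^ (k + 1))⁻¹ * z * r ^ (k + 1) := by rw [h1]
      _ = (r ^ (k + 1))⁻¹ * (z * r ^ (k + 1) * z) * z⁻¹ := by group
      _ = (r ^ (k + 1))⁻¹ * (r ^ (k + 1))⁻¹ * z := by rw [h1, hzi]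
      _ = (r ^ (k + 1) * r ^ (k + 1))⁻¹ * z := by group
      _ = r⁻¹ * z := by rw [hpow]
      _ = z' := by rw [hr, mul_inv_rev, hzi, hzi', mul_assoc, hz, mul_one]

namespace Hyp

variable {V₁ V₂ T : Subgroup G}

theorem symm (h : Hyp V₁ V₂ T) : Hyp V₂ V₁ T where
  fin := h.fin
  cit := h.cit
  syl := h.syl
  le₁ := h.le₂
  le₂ := h.le₁
  elem₁ := h.elem₂
  elem₂ := h.elem₁
  card₁ := h.card₂
  card₂ := h.card₁
  card_C := by rw [inf_comm]; exact h.card_C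
  central := by rw [inf_comm]; exact h.central
  inv_mem := fun x hx hxx => (h.inv_mem x hx hxx).symm
  not_conj := by
    intro g hg
    apply h.not_conj g⁻¹
    rw [← hg, cj_inv_cj]
  trans₁ := h.trans₂
  trans₂ := h.trans₁

theorem elemP (h : Hyp V₁ V₂ T) {P : Subgroup G} (hP : Cj V₁ P) : Elem P := by
  obtain ⟨a, rfl⟩ := hP; exact elem_cj h.elem₁

theorem cardP (h : Hyp V₁ V₂ T) {P : Subgroup G} (hP : Cj V₁ P) : Nat.card P = 16 := by
  obtain ⟨a, rfl⟩ := hP; rw [card_cj, h.card₁]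

theorem ti (h : Hyp V₁ V₂ T) {P Q : Subgroup G} (hP : Cj V₁ P) (hQ : Cj V₁ Q) {z : G} (hz1 : z ≠ 1)
    (hzP : z ∈ P) (hzQ : z ∈ Q) : P = Q := by
  obtain ⟨a, rfl⟩ := hP
  obtain ⟨b, rfl⟩ := hQ
  exact h.ti₁ hz1 hzP hzQ

theorem ne_PL (h : Hyp V₁ V₂ T) {P L : Subgroup G} (hP : Cj V₁ P) (hL : Cj V₂ L) : P ≠ L := by
  obtain ⟨a, rfl⟩ := hP
  obtain ⟨b, rfl⟩ := hL
  intro he
  apply h.not_conj (b⁻¹ * a)
  rw [cj_mul, he, cj_inv_cj]

theorem exists_line (h : Hyp V₁ V₂ T) {P : Subgroup G} (hP : Cj V₁ P) {z : G} (hz1 : z ≠ 1)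
    (hz : z ∈ P) : ∃ L, Cj V₂ L ∧ z ∈ L := by
  obtain ⟨a, rfl⟩ := hP
  obtain ⟨g, -, hgz⟩ := h.frame₁ hz hz1
  exact ⟨cj g V₂, ⟨g, rfl⟩, mem_cj.2 hgz.2⟩

theorem K1 (h : Hyp V₁ V₂ T) {P L : Subgroup G} (hP : Cj V₁ P) (hL : Cj V₂ L) {z s : G} (hz1 : z ≠ 1)
    (hzP : z ∈ P) (hzL : z ∈ L) (hs : s * s = 1) (hc : s * z = z * s) : s ∈ P ∨ s ∈ L := by
  obtain ⟨a, rfl⟩ := hP
  obtain ⟨b, rfl⟩ := hL
  obtain ⟨g, hg, hgz⟩ := h.frame₁ hzP hz1
  have h2 : cj g V₂ = cj b V₂ := h.ti₂ hz1 (mem_cj.2 hgz.2) hzL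
  rw [← hg, ← h2]
  exact h.comm_cases hz1 hgz hs hc

theorem card_PL (h : Hyp V₁ V₂ T) {P L : Subgroup G} (hP : Cj V₁ P) (hL : Cj V₂ L) {z : G} (hz1 : z ≠ 1)
    (hzP : z ∈ P) (hzL : z ∈ L) : Nat.card (P ⊓ L : Subgroup G) = 4 := by
  obtain ⟨a, rfl⟩ := hP
  obtain ⟨b, rfl⟩ := hL
  obtain ⟨g, hg, hgz⟩ := h.frame₁ hzP hz1
  have h2 : cj g V₂ = cj b V₂ := h.ti₂ hz1 (mem_cj.2 hgz.2) hzL
  rw [← hg, ← h2, ← cj_inf, card_cj, h.card_C]

theorem norm (h : Hyp V₁ V₂ T) {P : Subgroup G} (hP : Cj V₁ P) {z s : G} (hz1 : z ≠ 1) (hz : z ∈ P)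
    (hc : s * z = z * s) : s ∈ Subgroup.normalizer (P : Set G) := by
  obtain ⟨a, rfl⟩ := hP
  exact h.normalizes_of_comm hz1 hz hc

theorem exists_ne_one (h : Hyp V₁ V₂ T) {P : Subgroup G} (hP : Cj V₁ P) : ∃ x ∈ P, x ≠ 1 := by
  by_contra hcon
  push Not at hcon
  have : P = ⊥ := by rw [eq_bot_iff]; intro x hx; exact Subgroup.mem_bot.2 (hcon x hx)
  have h1 := h.cardP hP
  rw [this] at h1
  simp at h1

/-- (★) an element of odd order of `N(P)` fixing all the lines through `P` is trivial -/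
theorem star (h : Hyp V₁ V₂ T) {P : Subgroup G} (hP : Cj V₁ P) {k : G} (hk : Odd (orderOf k))
    (hkP : k ∈ Subgroup.normalizer (P : Set G))
    (hkL : ∀ L, Cj V₂ L → (∃ z ∈ P, z ≠ 1 ∧ z ∈ L) → cj k L = L) : k = 1 := by
  have := h.fin
  by_contra hk1
  obtain ⟨z₀, hz₀, hz₀1⟩ := h.exists_ne_one hP
  obtain ⟨L₀, hL₀, hz₀L⟩ := h.exists_line hP hz₀1 hz₀
  have hkL₀ : k ∈ Subgroup.normalizer (L₀ : Set G) :=
    mem_normalizer_of_cj_eq (hkL L₀ hL₀ ⟨z₀, hz₀, hz₀1, hz₀L⟩)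
  have hmem : ∀ t ∈ L₀, k * t * k⁻¹ * t⁻¹ ∈ P ⊓ L₀ := by
    intro t ht
    have hxL : k * t * k⁻¹ * t⁻¹ ∈ L₀ :=
      L₀.mul_mem ((Subgroup.mem_normalizer_iff.1 hkL₀ t).1 ht) (L₀.inv_mem ht)
    refine ⟨?_, hxL⟩
    set x := k * t * k⁻¹ * t⁻¹ with hx
    have hxx : x * x = 1 := h.symm.elemP hL₀ x hxL
    have htc : t * z₀ = z₀ * t := (h.symm.elemP hL₀).comm ht hz₀L
    have htP : t ∈ Subgroup.normalizer (P : Set G) := h.norm hP hz₀1 hz₀ htc
    have hxP : x ∈ Subgroup.normalizer (P : Set G) := by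
      rw [hx]
      exact Subgroup.mul_mem _ (Subgroup.mul_mem _ (Subgroup.mul_mem _ hkP htP) (Subgroup.inv_mem _ hkP))
        (Subgroup.inv_mem _ htP)
    -- `x` fixes all the lines through `P`
    have hk' : ∀ L, Cj V₂ L → (∃ z ∈ P, z ≠ 1 ∧ z ∈ L) → cj k⁻¹ L = L := by
      intro L hL hz
      have := congrArg (cj k⁻¹) (hkL L hL hz)
      rw [cj_inv_cj] at this
      exact this.symm
    have hxfix : ∀ L, Cj V₂ L → (∃ z ∈ P, z ≠ 1 ∧ z ∈ L) → cj x L = L := by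
      intro L hL hz
      obtain ⟨z, hzP, hz1, hzL⟩ := hz
      have h1 : cj k⁻¹ (cj t⁻¹ L) = cj t⁻¹ L := by
        apply hk' _ (hL.cj _)
        refine ⟨t⁻¹ * z * t, ?_, conj_ne_one hz1, ?_⟩
        · exact (Subgroup.mem_normalizer_iff''.1 htP z).1 hzP
        · rw [mem_cj]
          have : t⁻¹⁻¹ * (t⁻¹ * z * t) * t⁻¹ = z := by group
          rw [this]; exact hzL
      rw [hx, cj_mul, cj_mul, cj_mul, h1, cj_cj_inv]
      exact hkL L hL ⟨z, hzP, hz1, hzL⟩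
    -- another line through `P`
    have hex : ∃ y ∈ P, y ∉ L₀ := by
      by_contra hcon
      push Not at hcon
      have : P ≤ L₀ := hcon
      exact h.ne_PL hP hL₀ (Subgroup.eq_of_le_of_card_ge this (by rw [h.cardP hP, h.symm.cardP hL₀]))
    obtain ⟨y, hyP, hyL₀⟩ := hex
    have hy1 : y ≠ 1 := by rintro rfl; exact hyL₀ L₀.one_mem
    obtain ⟨L, hL, hyL⟩ := h.exists_line hP hy1 hyP
    have hxL' : x ∈ Subgroup.normalizer (L : Set G) :=
      mem_normalizer_of_cj_eq (hxfix L hL ⟨y, hyP, hy1, hyL⟩)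
    have hxN : x ∈ Subgroup.normalizer ((P ⊓ L : Subgroup G) : Set G) := by
      rw [Subgroup.mem_normalizer_iff]
      intro w
      exact and_congr (Subgroup.mem_normalizer_iff.1 hxP w) (Subgroup.mem_normalizer_iff.1 hxL' w)
    obtain ⟨z, hz, hz1, hxz⟩ := exists_comm (q := P ⊓ L) hxx (fun w hw => h.elemP hP w hw.1) ⟨y, ⟨hyP, hyL⟩, hy1⟩ hxN
    rcases h.K1 hP hL hz1 hz.1 hz.2 hxx hxz with h1 | h1
    · exact h1
    · by_cases hx1 : x = 1
      · rw [hx1]; exact P.one_mem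
      · exfalso
        have : L = L₀ := h.symm.ti hL hL₀ hx1 h1 hxL
        exact hyL₀ (this ▸ hyL)
  -- the map `t ↦ [k, t]` from `L₀` to `P ⊓ L₀` is injective
  have hinj : Function.Injective (fun t : L₀ => (⟨k * t * k⁻¹ * (t : G)⁻¹, hmem t t.2⟩ : (P ⊓ L₀ : Subgroup G))) := by
    intro s t hst
    have hst' : k * (s : G) * k⁻¹ * (s : G)⁻¹ = k * (t : G) * k⁻¹ * (t : G)⁻¹ := by
      simpa using congrArg Subtype.val hst
    have hcomm : (s : G)⁻¹ * t = t * (s : G)⁻¹ := (h.symm.elemP hL₀).comm (L₀.inv_mem s.2) t.2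
    have h1 : k * ((t : G)⁻¹ * s) = ((t : G)⁻¹ * s) * k := by
      have h2 : (k * (t : G) * k⁻¹)⁻¹ * (k * (s : G) * k⁻¹) = (t : G)⁻¹ * s := by
        have h3 : (k * (t : G) * k⁻¹)⁻¹ * (k * (s : G) * k⁻¹ * (s : G)⁻¹) = (t : G)⁻¹ := by
          rw [hst']; group
        calc (k * (t : G) * k⁻¹)⁻¹ * (k * (s : G) * k⁻¹)
            = (k * (t : G) * k⁻¹)⁻¹ * (k * (s : G) * k⁻¹ * (s : G)⁻¹) * s := by group
          _ = _ := by rw [h3]
      calc k * ((t : G)⁻¹ * s) = (k * (t : G) * k⁻¹)⁻¹ * (k * (s : G) * k⁻¹) * k := by group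
        _ = _ := by rw [h2]
    by_contra hne
    have hne' : (t : G)⁻¹ * s ≠ 1 := by
      intro h0
      apply hne
      have : (t : G) = s := by
        rw [← mul_one (t : G), ← h0]; group
      exact Subtype.ext this.symm
    exact hk1 (fpf h.cit (h.symm.elemP hL₀ _ (L₀.mul_mem (L₀.inv_mem t.2) s.2)) hne' hk h1)
  have hcard := Nat.card_le_card_of_injective _ hinj
  rw [h.card_PL hP hL₀ hz₀1 hz₀ hz₀L, h.symm.cardP hL₀] at hcard
  omega


theorem card_sharp [Finite G] (A : Subgroup G) : Nat.card {z : G // z ∈ A ∧ z ≠ 1} + 1 = Nat.card A := by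
  classical
  have e : Option {z : G // z ∈ A ∧ z ≠ 1} ≃ A :=
    { toFun := fun o => match o with
        | none => 1
        | some z => ⟨z.1, z.2.1⟩
      invFun := fun a => if ha : (a : G) = 1 then none else some ⟨a, a.2, ha⟩
      left_inv := by
        rintro (_ | z)
        · simp
        · simp [z.2.2]
      right_inv := by
        intro a
        by_cases ha : (a : G) = 1
        · simp [ha]
          exact (Subtype.ext ha).symm
        · simp [ha] }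
  rw [← Nat.card_congr e, Finite.card_option]

/-- step 1: two points `P ≠ Q`: some `z ∈ P#` normalises `Q` -/
theorem exists_mem_normalizer (h : Hyp V₁ V₂ T) {P Q : Subgroup G} (hP : Cj V₁ P) (hQ : Cj V₁ Q)
    (hne : P ≠ Q) : ∃ z ∈ P, z ≠ 1 ∧ z ∈ Subgroup.normalizer (Q : Set G) := by
  have := h.fin
  by_contra hcon
  push Not at hcon
  have hodd : ∀ z ∈ P, z ≠ 1 → ∀ z' ∈ Q, z' ≠ 1 → Odd (orderOf (z * z')) := by
    intro z hz hz1 z' hz' hz'1
    by_contra he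
    obtain ⟨s, hs, hs1, hsz, hsz'⟩ := exists_central_of_even (h.elemP hP z hz) (h.elemP hQ z' hz') he
    obtain ⟨L, hL, hzL⟩ := h.exists_line hP hz1 hz
    obtain ⟨L', hL', hzL'⟩ := h.exists_line hQ hz'1 hz'
    rcases h.K1 hP hL hz1 hz hzL hs hsz with h1 | h1
    · exact hcon s h1 hs1 (h.norm hQ hz'1 hz' hsz')
    · rcases h.K1 hQ hL' hz'1 hz' hzL' hs hsz' with h2 | h2
      · exact hcon z hz hz1 (h.norm hQ hs1 h2 hsz.symm)
      · have h3 : L = L' := h.symm.ti hL hL' hs1 h1 h2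
        subst h3
        exact hcon z hz hz1 (h.norm hQ hz'1 hz' ((h.symm.elemP hL).comm hzL hzL'))
  obtain ⟨z₀, hz₀, hz₀1⟩ := h.exists_ne_one hP
  obtain ⟨w₀, hw₀, hw₀1⟩ := h.exists_ne_one hQ
  have hswap : ∀ z' : {z : G // z ∈ Q ∧ z ≠ 1}, ∃ t : G, t * t = 1 ∧ t * z₀ * t = z' := fun z' =>
    exists_swap_of_odd (h.elemP hP z₀ hz₀) (h.elemP hQ z' z'.2.1) (hodd z₀ hz₀ hz₀1 z' z'.2.1 z'.2.2)
  choose t ht htz using hswap
  set t₀ := t ⟨w₀, hw₀, hw₀1⟩ with ht₀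
  have hcjt : ∀ z', cj (t z') P = Q := by
    intro z'
    apply h.ti (hP.cj _) hQ z'.2.2 _ z'.2.1
    rw [mem_cj, inv_eq_self_of (ht z')]
    have : t z' * (z' : G) * t z' = z₀ := by
      rw [← htz z']
      calc t z' * (t z' * z₀ * t z') * t z' = (t z' * t z') * z₀ * (t z' * t z') := by group
        _ = z₀ := by rw [ht z']; group
    rw [this]; exact hz₀
  have hcjt' : ∀ z', cj (t z') Q = P := by
    intro z'
    rw [← hcjt z', ← cj_mul, ht z', cj_one]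
  set H : Subgroup G := Subgroup.normalizer (P : Set G) ⊓ Subgroup.normalizer (Q : Set G) with hH
  have hmemH : ∀ z', t₀ * t z' ∈ H := by
    intro z'
    refine ⟨mem_normalizer_of_cj_eq ?_, mem_normalizer_of_cj_eq ?_⟩
    · rw [cj_mul, hcjt z', hcjt']
    · rw [cj_mul, hcjt' z', hcjt]
  -- elements of `H` have odd order
  have hHodd : ∀ x ∈ H, Odd (orderOf x) := by
    intro x hx
    by_contra he
    obtain ⟨k, hk⟩ := Nat.not_odd_iff_even.1 he
    have hx0 : 0 < orderOf x := orderOf_pos x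
    have hss : x ^ k * x ^ k = 1 := by rw [← pow_add, ← hk]; exact pow_orderOf_eq_one x
    have hs1 : x ^ k ≠ 1 := by
      intro h0
      have h4 : orderOf x ∣ k := orderOf_dvd_of_pow_eq_one h0
      have h5 := Nat.le_of_dvd (by omega) h4
      omega
    have hsH : x ^ k ∈ H := H.pow_mem hx k
    obtain ⟨z, hz, hz1, hsz⟩ := exists_comm hss (h.elemP hP) (h.exists_ne_one hP) hsH.1
    obtain ⟨z', hz', hz'1, hsz'⟩ := exists_comm hss (h.elemP hQ) (h.exists_ne_one hQ) hsH.2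
    have hc : z * z' * x ^ k = x ^ k * (z * z') := by
      rw [mul_assoc, ← hsz', ← mul_assoc, ← hsz, mul_assoc]
    have h1 : z * z' = 1 := fpf h.cit hss hs1 (hodd z hz hz1 z' hz' hz'1) hc
    have h2 : z = z' := by
      rw [← inv_eq_self_of (h.elemP hQ z' hz')]
      exact eq_inv_of_mul_eq_one_left h1
    exact hne (h.ti hP hQ hz1 hz (h2 ▸ hz'))
  -- `H → P#`
  have hmap : ∀ x : H, (x : G) * z₀ * (x : G)⁻¹ ∈ P ∧ (x : G) * z₀ * (x : G)⁻¹ ≠ 1 := by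
    intro x
    refine ⟨(Subgroup.mem_normalizer_iff.1 x.2.1 z₀).1 hz₀, ?_⟩
    have := conj_ne_one (g := (x : G)⁻¹) hz₀1
    rwa [inv_inv] at this
  have hinj : Function.Injective (fun x : H => (⟨(x : G) * z₀ * (x : G)⁻¹, hmap x⟩ : {z : G // z ∈ P ∧ z ≠ 1})) := by
    intro x y hxy
    have hxy' : (x : G) * z₀ * (x : G)⁻¹ = (y : G) * z₀ * (y : G)⁻¹ := by simpa using congrArg Subtype.val hxy
    have h1 : ((y : G)⁻¹ * x) * z₀ = z₀ * ((y : G)⁻¹ * x) := by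
      calc ((y : G)⁻¹ * x) * z₀ = (y : G)⁻¹ * ((x : G) * z₀ * (x : G)⁻¹) * x := by group
        _ = (y : G)⁻¹ * ((y : G) * z₀ * (y : G)⁻¹) * x := by rw [hxy']
        _ = z₀ * ((y : G)⁻¹ * x) := by group
    have h2 := fpf h.cit (h.elemP hP z₀ hz₀) hz₀1 (hHodd _ (H.mul_mem (H.inv_mem y.2) x.2)) h1
    apply Subtype.ext
    exact (inv_mul_eq_one.1 h2).symm
  have hinj2 : Function.Injective (fun z' : {z : G // z ∈ Q ∧ z ≠ 1} => (⟨t₀ * t z', hmemH z'⟩ : H)) := by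
    intro x y hxy
    have hxy' : t₀ * t x = t₀ * t y := by simpa using congrArg Subtype.val hxy
    have h1 := mul_left_cancel hxy'
    apply Subtype.ext
    rw [← htz x, ← htz y, h1]
  have hcP := card_sharp P
  have hcQ := card_sharp Q
  rw [h.cardP hP] at hcP
  rw [h.cardP hQ] at hcQ
  have hle1 := Nat.card_le_card_of_injective _ hinj
  have hle2 := Nat.card_le_card_of_injective _ hinj2
  have hbij1 := (Nat.bijective_iff_injective_and_card _).2 ⟨hinj, by omega⟩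
  have hbij2 := (Nat.bijective_iff_injective_and_card _).2 ⟨hinj2, by omega⟩
  -- `H` is abelian
  have ht₀t₀ : t₀ * t₀ = 1 := ht _
  have hinvert : ∀ x ∈ H, t₀ * x * t₀ = x⁻¹ := by
    intro x hx
    obtain ⟨z', hz'⟩ := hbij2.2 ⟨x, hx⟩
    have hz'' : t₀ * t z' = x := by simpa using congrArg Subtype.val hz'
    rw [← hz'', mul_inv_rev, inv_eq_self_of (ht z'), inv_eq_self_of ht₀t₀]
    calc t₀ * (t₀ * t z') * t₀ = (t₀ * t₀) * t z' * t₀ := by group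
      _ = t z' * t₀ := by rw [ht₀t₀, one_mul]
  have hcomm : ∀ x ∈ H, ∀ y ∈ H, x * y = y * x := by
    intro x hx y hy
    have h1 : x⁻¹ * y⁻¹ = (x * y)⁻¹ := by
      rw [← hinvert (x * y) (H.mul_mem hx hy), ← hinvert x hx, ← hinvert y hy]
      calc t₀ * x * t₀ * (t₀ * y * t₀) = t₀ * x * (t₀ * t₀) * y * t₀ := by group
        _ = t₀ * (x * y) * t₀ := by rw [ht₀t₀]; group
    rw [← mul_inv_rev] at h1
    exact (inv_injective h1).symm
  -- choose `k`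
  obtain ⟨L₀, hL₀, hz₀L⟩ := h.exists_line hP hz₀1 hz₀
  have hex : ∃ c ∈ P ⊓ L₀, c ≠ 1 ∧ c ≠ z₀ := by
    by_contra hcon2
    push Not at hcon2
    have h4 := h.card_PL hP hL₀ hz₀1 hz₀ hz₀L
    have h5 := card_sharp (P ⊓ L₀)
    have h6 : Nat.card {z : G // z ∈ P ⊓ L₀ ∧ z ≠ 1} ≤ 1 := by
      rw [Finite.card_le_one_iff_subsingleton]
      exact ⟨fun a b => Subtype.ext ((hcon2 a a.2.1 a.2.2).trans (hcon2 b b.2.1 b.2.2).symm)⟩
    omega
  obtain ⟨c, hc, hc1, hcz⟩ := hex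
  obtain ⟨⟨k, hk⟩, hkc⟩ := hbij1.2 ⟨c, hc.1, hc1⟩
  have hkc' : k * z₀ * k⁻¹ = c := by simpa using congrArg Subtype.val hkc
  have hk1 : k ≠ 1 := by
    rintro rfl
    apply hcz
    rw [← hkc']; group
  have hkL₀ : cj k L₀ = L₀ := by
    apply h.symm.ti (hL₀.cj _) hL₀ hc1 _ hc.2
    rw [← hkc']; exact conj_mem_cj hz₀L
  apply hk1
  apply h.star hP (hHodd k hk) hk.1
  rintro L hL ⟨z, hzP, hz1, hzL⟩
  obtain ⟨⟨g, hg⟩, hgz⟩ := hbij1.2 ⟨z, hzP, hz1⟩
  have hgz' : g * z₀ * g⁻¹ = z := by simpa using congrArg Subtype.val hgz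
  have hgL : cj g L₀ = L := by
    apply h.symm.ti (hL₀.cj _) hL hz1 _ hzL
    rw [← hgz']; exact conj_mem_cj hz₀L
  rw [← hgL, ← cj_mul, hcomm k hk g hg, cj_mul, hkL₀]

/-- step 2: two points `P ≠ Q` are joined by a line `L`, and `P ∩ N(Q) = P ∩ L` -/
theorem join (h : Hyp V₁ V₂ T) {P Q : Subgroup G} (hP : Cj V₁ P) (hQ : Cj V₁ Q)
    (hne : P ≠ Q) : ∃ L, Cj V₂ L ∧ (∃ z ∈ P, z ≠ 1 ∧ z ∈ L) ∧ (∃ z ∈ Q, z ≠ 1 ∧ z ∈ L) ∧
      ∀ w ∈ P, w ∈ Subgroup.normalizer (Q : Set G) ↔ w ∈ L := by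
  obtain ⟨z, hz, hz1, hzN⟩ := h.exists_mem_normalizer hP hQ hne
  have hzz := h.elemP hP z hz
  obtain ⟨z', hz', hz'1, hzz'⟩ := exists_comm hzz (h.elemP hQ) (h.exists_ne_one hQ) hzN
  obtain ⟨L, hL, hz'L⟩ := h.exists_line hQ hz'1 hz'
  have hzQ : z ∉ Q := fun h0 => hne (h.ti hP hQ hz1 hz h0)
  have hzL : z ∈ L := (h.K1 hQ hL hz'1 hz' hz'L hzz hzz').resolve_left hzQ
  refine ⟨L, hL, ⟨z, hz, hz1, hzL⟩, ⟨z', hz', hz'1, hz'L⟩, ?_⟩
  intro w hw
  constructor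
  · intro hwN
    by_cases hw1 : w = 1
    · rw [hw1]; exact L.one_mem
    have hww := h.elemP hP w hw
    -- `w` normalises `Q ⊓ L = C_Q(z)`
    have hcent : ∀ x ∈ Q, x * z = z * x → x ∈ L := by
      intro x hx hxz
      by_cases hx1 : x = 1
      · rw [hx1]; exact L.one_mem
      rcases h.K1 hP hL hz1 hz hzL (h.elemP hQ x hx) hxz with h1 | h1
      · exact absurd (h.ti hP hQ hx1 h1 hx) hne
      · exact h1
    have hconj : ∀ v : G, v ∈ P → v ∈ Subgroup.normalizer (Q : Set G) → ∀ x ∈ Q ⊓ L, v * x * v⁻¹ ∈ Q ⊓ L := by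
      intro v hv hvN x hx
      have h1 : v * x * v⁻¹ ∈ Q := (Subgroup.mem_normalizer_iff.1 hvN x).1 hx.1
      refine ⟨h1, hcent _ h1 ?_⟩
      have hvz : v * z = z * v := (h.elemP hP).comm hv hz
      have hxz : x * z = z * x := (h.symm.elemP hL).comm hx.2 hzL
      have hvz' : v⁻¹ * z = z * v⁻¹ := by
        rw [inv_eq_self_of (h.elemP hP v hv)]; exact hvz
      calc v * x * v⁻¹ * z = v * x * (v⁻¹ * z) := by group
        _ = v * (x * z) * v⁻¹ := by rw [hvz']; group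
        _ = (v * z) * x * v⁻¹ := by rw [hxz]; group
        _ = z * (v * x * v⁻¹) := by rw [hvz]; group
    have hwN2 : w ∈ Subgroup.normalizer ((Q ⊓ L : Subgroup G) : Set G) := by
      rw [Subgroup.mem_normalizer_iff]
      intro x
      constructor
      · intro hx
        exact hconj w hw hwN x hx
      · intro hx
        have := hconj w⁻¹ (P.inv_mem hw) (Subgroup.inv_mem _ hwN) _ hx
        have h2 : w⁻¹ * (w * x * w⁻¹) * w⁻¹⁻¹ = x := by group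
        rwa [h2] at this
    obtain ⟨x, hx, hx1, hwx⟩ := exists_comm (q := Q ⊓ L) hww (fun v hv => h.elemP hQ v hv.1)
      ⟨z', ⟨hz', hz'L⟩, hz'1⟩ hwN2
    rcases h.K1 hQ hL hx1 hx.1 hx.2 hww hwx with h1 | h1
    · exact absurd (h.ti hP hQ hw1 hw h1) hne
    · exact h1
  · intro hwL
    exact h.norm hQ hz'1 hz' ((h.symm.elemP hL).comm hwL hz'L)


theorem finset_sharp [Fintype G] [DecidableEq G] (A : Subgroup G) [DecidablePred fun z : G => z ∈ A ∧ z ≠ 1] :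
    (Finset.univ.filter (fun z : G => z ∈ A ∧ z ≠ 1)).card + 1 = Nat.card A := by
  rw [← card_sharp A, Nat.card_eq_fintype_card, Fintype.card_subtype]

/-- a line carries exactly five points -/
theorem card_pencil (h : Hyp V₁ V₂ T) {L : Subgroup G} (hL : Cj V₂ L) :
    Nat.card {Q : Subgroup G // Cj V₁ Q ∧ ∃ z ∈ Q, z ≠ 1 ∧ z ∈ L} = 5 := by
  classical
  have := h.fin
  have := Fintype.ofFinite G
  have := Fintype.ofFinite (Subgroup G)
  rw [Nat.card_eq_fintype_card, Fintype.card_subtype]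
  have hcount := Finset.card_mul_eq_card_mul (fun (z : G) (Q : Subgroup G) => z ∈ Q)
    (s := Finset.univ.filter (fun z : G => z ∈ L ∧ z ≠ 1))
    (t := Finset.univ.filter (fun Q : Subgroup G => Cj V₁ Q ∧ ∃ z ∈ Q, z ≠ 1 ∧ z ∈ L)) (m := 1) (n := 3) ?_ ?_
  · have h1 := finset_sharp L
    rw [h.symm.cardP hL] at h1
    omega
  · intro z hz
    rw [Finset.mem_filter] at hz
    obtain ⟨-, hzL, hz1⟩ := hz
    obtain ⟨Q, hQ, hzQ⟩ := h.symm.exists_line hL hz1 hzL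
    rw [Finset.card_eq_one]
    refine ⟨Q, ?_⟩
    ext R
    simp only [Finset.mem_bipartiteAbove, Finset.mem_filter, Finset.mem_univ, true_and, Finset.mem_singleton]
    constructor
    · rintro ⟨⟨hR, -⟩, hzR⟩
      exact h.ti hR hQ hz1 hzR hzQ
    · rintro rfl
      exact ⟨⟨hQ, z, hzQ, hz1, hzL⟩, hzQ⟩
  · intro Q hQ
    rw [Finset.mem_filter] at hQ
    obtain ⟨-, hQ, z, hzQ, hz1, hzL⟩ := hQ
    have h1 := finset_sharp (Q ⊓ L)
    rw [h.card_PL hQ hL hz1 hzQ hzL] at h1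
    have h2 : (Finset.univ.filter (fun z : G => z ∈ L ∧ z ≠ 1)).bipartiteBelow (fun (z : G) (Q : Subgroup G) => z ∈ Q) Q
        = Finset.univ.filter (fun z : G => z ∈ Q ⊓ L ∧ z ≠ 1) := by
      ext x
      simp only [Finset.mem_bipartiteBelow, Finset.mem_filter, Finset.mem_univ, true_and, Subgroup.mem_inf]
      tauto
    rw [h2]
    omega

/-- there are 21 points -/
theorem card_points (h : Hyp V₁ V₂ T) : Nat.card {Q : Subgroup G // Cj V₁ Q} = 21 := by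
  classical
  have := h.fin
  have := Fintype.ofFinite G
  have := Fintype.ofFinite (Subgroup G)
  have hP : Cj V₁ V₁ := Cj.self V₁
  have hcount := Finset.card_mul_eq_card_mul
    (fun (z : G) (Q : Subgroup G) => z ∈ Subgroup.normalizer (Q : Set G))
    (s := Finset.univ.filter (fun z : G => z ∈ V₁ ∧ z ≠ 1))
    (t := Finset.univ.filter (fun Q : Subgroup G => Cj V₁ Q ∧ Q ≠ V₁)) (m := 4) (n := 3) ?_ ?_
  · have h1 := finset_sharp V₁
    rw [h.card₁] at h1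
    have h2 : (Finset.univ.filter (fun Q : Subgroup G => Cj V₁ Q ∧ Q ≠ V₁)) =
        (Finset.univ.filter (fun Q : Subgroup G => Cj V₁ Q)).erase V₁ := by
      ext Q
      simp only [Finset.mem_filter, Finset.mem_univ, true_and, Finset.mem_erase]
      tauto
    have h3 : V₁ ∈ (Finset.univ.filter (fun Q : Subgroup G => Cj V₁ Q)) := by
      simp [hP]
    rw [h2, Finset.card_erase_of_mem h3] at hcount
    rw [Nat.card_eq_fintype_card, Fintype.card_subtype]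
    omega
  · intro z hz
    rw [Finset.mem_filter] at hz
    obtain ⟨-, hzP, hz1⟩ := hz
    obtain ⟨L, hL, hzL⟩ := h.exists_line hP hz1 hzP
    have h5 := h.card_pencil hL
    rw [Nat.card_eq_fintype_card, Fintype.card_subtype] at h5
    have h2 : (Finset.univ.filter (fun Q : Subgroup G => Cj V₁ Q ∧ Q ≠ V₁)).bipartiteAbove
        (fun (z : G) (Q : Subgroup G) => z ∈ Subgroup.normalizer (Q : Set G)) z
        = (Finset.univ.filter (fun Q : Subgroup G => Cj V₁ Q ∧ ∃ z ∈ Q, z ≠ 1 ∧ z ∈ L)).erase V₁ := by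
      ext Q
      simp only [Finset.mem_bipartiteAbove, Finset.mem_filter, Finset.mem_univ, true_and, Finset.mem_erase]
      constructor
      · rintro ⟨⟨hQ, hne⟩, hN⟩
        refine ⟨hne, hQ, ?_⟩
        obtain ⟨z', hz', hz'1, hzz'⟩ := exists_comm (h.elemP hP z hzP) (h.elemP hQ) (h.exists_ne_one hQ) hN
        refine ⟨z', hz', hz'1, ?_⟩
        rcases h.K1 hP hL hz1 hzP hzL (h.elemP hQ z' hz') hzz'.symm with h1 | h1
        · exact absurd (h.ti hQ hP hz'1 hz' h1) hne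
        · exact h1
      · rintro ⟨hne, hQ, z', hz', hz'1, hz'L⟩
        exact ⟨⟨hQ, hne⟩, h.norm hQ hz'1 hz' ((h.symm.elemP hL).comm hzL hz'L)⟩
    have h3 : V₁ ∈ (Finset.univ.filter (fun Q : Subgroup G => Cj V₁ Q ∧ ∃ z ∈ Q, z ≠ 1 ∧ z ∈ L)) := by
      simp only [Finset.mem_filter, Finset.mem_univ, true_and]
      exact ⟨hP, z, hzP, hz1, hzL⟩
    rw [h2, Finset.card_erase_of_mem h3, h5]
  · intro Q hQ
    rw [Finset.mem_filter] at hQ
    obtain ⟨-, hQ, hne⟩ := hQ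
    obtain ⟨L, hL, ⟨z, hzP, hz1, hzL⟩, -, hiff⟩ := h.join hP hQ (Ne.symm hne)
    have h1 := finset_sharp (V₁ ⊓ L)
    rw [h.card_PL hP hL hz1 hzP hzL] at h1
    have h2 : (Finset.univ.filter (fun z : G => z ∈ V₁ ∧ z ≠ 1)).bipartiteBelow
        (fun (z : G) (Q : Subgroup G) => z ∈ Subgroup.normalizer (Q : Set G)) Q
        = Finset.univ.filter (fun z : G => z ∈ V₁ ⊓ L ∧ z ≠ 1) := by
      ext x
      simp only [Finset.mem_bipartiteBelow, Finset.mem_filter, Finset.mem_univ, true_and, Subgroup.mem_inf]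
      constructor
      · rintro ⟨⟨h3, h4⟩, h5⟩
        exact ⟨⟨h3, (hiff x h3).1 h5⟩, h4⟩
      · rintro ⟨⟨h3, h5⟩, h4⟩
        exact ⟨⟨h3, h4⟩, (hiff x h3).2 h5⟩
    rw [h2]
    omega

end Hyp

theorem card_conj (V : Subgroup G) : Nat.card {Q : Subgroup G // Cj V Q} =
    (Subgroup.normalizer (V : Set G)).index := by
  unfold Subgroup.index
  symm
  apply Nat.card_congr
  refine Equiv.ofBijective (fun x : G ⧸ (Subgroup.normalizer (V : Set G)) =>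
    Quotient.liftOn' x (fun a => (⟨cj a V, a, rfl⟩ : {Q : Subgroup G // Cj V Q})) ?_) ⟨?_, ?_⟩
  · intro a b hab
    rw [QuotientGroup.leftRel_apply] at hab
    apply Subtype.ext
    have h1 := cj_eq_self_of_mem_normalizer hab
    have h2 := congrArg (cj a) h1
    rw [← cj_mul] at h2
    simp only at h2 ⊢
    rw [← h2]; group
  · intro x y
    induction x using QuotientGroup.induction_on with | _ a => ?_
    induction y using QuotientGroup.induction_on with | _ b => ?_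
    intro hxy
    have hxy' : cj a V = cj b V := congrArg Subtype.val hxy
    rw [QuotientGroup.eq]
    apply mem_normalizer_of_cj_eq
    rw [cj_mul, ← hxy', cj_inv_cj]
  · rintro ⟨Q, a, rfl⟩
    exact ⟨(a : G ⧸ (Subgroup.normalizer (V : Set G))), rfl⟩

/-- **part F, counting**: `|G : N(V₁)| = 21` -/
theorem Hyp.index_normalizer {V₁ V₂ T : Subgroup G} (h : Hyp V₁ V₂ T) :
    (Subgroup.normalizer (V₁ : Set G)).index = 21 := by
  rw [← card_conj, h.card_points]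

/-! ### the bridge from the amalgam configuration -/

theorem omegaZ_eq_of_elem {X : Subgroup G} (h : Elem X) : omegaZ X = X := by
  ext x
  rw [mem_omegaZ]
  exact ⟨fun hx => hx.1, fun hx => ⟨hx, h x hx, fun y hy => h.comm hx hy⟩⟩

theorem hyp_of_amal [Finite G] (hG : IsCIT G) {M₁ M₂ V₁ V₂ T : Subgroup G}
    (h : Amal M₁ M₂ V₁ V₂ T 4) (hT : IsSyl2 (⊤ : Subgroup G) T) :
    Hyp V₁ V₂ T ∧ Subgroup.normalizer (V₁ : Set G) = M₁ ∧ Subgroup.normalizer (V₂ : Set G) = M₂ := by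
  have hV₁ := omegaZ_eq_of_elem h.elem₁
  have hV₂ := omegaZ_eq_of_elem h.elem₂
  have hc₁ : Nat.card V₁ = 16 := by have := h.ff₁.card_V; rw [hV₁] at this; simpa using this
  have hc₂ : Nat.card V₂ = 16 := by have := h.ff₂.card_V; rw [hV₂] at this; simpa using this
  have hC : Nat.card (V₁ ⊓ V₂ : Subgroup G) = 4 := by rw [h.inf]; exact h.ff₁.card_C
  have hM₁ : M₁ ≤ Subgroup.normalizer (V₁ : Set G) := by
    intro m hm
    rw [Subgroup.mem_normalizer_iff]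
    intro x
    refine ⟨fun hx => h.ff₁.o2.normal m hm x hx, fun hx => ?_⟩
    have := h.ff₁.o2.normal m⁻¹ (M₁.inv_mem hm) _ hx
    have h2 : m⁻¹ * (m * x * m⁻¹) * m⁻¹⁻¹ = x := by group
    rwa [h2] at this
  have hM₂ : M₂ ≤ Subgroup.normalizer (V₂ : Set G) := by
    intro m hm
    rw [Subgroup.mem_normalizer_iff]
    intro x
    refine ⟨fun hx => h.ff₂.o2.normal m hm x hx, fun hx => ?_⟩
    have := h.ff₂.o2.normal m⁻¹ (M₂.inv_mem hm) _ hx
    have h2 : m⁻¹ * (m * x * m⁻¹) * m⁻¹⁻¹ = x := by group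
    rwa [h2] at this
  have hcent : ∀ z ∈ V₁ ⊓ V₂, ∀ t ∈ T, z * t = t * z := by
    intro z hz t ht
    rw [h.inf] at hz
    exact (mem_omegaZ.1 hz).2.2 t ht
  have hex : ∃ z ∈ V₁ ⊓ V₂, z ≠ 1 := by
    by_contra hcon
    push Not at hcon
    have : V₁ ⊓ V₂ = ⊥ := by rw [eq_bot_iff]; intro x hx; exact Subgroup.mem_bot.2 (hcon x hx)
    rw [this] at hC
    simp at hC
  have hTc : ∀ z ∈ V₁ ⊓ V₂, z ≠ 1 → ∀ g : G, g * z = z * g → g ∈ T := by
    intro z hz hz1 g hg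
    have h2 : IsPGroup 2 (Subgroup.centralizer ({z} : Set G)) :=
      hG z (orderOf_eq_two_of (h.elem₁ z hz.1) hz1)
    have hle : T ≤ Subgroup.centralizer ({z} : Set G) := by
      intro t ht
      rw [Subgroup.mem_centralizer_singleton_iff]
      exact (hcent z hz t ht).symm
    have := hT.max _ le_top h2 hle
    rw [← this, Subgroup.mem_centralizer_singleton_iff]
    exact hg
  obtain ⟨z, hz, hz1⟩ := hex
  have htr₁ : ∀ v ∈ V₁, v ≠ 1 → ∀ w ∈ V₁, w ≠ 1 → ∃ m ∈ M₁, m * v * m⁻¹ = w := by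
    have := h.ff₁.trans; rw [hV₁] at this; exact this
  have htr₂ : ∀ v ∈ V₂, v ≠ 1 → ∀ w ∈ V₂, w ≠ 1 → ∃ m ∈ M₂, m * v * m⁻¹ = w := by
    have := h.ff₂.trans; rw [hV₂] at this; exact this
  have hne : V₁ ≠ V₂ := by
    intro he
    have h1 := h.sup
    rw [← he, sup_idem] at h1
    have h2 := h.card
    rw [h1, hc₁] at h2
    norm_num at h2
  have hconj1 : ∀ n : G, ∀ v : G, v ≠ 1 → n * v * n⁻¹ ≠ 1 := by
    intro n v hv h0
    apply hv
    have : v = n⁻¹ * (n * v * n⁻¹) * n := by group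
    rw [this, h0]; group
  have hN₁ : Subgroup.normalizer (V₁ : Set G) = M₁ := by
    apply le_antisymm _ hM₁
    intro n hn
    have h1 : n * z * n⁻¹ ∈ V₁ := (Subgroup.mem_normalizer_iff.1 hn z).1 hz.1
    obtain ⟨m, hm, hmz⟩ := htr₁ z hz.1 hz1 _ h1 (hconj1 n z hz1)
    have h2 : m⁻¹ * n ∈ T := by
      apply hTc z hz hz1
      calc m⁻¹ * n * z = m⁻¹ * (n * z * n⁻¹) * n := by group
        _ = m⁻¹ * (m * z * m⁻¹) * n := by rw [hmz]
        _ = z * (m⁻¹ * n) := by group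
    have h3 := M₁.mul_mem hm (h.ff₁.syl.le h2)
    rwa [mul_inv_cancel_left] at h3
  have hN₂ : Subgroup.normalizer (V₂ : Set G) = M₂ := by
    apply le_antisymm _ hM₂
    intro n hn
    have h1 : n * z * n⁻¹ ∈ V₂ := (Subgroup.mem_normalizer_iff.1 hn z).1 hz.2
    obtain ⟨m, hm, hmz⟩ := htr₂ z hz.2 hz1 _ h1 (hconj1 n z hz1)
    have h2 : m⁻¹ * n ∈ T := by
      apply hTc z hz hz1
      calc m⁻¹ * n * z = m⁻¹ * (n * z * n⁻¹) * n := by group
        _ = m⁻¹ * (m * z * m⁻¹) * n := by rw [hmz]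
        _ = z * (m⁻¹ * n) := by group
    have h3 := M₂.mul_mem hm (h.ff₂.syl.le h2)
    rwa [mul_inv_cancel_left] at h3
  refine ⟨?_, hN₁, hN₂⟩
  refine ⟨inferInstance, hG, hT, ?_, ?_, h.elem₁, h.elem₂, hc₁, hc₂, hC, hcent, h.inv, ?_, ?_, ?_⟩
  · rw [h.sup]; exact le_sup_left
  · rw [h.sup]; exact le_sup_right
  · intro g hg
    have h1 : g * z * g⁻¹ ∈ V₂ := by rw [← hg]; exact conj_mem_cj hz.1
    obtain ⟨m, hm, hmz⟩ := htr₂ _ h1 (hconj1 g z hz1) z hz.2 hz1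
    have h2 : m * g ∈ T := by
      apply hTc z hz hz1
      calc m * g * z = m * (g * z * g⁻¹) * m⁻¹ * (m * g) := by group
        _ = z * (m * g) := by rw [hmz]
    have h3 : cj (m * g) V₁ = V₁ := cj_eq_self_of_mem_normalizer (hM₁ (h.ff₁.syl.le h2))
    rw [cj_mul, hg, cj_eq_self_of_mem_normalizer (hM₂ hm)] at h3
    exact hne h3.symm
  · intro v hv hv1 w hw hw1
    obtain ⟨m, hm, hmz⟩ := htr₁ v hv hv1 w hw hw1
    exact ⟨m, hM₁ hm, hmz⟩
  · intro v hv hv1 w hw hw1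
    obtain ⟨m, hm, hmz⟩ := htr₂ v hv hv1 w hw hw1
    exact ⟨m, hM₂ hm, hmz⟩

/-- **CIT-F1**: `|G : M₁| = 21` -/
theorem index_eq [Finite G] (hG : IsCIT G) {M₁ M₂ V₁ V₂ T : Subgroup G}
    (h : Amal M₁ M₂ V₁ V₂ T 4) (hT : IsSyl2 (⊤ : Subgroup G) T) : M₁.index = 21 := by
  obtain ⟨hyp, hN, -⟩ := hyp_of_amal hG h hT
  rw [← hN]
  exact hyp.index_normalizer

theorem index_eq₂ [Finite G] (hG : IsCIT G) {M₁ M₂ V₁ V₂ T : Subgroup G}
    (h : Amal M₁ M₂ V₁ V₂ T 4) (hT : IsSyl2 (⊤ : Subgroup G) T) : M₂.index = 21 := by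
  obtain ⟨hyp, -, hN⟩ := hyp_of_amal hG h hT
  rw [← hN]
  exact hyp.symm.index_normalizer

theorem card_eq [Finite G] (hG : IsCIT G) {M₁ M₂ V₁ V₂ T : Subgroup G}
    (h : Amal M₁ M₂ V₁ V₂ T 4) (hT : IsSyl2 (⊤ : Subgroup G) T) : Nat.card G = 20160 := by
  rw [← M₁.card_mul_index, index_eq hG h hT, h.ff₁.card_M]
  have h1 := h.ff₁.card_V
  rw [omegaZ_eq_of_elem h.elem₁] at h1
  rw [h1]
  norm_num

end Cfsg.Agent.LieExceptional.CITPlaneCount
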