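import Mathlib

/-!
# CIT-E3: the final algebra lemma

An elementary abelian 2-group `C` with a transitive commuting family of automorphisms such that
addition of vectors is compatible with addition of squares has at most 4 elements.
-/

namespace Cfsg.Agent.LieExceptional.CITTorusAlg

theorem card_le_four {C : Type*} [AddCommGroup C] [Finite C] (h2 : ∀ x : C, x + x = 0)
    {K : Type*} [Group K] (ρ : K →* AddMonoid.End C) (hcomm : ∀ h g, ρ (h * g) = ρ (g * h))
    (htrans : ∀ c d : C, c ≠ 0 → d ≠ 0 → ∃ h, ρ h c = d) (c₀ : C) (hc₀ : c₀ ≠ 0)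
    (hS : ∀ h g l : K, ρ h⁻¹ c₀ + ρ g⁻¹ c₀ = ρ l⁻¹ c₀ → ρ h * ρ h + ρ g * ρ g = ρ l * ρ l) :
    Nat.card C ≤ 4 := by
  classical
  have hcm : ∀ h g, ρ h * ρ g = ρ g * ρ h := fun h g => by
    rw [← map_mul, ← map_mul, hcomm]
  have hE2 : ∀ x : AddMonoid.End C, x + x = 0 := fun x => by
    ext c; exact h2 (x c)
  have hinv : ∀ h, ρ h⁻¹ * ρ h = 1 := fun h => by rw [← map_mul, inv_mul_cancel, map_one]
  have hinv' : ∀ h, ρ h * ρ h⁻¹ = 1 := fun h => by rw [← map_mul, mul_inv_cancel, map_one]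
  have hne0 : ∀ h c, c ≠ 0 → ρ h c ≠ 0 := fun h c hc h0 => hc (by
    have : (ρ h⁻¹ * ρ h) c = ρ h⁻¹ (ρ h c) := rfl
    rw [h0, map_zero, hinv] at this
    simpa using this)
  -- an endomorphism commuting with every `ρ h` is determined by its value at `c₀`
  have hdet : ∀ x y : AddMonoid.End C, (∀ h, x * ρ h = ρ h * x) → (∀ h, y * ρ h = ρ h * y) →
      x c₀ = y c₀ → x = y := by
    intro x y hx hy hxy
    ext c
    by_cases hc : c = 0
    · rw [hc, map_zero, map_zero]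
    · obtain ⟨h, rfl⟩ := htrans c₀ c hc₀ hc
      have h1 : (x * ρ h) c₀ = (ρ h * x) c₀ := by rw [hx]
      have h3 : (y * ρ h) c₀ = (ρ h * y) c₀ := by rw [hy]
      change x (ρ h c₀) = ρ h (x c₀) at h1
      change y (ρ h c₀) = ρ h (y c₀) at h3
      rw [h1, h3, hxy]
  -- sums of elements of the image are in the image or zero
  have hsum : ∀ h g, ρ h ≠ ρ g → ∃ l, ρ h + ρ g = ρ l := by
    intro h g hne
    have hne' : ρ h c₀ + ρ g c₀ ≠ 0 := by
      intro h0
      apply hne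
      apply hdet _ _ (fun l => hcm h l) (fun l => hcm g l)
      have := h2 (ρ g c₀)
      exact add_right_cancel (h0.trans this.symm)
    obtain ⟨l, hl⟩ := htrans c₀ _ hc₀ hne'
    refine ⟨l, ?_⟩
    refine hdet _ _ (fun m => ?_) (fun m => hcm l m) hl.symm
    rw [add_mul, mul_add, hcm h m, hcm g m]
  -- the quadratic equation
  have hquad : ∀ h, ρ h ≠ 1 → ρ h * ρ h + ρ h + 1 = 0 := by
    intro h hh
    have hh' : ρ (1 : K) ≠ ρ h⁻¹ := by
      intro h0
      rw [map_one] at h0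
      have := hinv h
      rw [← h0, one_mul] at this
      exact hh this
    obtain ⟨l, hl⟩ := hsum 1 h⁻¹ hh'
    have h3 := hS 1 h l⁻¹ (by
      rw [inv_one, inv_inv, ← hl]; rfl)
    rw [map_one, one_mul] at h3
    -- `ρ l⁻¹ ^ 2 = 1 + ρ h ^ 2`, `ρ l = 1 + ρ h⁻¹`
    have hl2 : ρ l * ρ l = 1 + ρ h⁻¹ * ρ h⁻¹ := by
      rw [← hl, map_one]
      have := hE2 (ρ h⁻¹)
      calc (1 + ρ h⁻¹) * (1 + ρ h⁻¹) = 1 + (ρ h⁻¹ + ρ h⁻¹) + ρ h⁻¹ * ρ h⁻¹ := by noncomm_ring
        _ = _ := by rw [this, add_zero]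
    have h4 : (1 + ρ h⁻¹ * ρ h⁻¹) * (1 + ρ h * ρ h) = 1 := by
      rw [← hl2, h3]
      calc ρ l * ρ l * (ρ l⁻¹ * ρ l⁻¹) = ρ l * (ρ l * ρ l⁻¹) * ρ l⁻¹ := by noncomm_ring
        _ = 1 := by rw [hinv', mul_one, hinv']
    have h5 : ρ h * ρ h * (ρ h⁻¹ * ρ h⁻¹) = 1 := by
      calc ρ h * ρ h * (ρ h⁻¹ * ρ h⁻¹) = ρ h * (ρ h * ρ h⁻¹) * ρ h⁻¹ := by noncomm_ring
        _ = 1 := by rw [hinv', mul_one, hinv']
    set X := ρ h with hX
    -- `(X² + 1)² = X²`
    have h6 : (X * X + 1) * (1 + X * X) = X * X := by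
      calc (X * X + 1) * (1 + X * X)
          = (X * X * (1 + ρ h⁻¹ * ρ h⁻¹)) * (1 + X * X) := by
            rw [mul_add (X * X), h5, mul_one]
        _ = X * X := by rw [mul_assoc, h4, mul_one]
    have h7 : X * X * (X * X) + X * X + 1 = 0 := by
      have e1 : (X * X + 1) * (1 + X * X) = X * X * (X * X) + 1 + (X * X + X * X) := by
        noncomm_ring
      rw [e1, hE2 (X * X), add_zero] at h6
      calc X * X * (X * X) + X * X + 1 = (X * X * (X * X) + 1) + X * X := by abel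
        _ = 0 := by rw [h6, hE2 (X * X)]
    by_contra hq
    obtain ⟨k, hk⟩ := hsum 1 h (by rw [map_one]; exact fun h0 => hh h0.symm)
    rw [map_one, ← hX] at hk
    have hk2 : ρ (h * k) + ρ 1 = X * X + X + 1 := by
      rw [map_mul, map_one, ← hk, ← hX]; noncomm_ring
    obtain ⟨m, hm⟩ := hsum (h * k) 1 (by
      intro h0
      apply hq
      rw [← hk2, h0]
      exact hE2 _)
    rw [hk2] at hm
    have h8 : ρ m * ρ m = 0 := by
      rw [← hm]
      calc (X * X + X + 1) * (X * X + X + 1)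
          = (X * X * (X * X) + X * X + 1) + (X * X * X + X * X * X) + (X * X + X * X)
            + (X + X) := by noncomm_ring
        _ = 0 := by rw [h7, hE2 (X * X * X), hE2 (X * X), hE2 X]; simp
    have h9 : ρ m (ρ m c₀) = 0 := by
      have : (ρ m * ρ m) c₀ = 0 := by rw [h8]; rfl
      exact this
    exact hne0 m _ (hne0 m _ hc₀) h9
  -- at most four elements
  by_contra hcard
  push Not at hcard
  -- pick `x ≠ 1`
  have := Fintype.ofFinite C
  rw [Nat.card_eq_fintype_card] at hcard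
  obtain ⟨c₁, hc₁⟩ : ∃ c : C, c ∉ ({0, c₀} : Finset C) := by
    by_contra hcon
    push Not at hcon
    have : Fintype.card C ≤ ({0, c₀} : Finset C).card :=
      Finset.card_le_card (fun c _ => hcon c)
    have h3 : ({0, c₀} : Finset C).card ≤ 2 := Finset.card_le_two
    omega
  simp only [Finset.mem_insert, Finset.mem_singleton, not_or] at hc₁
  obtain ⟨x, rfl⟩ := htrans c₀ c₁ hc₀ hc₁.1
  obtain ⟨d, hd⟩ : ∃ c : C, c ∉ ({0, c₀, ρ x c₀, c₀ + ρ x c₀} : Finset C) := by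
    by_contra hcon
    push Not at hcon
    have : Fintype.card C ≤ ({0, c₀, ρ x c₀, c₀ + ρ x c₀} : Finset C).card :=
      Finset.card_le_card (fun c _ => hcon c)
    have h3 : ({0, c₀, ρ x c₀, c₀ + ρ x c₀} : Finset C).card ≤ 4 := Finset.card_le_four
    omega
  simp only [Finset.mem_insert, Finset.mem_singleton, not_or] at hd
  obtain ⟨y, rfl⟩ := htrans c₀ d hc₀ hd.1
  have hx1 : ρ x ≠ 1 := fun h0 => hc₁.2 (by rw [h0]; rfl)
  have hy1 : ρ y ≠ 1 := fun h0 => hd.2.1 (by rw [h0]; rfl)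
  have hxy : ρ x ≠ ρ y := fun h0 => hd.2.2.1 (by rw [h0])
  obtain ⟨m, hm⟩ := hsum x y hxy
  have hm1 : ρ m ≠ 1 := by
    intro h0
    rw [h0] at hm
    apply hd.2.2.2
    have h3 : ρ x c₀ + ρ y c₀ = c₀ := by
      have : (ρ x + ρ y) c₀ = c₀ := by rw [hm]; rfl
      exact this
    calc ρ y c₀ = (ρ x c₀ + ρ x c₀) + ρ y c₀ := by rw [h2, zero_add]
      _ = c₀ + ρ x c₀ := by rw [add_assoc, h3, add_comm]
  have hqx := hquad x hx1
  have hqy := hquad y hy1
  have hqm := hquad m hm1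
  rw [← hm] at hqm
  have h10 : (1 : AddMonoid.End C) = 0 := by
    have e : (ρ x + ρ y) * (ρ x + ρ y) + (ρ x + ρ y) + 1
        = (ρ x * ρ x + ρ x + 1) + (ρ y * ρ y + ρ y + 1) + (ρ x * ρ y + ρ y * ρ x) + (1 - 1 - 1) := by
      noncomm_ring
    rw [hqm, hqx, hqy, hcm y x, hE2 (ρ x * ρ y)] at e
    have e2 : (0 : AddMonoid.End C) = -1 := by
      calc (0 : AddMonoid.End C) = 0 + 0 + 0 + (1 - 1 - 1) := e
        _ = -1 := by abel
    have e3 := congrArg Neg.neg e2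
    rw [neg_neg, neg_zero] at e3
    exact e3.symm
  apply hc₀
  have : (1 : AddMonoid.End C) c₀ = 0 := by rw [h10]; rfl
  exact this

end Cfsg.Agent.LieExceptional.CITTorusAlg
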