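import Mathlib
import Cfsg.Agent.LieExceptional.CITAmal
import Cfsg.Agent.LieExceptional.CITPlaneCount
import Cfsg.Agent.LieExceptional.CITNonCommute
import Cfsg.Agent.LieExceptional.CITTorusAlg

/-!
# Torus weights (part E3 of the CIT blueprint, helper220): `q ∈ {2, 4}`
-/

set_option autoImplicit false

namespace Cfsg.Agent.LieExceptional.CITTorus

open Cfsg.Agent.LieExceptional.CITDefs Cfsg.Agent.LieExceptional.CITPlaneCount

variable {G : Type*} [Group G]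

/-- local data at one of the two maximal 2-locals -/
structure Loc (M V T C : Subgroup G) : Prop where
  elem : Elem V
  TM : T ≤ M
  VT : V ≤ T
  CV : C ≤ V
  centC : ∀ z ∈ C, ∀ t ∈ T, z * t = t * z
  comm : ∀ t ∈ T, ∀ v ∈ V, t * v * t⁻¹ * v⁻¹ ∈ C
  memC : ∀ t ∈ T, t ∉ V → ∀ v ∈ V, t * v = v * t → v ∈ C
  norm : ∀ m ∈ M, ∀ v ∈ V, m * v * m⁻¹ ∈ V
  sq : ∀ t ∈ T, t * t ∈ V
  spread : ∀ m ∈ M, (∃ v ∈ C, v ≠ 1 ∧ m * v * m⁻¹ ∈ C) → ∀ v ∈ C, m * v * m⁻¹ ∈ C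
  trans : ∀ v ∈ V, v ≠ 1 → ∀ w ∈ V, w ≠ 1 → ∃ m ∈ M, m * v * m⁻¹ = w
  cent : ∀ z ∈ C, z ≠ 1 → ∀ m ∈ M, m * z = z * m → m ∈ T
  R : ∀ v ∈ V, v ∉ C → ∀ c ∈ C, ∃ t ∈ T, t * v * t⁻¹ = v * c
  nebot : ∃ z ∈ C, z ≠ 1
  ne : ∃ v ∈ V, v ∉ C
  dec : ∀ m ∈ M, cj m C ≠ C → ∀ v ∈ V, ∃ c ∈ C, ∃ d ∈ C, v = c * (m * d * m⁻¹)

theorem spread_cj {M C : Subgroup G}
    (hs : ∀ m ∈ M, (∃ v ∈ C, v ≠ 1 ∧ m * v * m⁻¹ ∈ C) → ∀ v ∈ C, m * v * m⁻¹ ∈ C)
    {m : G} (hm : m ∈ M) {v : G} (hv1 : v ≠ 1) (hv : v ∈ C) (hv' : v ∈ cj m C) : cj m C = C := by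
  rw [mem_cj] at hv'
  have h1 := hs m hm ⟨m⁻¹ * v * m, hv', Hyp.conj_ne_one hv1, by
    have : m * (m⁻¹ * v * m) * m⁻¹ = v := by group
    rw [this]; exact hv⟩
  have h2 := hs m⁻¹ (M.inv_mem hm) ⟨v, hv, hv1, by rw [inv_inv]; exact hv'⟩
  ext x
  rw [mem_cj]
  constructor
  · intro hx
    have := h1 _ hx
    have e : m * (m⁻¹ * x * m) * m⁻¹ = x := by group
    rwa [e] at this
  · intro hx
    have := h2 _ hx
    rwa [inv_inv] at this

theorem loc_of_ff [Finite G] (hG : IsCIT G) {M V T : Subgroup G} {q : ℕ} (h : FFType M V T q) (hV : Elem V) :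
    Loc M V T (omegaZ T) := by
  have hVV := omegaZ_eq_of_elem hV
  have hcV : Nat.card V = q * q := by
    have := h.card_V
    rw [hVV, pow_two] at this
    exact this
  obtain ⟨n, hn, hq⟩ := h.pow
  have hq2 : 2 ≤ q := by
    rw [hq]
    calc 2 = 2 ^ 1 := rfl
      _ ≤ 2 ^ n := Nat.pow_le_pow_right (by norm_num) hn
  have hVT : V ≤ T := CITNonCommute.o2_le_syl h.o2 h.syl
  have hCV : omegaZ T ≤ V := by have := h.C_le; rwa [hVV] at this
  have hcomm : ∀ t ∈ T, ∀ v ∈ V, t * v * t⁻¹ * v⁻¹ ∈ omegaZ T := by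
    have := h.comm_mem; rwa [hVV] at this
  have hmemC : ∀ t ∈ T, t ∉ V → ∀ v ∈ V, t * v = v * t → v ∈ omegaZ T := by
    have := h.mem_of_comm; rwa [hVV] at this
  refine ⟨hV, h.syl.le, hVT, hCV, ?_, hcomm, hmemC, h.o2.normal, h.sq_mem, h.spread, ?_, ?_, ?_, ?_, ?_, ?_⟩
  · intro z hz t ht
    exact (mem_omegaZ.1 hz).2.2 t ht
  · have := h.trans; rwa [hVV] at this
  · intro z hz hz1 m hm hmz
    have hp : IsPGroup 2 (M ⊓ Subgroup.centralizer ({z} : Set G) : Subgroup G) :=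
      (hG z (orderOf_eq_two_of (hV z (hCV hz)) hz1)).to_le inf_le_right
    have hle : T ≤ M ⊓ Subgroup.centralizer ({z} : Set G) := by
      intro t ht
      exact ⟨h.syl.le ht, Subgroup.mem_centralizer_singleton_iff.2 ((mem_omegaZ.1 hz).2.2 t ht).symm⟩
    have he := h.syl.max _ inf_le_left hp hle
    rw [← he]
    exact ⟨hm, Subgroup.mem_centralizer_singleton_iff.2 hmz⟩
  · intro v hv hvC c hc
    have hcardT : Nat.card (T ⧸ V.subgroupOf T) = q := by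
      have e1 := (V.subgroupOf T).card_mul_index
      have e2 : Nat.card (V.subgroupOf T) = Nat.card V :=
        Nat.card_congr (Subgroup.subgroupOfEquivOfLe hVT).toEquiv
      rw [e2, h.card_T, mul_comm q] at e1
      exact Nat.eq_of_mul_eq_mul_left (by rw [hcV]; positivity) e1
    let F : (T ⧸ V.subgroupOf T) → omegaZ T := fun x =>
      Quotient.liftOn' x (fun t : T => (⟨t * v * (t : G)⁻¹ * v⁻¹, hcomm t t.2 v hv⟩ : omegaZ T)) (by
        intro a b hab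
        rw [QuotientGroup.leftRel_apply, Subgroup.mem_subgroupOf] at hab
        apply Subtype.ext
        have h1 : ((a⁻¹ * b : T) : G) * v = v * ((a⁻¹ * b : T) : G) := hV.comm hab hv
        have h2 : (b : G) * v * (b : G)⁻¹ = (a : G) * v * (a : G)⁻¹ := by
          have e : (b : G) = (a : G) * ((a⁻¹ * b : T) : G) := by simp
          calc (b : G) * v * (b : G)⁻¹
              = (a : G) * (((a⁻¹ * b : T) : G) * v) * ((a⁻¹ * b : T) : G)⁻¹ * (a : G)⁻¹ := by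
                rw [e]; group
            _ = (a : G) * v * (a : G)⁻¹ := by rw [h1]; group
        simp only [h2])
    have hFinj : Function.Injective F := by
      intro x y
      induction x using QuotientGroup.induction_on with | _ a => ?_
      induction y using QuotientGroup.induction_on with | _ b => ?_
      intro hxy
      have hxy' : (a : G) * v * (a : G)⁻¹ * v⁻¹ = (b : G) * v * (b : G)⁻¹ * v⁻¹ := congrArg Subtype.val hxy
      rw [QuotientGroup.eq, Subgroup.mem_subgroupOf]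
      by_contra hnot
      apply hvC
      refine hmemC _ (T.mul_mem (T.inv_mem a.2) b.2) hnot v hv ?_
      have h1 := mul_right_cancel hxy'
      calc (a : G)⁻¹ * b * v = (a : G)⁻¹ * ((b : G) * v * (b : G)⁻¹) * b := by group
        _ = (a : G)⁻¹ * ((a : G) * v * (a : G)⁻¹) * b := by rw [h1]
        _ = v * ((a : G)⁻¹ * b) := by group
    have hFbij := (Nat.bijective_iff_injective_and_card F).2 ⟨hFinj, by rw [hcardT, h.card_C]⟩
    obtain ⟨x, hx⟩ := hFbij.2 ⟨c, hc⟩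
    induction x using QuotientGroup.induction_on with | _ a => ?_
    have hx' : (a : G) * v * (a : G)⁻¹ * v⁻¹ = c := congrArg Subtype.val hx
    refine ⟨a, a.2, ?_⟩
    rw [hV.comm hv (hCV hc), ← hx']
    group
  · by_contra hcon
    push Not at hcon
    have : omegaZ T = ⊥ := by rw [eq_bot_iff]; intro x hx; exact Subgroup.mem_bot.2 (hcon x hx)
    have h1 := h.card_C
    rw [this] at h1
    simp at h1
    omega
  · by_contra hcon
    push Not at hcon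
    have h1 : V = omegaZ T := le_antisymm hcon hCV
    have h2 := h.card_C
    rw [← h1, hcV] at h2
    nlinarith
  · intro m hm hne v hv
    let F : omegaZ T × omegaZ T → V := fun x =>
      ⟨(x.1 : G) * (m * (x.2 : G) * m⁻¹), V.mul_mem (hCV x.1.2) (h.o2.normal m hm _ (hCV x.2.2))⟩
    have hFinj : Function.Injective F := by
      rintro ⟨a, b⟩ ⟨a', b'⟩ hab
      have hab' : (a : G) * (m * (b : G) * m⁻¹) = (a' : G) * (m * (b' : G) * m⁻¹) := congrArg Subtype.val hab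
      have h1 : (a' : G)⁻¹ * a = m * ((b' : G) * (b : G)⁻¹) * m⁻¹ := by
        calc (a' : G)⁻¹ * a = (a' : G)⁻¹ * ((a : G) * (m * (b : G) * m⁻¹)) * (m * (b : G)⁻¹ * m⁻¹) := by group
          _ = (a' : G)⁻¹ * ((a' : G) * (m * (b' : G) * m⁻¹)) * (m * (b : G)⁻¹ * m⁻¹) := by rw [hab']
          _ = m * ((b' : G) * (b : G)⁻¹) * m⁻¹ := by group
      have h2 : (a' : G)⁻¹ * a = 1 := by
        by_contra h0
        apply hne
        apply spread_cj h.spread hm h0 ((omegaZ T).mul_mem ((omegaZ T).inv_mem a'.2) a.2)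
        rw [h1]
        exact conj_mem_cj ((omegaZ T).mul_mem b'.2 ((omegaZ T).inv_mem b.2))
      have h3 : a = a' := Subtype.ext (inv_mul_eq_one.1 h2).symm
      subst h3
      have h4 := mul_left_cancel hab'
      have h5 := mul_left_cancel (mul_right_cancel h4)
      rw [Subtype.ext h5]
    have hFbij := (Nat.bijective_iff_injective_and_card F).2
      ⟨hFinj, by rw [Nat.card_prod, h.card_C, hcV]⟩
    obtain ⟨⟨c, d⟩, hx⟩ := hFbij.2 ⟨v, hv⟩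
    exact ⟨c, c.2, d, d.2, (congrArg Subtype.val hx).symm⟩

namespace Loc

variable {M V T C : Subgroup G}

theorem sc (h : Loc M V T C) {m : G} (hm : m ∈ M) {v : G} (hv1 : v ≠ 1) (hv : v ∈ C) (hv' : v ∈ cj m C) :
    cj m C = C := spread_cj h.spread hm hv1 hv hv'

theorem sc2 (h : Loc M V T C) {a b : G} (ha : a ∈ M) (hb : b ∈ M) {v : G} (hv1 : v ≠ 1) (hva : v ∈ cj a C)
    (hvb : v ∈ cj b C) : cj a C = cj b C := by
  have h1 : cj (a⁻¹ * b) C = C := by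
    apply h.sc (M.mul_mem (M.inv_mem ha) hb) (Hyp.conj_ne_one (g := a) hv1) (mem_cj.1 hva)
    rw [cj_mul, mem_cj]
    have : a⁻¹⁻¹ * (a⁻¹ * v * a) * a⁻¹ = v := by group
    rw [this]; exact hvb
  have h2 := congrArg (cj a) h1
  rw [cj_mul, cj_cj_inv] at h2
  exact h2.symm

theorem conj_V (h : Loc M V T C) {m v : G} (hm : m ∈ M) : m * v * m⁻¹ ∈ V ↔ v ∈ V := by
  refine ⟨fun hv => ?_, fun hv => h.norm m hm v hv⟩
  have := h.norm m⁻¹ (M.inv_mem hm) _ hv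
  have e : m⁻¹ * (m * v * m⁻¹) * m⁻¹⁻¹ = v := by group
  rwa [e] at this

theorem cj_C_le (h : Loc M V T C) {m : G} (hm : m ∈ M) : cj m C ≤ V := by
  intro x hx
  rw [mem_cj] at hx
  have := h.norm m hm _ (h.CV hx)
  have e : m * (m⁻¹ * x * m) * m⁻¹ = x := by group
  rwa [e] at this

/-- an element of `V` acts trivially on `V` -/
theorem conj_eq (h : Loc M V T C) {v x : G} (hv : v ∈ V) (hx : x ∈ V) : v * x * v⁻¹ = x := by
  rw [h.elem.comm hv hx]; group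

theorem conj_eq' (h : Loc M V T C) {v x : G} (hv : v ∈ V) (hx : x ∈ V) : v⁻¹ * x * v = x := by
  have := h.conj_eq (V.inv_mem hv) hx
  rwa [inv_inv] at this

/-- the swap lemma -/
theorem swap (h : Loc M V T C) {m z z' : G} (hm : m ∈ M) (hz : z ∈ V)
    (hmz : z * z' ∈ cj m C) (hzn : z ∉ cj m C) :
    ∃ u ∈ M, u * z * u⁻¹ = z' ∧ u * u ∈ V ∧ ∀ v ∈ V, u * v * u⁻¹ * v⁻¹ ∈ cj m C := by
  have h1 : m⁻¹ * z * m ∈ V := by
    have := h.norm m⁻¹ (M.inv_mem hm) z hz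
    rwa [inv_inv] at this
  have h2 : m⁻¹ * z * m ∉ C := fun h0 => hzn (mem_cj.2 h0)
  obtain ⟨t, ht, htz⟩ := h.R _ h1 h2 _ (mem_cj.1 hmz)
  refine ⟨m * t * m⁻¹, M.mul_mem (M.mul_mem hm (h.TM ht)) (M.inv_mem hm), ?_, ?_, ?_⟩
  · calc m * t * m⁻¹ * z * (m * t * m⁻¹)⁻¹ = m * (t * (m⁻¹ * z * m) * t⁻¹) * m⁻¹ := by group
      _ = m * (m⁻¹ * z * m * (m⁻¹ * (z * z') * m)) * m⁻¹ := by rw [htz]
      _ = z * z * z' := by group
      _ = z' := by rw [h.elem z hz, one_mul]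
  · have : m * t * m⁻¹ * (m * t * m⁻¹) = m * (t * t) * m⁻¹ := by group
    rw [this]
    exact h.norm m hm _ (h.sq t ht)
  · intro v hv
    rw [mem_cj]
    have h3 : m⁻¹ * v * m ∈ V := by
      have := h.norm m⁻¹ (M.inv_mem hm) v hv
      rwa [inv_inv] at this
    have h4 := h.comm t ht _ h3
    have e : m⁻¹ * (m * t * m⁻¹ * v * (m * t * m⁻¹)⁻¹ * v⁻¹) * m
        = t * (m⁻¹ * v * m) * t⁻¹ * (m⁻¹ * v * m)⁻¹ := by group
    rw [e]; exact h4

/-- every nontrivial element of `V` lies in a conjugate of `C` -/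
theorem exists_member (h : Loc M V T C) {v : G} (hv : v ∈ V) (hv1 : v ≠ 1) : ∃ m ∈ M, v ∈ cj m C := by
  obtain ⟨z, hz, hz1⟩ := h.nebot
  obtain ⟨m, hm, hmz⟩ := h.trans z (h.CV hz) hz1 v hv hv1
  refine ⟨m, hm, ?_⟩
  rw [← hmz]; exact conj_mem_cj hz

/-- the frame: `w` swaps `C` and `w C w⁻¹ ≠ C`, inverts modulo `V` the two-point stabiliser, and there is `t₀ ∈ T`
acting on `V` as the transvection `w c w⁻¹ ↦ w c w⁻¹ c` -/
structure Frame (M V T C : Subgroup G) (w : G) : Prop where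
  mem : w ∈ M
  sq : w * w ∈ V
  disj : ∀ x ∈ C, x ∈ cj w C → x = 1
  inv : ∀ k ∈ M, cj k C = C → cj k (cj w C) = cj w C → w * k * (w * k) ∈ V
  trv : ∃ t₀ ∈ T, ∀ c ∈ C, t₀ * (w * c * w⁻¹) * t₀⁻¹ = w * c * w⁻¹ * c

theorem exists_frame (h : Loc M V T C) : ∃ w, Frame M V T C w := by
  obtain ⟨z₀, hz₀, hz₀1⟩ := h.nebot
  obtain ⟨v₀, hv₀, hv₀C⟩ := h.ne
  have hv₀1 : v₀ ≠ 1 := by rintro rfl; exact hv₀C C.one_mem
  obtain ⟨a, ha, haz⟩ := h.trans z₀ (h.CV hz₀) hz₀1 v₀ hv₀ hv₀1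
  have hv₀a : v₀ ∈ cj a C := by rw [← haz]; exact conj_mem_cj hz₀
  have hdisj : ∀ x ∈ C, x ∈ cj a C → x = 1 := by
    intro x hx hxa
    by_contra hx1
    have := h.sc ha hx1 hx hxa
    rw [this] at hv₀a
    exact hv₀C hv₀a
  -- the elements `u(x, y)`
  have hu : ∀ x ∈ C, x ≠ 1 → ∀ y ∈ cj a C, y ≠ 1 → ∃ m ∈ M, x * y ∈ cj m C ∧ x ∉ cj m C ∧ 
      ∃ u ∈ M, u * x * u⁻¹ = y ∧ u * u ∈ V ∧ (∀ v ∈ V, u * v * u⁻¹ * v⁻¹ ∈ cj m C) ∧
        u * y * u⁻¹ = x ∧ cj u C = cj a C ∧ cj u (cj a C) = C := by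
    intro x hx hx1 y hy hy1
    have hyV : y ∈ V := h.cj_C_le ha hy
    have hxV : x ∈ V := h.CV hx
    have hxy1 : x * y ≠ 1 := by
      intro h0
      have h1 : x = y := by
        rw [← inv_eq_self_of (h.elem y hyV)]
        exact eq_inv_of_mul_eq_one_left h0
      exact hx1 (hdisj x hx (h1 ▸ hy))
    obtain ⟨m, hm, hmxy⟩ := h.exists_member (V.mul_mem hxV hyV) hxy1
    have hxm : x ∉ cj m C := by
      intro h0
      have h1 := h.sc hm hx1 hx h0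
      rw [h1] at hmxy
      exact hy1 (hdisj y ((C.mul_mem_cancel_left hx).1 hmxy) hy)
    obtain ⟨u, huM, hux, huu, hucomm⟩ := h.swap hm hxV hmxy hxm
    have huy : u * y * u⁻¹ = x := by
      calc u * y * u⁻¹ = u * (u * x * u⁻¹) * u⁻¹ := by rw [hux]
        _ = (u * u) * x * (u * u)⁻¹ := by group
        _ = x := h.conj_eq huu hxV
    have h1 : cj u C = cj a C := by
      apply h.sc2 huM ha hy1 _ hy
      rw [← hux]; exact conj_mem_cj hx
    refine ⟨m, hm, hmxy, hxm, u, huM, hux, huu, hucomm, huy, h1, ?_⟩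
    rw [← cj_mul]
    apply h.sc (M.mul_mem huM ha) hx1 hx
    rw [cj_mul, ← huy]
    exact conj_mem_cj hy
  obtain ⟨m, hm, hmxy, hzm, w, hwM, hwz, hww, hwcomm, hwv, hwC, hwC'⟩ := hu z₀ hz₀ hz₀1 v₀ hv₀a hv₀1
  refine ⟨w, hwM, hww, ?_, ?_, ?_⟩
  · rw [hwC]; exact hdisj
  · rw [hwC]
    intro k hk hkC hkC'
    -- `y = (w k) z₀ (w k)⁻¹`
    have hy : w * k * z₀ * (w * k)⁻¹ ∈ cj a C := by
      rw [← hwC, ← hkC, ← cj_mul]
      exact conj_mem_cj hz₀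
    have hy1 : w * k * z₀ * (w * k)⁻¹ ≠ 1 := by
      have := Hyp.conj_ne_one (g := (w * k)⁻¹) hz₀1
      rwa [inv_inv] at this
    obtain ⟨-, -, -, -, u, huM, hux, huu, -, huy, huC, huC'⟩ := hu z₀ hz₀ hz₀1 _ hy hy1
    have hpM : u⁻¹ * (w * k) ∈ M := M.mul_mem (M.inv_mem huM) (M.mul_mem hwM hk)
    have hpT : u⁻¹ * (w * k) ∈ T := by
      apply h.cent z₀ hz₀ hz₀1 _ hpM
      calc u⁻¹ * (w * k) * z₀ = u⁻¹ * (w * k * z₀ * (w * k)⁻¹) * (w * k) := by group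
        _ = u⁻¹ * (u * z₀ * u⁻¹) * (w * k) := by rw [hux]
        _ = z₀ * (u⁻¹ * (w * k)) := by group
    have hpC' : cj (u⁻¹ * (w * k)) (cj a C) = cj a C := by
      rw [cj_mul, cj_mul, hkC', hwC']
      conv_lhs => rw [← huC']
      rw [cj_inv_cj]
    have hpV : u⁻¹ * (w * k) ∈ V := by
      by_contra hnot
      apply hv₀C
      refine h.memC _ hpT hnot v₀ hv₀ ?_
      have h1 : u⁻¹ * (w * k) * v₀ * (u⁻¹ * (w * k))⁻¹ ∈ cj a C := by
        rw [← hpC']; exact conj_mem_cj hv₀a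
      have h2 := hdisj _ (h.comm _ hpT v₀ hv₀) ((cj a C).mul_mem h1 ((cj a C).inv_mem hv₀a))
      have h3 := mul_inv_eq_one.1 h2
      exact mul_inv_eq_iff_eq_mul.1 h3
    have e : w * k * (w * k) = (u * u) * (u⁻¹ * (u⁻¹ * (w * k)) * u⁻¹⁻¹) * (u⁻¹ * (w * k)) := by group
    rw [e]
    exact V.mul_mem (V.mul_mem huu (h.norm u⁻¹ (M.inv_mem huM) _ hpV)) hpV
  · obtain ⟨t₀, ht₀, ht₀v⟩ := h.R v₀ hv₀ hv₀C z₀ hz₀
    refine ⟨t₀, ht₀, ?_⟩
    have hcom : v₀ * z₀ = z₀ * v₀ := h.elem.comm hv₀ (h.CV hz₀)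
    have h0 : v₀ * z₀ ≠ 1 := by
      intro h0
      have h1 : v₀ = z₀ := by
        rw [← inv_eq_self_of (h.elem z₀ (h.CV hz₀))]
        exact eq_inv_of_mul_eq_one_left h0
      exact hv₀C (h1 ▸ hz₀)
    have ht₀a : cj (t₀ * a) C = cj m C := by
      apply h.sc2 (M.mul_mem (h.TM ht₀) ha) hm h0
      · rw [← ht₀v, cj_mul]; exact conj_mem_cj hv₀a
      · rw [hcom]; exact hmxy
    intro c hc
    have hy : w * c * w⁻¹ ∈ cj a C := by rw [← hwC]; exact conj_mem_cj hc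
    have hyV : w * c * w⁻¹ ∈ V := h.norm w hwM c (h.CV hc)
    set y := w * c * w⁻¹ with hydef
    have h1 : t₀ * y * t₀⁻¹ ∈ cj m C := by
      rw [← ht₀a, cj_mul]; exact conj_mem_cj hy
    have h2 : y * c⁻¹ ∈ cj m C := hwcomm c (h.CV hc)
    have h3 : t₀ * y * t₀⁻¹ * (y * c⁻¹)⁻¹ ∈ cj m C := (cj m C).mul_mem h1 ((cj m C).inv_mem h2)
    have h4 : t₀ * y * t₀⁻¹ * (y * c⁻¹)⁻¹ ∈ C := by
      have e : t₀ * y * t₀⁻¹ * (y * c⁻¹)⁻¹ = t₀ * y * t₀⁻¹ * y⁻¹ * (y * c * y⁻¹) := by group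
      rw [e, h.conj_eq hyV (h.CV hc)]
      exact C.mul_mem (h.comm t₀ ht₀ y hyV) hc
    have h5 : t₀ * y * t₀⁻¹ * (y * c⁻¹)⁻¹ = 1 := by
      by_contra hne
      exact hzm (by rw [h.sc hm hne h4 h3]; exact hz₀)
    have h6 := mul_inv_eq_one.1 h5
    rw [h6, inv_eq_self_of (h.elem c (h.CV hc))]

/-- factorisation `N_M(C) = T K` -/
theorem factor (h : Loc M V T C) {w : G} (hw : Frame M V T C w) {n : G} (hn : n ∈ M) (hnC : cj n C = C) :
    ∃ t ∈ T, t⁻¹ * n ∈ M ∧ cj (t⁻¹ * n) C = C ∧ cj (t⁻¹ * n) (cj w C) = cj w C := by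
  obtain ⟨z₀, hz₀, hz₀1⟩ := h.nebot
  have hv : w * z₀ * w⁻¹ ∈ cj w C := conj_mem_cj hz₀
  have hvV : w * z₀ * w⁻¹ ∈ V := h.norm w hw.mem _ (h.CV hz₀)
  have hv1 : w * z₀ * w⁻¹ ≠ 1 := by
    have := Hyp.conj_ne_one (g := w⁻¹) hz₀1
    rwa [inv_inv] at this
  have hvC : w * z₀ * w⁻¹ ∉ C := fun h0 => hv1 (hw.disj _ h0 hv)
  have hnwM : n * w ∈ M := M.mul_mem hn hw.mem
  have hne : cj (n * w) C ≠ C := by
    intro h0
    rw [cj_mul] at h0
    have h1 : cj w C = C := by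
      apply cj_injective n
      rw [h0, hnC]
    exact hvC (by rw [h1] at hv; exact hv)
  obtain ⟨c, hc, d, hd, hcd⟩ := h.dec _ hnwM hne _ hvV
  obtain ⟨t, ht, htv⟩ := h.R _ hvV hvC c hc
  have htT : t⁻¹ ∈ T := T.inv_mem ht
  have htC : ∀ s ∈ T, cj s C = C := by
    intro s hs
    ext x
    rw [mem_cj]
    constructor
    · intro hx
      have h1 := h.centC _ hx s hs
      have h2 : s⁻¹ * x * s = x := by
        calc s⁻¹ * x * s = (s⁻¹ * x * s * s) * s⁻¹ := by group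
          _ = (s * (s⁻¹ * x * s)) * s⁻¹ := by rw [h1]
          _ = x := by group
      rwa [h2] at hx
    · intro hx
      have h1 := h.centC _ hx s hs
      have h2 : s⁻¹ * x * s = x := by rw [mul_assoc, h1]; group
      rwa [h2]
  refine ⟨t, ht, M.mul_mem (M.inv_mem (h.TM ht)) hn, ?_, ?_⟩
  · rw [cj_mul, hnC, htC _ htT]
  · -- `t v t⁻¹ = v c ∈ cj (n w) C`
    have h1 : t * (w * z₀ * w⁻¹) * t⁻¹ = n * w * d * (n * w)⁻¹ := by
      rw [htv, h.elem.comm hvV (h.CV hc), hcd, ← mul_assoc, h.elem c (h.CV hc), one_mul]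
    have h2 : cj (t * w) C = cj (n * w) C := by
      have h3 : t * (w * z₀ * w⁻¹) * t⁻¹ ≠ 1 := by
        have := Hyp.conj_ne_one (g := t⁻¹) hv1
        rwa [inv_inv] at this
      apply h.sc2 (M.mul_mem (h.TM ht) hw.mem) hnwM h3
      · rw [cj_mul]; exact conj_mem_cj hv
      · rw [h1]; exact conj_mem_cj hd
    rw [cj_mul, ← cj_mul n w, ← h2, cj_mul t w, cj_inv_cj]

/-- conjugation of `w x w⁻¹` by an element of the two-point stabiliser -/
theorem conj_wx (h : Loc M V T C) {w : G} (hw : Frame M V T C w) {k : G} (hk : k ∈ M) (hkC : cj k C = C)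
    (hkC' : cj k (cj w C) = cj w C) {x : G} (hx : x ∈ V) :
    k * (w * x * w⁻¹) * k⁻¹ = w * (k⁻¹ * x * k) * w⁻¹ := by
  have h1 := hw.inv k hk hkC hkC'
  have hkx : k⁻¹ * x * k ∈ V := by
    have := h.norm k⁻¹ (M.inv_mem hk) x hx
    rwa [inv_inv] at this
  have h2 : w⁻¹ * (k⁻¹ * x * k) * w ∈ V := by
    have := h.norm w⁻¹ (M.inv_mem hw.mem) _ hkx
    rwa [inv_inv] at this
  calc k * (w * x * w⁻¹) * k⁻¹ = w⁻¹ * ((w * k * (w * k)) * (k⁻¹ * x * k) * (w * k * (w * k))⁻¹) * w := by group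
    _ = w⁻¹ * (k⁻¹ * x * k) * w := by rw [h.conj_eq h1 hkx]
    _ = (w * w) * (w⁻¹ * (k⁻¹ * x * k) * w) * (w * w)⁻¹ := (h.conj_eq hw.sq h2).symm
    _ = w * (k⁻¹ * x * k) * w⁻¹ := by group

/-- `(β)`: an element `n` of `N_M(C)` acts on `V/C ≅ C` by the inverse of its action on `C` -/
theorem beta (h : Loc M V T C) {w : G} (hw : Frame M V T C w) {n : G} (hn : n ∈ M) (hnC : cj n C = C)
    {c : G} (hc : c ∈ C) :
    n * (w * c * w⁻¹) * n⁻¹ * (w * (n⁻¹ * c * n) * w⁻¹)⁻¹ ∈ C := by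
  obtain ⟨t, ht, hkM, hkC, hkC'⟩ := h.factor hw hn hnC
  have h1 := h.conj_wx hw hkM hkC hkC' (h.CV hc)
  have h2 : (t⁻¹ * n)⁻¹ * c * (t⁻¹ * n) = n⁻¹ * c * n := by
    have h3 := h.centC c hc t ht
    calc (t⁻¹ * n)⁻¹ * c * (t⁻¹ * n) = n⁻¹ * ((t * c) * t⁻¹) * n := by group
      _ = n⁻¹ * c * n := by rw [← h3]; group
  rw [h2] at h1
  have h4 : n * (w * c * w⁻¹) * n⁻¹ = t * (w * (n⁻¹ * c * n) * w⁻¹) * t⁻¹ := by
    rw [← h1]; group
  rw [h4]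
  apply h.comm t ht
  apply h.norm w hw.mem
  have := h.norm n⁻¹ (M.inv_mem hn) _ (h.CV hc)
  rwa [inv_inv] at this

end Loc

open Loc in
/-- two local pictures with the same `T`, `C = V₁ ⊓ V₂`, `T = V₁ V₂` force `|C| ≤ 4` -/
theorem card_C_le_four [Finite G] {M₁ M₂ V₁ V₂ T C : Subgroup G} (h₁ : Loc M₁ V₁ T C) (h₂ : Loc M₂ V₂ T C)
    (hT : ∀ t ∈ T, ∃ v ∈ V₁, ∃ w ∈ V₂, t = v * w)
    (hN : ∀ k ∈ M₁, cj k C = C → k ∈ M₂) : Nat.card C ≤ 4 := by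
  obtain ⟨w₁, hw₁⟩ := h₁.exists_frame
  obtain ⟨w₂, hw₂⟩ := h₂.exists_frame
  obtain ⟨t₀, ht₀, ht₀w⟩ := hw₁.trv
  -- `θ c = w₂ c w₂⁻¹`
  obtain ⟨v₁, hv₁, v₂, hv₂, htv⟩ := hT t₀ ht₀
  obtain ⟨z₀, hz₀, hz₀1⟩ := h₁.nebot
  have hne₂ : cj w₂ C ≠ C := by
    intro h0
    exact hz₀1 (hw₂.disj z₀ hz₀ (by rw [h0]; exact hz₀))
  obtain ⟨c, hc, c₀, hc₀, hcc⟩ := h₂.dec w₂ hw₂.mem hne₂ v₂ hv₂
  have hV₂T : ∀ x ∈ C, w₂ * x * w₂⁻¹ ∈ T := fun x hx => h₂.VT (h₂.norm w₂ hw₂.mem x (h₂.CV hx))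
  have hC₁ : ∀ x ∈ C, w₁ * x * w₁⁻¹ ∈ V₁ := fun x hx => h₁.norm w₁ hw₁.mem x (h₁.CV hx)
  -- elements of `T` normalise `V₁`
  have hTV : ∀ t ∈ T, ∀ v ∈ V₁, t * v * t⁻¹ ∈ V₁ := fun t ht v hv => h₁.norm t (h₁.TM ht) v hv
  -- (E1)
  have hE1 : ∀ x ∈ C, (w₂ * c₀ * w₂⁻¹) * (w₁ * x * w₁⁻¹) * (w₂ * c₀ * w₂⁻¹)⁻¹ = w₁ * x * w₁⁻¹ * x := by
    intro x hx
    have h1 := ht₀w x hx
    have h2 := hTV _ (hV₂T c₀ hc₀) _ (hC₁ x hx)
    have h3 : v₁ * c ∈ V₁ := V₁.mul_mem hv₁ (h₁.CV hc)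
    rw [← h1, htv, hcc, ← h₁.conj_eq h3 h2]
    group
  -- the group `K`
  let K : Subgroup G := M₁ ⊓ Subgroup.normalizer (C : Set G) ⊓ Subgroup.normalizer ((cj w₁ C : Subgroup G) : Set G)
  have hKM : ∀ k ∈ K, k ∈ M₁ := fun k hk => hk.1.1
  have hKC : ∀ k ∈ K, cj k C = C := fun k hk => cj_eq_self_of_mem_normalizer hk.1.2
  have hKC' : ∀ k ∈ K, cj k (cj w₁ C) = cj w₁ C := fun k hk => cj_eq_self_of_mem_normalizer hk.2
  have hKmem : ∀ k : G, k ∈ M₁ → cj k C = C → cj k (cj w₁ C) = cj w₁ C → k ∈ K := fun k hk h1 h2 =>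
    ⟨⟨hk, mem_normalizer_of_cj_eq h1⟩, mem_normalizer_of_cj_eq h2⟩
  have hKx : ∀ k ∈ K, ∀ x ∈ C, k * x * k⁻¹ ∈ C := by
    intro k hk x hx
    have := conj_mem_cj (a := k) hx
    rwa [hKC k hk] at this
  have hKx' : ∀ k ∈ K, ∀ x ∈ C, k⁻¹ * x * k ∈ C := by
    intro k hk x hx
    have := hKx k⁻¹ (K.inv_mem hk) x hx
    rwa [inv_inv] at this
  -- (E2)
  have hE2 : ∀ k ∈ K, ∀ x ∈ C, (w₂ * (k⁻¹ * c₀ * k) * w₂⁻¹) * (w₁ * x * w₁⁻¹) * (w₂ * (k⁻¹ * c₀ * k) * w₂⁻¹)⁻¹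
      = w₁ * x * w₁⁻¹ * (k * (k * x * k⁻¹) * k⁻¹) := by
    intro k hk x hx
    have hb := h₂.beta hw₂ (hN k (hKM k hk) (hKC k hk)) (hKC k hk) hc₀
    set d := k * (w₂ * c₀ * w₂⁻¹) * k⁻¹ * (w₂ * (k⁻¹ * c₀ * k) * w₂⁻¹)⁻¹ with hd
    set y := w₂ * (k⁻¹ * c₀ * k) * w₂⁻¹ with hy
    have hyT : y ∈ T := hV₂T _ (hKx' k hk c₀ hc₀)
    have h2 := hTV y hyT _ (hC₁ x hx)
    have h3 : y * (w₁ * x * w₁⁻¹) * y⁻¹ = (d * y) * (w₁ * x * w₁⁻¹) * (d * y)⁻¹ := by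
      conv_lhs => rw [← h₁.conj_eq (h₁.CV hb) h2]
      group
    have h4 : d * y = k * (w₂ * c₀ * w₂⁻¹) * k⁻¹ := by rw [hd]; group
    have h5 := h₁.conj_wx hw₁ (hKM k hk) (hKC k hk) (hKC' k hk) (h₁.CV (hKx k hk x hx))
    have h6 : k⁻¹ * (w₁ * x * w₁⁻¹) * k = w₁ * (k * x * k⁻¹) * w₁⁻¹ := by
      have := h₁.conj_wx hw₁ (hKM _ (K.inv_mem hk)) (hKC _ (K.inv_mem hk)) (hKC' _ (K.inv_mem hk)) (h₁.CV hx)
      rw [inv_inv] at this
      exact this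
    have h7 : k⁻¹ * (k * x * k⁻¹) * k = x := by group
    rw [h7] at h5
    calc y * (w₁ * x * w₁⁻¹) * y⁻¹ = (d * y) * (w₁ * x * w₁⁻¹) * (d * y)⁻¹ := h3
      _ = k * ((w₂ * c₀ * w₂⁻¹) * (k⁻¹ * (w₁ * x * w₁⁻¹) * k) * (w₂ * c₀ * w₂⁻¹)⁻¹) * k⁻¹ := by rw [h4]; group
      _ = k * (w₁ * (k * x * k⁻¹) * w₁⁻¹ * (k * x * k⁻¹)) * k⁻¹ := by rw [h6, hE1 _ (hKx k hk x hx)]
      _ = (k * (w₁ * (k * x * k⁻¹) * w₁⁻¹) * k⁻¹) * (k * (k * x * k⁻¹) * k⁻¹) := by group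
      _ = w₁ * x * w₁⁻¹ * (k * (k * x * k⁻¹) * k⁻¹) := by rw [h5]
  -- the representation
  let cg : CommGroup C := { (inferInstance : Group C) with
    mul_comm := fun a b => Subtype.ext (h₁.elem.comm (h₁.CV a.2) (h₁.CV b.2)) }
  let ρ : K →* AddMonoid.End (Additive C) :=
    { toFun := fun k =>
        { toFun := fun x => Additive.ofMul ⟨k * (Additive.toMul x : C) * (k : G)⁻¹, hKx k k.2 _ (Additive.toMul x : C).2⟩
          map_zero' := by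
            apply Additive.toMul.injective
            apply Subtype.ext
            change (k : G) * 1 * (k : G)⁻¹ = 1
            group
          map_add' := by
            intro x y
            apply Additive.toMul.injective
            apply Subtype.ext
            change (k : G) * ((Additive.toMul x : C) * (Additive.toMul y : C)) * (k : G)⁻¹
              = (k : G) * (Additive.toMul x : C) * (k : G)⁻¹ * ((k : G) * (Additive.toMul y : C) * (k : G)⁻¹)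
            group }
      map_one' := by
        ext x
        change (1 : G) * (Additive.toMul x : C) * (1 : G)⁻¹ = _
        simp
      map_mul' := by
        intro a b
        ext x
        change ((a : G) * b) * (Additive.toMul x : C) * ((a : G) * b)⁻¹
          = (a : G) * ((b : G) * (Additive.toMul x : C) * (b : G)⁻¹) * (a : G)⁻¹
        group }
  have hρ : ∀ (k : K) (x : Additive C), ((Additive.toMul (ρ k x) : C) : G) = k * (Additive.toMul x : C) * (k : G)⁻¹ :=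
    fun k x => rfl
  have hmain : Nat.card (Additive C) ≤ 4 := by
    refine CITTorusAlg.card_le_four ?_ ρ ?_ ?_ (Additive.ofMul ⟨c₀, hc₀⟩) ?_ ?_
    · intro x
      apply Additive.toMul.injective
      apply Subtype.ext
      exact h₁.elem _ (h₁.CV (Additive.toMul x : C).2)
    · intro k g
      ext x
      rw [hρ, hρ]
      have hxC : ((Additive.toMul x : C) : G) ∈ C := (Additive.toMul x : C).2
      set x' : G := ((Additive.toMul x : C) : G) with hx'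
      have hyC : (g * k : G) * x' * (g * k : G)⁻¹ ∈ C := hKx _ (K.mul_mem g.2 k.2) x' hxC
      have h1 := h₁.conj_wx hw₁ (hKM _ (K.mul_mem g.2 k.2)) (hKC _ (K.mul_mem g.2 k.2))
        (hKC' _ (K.mul_mem g.2 k.2)) (h₁.CV hyC)
      have h2 := h₁.conj_wx hw₁ (hKM _ k.2) (hKC _ k.2) (hKC' _ k.2) (h₁.CV hyC)
      have h3 := h₁.conj_wx hw₁ (hKM _ g.2) (hKC _ g.2) (hKC' _ g.2) (h₁.CV (hKx' k k.2 _ hyC))
      have h4 : (g * k : G) * (w₁ * ((g * k : G) * x' * (g * k : G)⁻¹) * w₁⁻¹) * (g * k : G)⁻¹ =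
          (g : G) * ((k : G) * (w₁ * ((g * k : G) * x' * (g * k : G)⁻¹) * w₁⁻¹) * (k : G)⁻¹) * (g : G)⁻¹ := by group
      rw [h2, h3, h1] at h4
      have h5 := mul_left_cancel (mul_right_cancel h4)
      have h6 : (g * k : G)⁻¹ * ((g * k : G) * x' * (g * k : G)⁻¹) * (g * k : G) = x' := by group
      rw [h6] at h5
      have h7 : ((g * k : K) : G) * x' * ((g * k : K) : G)⁻¹ = (g * k : G) * x' * (g * k : G)⁻¹ := rfl
      rw [h7]
      have h8 : ((k * g : K) : G) * x' * ((k * g : K) : G)⁻¹ = (k * g : G) * x' * (k * g : G)⁻¹ := rfl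
      rw [h8]
      conv_lhs => rw [h5]
      group
    · intro c d hc0 hd0
      have hc1 : ((Additive.toMul c : C) : G) ≠ 1 := by
        intro h0
        apply hc0
        apply Additive.toMul.injective
        exact Subtype.ext h0
      have hd1 : ((Additive.toMul d : C) : G) ≠ 1 := by
        intro h0
        apply hd0
        apply Additive.toMul.injective
        exact Subtype.ext h0
      obtain ⟨m, hm, hmc⟩ := h₁.trans _ (h₁.CV (Additive.toMul c : C).2) hc1 _ (h₁.CV (Additive.toMul d : C).2) hd1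
      have hmC : cj m C = C := by
        apply h₁.sc hm hd1 (Additive.toMul d : C).2
        rw [← hmc]
        exact conj_mem_cj (Additive.toMul c : C).2
      obtain ⟨t, ht, hkM, hkC, hkC'⟩ := h₁.factor hw₁ hm hmC
      refine ⟨⟨t⁻¹ * m, hKmem _ hkM hkC hkC'⟩, ?_⟩
      apply Additive.toMul.injective
      apply Subtype.ext
      rw [hρ]
      have h1 := h₁.centC _ (Additive.toMul d : C).2 t ht
      calc (t⁻¹ * m) * ((Additive.toMul c : C) : G) * (t⁻¹ * m)⁻¹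
          = t⁻¹ * (m * ((Additive.toMul c : C) : G) * m⁻¹) * t := by group
        _ = t⁻¹ * (((Additive.toMul d : C) : G) * t) := by rw [hmc, mul_assoc]
        _ = ((Additive.toMul d : C) : G) := by rw [h1]; group
    · intro h0
      have h1 : c₀ = 1 := congrArg (fun x : Additive C => ((Additive.toMul x : C) : G)) h0
      have h2 := hE1 z₀ hz₀
      rw [h1] at h2
      apply hz₀1
      have h3 : w₁ * z₀ * w₁⁻¹ * 1 = w₁ * z₀ * w₁⁻¹ * z₀ := by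
        rw [← h2]; group
      exact (mul_left_cancel h3).symm
    · intro k g l hkgl
      have hkgl' : ((k : G)⁻¹ * c₀ * k) * ((g : G)⁻¹ * c₀ * g) = (l : G)⁻¹ * c₀ * l := by
        have := congrArg (fun x : Additive C => ((Additive.toMul x : C) : G)) hkgl
        have h1 : ((k : G)⁻¹ * c₀ * (k : G)⁻¹⁻¹) * ((g : G)⁻¹ * c₀ * (g : G)⁻¹⁻¹) = (l : G)⁻¹ * c₀ * (l : G)⁻¹⁻¹ := this
        rwa [inv_inv, inv_inv, inv_inv] at h1
      ext x
      have hxC : ((Additive.toMul x : C) : G) ∈ C := (Additive.toMul x : C).2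
      set x' : G := ((Additive.toMul x : C) : G) with hx'
      change ((k : G) * ((k : G) * x' * (k : G)⁻¹) * (k : G)⁻¹) * ((g : G) * ((g : G) * x' * (g : G)⁻¹) * (g : G)⁻¹)
        = (l : G) * ((l : G) * x' * (l : G)⁻¹) * (l : G)⁻¹
      have e1 := hE2 k k.2 x' hxC
      have e2 := hE2 g g.2 x' hxC
      have e3 := hE2 l l.2 x' hxC
      set y := w₁ * x' * w₁⁻¹ with hy
      set a := (k : G)⁻¹ * c₀ * k with ha
      set b := (g : G)⁻¹ * c₀ * g with hb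
      set X := (k : G) * ((k : G) * x' * (k : G)⁻¹) * (k : G)⁻¹ with hX
      set Y := (g : G) * ((g : G) * x' * (g : G)⁻¹) * (g : G)⁻¹ with hY
      have hYC : Y ∈ C := hKx g g.2 _ (hKx g g.2 _ hxC)
      have haT : w₂ * a * w₂⁻¹ ∈ T := hV₂T _ (hKx' k k.2 c₀ hc₀)
      rw [← hkgl'] at e3
      have h1 : (w₂ * (a * b) * w₂⁻¹) * y * (w₂ * (a * b) * w₂⁻¹)⁻¹ =
          (w₂ * a * w₂⁻¹) * ((w₂ * b * w₂⁻¹) * y * (w₂ * b * w₂⁻¹)⁻¹) * (w₂ * a * w₂⁻¹)⁻¹ := by group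
      rw [e2] at h1
      have h2 : (w₂ * a * w₂⁻¹) * Y * (w₂ * a * w₂⁻¹)⁻¹ = Y := by
        rw [← h₁.centC Y hYC _ haT]; group
      have h3 : (w₂ * a * w₂⁻¹) * (y * Y) * (w₂ * a * w₂⁻¹)⁻¹ =
          ((w₂ * a * w₂⁻¹) * y * (w₂ * a * w₂⁻¹)⁻¹) * ((w₂ * a * w₂⁻¹) * Y * (w₂ * a * w₂⁻¹)⁻¹) := by group
      rw [h1, h3, h2, e1, mul_assoc] at e3
      exact mul_left_cancel e3
  exact hmain

/-- **CIT-E3**: `q ∈ {2, 4}` in the amalgam configuration -/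
theorem q_le_four [Finite G] (hG : IsCIT G) {M₁ M₂ V₁ V₂ T : Subgroup G} {q : ℕ}
    (h : Amal M₁ M₂ V₁ V₂ T q) : q = 2 ∨ q = 4 := by
  have L₁ := loc_of_ff hG h.ff₁ h.elem₁
  have L₂ := loc_of_ff hG h.ff₂ h.elem₂
  have hV₁ := omegaZ_eq_of_elem h.elem₁
  have hV₂ := omegaZ_eq_of_elem h.elem₂
  obtain ⟨n, hn, hq⟩ := h.ff₁.pow
  have hq2 : 2 ≤ q := by
    rw [hq]
    calc 2 = 2 ^ 1 := rfl
      _ ≤ 2 ^ n := Nat.pow_le_pow_right (by norm_num) hn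
  have hc₁ : Nat.card V₁ = q ^ 2 := by have := h.ff₁.card_V; rwa [hV₁] at this
  have hc₂ : Nat.card V₂ = q ^ 2 := by have := h.ff₂.card_V; rwa [hV₂] at this
  have hV₁T : Nat.card V₁ ≠ Nat.card T := by
    rw [hc₁, h.card]
    intro h0
    have h1 : q ^ 2 * 1 = q ^ 2 * q := by rw [mul_one, ← pow_succ]; exact h0
    have := Nat.eq_of_mul_eq_mul_left (by positivity) h1
    omega
  have hnc : ¬ ∀ v ∈ omegaZ V₁, ∀ w ∈ omegaZ V₂, v * w = w * v := by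
    intro hc
    rw [hV₂] at hc
    have h1 : V₂ ≤ V₁ := by
      intro w hw
      exact h.ff₁.centralizer_V w (h.ff₁.syl.le (L₂.VT hw)) (fun v hv => (hc v hv w hw).symm)
    have h2 : T = V₁ := by rw [h.sup]; exact sup_eq_left.2 h1
    exact hV₁T (by rw [← h2])
  have hT : ∀ t ∈ T, ∃ v ∈ V₁, ∃ w ∈ V₂, t = v * w := by
    have := (CITNonCommute.half h.ff₁ h.ff₂ hnc).2
    rwa [hV₁] at this
  have hne : V₁ ≠ V₂ := by
    intro h0
    apply hV₁T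
    rw [h.sup, ← h0, sup_idem]
  have hN₂ : Subgroup.normalizer (V₂ : Set G) = M₂ := by
    have hVb : V₂ ≠ ⊥ := by
      rintro rfl
      rw [Subgroup.card_bot] at hc₂
      nlinarith
    obtain ⟨X, hX, hPX⟩ := CITNonCommute.exists_isO2_ge (Subgroup.normalizer (V₂ : Set G)) V₂
      Subgroup.le_normalizer h.ff₂.o2.two (fun m hm x hx => (Subgroup.mem_normalizer_iff.1 hm x).1 hx)
    have hX1 : X ≠ ⊥ := fun h0 => hVb (le_bot_iff.1 (h0 ▸ hPX))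
    exact h.max₂.2 _ (CITNonCommute.le_normalizer_of_forall h.ff₂.o2.normal) ⟨X, hX1, hX⟩
  have hle : Nat.card (omegaZ T) ≤ 4 := by
    refine card_C_le_four L₁ L₂ hT ?_
    intro k hk hkC
    have hkT : ∀ t ∈ T, k * t * k⁻¹ ∈ T := by
      apply h.ff₁.normalizes k hk
      intro v hv
      have := conj_mem_cj (a := k) hv
      rwa [hkC] at this
    have hkV : cj k V₂ ≤ T := by
      intro x hx
      rw [mem_cj] at hx
      have := hkT _ (L₂.VT hx)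
      have e : k * (k⁻¹ * x * k) * k⁻¹ = x := by group
      rwa [e] at this
    rw [← hN₂]
    apply mem_normalizer_of_cj_eq
    rcases le_or_le (fun x hx => h.inv x (hkV hx) (elem_cj h.elem₂ x hx)) with h1 | h1
    · exfalso
      have h2 : cj k V₂ = V₁ := Subgroup.eq_of_le_of_card_ge h1 (by rw [card_cj, hc₁, hc₂])
      have h3 : cj k V₁ = V₁ :=
        cj_eq_self_of_mem_normalizer (CITNonCommute.le_normalizer_of_forall h.ff₁.o2.normal hk)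
      exact hne (cj_injective k (h3.trans h2.symm))
    · exact Subgroup.eq_of_le_of_card_ge h1 (by rw [card_cj])
  rw [h.ff₁.card_C] at hle
  have hn2 : n ≤ 2 := by
    by_contra hcon
    have : 2 ^ 3 ≤ 2 ^ n := Nat.pow_le_pow_right (by norm_num) (by omega)
    rw [← hq] at this
    omega
  interval_cases n
  · left; rw [hq]; norm_num
  · right; rw [hq]; norm_num

end Cfsg.Agent.LieExceptional.CITTorus
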