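import Mathlib
import Cfsg.Agent.LieExceptional.PlaneMap

/-!
# Coordinates for the plane of order 4

Every spread of five subgroups of order 4 of an elementary abelian group of order 16 is coordinatised by the field with
four elements; hence a simple group with `PlaneData ... 4` and `V2` elementary abelian is `PSL₃(4)`.
-/

set_option autoImplicit false

namespace Cfsg.Agent.LieExceptional.PlaneFour

open scoped Pointwise LinearAlgebra.Projectivization
open Cfsg.Agent.LieExceptional.PlaneGeom Cfsg.Agent.LieExceptional.PlaneCoord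

universe u

/-- the field with four elements: `o = 0`, `i = 1`, `w`, `v = w + 1 = w²` -/
inductive F4 : Type
  | o | i | w | v
  deriving DecidableEq

namespace F4

instance : Fintype F4 := ⟨{o, i, w, v}, by intro x; cases x <;> decide⟩

/-- addition -/
def add : F4 → F4 → F4
  | o, x => x
  | x, o => x
  | i, i => o
  | i, w => v
  | i, v => w
  | w, i => v
  | w, w => o
  | w, v => i
  | v, i => w
  | v, w => i
  | v, v => o

/-- multiplication -/
def mul : F4 → F4 → F4
  | o, _ => o
  | _, o => o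
  | i, x => x
  | x, i => x
  | w, w => v
  | w, v => i
  | v, w => i
  | v, v => w

/-- inverse -/
def inv : F4 → F4
  | o => o
  | i => i
  | w => v
  | v => w

instance : Add F4 := ⟨add⟩
instance : Mul F4 := ⟨mul⟩
instance : Zero F4 := ⟨o⟩
instance : One F4 := ⟨i⟩
instance : Neg F4 := ⟨fun x => x⟩
instance : Sub F4 := ⟨add⟩
instance : Inv F4 := ⟨inv⟩

instance : Field F4 where
  add_assoc := by decide
  zero_add := by decide
  add_zero := by decide
  nsmul := nsmulRec
  zsmul := zsmulRec
  neg_add_cancel := by decide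
  add_comm := by decide
  sub_eq_add_neg := by decide
  left_distrib := by decide
  right_distrib := by decide
  zero_mul := by decide
  mul_zero := by decide
  mul_assoc := by decide
  one_mul := by decide
  mul_one := by decide
  mul_comm := by decide
  exists_pair_ne := ⟨0, 1, by decide⟩
  mul_inv_cancel := by decide
  inv_zero := by decide
  nnqsmul := _
  nnqsmul_def := fun _ _ => rfl
  qsmul := _
  qsmul_def := fun _ _ => rfl

theorem card : Fintype.card F4 = 4 := rfl

/-- an additive map without fixed points and kernel is a multiplication -/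
theorem mul_of_fpf (A : F4 → F4) (hadd : ∀ a b, A (a + b) = A a + A b) (h0 : ∀ a, A a = 0 → a = 0)
    (h1 : ∀ a, A a = a → a = 0) (a : F4) : A a = A 1 * a := by
  have e0 : A 0 = 0 := by
    have := hadd 0 0
    rw [show (0 : F4) + 0 = 0 from rfl] at this
    revert this
    generalize A 0 = t
    revert t
    decide
  have ev : A v = A 1 + A w := hadd 1 w
  have k1 : A 1 ≠ 0 := fun h => absurd (h0 _ h) (by decide)
  have k2 : A 1 ≠ 1 := fun h => absurd (h1 _ h) (by decide)
  have k3 : A w ≠ 0 := fun h => absurd (h0 _ h) (by decide)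
  have k4 : A w ≠ w := fun h => absurd (h1 _ h) (by decide)
  have k5 : A v ≠ 0 := fun h => absurd (h0 _ h) (by decide)
  have k6 : A v ≠ v := fun h => absurd (h1 _ h) (by decide)
  have key : ∀ x y z : F4, z = x + y → x ≠ 0 → x ≠ 1 → y ≠ 0 → y ≠ w → z ≠ 0 → z ≠ v →
      y = x * w ∧ z = x * v := by decide
  obtain ⟨h2, h3⟩ := key _ _ _ ev k1 k2 k3 k4 k5 k6
  cases a with
  | o => 
    show A 0 = A 1 * 0
    rw [e0, mul_zero]
  | i => 
    show A 1 = A 1 * 1
    rw [mul_one]
  | w => exact h2
  | v => exact h3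

end F4

section spread

variable {V : Type*} [Group V] (h2 : ∀ x : V, x * x = 1)

include h2 in
theorem comm (x y : V) : x * y = y * x := by
  have h1 : (x * y) * (x * y) = 1 := h2 _
  have hx : x⁻¹ = x := inv_eq_of_mul_eq_one_left (h2 x)
  have hy : y⁻¹ = y := inv_eq_of_mul_eq_one_left (h2 y)
  have h3 : x * y = (x * y)⁻¹ := eq_inv_of_mul_eq_one_left h1
  rw [mul_inv_rev, hx, hy] at h3
  exact h3

include h2 in
/-- parametrisation of a group of order 4 by `F4` -/
theorem exists_param (S : Subgroup V) (hS : Nat.card S = 4) :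
    ∃ s : F4 → V, (∀ a, s a ∈ S) ∧ Function.Injective s ∧ ∀ a b, s (a + b) = s a * s b := by
  obtain ⟨x, hx, hx1⟩ : ∃ x ∈ S, x ≠ 1 := by
    by_contra h
    push Not at h
    have : S = ⊥ := by
      rw [eq_bot_iff]
      intro x hx
      exact Subgroup.mem_bot.2 (h x hx)
    rw [this, Subgroup.card_bot] at hS
    omega
  obtain ⟨y, hy, hyn⟩ : ∃ y ∈ S, y ∉ Subgroup.zpowers x := by
    by_contra h
    push Not at h
    have h3 : S = Subgroup.zpowers x := le_antisymm h (by
      rw [Subgroup.zpowers_le]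
      exact hx)
    have h4 : orderOf x = 4 := by
      rw [← hS, h3, Nat.card_zpowers]
    have h5 : orderOf x ∣ 2 := orderOf_dvd_of_pow_eq_one (by rw [sq, h2])
    rw [h4] at h5
    omega
  have hy1 : y ≠ 1 := by
    rintro rfl
    exact hyn (Subgroup.one_mem _)
  have hyx : y ≠ x := by
    rintro rfl
    exact hyn (Subgroup.mem_zpowers _)
  have hxy : x * y ≠ 1 := by
    intro h
    apply hyx
    have : x⁻¹ = y := inv_eq_of_mul_eq_one_right h
    rw [← this]
    exact inv_eq_of_mul_eq_one_left (h2 x)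
  have hc := comm h2 x y
  have hxx := h2 x
  have hyy := h2 y
  have e1 : x * (x * y) = y := by rw [← mul_assoc, hxx, one_mul]
  have e2 : y * (x * y) = x := by rw [hc, ← mul_assoc, hyy, one_mul]
  have e3 : x * y * x = y := by rw [hc, mul_assoc, hxx, mul_one]
  have e4 : x * y * y = x := by rw [mul_assoc, hyy, mul_one]
  have e5 : x * y * (x * y) = 1 := h2 _
  have e6 : y * x = x * y := hc.symm
  refine ⟨fun a => match a with
    | .o => 1
    | .i => x
    | .w => y
    | .v => x * y, ?_, ?_, ?_⟩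
  · intro a
    cases a
    · exact S.one_mem
    · exact hx
    · exact hy
    · exact S.mul_mem hx hy
  · intro a b hab
    have hx1' : (1 : V) ≠ x := hx1.symm
    have hy1' : (1 : V) ≠ y := hy1.symm
    have hxy' : (1 : V) ≠ x * y := hxy.symm
    have hyx' : x ≠ y := hyx.symm
    have k1 : x * y ≠ x := by
      intro h
      apply hy1
      exact mul_eq_left.1 h
    have k2 : x * y ≠ y := by
      intro h
      apply hx1
      exact mul_eq_right.1 h
    have k1' := k1.symm
    have k2' := k2.symm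
    cases a <;> cases b <;> first | rfl | (exfalso; revert hab; assumption)
  · intro a b
    cases a <;> cases b
    · show (1 : V) = 1 * 1
      rw [one_mul]
    · show x = 1 * x
      rw [one_mul]
    · show y = 1 * y
      rw [one_mul]
    · show x * y = 1 * (x * y)
      rw [one_mul]
    · show x = x * 1
      rw [mul_one]
    · exact hxx.symm
    · rfl
    · exact e1.symm
    · show y = y * 1
      rw [mul_one]
    · exact hc
    · exact hyy.symm
    · exact e2.symm
    · show x * y = x * y * 1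
      rw [mul_one]
    · exact e3.symm
    · exact e4.symm
    · exact e5.symm

omit h2 in
/-- two complementary subgroups of order 4 generate -/
theorem exists_mul_mem (hV : Nat.card V = 16) {S T : Subgroup V} (hS : Nat.card S = 4) (hT : Nat.card T = 4)
    (hd : S ⊓ T = ⊥) (x : V) : ∃ y ∈ S, x * y ∈ T := by
  have hVfin : Finite V := (Nat.card_pos_iff.1 (by omega)).2
  have hinj : Function.Injective (fun c : S × T => (c.2 : V) * (c.1 : V)⁻¹) := by
    rintro ⟨a, b⟩ ⟨c, d⟩ h
    have h1 : (b : V) * (a : V)⁻¹ = d * (c : V)⁻¹ := h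
    have h3 : (d : V)⁻¹ * b = (c : V)⁻¹ * a := by
      calc (d : V)⁻¹ * b = (d : V)⁻¹ * (b * (a : V)⁻¹) * a := by group
        _ = (c : V)⁻¹ * a := by rw [h1]; group
    have h4 : (c : V)⁻¹ * a ∈ S ⊓ T := ⟨S.mul_mem (S.inv_mem c.2) a.2, by
      rw [← h3]
      exact T.mul_mem (T.inv_mem d.2) b.2⟩
    rw [hd, Subgroup.mem_bot] at h4
    have h5 : c = a := Subtype.ext (inv_mul_eq_one.1 h4)
    rw [h4] at h3
    have h6 : d = b := Subtype.ext (inv_mul_eq_one.1 h3)
    rw [h5, h6]
  have hsurj : Function.Surjective (fun c : S × T => (c.2 : V) * (c.1 : V)⁻¹) :=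
    ((Nat.bijective_iff_injective_and_card _).2 ⟨hinj, by rw [Nat.card_prod, hS, hT, hV]⟩).2
  obtain ⟨⟨a, b⟩, hab⟩ := hsurj x
  refine ⟨a, a.2, ?_⟩
  have h1 : x * a = b := by
    rw [← hab]
    group
  rw [h1]
  exact b.2

include h2 in
/-- every spread of an elementary abelian group of order 16 is the spread of the field with four elements -/
theorem spread4 (hV : Nat.card V = 16) (S : Fin 5 → Subgroup V) (hS : ∀ i, Nat.card (S i) = 4)
    (hd : ∀ i j, i ≠ j → S i ⊓ S j = ⊥) :
    ∃ φ : V → F4 × F4, Function.Bijective φ ∧ (∀ u v, φ (u * v) = φ u + φ v) ∧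
      ∀ i, ∃ d : F4 × F4, d ≠ 0 ∧ ∀ v, v ∈ S i ↔ ∃ a : F4, φ v = (a * d.1, a * d.2) := by
  have hVfin : Finite V := (Nat.card_pos_iff.1 (by omega)).2
  have hbot : ∀ {i j : Fin 5}, i ≠ j → ∀ {x : V}, x ∈ S i → x ∈ S j → x = 1 := by
    intro i j hij x hi hj
    have : x ∈ S i ⊓ S j := ⟨hi, hj⟩
    rw [hd i j hij] at this
    exact Subgroup.mem_bot.1 this
  have hcm := comm h2
  obtain ⟨s, hs, hsinj, hsadd⟩ := exists_param h2 (S 0) (hS 0)
  have hs0 : s 0 = 1 := by
    have := hsadd 0 0
    rw [add_zero] at this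
    exact (mul_eq_left.1 this.symm)
  -- the graph map
  choose t ht1 ht2 using fun a => exists_mul_mem hV (hS 1) (hS 2) (hd 1 2 (by decide)) (s a)
  have htu : ∀ {a : F4} {y : V}, y ∈ S 1 → s a * y ∈ S 2 → y = t a := by
    intro a y hy hy2
    have h3 : (t a)⁻¹ * y = 1 := by
      apply hbot (i := 1) (j := 2) (by decide) ((S 1).mul_mem ((S 1).inv_mem (ht1 a)) hy)
      have : (t a)⁻¹ * y = (s a * t a)⁻¹ * (s a * y) := by group
      rw [this]
      exact (S 2).mul_mem ((S 2).inv_mem (ht2 a)) hy2
    exact (inv_mul_eq_one.1 h3).symm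
  have htadd : ∀ a b, t (a + b) = t a * t b := by
    intro a b
    symm
    apply htu ((S 1).mul_mem (ht1 a) (ht1 b))
    have : s (a + b) * (t a * t b) = (s a * t a) * (s b * t b) := by
      rw [hsadd, mul_assoc, mul_assoc, ← mul_assoc (s b), hcm (s b) (t a)]
      group
    rw [this]
    exact (S 2).mul_mem (ht2 a) (ht2 b)
  have ht0 : t 0 = 1 := by
    have := htadd 0 0
    rw [add_zero] at this
    exact (mul_eq_left.1 this.symm)
  have htker : ∀ a, t a = 1 → a = 0 := by
    intro a ha
    have h3 := ht2 a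
    rw [ha, mul_one] at h3
    have h4 := hbot (i := 0) (j := 2) (by decide) (hs a) h3
    exact hsinj (h4.trans hs0.symm)
  -- the inverse of the coordinate map
  let ψ : F4 × F4 → V := fun c => s c.1 * t c.2
  have hψadd : ∀ c d, ψ (c + d) = ψ c * ψ d := by
    intro c d
    show s (c.1 + d.1) * t (c.2 + d.2) = s c.1 * t c.2 * (s d.1 * t d.2)
    rw [hsadd, htadd, mul_assoc, mul_assoc, ← mul_assoc (s d.1), hcm (s d.1) (t c.2)]
    group
  have hψker : ∀ c, ψ c = 1 → c = 0 := by
    intro c hc
    have h3 : s c.1 * t c.2 = 1 := hc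
    have h4 : s c.1 = (t c.2)⁻¹ := eq_inv_of_mul_eq_one_left h3
    have h5 : s c.1 = 1 := hbot (i := 0) (j := 1) (by decide) (hs _) (by rw [h4]; exact (S 1).inv_mem (ht1 _))
    rw [h5, one_mul] at h3
    have h6 := htker _ h3
    have h7 : c.1 = 0 := hsinj (h5.trans hs0.symm)
    exact Prod.ext h7 h6
  have hψinj : Function.Injective ψ := by
    intro c d hcd
    have h3 : ψ (c - d) = 1 := by
      have h4 : ψ (c - d) * ψ d = ψ d := by
        rw [← hψadd, sub_add_cancel, hcd]
      exact mul_eq_right.1 h4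
    exact sub_eq_zero.1 (hψker _ h3)
  have hψbij : Function.Bijective ψ := by
    refine (Nat.bijective_iff_injective_and_card _).2 ⟨hψinj, ?_⟩
    rw [Nat.card_prod, hV, Nat.card_eq_fintype_card, F4.card]
  let e := Equiv.ofBijective ψ hψbij
  refine ⟨e.symm, e.symm.bijective, ?_, ?_⟩
  · intro u v
    apply e.injective
    rw [e.apply_symm_apply]
    have h3 : e (e.symm u + e.symm v) = e (e.symm u) * e (e.symm v) := hψadd _ _
    rw [h3, e.apply_symm_apply, e.apply_symm_apply]
  · intro k
    -- it suffices that the line is contained in `S k`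
    have key : ∀ d : F4 × F4, d ≠ 0 → (∀ a : F4, ψ (a * d.1, a * d.2) ∈ S k) →
        ∀ v, v ∈ S k ↔ ∃ a : F4, e.symm v = (a * d.1, a * d.2) := by
      intro d hd0 hmem v
      have hinj : Function.Injective (fun a : F4 => (⟨ψ (a * d.1, a * d.2), hmem a⟩ : S k)) := by
        intro a b hab
        have h3 : ψ (a * d.1, a * d.2) = ψ (b * d.1, b * d.2) := congrArg Subtype.val hab
        have h4 := hψinj h3
        have h5 : a * d.1 = b * d.1 := congrArg Prod.fst h4
        have h6 : a * d.2 = b * d.2 := congrArg Prod.snd h4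
        by_cases hd1 : d.1 = 0
        · have hd2 : d.2 ≠ 0 := fun h => hd0 (Prod.ext hd1 h)
          exact mul_right_cancel₀ hd2 h6
        · exact mul_right_cancel₀ hd1 h5
      have hsurj : Function.Surjective (fun a : F4 => (⟨ψ (a * d.1, a * d.2), hmem a⟩ : S k)) :=
        ((Nat.bijective_iff_injective_and_card _).2 ⟨hinj, by
          rw [hS, Nat.card_eq_fintype_card, F4.card]⟩).2
      constructor
      · intro hv
        obtain ⟨a, ha⟩ := hsurj ⟨v, hv⟩
        refine ⟨a, ?_⟩
        rw [Equiv.symm_apply_eq]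
        exact (congrArg Subtype.val ha).symm
      · rintro ⟨a, ha⟩
        rw [Equiv.symm_apply_eq] at ha
        rw [ha]
        exact hmem a
    by_cases h0 : k = 0
    · subst h0
      refine ⟨(1, 0), by decide, key _ (by decide) ?_⟩
      intro a
      show s (a * 1) * t (a * 0) ∈ S 0
      rw [mul_one, mul_zero, ht0, mul_one]
      exact hs a
    by_cases h1 : k = 1
    · subst h1
      refine ⟨(0, 1), by decide, key _ (by decide) ?_⟩
      intro a
      show s (a * 0) * t (a * 1) ∈ S 1
      rw [mul_one, mul_zero, hs0, one_mul]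
      exact ht1 a
    by_cases h2' : k = 2
    · subst h2'
      refine ⟨(1, 1), by decide, key _ (by decide) ?_⟩
      intro a
      show s (a * 1) * t (a * 1) ∈ S 2
      rw [mul_one]
      exact ht2 a
    -- the remaining members
    have hA : ∀ a : F4, ∃ b : F4, s a * t b ∈ S k := by
      intro a
      obtain ⟨y, hy, hay⟩ := exists_mul_mem hV (hS 1) (hS k) (hd 1 k (Ne.symm h1)) (s a)
      obtain ⟨⟨c, b⟩, hcb⟩ := hψbij.2 y
      have h3 : s c * t b = y := hcb
      have h4 : s c = y * (t b)⁻¹ := by rw [← h3]; group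
      have h5 : s c = 1 := hbot (i := 0) (j := 1) (by decide) (hs c) (by
        rw [h4]
        exact (S 1).mul_mem hy ((S 1).inv_mem (ht1 b)))
      rw [h5, one_mul] at h3
      exact ⟨b, by rw [h3]; exact hay⟩
    choose A hA using hA
    have hAu : ∀ {a b : F4}, s a * t b ∈ S k → b = A a := by
      intro a b hab
      have h3 : (t b)⁻¹ * t (A a) = 1 := by
        apply hbot (i := 1) (j := k) (Ne.symm h1) ((S 1).mul_mem ((S 1).inv_mem (ht1 b)) (ht1 _))
        have : (t b)⁻¹ * t (A a) = (s a * t b)⁻¹ * (s a * t (A a)) := by group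
        rw [this]
        exact (S k).mul_mem ((S k).inv_mem hab) (hA a)
      have h4 : t b = t (A a) := inv_mul_eq_one.1 h3
      have h5 : ψ (0, b) = ψ (0, A a) := by
        show s 0 * t b = s 0 * t (A a)
        rw [h4]
      exact congrArg Prod.snd (hψinj h5)
    have hAadd : ∀ a b, A (a + b) = A a + A b := by
      intro a b
      symm
      apply hAu
      have : s (a + b) * t (A a + A b) = (s a * t (A a)) * (s b * t (A b)) := hψadd (a, A a) (b, A b)
      rw [this]
      exact (S k).mul_mem (hA a) (hA b)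
    have hA0 : ∀ a, A a = 0 → a = 0 := by
      intro a ha
      have h3 := hA a
      rw [ha, ht0, mul_one] at h3
      have h4 := hbot (i := 0) (j := k) (Ne.symm h0) (hs a) h3
      exact hsinj (h4.trans hs0.symm)
    have hA1 : ∀ a, A a = a → a = 0 := by
      intro a ha
      have h3 := hA a
      rw [ha] at h3
      have h4 := hbot (i := 2) (j := k) (Ne.symm h2') (ht2 a) h3
      exact congrArg Prod.fst (hψker (a, a) h4)
    have hd0 : ((1, A 1) : F4 × F4) ≠ 0 := by
      intro h
      have h3 : (1 : F4) = 0 := congrArg Prod.fst h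
      exact absurd h3 (by decide)
    refine ⟨(1, A 1), hd0, key _ hd0 ?_⟩
    intro a
    show s (a * 1) * t (a * A 1) ∈ S k
    rw [mul_one, mul_comm, ← F4.mul_of_fpf A hAadd hA0 hA1]
    exact hA a

end spread

variable {G : Type u} [Group G] {P1 P2 V1 V2 : Subgroup G}

/-- the spread member of a point of the base line -/
def member (V1 V2 : Subgroup G) (p : G) : Subgroup V2 where
  carrier := {v | p⁻¹ * (v : G) * p ∈ V1}
  one_mem' := by simp [V1.one_mem]
  mul_mem' := by
    intro a b ha hb
    have : p⁻¹ * ((a * b : V2) : G) * p = (p⁻¹ * (a : G) * p) * (p⁻¹ * (b : G) * p) := by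
      push_cast
      group
    show p⁻¹ * ((a * b : V2) : G) * p ∈ V1
    rw [this]
    exact V1.mul_mem ha hb
  inv_mem' := by
    intro a ha
    have : p⁻¹ * ((a⁻¹ : V2) : G) * p = (p⁻¹ * (a : G) * p)⁻¹ := by
      push_cast
      group
    show p⁻¹ * ((a⁻¹ : V2) : G) * p ∈ V1
    rw [this]
    exact V1.inv_mem ha

theorem mem_member {p : G} {v : V2} : v ∈ member V1 V2 p ↔ p⁻¹ * (v : G) * p ∈ V1 := Iff.rfl

theorem card_member {q : ℕ} (D : PlaneData G P1 P2 V1 V2 q) {p : G} (hp : p ∈ P2) :
    Nat.card (member V1 V2 p) = q := by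
  rw [← D.card_W]
  refine Nat.card_congr ⟨fun v => ⟨p⁻¹ * (v.1 : G) * p, v.2, ?_⟩,
    fun w => ⟨⟨p * w.1 * p⁻¹, ?_⟩, ?_⟩, ?_, ?_⟩
  · have := D.V2_norm p⁻¹ (P2.inv_mem hp) v.1 v.1.2
    simpa using this
  · exact D.V2_norm p hp w.1 w.2.2
  · show p⁻¹ * (p * (w : G) * p⁻¹) * p ∈ V1
    have : p⁻¹ * (p * (w : G) * p⁻¹) * p = w := by group
    rw [this]
    exact w.2.1
  · intro v
    apply Subtype.ext
    apply Subtype.ext
    show p * (p⁻¹ * (v.1 : G) * p) * p⁻¹ = v.1
    group
  · intro w
    apply Subtype.ext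
    show p⁻¹ * (p * (w : G) * p⁻¹) * p = w
    group

/-- coordinates over `F4` -/
theorem exists_coord (D : PlaneData G P1 P2 V1 V2 4) (hV2 : ∀ v ∈ V2, v * v = 1) :
    ∃ φ : V2 → F4 × F4, Coord P1 P2 V1 V2 φ := by
  classical
  let J := P2 ⧸ P1.subgroupOf P2
  have hJ : Nat.card J = 5 := D.index_2
  have hJfin : Finite J := (Nat.card_pos_iff.1 (by omega)).2
  let e : Fin 5 ≃ J := (Finite.equivFinOfCardEq hJ).symm
  let p : Fin 5 → G := fun k => ((e k).out : P2)
  have hp : ∀ k, p k ∈ P2 := fun k => ((e k).out : P2).2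
  have hpe : ∀ r ∈ P2, ∃ k, r • o P1 = p k • o P1 := by
    intro r hr
    refine ⟨e.symm (Quotient.mk'' ⟨r, hr⟩), ?_⟩
    have h1 : (Quotient.mk'' ((e (e.symm (Quotient.mk'' ⟨r, hr⟩))).out) : J) = Quotient.mk'' ⟨r, hr⟩ := by
      rw [Equiv.apply_symm_apply]
      exact Quotient.out_eq' _
    have h2 := Quotient.exact' h1
    rw [QuotientGroup.leftRel_apply, Subgroup.mem_subgroupOf] at h2
    rw [smul_o, smul_o]
    symm
    exact QuotientGroup.eq.2 h2
  have hpinj : ∀ i j, p i • o P1 = p j • o P1 → i = j := by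
    intro i j hij
    rw [smul_o, smul_o, QuotientGroup.eq] at hij
    have h1 : (e i) = (e j) := by
      rw [← Quotient.out_eq' (e i), ← Quotient.out_eq' (e j)]
      apply Quotient.sound'
      rw [QuotientGroup.leftRel_apply, Subgroup.mem_subgroupOf]
      exact hij
    exact e.injective h1
  obtain ⟨φ, hbij, hadd, hdir⟩ := spread4 (V := V2) (fun x => Subtype.ext (hV2 x x.2)) (D.card_V2)
    (fun k => member V1 V2 (p k)) (fun k => card_member D (hp k)) (by
      intro i j hij
      rw [eq_bot_iff]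
      intro v hv
      rw [Subgroup.mem_bot]
      by_contra hv1
      apply hij
      apply hpinj
      exact eq_of_conj_mem D (hp i) (hp j) v.2 (fun h => hv1 (Subtype.ext h)) hv.1 hv.2)
  refine ⟨φ, hbij, hadd, ?_⟩
  intro r hr
  obtain ⟨k, hk⟩ := hpe r hr
  obtain ⟨d, hd, hd'⟩ := hdir k
  refine ⟨d, hd, fun v => ?_⟩
  rw [← hd' v, mem_member]
  exact conj_mem_iff D hk _

/-- a simple group with the parabolic data of order 4 is `PSL₃(4)` -/
theorem psl34 [IsSimpleGroup G] (D : PlaneData G P1 P2 V1 V2 4) (hV2 : ∀ v ∈ V2, v * v = 1) :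
    Nonempty (G ≃* Matrix.ProjectiveSpecialLinearGroup (Fin 3) F4) := by
  obtain ⟨φ, C⟩ := exists_coord D hV2
  exact PlaneMap.psl_of_coord D C

end Cfsg.Agent.LieExceptional.PlaneFour
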