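import Cfsg.Agent.LieExceptional.AmalBasic
import Cfsg.Agent.LieExceptional.PlaneFour

/-!
# Part F2 of the CIT project: the amalgam with `q = 4` and index 21 gives `PSL₃(4)`
-/

set_option autoImplicit false

namespace Cfsg.Agent.LieExceptional.PSLThreeFour

open Cfsg.Agent.LieExceptional.CITDefs

variable {G : Type*} [Group G] [Finite G]

/-- F2 identification -/
theorem psl34 [IsSimpleGroup G] (_hG : IsCIT G) {M₁ M₂ V₁ V₂ T : Subgroup G}
    (h : Amal M₁ M₂ V₁ V₂ T 4) (_hT : IsSyl2 (⊤ : Subgroup G) T) (h21 : M₁.index = 21) :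
    ∃ (F : Type) (_ : Field F) (_ : Fintype F), Fintype.card F = 4 ∧
        Nonempty (G ≃* Matrix.ProjectiveSpecialLinearGroup (Fin 3) F) :=
  ⟨PlaneFour.F4, inferInstance, inferInstance, PlaneFour.F4.card,
    PlaneFour.psl34 (AmalBasic.planeData h h21) h.elem₂⟩

end Cfsg.Agent.LieExceptional.PSLThreeFour
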