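import Mathlib

/-!
# Module lemmas for CIT groups

`X` acts on the elementary abelian 2-group `V` (written multiplicatively) and elements of odd order act
fixed-point-freely.
* `card_fix_sq`: an involution inverting an element of odd order has `|C_V(a)|² = |V|`, `C_V(a) = [V,a]`.
* `fix_le_of_four_group`: if an element of order 3 permutes the involutions of a four-group `E` then
  `C_V(a) = C_V(E)`.
* `smul_eq_of_dihedral`: no dihedral group of order 8 both of whose four-groups are so fused acts faithfully.
-/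

set_option autoImplicit false

namespace Cfsg.Agent.LieExceptional.CITModule

variable {X V : Type*} [Group X] [CommGroup V] [MulDistribMulAction X V]

/-- the fixed points of `a` -/
def fix (V : Type*) [CommGroup V] [MulDistribMulAction X V] (a : X) : Subgroup V where
  carrier := {v | a • v = v}
  mul_mem' := by
    intro v w hv hw
    show a • (v * w) = v * w
    rw [smul_mul', show a • v = v from hv, show a • w = w from hw]
  one_mem' := smul_one a
  inv_mem' := by
    intro v hv
    show a • v⁻¹ = v⁻¹
    rw [smul_inv', show a • v = v from hv]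

theorem mem_fix (a : X) (v : V) : v ∈ fix V a ↔ a • v = v := Iff.rfl

/-- the commutator map `v ↦ [v,a]` (for an involution `a` and elementary abelian `V`) -/
def tr (V : Type*) [CommGroup V] [MulDistribMulAction X V] (a : X) : V →* V where
  toFun v := v * a • v
  map_one' := by rw [smul_one, mul_one]
  map_mul' v w := by rw [smul_mul']; exact mul_mul_mul_comm v w (a • v) (a • w)

theorem tr_apply (a : X) (v : V) : tr V a v = v * a • v := rfl

theorem inv_eq_self (hV : ∀ v : V, v * v = 1) (v : V) : v⁻¹ = v := inv_eq_of_mul_eq_one_left (hV v)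

theorem eq_of_mul_eq_one (hV : ∀ v : V, v * v = 1) {v w : V} (h : v * w = 1) : v = w := by
  rw [← inv_eq_self hV w]
  exact eq_inv_of_mul_eq_one_left h

theorem ker_tr (hV : ∀ v : V, v * v = 1) (a : X) : (tr V a).ker = fix V a := by
  ext v
  rw [MonoidHom.mem_ker, tr_apply, mem_fix]
  constructor
  · intro h
    exact (eq_of_mul_eq_one hV h).symm
  · intro h
    rw [h, hV]

theorem range_tr_le (_hV : ∀ v : V, v * v = 1) {a : X} (ha : a * a = 1) :
    (tr V a).range ≤ fix V a := by
  rintro _ ⟨v, rfl⟩
  rw [tr_apply, mem_fix, smul_mul', smul_smul, ha, one_smul, mul_comm]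

/-- `|V| ≤ |C_V(a)|²` for an involution `a` -/
theorem card_le_fix_sq [Finite V] (hV : ∀ v : V, v * v = 1) {a : X} (ha : a * a = 1) :
    Nat.card V ≤ Nat.card (fix V a) ^ 2 := by
  have h1 : Nat.card V = Nat.card (tr V a).ker * Nat.card (tr V a).range := by
    rw [← Subgroup.card_mul_index (tr V a).ker, Subgroup.index_ker]
  rw [h1, ker_tr hV, sq]
  apply Nat.mul_le_mul_left
  exact Nat.card_le_card_of_injective _ (Subgroup.inclusion_injective (range_tr_le hV ha))

theorem card_fix_conj (a g : X) : Nat.card (fix V (g * a * g⁻¹)) = Nat.card (fix V a) := by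
  apply Nat.card_congr
  refine ⟨fun v => ⟨g⁻¹ • (v : V), ?_⟩, fun v => ⟨g • (v : V), ?_⟩, ?_, ?_⟩
  · have h : (g * a * g⁻¹) • (v : V) = v := v.2
    rw [mem_fix]
    calc a • g⁻¹ • (v : V) = g⁻¹ • ((g * a * g⁻¹) • (v : V)) := by
          rw [smul_smul, smul_smul]
          congr 1
          group
      _ = g⁻¹ • (v : V) := by rw [h]
  · have h : a • (v : V) = v := v.2
    rw [mem_fix]
    calc (g * a * g⁻¹) • g • (v : V) = g • (a • (v : V)) := by
          rw [smul_smul, smul_smul]
          congr 1
          group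
      _ = g • (v : V) := by rw [h]
  · intro v
    apply Subtype.ext
    show g • g⁻¹ • (v : V) = v
    rw [smul_inv_smul]
  · intro v
    apply Subtype.ext
    show g⁻¹ • g • (v : V) = v
    rw [inv_smul_smul]

/-- (B1) an involution `a` inverting an element `k ≠ 1` of odd order acting fixed-point-freely satisfies
`|C_V(a)|² = |V|` -/
theorem card_fix_sq [Finite V] (hV : ∀ v : V, v * v = 1) {a k : X} (ha : a * a = 1)
    (hk : a * k * a⁻¹ = k⁻¹) (hodd : Odd (orderOf k)) (hfree : ∀ v : V, k • v = v → v = 1) :
    Nat.card (fix V a) ^ 2 = Nat.card V := by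
  apply le_antisymm _ (card_le_fix_sq hV ha)
  -- `k = l²`
  obtain ⟨m, hm⟩ := hodd
  set l := k ^ (m + 1) with hl
  have hll : l * l = k := by
    rw [hl, ← pow_add]
    have : m + 1 + (m + 1) = orderOf k + 1 := by omega
    rw [this, pow_succ, pow_orderOf_eq_one, one_mul]
  have hal : a * l * a⁻¹ = l⁻¹ := by
    rw [hl, ← conj_pow, hk, inv_pow]
  have hconj : l⁻¹ * a * l⁻¹⁻¹ = a * k := by
    rw [inv_inv, ← hal, ← hll]
    group
  have h1 : Nat.card (fix V (a * k)) = Nat.card (fix V a) := by
    rw [← hconj, card_fix_conj]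
  have h2 : Nat.card (fix V a × fix V (a * k)) ≤ Nat.card V := by
    apply Nat.card_le_card_of_injective (fun t : fix V a × fix V (a * k) => (t.1 : V) * (t.2 : V))
    rintro ⟨v, w⟩ ⟨v', w'⟩ h
    have h' : (v : V) * w = v' * w' := h
    have h3 : (v : V) * (v' : V)⁻¹ = (w' : V) * (w : V)⁻¹ := by
      rw [mul_inv_eq_iff_eq_mul, mul_right_comm, eq_mul_inv_iff_mul_eq, h', mul_comm]
    have h4 : (v : V) * (v' : V)⁻¹ ∈ fix V a := mul_mem v.2 (inv_mem v'.2)
    have h5 : (v : V) * (v' : V)⁻¹ ∈ fix V (a * k) := by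
      rw [h3]
      exact mul_mem w'.2 (inv_mem w.2)
    have h6 : k • ((v : V) * (v' : V)⁻¹) = (v : V) * (v' : V)⁻¹ := by
      have h7 : a • (k • ((v : V) * (v' : V)⁻¹)) = (v : V) * (v' : V)⁻¹ := by
        rw [smul_smul]; exact h5
      have h8 : a • ((v : V) * (v' : V)⁻¹) = (v : V) * (v' : V)⁻¹ := h4
      exact smul_left_cancel a (h7.trans h8.symm)
    have h7 := hfree _ h6
    have h8 : (v : V) = v' := mul_inv_eq_one.1 h7
    have h9 : (w' : V) = w := by rw [h7] at h3; exact (mul_inv_eq_one.1 h3.symm)
    exact Prod.ext (Subtype.ext h8) (Subtype.ext h9.symm)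
  rw [Nat.card_prod, h1] at h2
  rw [sq]
  exact h2

/-- (B1') and then `C_V(a) = [V,a]` -/
theorem range_tr_eq [Finite V] (hV : ∀ v : V, v * v = 1) {a k : X} (ha : a * a = 1)
    (hk : a * k * a⁻¹ = k⁻¹) (hodd : Odd (orderOf k)) (hfree : ∀ v : V, k • v = v → v = 1) :
    (tr V a).range = fix V a := by
  have h1 : Nat.card V = Nat.card (tr V a).ker * Nat.card (tr V a).range := by
    rw [← Subgroup.card_mul_index (tr V a).ker, Subgroup.index_ker]
  rw [ker_tr hV, ← card_fix_sq hV ha hk hodd hfree, sq] at h1
  have h2 : Nat.card (tr V a).range = Nat.card (fix V a) :=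
    (Nat.eq_of_mul_eq_mul_left Nat.card_pos h1).symm
  exact Subgroup.eq_of_le_of_card_ge (range_tr_le hV ha) h2.ge

/-- (B2) if `ρ` (of order 3, fixed-point-free on `V`) permutes `a → b → ab → a` then everything fixed by `a` is
fixed by `b` -/
theorem smul_eq_of_four_group (hV : ∀ v : V, v * v = 1) {a b r : X} (ha : a * a = 1)
    (hr : r * (r * r) = 1) (hab : r * a * r⁻¹ = b) (hba : r * b * r⁻¹ = a * b)
    (hfree : ∀ v : V, r • v = v → v = 1) {v : V} (hv : a • v = v) : b • v = v := by
  -- `ρ v` is fixed by `b`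
  have h1 : b • r • v = r • v := by
    rw [← hab, smul_smul, show r * a * r⁻¹ * r = r * a by group, mul_smul, hv]
  -- `ρ² v` is fixed by `ab`
  have h2 : (a * b) • r • r • v = r • r • v := by
    rw [← hba, smul_smul, show r * b * r⁻¹ * r = r * b by group, mul_smul, h1]
  have h3 : v * (r • v * r • r • v) = 1 := by
    apply hfree
    rw [smul_mul', smul_mul']
    have : r • r • r • v = v := by rw [smul_smul, smul_smul, mul_assoc, hr, one_smul]
    rw [this, ← mul_assoc, mul_comm]
  have h4 : v = r • v * r • r • v := eq_of_mul_eq_one hV h3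
  have h5 : b • r • r • v = a • r • r • v := by
    have h6 : a • b • r • r • v = r • r • v := by rw [smul_smul]; exact h2
    have h7 : a • a • b • r • r • v = a • r • r • v := by rw [h6]
    rwa [smul_smul a a, ha, one_smul] at h7
  have h6 : a • r • r • v = v * a • r • v := by
    have h7 : a • (r • v * r • r • v) = v := by rw [← h4, hv]
    rw [smul_mul'] at h7
    rw [eq_inv_mul_of_mul_eq h7, inv_eq_self hV, mul_comm]
  -- `w = v · b v`
  have h7 : v * b • v = r • v * a • r • v := by
    have h8 : b • v = r • v * (v * a • r • v) := by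
      conv_lhs => rw [h4]
      rw [smul_mul', h1, h5, h6]
    rw [h8, mul_left_comm, ← mul_assoc v v, hV, one_mul]
  have h8 : r • (v * b • v) = v * b • v := by
    rw [smul_mul']
    have h9 : r • b • v = a • r • v := by
      have : r • b • v = (r * b * r⁻¹) • r • v := by
        rw [smul_smul, smul_smul]
        congr 1
        group
      rw [this, hba, mul_smul, h1]
    rw [h9, h7]
  have h9 := hfree _ h8
  exact (eq_of_mul_eq_one hV h9).symm

/-- (B2) all three involutions of a fused four-group have the same fixed points -/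
theorem fix_eq_of_four_group (hV : ∀ v : V, v * v = 1) {a b r : X} (ha : a * a = 1) (hb : b * b = 1)
    (hcomm : a * b = b * a) (hr : r * (r * r) = 1) (hab : r * a * r⁻¹ = b) (hba : r * b * r⁻¹ = a * b)
    (hfree : ∀ v : V, r • v = v → v = 1) : fix V a = fix V b := by
  have hc : r * (a * b) * r⁻¹ = a := by
    have : r * (a * b) * r⁻¹ = (r * a * r⁻¹) * (r * b * r⁻¹) := by group
    rw [this, hab, hba, hcomm, ← mul_assoc, hb, one_mul]
  apply le_antisymm
  · intro v hv
    exact smul_eq_of_four_group hV ha hr hab hba hfree hv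
  · intro v hv
    have hab2 : (a * b) • v = v :=
      smul_eq_of_four_group hV hb hr hba (by rw [hc, ← mul_assoc, ← hcomm, mul_assoc, hb, mul_one])
        hfree hv
    have hv' : b • v = v := hv
    rw [mul_smul, hv'] at hab2
    exact hab2

/-- (B3) `D = ⟨a,b⟩` dihedral of order 8 with centre `z`; if the four-groups `⟨a,z⟩`, `⟨b,z⟩` are both fused by
elements of order 3 acting fixed-point-freely on `V`, then `z` acts trivially on `V` -/
theorem smul_eq_of_dihedral (hV : ∀ v : V, v * v = 1) {a b z r s : X} (ha : a * a = 1) (hb : b * b = 1)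
    (hz : z * z = 1) (haz : a * z = z * a) (hbz : b * z = z * b) (hab : a * b = b * a * z)
    (hr : r * (r * r) = 1) (hr1 : r * a * r⁻¹ = z) (hr2 : r * z * r⁻¹ = a * z)
    (hrfree : ∀ v : V, r • v = v → v = 1)
    (hs : s * (s * s) = 1) (hs1 : s * b * s⁻¹ = z) (hs2 : s * z * s⁻¹ = b * z)
    (hsfree : ∀ v : V, s • v = v → v = 1) (v : V) : z • v = v := by
  have h1 : fix V a = fix V z := fix_eq_of_four_group hV ha hz haz hr hr1 hr2 hrfree
  have h2 : fix V b = fix V z := fix_eq_of_four_group hV hb hz hbz hs hs1 hs2 hsfree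
  have h12 : fix V a = fix V b := h1.trans h2.symm
  -- commutators with `a` and `b`
  have hva : v * a • v ∈ fix V a := range_tr_le hV ha ⟨v, rfl⟩
  have hvb : v * b • v ∈ fix V b := range_tr_le hV hb ⟨v, rfl⟩
  have hvab : b • (v * a • v) = v * a • v := by rw [h12] at hva; exact hva
  have hvba : a • (v * b • v) = v * b • v := by rw [← h12] at hvb; exact hvb
  rw [smul_mul'] at hvab hvba
  -- `b a v = a b v`
  have h3 : b • a • v = a • b • v := by
    have e1 : b • a • v = (b • v)⁻¹ * (v * a • v) := by rw [← hvab, inv_mul_cancel_left]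
    have e2 : a • b • v = (a • v)⁻¹ * (v * b • v) := by rw [← hvba, inv_mul_cancel_left]
    rw [e1, e2, inv_eq_self hV, inv_eq_self hV, mul_left_comm, mul_left_comm (a • v),
      mul_comm (b • v)]
  have h4 : (a * b) • v = (b * a) • v := by rw [mul_smul, mul_smul, h3]
  rw [hab, mul_smul] at h4
  exact smul_left_cancel (b * a) h4

end Cfsg.Agent.LieExceptional.CITModule
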