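import Mathlib
import Cfsg.Agent.LieExceptional.CITModule
import Cfsg.Agent.Involutions.BaerSuzuki
import Cfsg.Agent.S0208
import Cfsg.Agent.S0209

/-!
# The FF lemma for CIT groups (part B of the CIT blueprint)

`M` a finite CIT group with `O₂(M) = 1`, acting on an elementary abelian 2-group `V ≠ 1` such that all
stabilisers of non-trivial vectors are 2-groups; `A ≤ M` elementary abelian, `A ≠ 1`,
`|V| ≤ |A| |C_V(A)|`.  Then with `q = |A|`: `|V| = q²`, `|M| = (q+1) q (q-1)`, `A` is a Sylow 2-subgroup, ...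
-/

set_option autoImplicit false
set_option linter.unusedSectionVars false
set_option linter.style.haveILetI false

namespace Cfsg.Agent.LieExceptional.CITFF

open CITModule (fix mem_fix tr tr_apply)

section defs

variable {M : Type*} (V : Type*) [Group M] [CommGroup V] [MulDistribMulAction M V]

/-- fixed points of a subgroup -/
def fixS (S : Subgroup M) : Subgroup V where
  carrier := {v | ∀ a ∈ S, a • v = v}
  one_mem' := fun a _ => smul_one a
  mul_mem' := by
    intro v w hv hw a ha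
    rw [smul_mul', hv a ha, hw a ha]
  inv_mem' := by
    intro v hv a ha
    rw [smul_inv', hv a ha]

/-- the hypotheses of the FF lemma -/
structure Hyp (A : Subgroup M) : Prop where
  sq : ∀ v : V, v * v = 1
  ne : ∃ v : V, v ≠ 1
  cit : ∀ t : M, orderOf t = 2 → IsPGroup 2 (Subgroup.centralizer ({t} : Set M))
  o2 : ∀ N : Subgroup M, N.Normal → IsPGroup 2 N → N = ⊥
  stab : ∀ v : V, v ≠ 1 → IsPGroup 2 (MulAction.stabilizer M v)
  elem : ∀ x ∈ A, x * x = 1
  A_ne : A ≠ ⊥
  ff : Nat.card V ≤ Nat.card A * Nat.card (fixS V A)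

end defs

section general

variable {M : Type*} [Group M]

theorem eq_one_of_odd_of_isPGroup {P : Subgroup M} (hP : IsPGroup 2 P) {x : M} (hx : x ∈ P)
    (hodd : Odd (orderOf x)) : x = 1 := by
  obtain ⟨k, hk⟩ := hP ⟨x, hx⟩
  have h1 : x ^ 2 ^ k = 1 := by
    have := congrArg Subtype.val hk
    simpa using this
  have h2 : orderOf x ∣ 2 ^ k := orderOf_dvd_of_pow_eq_one h1
  have h3 : Nat.Coprime (orderOf x) (2 ^ k) := Nat.Coprime.pow_right k hodd.coprime_two_right
  have h4 : orderOf x = 1 := Nat.Coprime.eq_one_of_dvd h3 h2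
  exact orderOf_eq_one_iff.1 h4

theorem orderOf_eq_two {t : M} (ht : t * t = 1) (h1 : t ≠ 1) : orderOf t = 2 :=
  orderOf_eq_prime (by rw [pow_two, ht]) h1

/-- a finite subgroup without non-trivial elements of odd order is a 2-group -/
theorem isPGroup_of_odd [Finite M] (P : Subgroup M) (h : ∀ x ∈ P, Odd (orderOf x) → x = 1) :
    IsPGroup 2 P := by
  intro ⟨x, hx⟩
  obtain ⟨k, m, hm, hkm⟩ := Nat.exists_eq_two_pow_mul_odd (n := orderOf x) (orderOf_pos x).ne'
  refine ⟨k, ?_⟩
  have h1 : orderOf (x ^ 2 ^ k) = m := by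
    rw [orderOf_pow, hkm, Nat.gcd_eq_right (Dvd.intro _ rfl), Nat.mul_div_cancel_left _ (by positivity)]
  have h2 : x ^ 2 ^ k = 1 := h _ (P.pow_mem hx _) (by rw [h1]; exact hm)
  apply Subtype.ext
  simpa using h2

theorem exists_odd_of_not_isPGroup [Finite M] (P : Subgroup M) (h : ¬ IsPGroup 2 P) :
    ∃ x ∈ P, x ≠ 1 ∧ Odd (orderOf x) := by
  by_contra hcon
  push Not at hcon
  apply h
  apply isPGroup_of_odd
  intro x hx hodd
  by_contra h1
  exact hcon x hx h1 hodd

theorem exists_central_involution [Finite M] {P : Subgroup M} (hP : IsPGroup 2 P) (hne : P ≠ ⊥) :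
    ∃ z ∈ P, z ≠ 1 ∧ z * z = 1 ∧ ∀ x ∈ P, z * x = x * z := by
  haveI : Nontrivial P := (Subgroup.nontrivial_iff_ne_bot P).2 hne
  haveI : Fact (Nat.Prime 2) := ⟨Nat.prime_two⟩
  haveI := hP.center_nontrivial
  obtain ⟨⟨⟨c, hcP⟩, hcc⟩, hc1⟩ := exists_ne (1 : Subgroup.center P)
  have hc1' : c ≠ 1 := by
    intro h
    apply hc1
    apply Subtype.ext
    apply Subtype.ext
    exact h
  obtain ⟨k, hk⟩ := hP ⟨c, hcP⟩
  have h1 : c ^ 2 ^ k = 1 := by
    have := congrArg Subtype.val hk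
    simpa using this
  -- least k
  obtain ⟨j, hj, hjmin⟩ : ∃ j, c ^ 2 ^ j = 1 ∧ ∀ i < j, c ^ 2 ^ i ≠ 1 := by
    classical
    have hex : ∃ j, c ^ 2 ^ j = 1 := ⟨k, h1⟩
    exact ⟨Nat.find hex, Nat.find_spec hex, fun i hi => Nat.find_min hex hi⟩
  have hj0 : j ≠ 0 := by
    rintro rfl
    apply hc1'
    simpa using hj
  obtain ⟨i, rfl⟩ := Nat.exists_eq_succ_of_ne_zero hj0
  refine ⟨c ^ 2 ^ i, P.pow_mem hcP _, hjmin i (Nat.lt_succ_self i), ?_, ?_⟩
  · rw [← pow_add, ← two_mul, ← pow_succ']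
    exact hj
  · intro x hx
    have h2 := Subgroup.mem_center_iff.1 hcc ⟨x, hx⟩
    have h3 : x * c = c * x := congrArg Subtype.val h2
    exact ((show Commute c x from h3.symm).pow_left _).eq

/-- if all fibres of a surjection have `k` elements -/
theorem card_eq_mul_of_fiber {X Y : Type*} [Finite X] [Finite Y] (f : X → Y) (k : ℕ)
    (hf : ∀ y, Nat.card {x // f x = y} = k) : Nat.card X = Nat.card Y * k := by
  classical
  haveI := Fintype.ofFinite Y
  rw [← Nat.card_congr (Equiv.sigmaFiberEquiv f), Nat.card_sigma, Finset.sum_congr rfl (fun y _ => hf y),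
    Finset.sum_const, smul_eq_mul, Finset.card_univ, Nat.card_eq_fintype_card]

end general

namespace Hyp

variable {M V : Type*} [Group M] [Finite M] [CommGroup V] [Finite V] [MulDistribMulAction M V]
variable {A : Subgroup M}

theorem odd_free (h : Hyp V A) {k : M} (hk : k ≠ 1) (hodd : Odd (orderOf k)) :
    ∀ v : V, k • v = v → v = 1 := by
  intro v hv
  by_contra hv1
  exact hk (eq_one_of_odd_of_isPGroup (h.stab v hv1) (MulAction.mem_stabilizer_iff.2 hv) hodd)

theorem inj (h : Hyp V A) {m : M} (hm : ∀ v : V, m • v = v) : m = 1 := by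
  have h1 : (MulAction.toPermHom M V).ker = ⊥ := by
    apply h.o2 _ inferInstance
    obtain ⟨v, hv⟩ := h.ne
    apply (h.stab v hv).to_le
    intro x hx
    rw [MulAction.mem_stabilizer_iff]
    have := congrArg (fun f : Equiv.Perm V => f v) (MonoidHom.mem_ker.1 hx)
    exact this
  have h2 : m ∈ (MulAction.toPermHom M V).ker := by
    rw [MonoidHom.mem_ker]
    ext v
    exact hm v
  rw [h1] at h2
  exact Subgroup.mem_bot.1 h2

theorem exists_inverted (h : Hyp V A) {t : M} (ht : t * t = 1) (h1 : t ≠ 1) :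
    ∃ k : M, k ≠ 1 ∧ Odd (orderOf k) ∧ t * k * t⁻¹ = k⁻¹ := by
  apply Involutions.BaerSuzuki.exists_odd_inverted t ht
  intro hP
  have h2 := h.o2 _ inferInstance hP
  apply h1
  have h3 : t ∈ Subgroup.normalClosure ({t} : Set M) :=
    Subgroup.subset_normalClosure (Set.mem_singleton t)
  rw [h2] at h3
  exact Subgroup.mem_bot.1 h3

theorem card_fix_sq (h : Hyp V A) {t : M} (ht : t * t = 1) (h1 : t ≠ 1) :
    Nat.card (fix V t) ^ 2 = Nat.card V := by
  obtain ⟨k, hk1, hodd, hk⟩ := h.exists_inverted ht h1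
  exact CITModule.card_fix_sq h.sq ht hk hodd (h.odd_free hk1 hodd)

theorem range_tr (h : Hyp V A) {t : M} (ht : t * t = 1) (h1 : t ≠ 1) :
    (tr V t).range = fix V t := by
  obtain ⟨k, hk1, hodd, hk⟩ := h.exists_inverted ht h1
  exact CITModule.range_tr_eq h.sq ht hk hodd (h.odd_free hk1 hodd)

theorem mul_smul_mem (h : Hyp V A) {t : M} (ht : t * t = 1) (h1 : t ≠ 1) (v : V) :
    v * t • v ∈ fix V t := by
  rw [← h.range_tr ht h1]
  exact ⟨v, rfl⟩

theorem isPGroup_V (h : Hyp V A) : IsPGroup 2 V := fun v => ⟨1, by rw [pow_one, pow_two, h.sq]⟩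

theorem one_lt_card_V (h : Hyp V A) : 1 < Nat.card V := by
  obtain ⟨v, hv⟩ := h.ne
  haveI : Nontrivial V := ⟨v, 1, hv⟩
  exact Finite.one_lt_card

theorem isPGroup_elem {E : Subgroup M} (hE : ∀ x ∈ E, x * x = 1) : IsPGroup 2 E :=
  fun x => ⟨1, by
    rw [pow_one, pow_two]
    exact Subtype.ext (hE x x.2)⟩

/-- Burnside count -/
theorem card_dvd (h : Hyp V A) {E : Subgroup M} (hE : ∀ x ∈ E, x * x = 1) {v : ℕ}
    (hv : v ^ 2 = Nat.card V) : Nat.card E ∣ v := by
  classical
  haveI := Fintype.ofFinite E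
  have h1 : Nat.card (Σ a : E, MulAction.fixedBy V a) =
      Nat.card (Quotient (MulAction.orbitRel E V)) * Nat.card E := by
    rw [Nat.card_congr (MulAction.sigmaFixedByEquivOrbitsProdGroup E V), Nat.card_prod]
  have h2 : ∀ a : E, a ≠ 1 → Nat.card (MulAction.fixedBy V a) = v := by
    intro a ha
    have h3 : Nat.card (fix V (a : M)) ^ 2 = v ^ 2 := by
      rw [hv]
      apply h.card_fix_sq (hE a a.2)
      intro h4
      exact ha (Subtype.ext h4)
    have h4 : Nat.card (fix V (a : M)) = v := Nat.pow_left_injective (by norm_num) h3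
    rw [← h4]
    rfl
  have h3 : Nat.card (MulAction.fixedBy V (1 : E)) = v ^ 2 := by
    rw [hv]
    rw [MulAction.fixedBy_one_eq_univ]
    exact Nat.card_congr (Equiv.Set.univ V)
  rw [Nat.card_sigma, ← Finset.add_sum_erase Finset.univ _ (Finset.mem_univ (1 : E)), h3,
    Finset.sum_congr rfl (fun a ha => h2 a (Finset.ne_of_mem_erase ha)), Finset.sum_const,
    Finset.card_erase_of_mem (Finset.mem_univ _), Finset.card_univ, ← Nat.card_eq_fintype_card,
    smul_eq_mul] at h1
  -- v² + (|E| - 1) v = o |E|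
  haveI : Fact (Nat.Prime 2) := ⟨Nat.prime_two⟩
  obtain ⟨k, hk⟩ := (IsPGroup.iff_card.1 (isPGroup_elem hE))
  obtain ⟨n, hn⟩ := (IsPGroup.iff_card.1 h.isPGroup_V)
  have hv1 : 1 < v := by
    by_contra hcon
    have h4 := h.one_lt_card_V
    rw [← hv] at h4
    have : v ^ 2 ≤ 1 := Nat.pow_le_one_iff (by norm_num) |>.2 (by omega)
    omega
  have hEpos : 0 < Nat.card E := Nat.card_pos
  have h5 : Nat.card E ∣ v * (v - 1) := by
    have h6 : v * (v - 1) + v * Nat.card E =
        Nat.card (Quotient (MulAction.orbitRel E V)) * Nat.card E := by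
      rw [← h1]
      obtain ⟨w, rfl⟩ : ∃ w, v = w + 1 := ⟨v - 1, by omega⟩
      obtain ⟨c, hc⟩ : ∃ c, Nat.card E = c + 1 := ⟨Nat.card E - 1, by omega⟩
      rw [hc]
      simp only [Nat.add_sub_cancel]
      ring
    have h7 : Nat.card E ∣ v * (v - 1) + v * Nat.card E := by
      rw [h6]; exact Dvd.intro_left _ rfl
    exact (Nat.dvd_add_left (Dvd.intro_left _ rfl)).1 h7
  have h6 : Nat.Coprime (Nat.card E) (v - 1) := by
    rw [hk]
    apply Nat.Coprime.pow_left
    rw [Nat.coprime_two_left]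
    have h8 : v ∣ 2 ^ n := by
      rw [← hn, ← hv]; exact Dvd.intro_left _ (by ring)
    obtain ⟨j, _, hj⟩ := (Nat.dvd_prime_pow Nat.prime_two).1 h8
    have hj0 : j ≠ 0 := by
      rintro rfl
      simp at hj
      omega
    have h9 : Even v := by
      rw [hj]; exact (Nat.even_pow.2 ⟨even_two, hj0⟩)
    obtain ⟨w, hw⟩ := h9
    refine ⟨w - 1, by omega⟩
  exact h6.dvd_of_dvd_mul_right h5

theorem exists_ne_one (h : Hyp V A) : ∃ e ∈ A, e ≠ 1 := by
  by_contra hcon
  push Not at hcon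
  exact h.A_ne ((Subgroup.eq_bot_iff_forall A).2 hcon)

theorem fixS_le (_h : Hyp V A) {e : M} (he : e ∈ A) : fixS V A ≤ fix V e := fun _ hv => hv e he

theorem card_all (h : Hyp V A) :
    Nat.card V = Nat.card A ^ 2 ∧ Nat.card (fixS V A) = Nat.card A ∧ 1 < Nat.card A := by
  obtain ⟨e, he, he1⟩ := h.exists_ne_one
  set v := Nat.card (fix V e) with hv
  have hv2 : v ^ 2 = Nat.card V := h.card_fix_sq (h.elem e he) he1
  have ha : Nat.card A ∣ v := h.card_dvd h.elem hv2
  have hvpos : 0 < v := Nat.card_pos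
  have ha' : Nat.card A ≤ v := Nat.le_of_dvd hvpos ha
  have hc : Nat.card (fixS V A) ≤ v :=
    Nat.card_le_card_of_injective _ (Subgroup.inclusion_injective (h.fixS_le he))
  have hff := h.ff
  rw [← hv2] at hff
  have ha2 : Nat.card A = v := by
    by_contra hne
    have hlt : Nat.card A < v := lt_of_le_of_ne ha' hne
    have : Nat.card A * Nat.card (fixS V A) < v ^ 2 := by
      rw [pow_two]
      exact lt_of_le_of_lt (Nat.mul_le_mul_left _ hc) (Nat.mul_lt_mul_of_pos_right hlt hvpos)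
    omega
  have hc2 : Nat.card (fixS V A) = v := by
    by_contra hne
    have hlt : Nat.card (fixS V A) < v := lt_of_le_of_ne hc hne
    have : Nat.card A * Nat.card (fixS V A) < v ^ 2 := by
      rw [pow_two, ha2]
      exact Nat.mul_lt_mul_of_pos_left hlt hvpos
    omega
  refine ⟨by rw [ha2, hv2], by rw [ha2, hc2], ?_⟩
  haveI : Nontrivial A := (Subgroup.nontrivial_iff_ne_bot A).2 h.A_ne
  exact Finite.one_lt_card

theorem card_V (h : Hyp V A) : Nat.card V = Nat.card A ^ 2 := h.card_all.1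

theorem card_C (h : Hyp V A) : Nat.card (fixS V A) = Nat.card A := h.card_all.2.1

theorem one_lt_card (h : Hyp V A) : 1 < Nat.card A := h.card_all.2.2

theorem card_fix (h : Hyp V A) {t : M} (ht : t * t = 1) (h1 : t ≠ 1) :
    Nat.card (fix V t) = Nat.card A := by
  have h2 := h.card_fix_sq ht h1
  rw [h.card_V] at h2
  exact Nat.pow_left_injective (by norm_num) h2

theorem fix_eq (h : Hyp V A) {e : M} (he : e ∈ A) (he1 : e ≠ 1) : fix V e = fixS V A := by
  symm
  apply Subgroup.eq_of_le_of_card_ge (h.fixS_le he)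
  rw [h.card_C, h.card_fix (h.elem e he) he1]

theorem card_elem_le (h : Hyp V A) {E : Subgroup M} (hE : ∀ x ∈ E, x * x = 1) :
    Nat.card E ≤ Nat.card A :=
  Nat.le_of_dvd Nat.card_pos (h.card_dvd hE h.card_V.symm)

theorem comm_A (h : Hyp V A) {x y : M} (hx : x ∈ A) (hy : y ∈ A) : x * y = y * x := by
  have h1 : (x * y) * (x * y) = 1 := h.elem _ (A.mul_mem hx hy)
  have h2 : x * y = (x * y)⁻¹ := eq_inv_of_mul_eq_one_left h1
  rw [mul_inv_rev, inv_eq_of_mul_eq_one_left (h.elem x hx),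
    inv_eq_of_mul_eq_one_left (h.elem y hy)] at h2
  exact h2

theorem mem_of_comm (h : Hyp V A) {z : M} (hz : z * z = 1) (hc : ∀ a ∈ A, z * a = a * z) : z ∈ A := by
  have hz' : z⁻¹ = z := inv_eq_of_mul_eq_one_left hz
  have key : ∀ x, z * x ∈ A → x * z = z * x := by
    intro x hx
    have h1 := hc _ hx
    calc x * z = (z * z) * x * z := by rw [hz, one_mul]
      _ = z * ((z * x) * z) := by group
      _ = z * (z * (z * x)) := by rw [h1]
      _ = (z * z) * (z * x) := by group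
      _ = z * x := by rw [hz, one_mul]
  let E : Subgroup M :=
    { carrier := {x | x ∈ A ∨ z * x ∈ A}
      one_mem' := Or.inl A.one_mem
      mul_mem' := by
        rintro x y (hx | hx) (hy | hy)
        · exact Or.inl (A.mul_mem hx hy)
        · right
          rw [← mul_assoc, hc x hx, mul_assoc]
          exact A.mul_mem hx hy
        · right
          rw [← mul_assoc]
          exact A.mul_mem hx hy
        · left
          have h1 := key x hx
          have h2 : x * y = (z * x) * (z * y) := by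
            rw [← h1]
            calc x * y = x * (z * z) * y := by rw [hz, mul_one]
              _ = x * z * (z * y) := by group
          rw [h2]
          exact A.mul_mem hx hy
      inv_mem' := by
        rintro x (hx | hx)
        · exact Or.inl (A.inv_mem hx)
        · right
          have h1 := key x hx
          have h2 : z * x⁻¹ = (z * x)⁻¹ := by
            rw [← h1, mul_inv_rev, hz']
          rw [h2]
          exact A.inv_mem hx }
  have hE : ∀ x ∈ E, x * x = 1 := by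
    rintro x (hx | hx)
    · exact h.elem x hx
    · have h1 := key x hx
      have h2 := h.elem _ hx
      calc x * x = (x * z) * (z * x) := by
            rw [show (x * z) * (z * x) = x * (z * z) * x by group, hz, mul_one]
        _ = (z * x) * (z * x) := by rw [h1]
        _ = 1 := h2
  have hAE : A ≤ E := fun x hx => Or.inl hx
  have h1 : A = E := Subgroup.eq_of_le_of_card_ge hAE (h.card_elem_le hE)
  rw [h1]
  right
  rw [hz]
  exact A.one_mem

theorem exists_mem_C (h : Hyp V A) : ∃ v ∈ fixS V A, v ≠ 1 := by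
  have h1 : 1 < Nat.card (fixS V A) := by rw [h.card_C]; exact h.one_lt_card
  haveI : Nontrivial (fixS V A) := Finite.one_lt_card_iff_nontrivial.1 h1
  obtain ⟨⟨v, hv⟩, hv1⟩ := exists_ne (1 : fixS V A)
  exact ⟨v, hv, fun h2 => hv1 (Subtype.ext h2)⟩

/-- distinct conjugates of `C` meet trivially -/
theorem spread (h : Hyp V A) {g : M} {v : V} (hv : v ∈ fixS V A) (hv1 : v ≠ 1)
    (hgv : g • v ∈ fixS V A) : ∀ w ∈ fixS V A, g • w ∈ fixS V A := by
  have hgv1 : g • v ≠ 1 := by
    intro h1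
    apply hv1
    rw [← smul_one g] at h1
    exact smul_left_cancel g h1
  set P := MulAction.stabilizer M (g • v) with hPdef
  have hP : IsPGroup 2 P := h.stab _ hgv1
  have hAP : A ≤ P := fun a ha => MulAction.mem_stabilizer_iff.2 (hgv a ha)
  have hAP' : ∀ a ∈ A, g * a * g⁻¹ ∈ P := by
    intro a ha
    rw [hPdef, MulAction.mem_stabilizer_iff, mul_smul, mul_smul, inv_smul_smul, hv a ha]
  have hPne : P ≠ ⊥ := by
    obtain ⟨e, he, he1⟩ := h.exists_ne_one
    intro h1
    apply he1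
    have := hAP he
    rw [h1] at this
    exact Subgroup.mem_bot.1 this
  obtain ⟨z, _, hz1, hz2, hzc⟩ := exists_central_involution hP hPne
  have hzA : z ∈ A := h.mem_of_comm hz2 (fun a ha => hzc a (hAP ha))
  have hz2' : g⁻¹ * z * g * (g⁻¹ * z * g) = 1 := by
    calc g⁻¹ * z * g * (g⁻¹ * z * g) = g⁻¹ * (z * z) * g := by group
      _ = 1 := by rw [hz2]; group
  have hzA' : g⁻¹ * z * g ∈ A := by
    apply h.mem_of_comm hz2'
    intro a ha
    have h1 := hzc _ (hAP' a ha)
    calc g⁻¹ * z * g * a = g⁻¹ * (z * (g * a * g⁻¹)) * g := by group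
      _ = g⁻¹ * ((g * a * g⁻¹) * z) * g := by rw [h1]
      _ = a * (g⁻¹ * z * g) := by group
  intro w hw
  rw [← h.fix_eq hzA hz1]
  have h1 := hw _ hzA'
  rw [mul_smul, mul_smul] at h1
  rw [mem_fix]
  have h2 : g • g⁻¹ • z • g • w = g • w := by rw [h1]
  rwa [smul_inv_smul] at h2

/-- `C_M(C) = A` -/
theorem centralizer_C (h : Hyp V A) {x : M} (hx : ∀ w ∈ fixS V A, x • w = w) : x ∈ A := by
  let Q : Subgroup M :=
    { carrier := {x | ∀ w ∈ fixS V A, x • w = w}
      one_mem' := fun w _ => one_smul M w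
      mul_mem' := by
        intro a b ha hb w hw
        rw [mul_smul, hb w hw, ha w hw]
      inv_mem' := by
        intro a ha w hw
        rw [inv_smul_eq_iff, ha w hw] }
  obtain ⟨v, hv, hv1⟩ := h.exists_mem_C
  have hQ : IsPGroup 2 Q := by
    apply (h.stab v hv1).to_le
    intro a ha
    exact MulAction.mem_stabilizer_iff.2 (ha v hv)
  have hAQ : A ≤ Q := fun a ha w hw => hw a ha
  have hQne : Q ≠ ⊥ := by
    obtain ⟨e, he, he1⟩ := h.exists_ne_one
    intro h1
    apply he1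
    have := hAQ he
    rw [h1] at this
    exact Subgroup.mem_bot.1 this
  obtain ⟨z, hzQ, hz1, hz2, hzc⟩ := exists_central_involution hQ hQne
  have hzA : z ∈ A := h.mem_of_comm hz2 (fun a ha => hzc a (hAQ ha))
  have hQe : ∀ x ∈ Q, x * x = 1 := by
    intro x hxQ
    have hfz : ∀ w : V, w * z • w ∈ fixS V A := by
      intro w
      rw [← h.fix_eq hzA hz1]
      exact h.mul_smul_mem hz2 hz1 w
    -- `x w · w ∈ C`
    have h1 : ∀ w : V, x • w * w ∈ fixS V A := by
      intro w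
      have h2 : x • (w * z • w) = w * z • w := hxQ _ (hfz w)
      rw [smul_mul', smul_smul, ← hzc x hxQ, mul_smul] at h2
      rw [← h.fix_eq hzA hz1, mem_fix, smul_mul']
      have h3 : z • x • w = (x • w)⁻¹ * (w * z • w) := by rw [← h2, inv_mul_cancel_left]
      rw [h3, CITModule.inv_eq_self h.sq, mul_assoc, mul_assoc, h.sq, mul_one]
    apply h.inj
    intro w
    have h2 : x • (x • w * w) = x • w * w := hxQ _ (h1 w)
    rw [smul_mul', smul_smul] at h2
    have h3 : (x * x) • w * x • w = w * x • w := by rw [h2, mul_comm]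
    exact mul_right_cancel h3
  have h1 : A = Q := Subgroup.eq_of_le_of_card_ge hAQ (h.card_elem_le hQe)
  rw [h1]
  exact hx

/-- `A` is TI -/
theorem ti (h : Hyp V A) {g e : M} (he : e ∈ A) (he1 : e ≠ 1) (hge : g * e * g⁻¹ ∈ A) :
    ∀ w ∈ fixS V A, g • w ∈ fixS V A := by
  intro w hw
  have h1 : g * e * g⁻¹ ≠ 1 := by
    intro h2
    apply he1
    rwa [mul_inv_eq_one, mul_eq_left] at h2
  rw [← h.fix_eq hge h1, mem_fix, mul_smul, mul_smul, inv_smul_smul, hw e he]

/-- the stabiliser of `C` -/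
def N (_h : Hyp V A) : Subgroup M where
  carrier := {m | ∀ v ∈ fixS V A, m • v ∈ fixS V A}
  one_mem' := fun v hv => by rwa [one_smul]
  mul_mem' := by
    intro a b ha hb v hv
    rw [mul_smul]
    exact ha _ (hb v hv)
  inv_mem' := by
    intro a ha v hv
    by_cases hv1 : v = 1
    · rw [hv1, smul_one]; exact Subgroup.one_mem _
    · -- `a` maps `C` onto `C`
      have hinj : Function.Injective (fun w : fixS V A => (⟨a • (w : V), ha w w.2⟩ : fixS V A)) := by
        intro w w' h1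
        apply Subtype.ext
        exact smul_left_cancel a (congrArg Subtype.val h1)
      obtain ⟨w, hw⟩ := (Finite.injective_iff_surjective.1 hinj) ⟨v, hv⟩
      have h1 : a • (w : V) = v := congrArg Subtype.val hw
      rw [← h1, inv_smul_smul]
      exact w.2

theorem mem_N (h : Hyp V A) {m : M} : m ∈ h.N ↔ ∀ v ∈ fixS V A, m • v ∈ fixS V A := Iff.rfl

theorem normalizes (h : Hyp V A) {m : M} (hm : m ∈ h.N) {t : M} (ht : t ∈ A) :
    m * t * m⁻¹ ∈ A := by
  apply h.centralizer_C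
  intro w hw
  have h1 : m⁻¹ • w ∈ fixS V A := h.N.inv_mem hm w hw
  rw [mul_smul, mul_smul, h1 t ht, smul_inv_smul]

theorem A_le_N (h : Hyp V A) : A ≤ h.N := by
  intro a ha v hv
  rw [hv a ha]
  exact hv

theorem mem_N_of_mem (h : Hyp V A) {g e : M} (he : e ∈ A) (he1 : e ≠ 1) (hge : g * e * g⁻¹ ∈ A) :
    g ∈ h.N := h.ti he he1 hge

theorem mem_N_of_smul (h : Hyp V A) {g : M} {v : V} (hv : v ∈ fixS V A) (hv1 : v ≠ 1)
    (hgv : g • v ∈ fixS V A) : g ∈ h.N := h.spread hv hv1 hgv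

/-- `N ≠ M` -/
theorem N_ne_top (h : Hyp V A) : ∃ w : M, w ∉ h.N := by
  by_contra hcon
  push Not at hcon
  have hn : A.Normal := ⟨fun a ha g => h.normalizes (hcon g) ha⟩
  exact h.A_ne (h.o2 A hn (isPGroup_elem h.elem))

theorem card_ne_one {S : Type*} [Group S] [Finite S] : Nat.card {x : S // x ≠ 1} = Nat.card S - 1 := by
  classical
  haveI := Fintype.ofFinite S
  rw [Nat.card_eq_fintype_card, Nat.card_eq_fintype_card, Fintype.card_subtype_compl,
    Fintype.card_subtype_eq]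

/-- the map `(x, c) ↦ x.out • c` -/
noncomputable def spreadMap (h : Hyp V A) :
    (M ⧸ h.N) × {c : fixS V A // c ≠ 1} → {v : V // v ≠ 1} := fun p =>
  ⟨p.1.out • ((p.2 : fixS V A) : V), by
    intro h1
    apply p.2.2
    apply Subtype.ext
    exact smul_left_cancel _ (h1.trans (smul_one _).symm)⟩

theorem spreadMap_injective (h : Hyp V A) : Function.Injective h.spreadMap := by
  rintro ⟨x, c, hc⟩ ⟨y, d, hd⟩ h1
  have h2 : x.out • (c : V) = y.out • (d : V) := congrArg Subtype.val h1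
  have h3 : (y.out⁻¹ * x.out) • (c : V) = d := by
    rw [mul_smul, h2, inv_smul_smul]
  have hc1 : (c : V) ≠ 1 := fun h4 => hc (Subtype.ext h4)
  have h4 : y.out⁻¹ * x.out ∈ h.N := by
    apply h.mem_N_of_smul c.2 hc1
    rw [h3]
    exact d.2
  have h5 : y = x := by
    rw [← QuotientGroup.out_eq' x, ← QuotientGroup.out_eq' y]
    exact QuotientGroup.eq.2 h4
  subst h5
  have h6 : (c : V) = d := smul_left_cancel _ h2
  have h7 : c = d := Subtype.ext h6
  subst h7
  rfl

theorem index_mul_le (h : Hyp V A) : h.N.index * (Nat.card A - 1) ≤ Nat.card A ^ 2 - 1 := by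
  have h1 := Nat.card_le_card_of_injective _ h.spreadMap_injective
  rw [Nat.card_prod, card_ne_one, card_ne_one, h.card_C, h.card_V] at h1
  exact h1

theorem index_le (h : Hyp V A) : h.N.index ≤ Nat.card A + 1 := by
  have h1 := h.index_mul_le
  have h2 := h.one_lt_card
  obtain ⟨c, hc⟩ : ∃ c, Nat.card A = c + 2 := ⟨Nat.card A - 2, by omega⟩
  rw [hc] at h1 ⊢
  have h3 : (c + 2) ^ 2 - 1 = (c + 2 + 1) * (c + 2 - 1) := by
    have : (c + 2) ^ 2 = (c + 2 + 1) * (c + 1) + 1 := by ring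
    rw [this]
    rfl
  rw [h3] at h1
  exact Nat.le_of_mul_le_mul_right h1 (by omega)

/-- an element of `A#` fixes no coset but `N` -/
theorem mem_N_of_fix (h : Hyp V A) {a m : M} (ha : a ∈ A) (ha1 : a ≠ 1) (hm : m⁻¹ * a * m ∈ h.N) :
    m ∈ h.N := by
  obtain ⟨v, hv, hv1⟩ := h.exists_mem_C
  set b := m⁻¹ * a * m with hb
  have hbb : b * b = 1 := by
    rw [hb]
    calc m⁻¹ * a * m * (m⁻¹ * a * m) = m⁻¹ * (a * a) * m := by group
      _ = 1 := by rw [h.elem a ha]; group
  -- a fixed vector of `b` in `C`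
  obtain ⟨w, hw, hw1, hbw⟩ : ∃ w ∈ fixS V A, w ≠ 1 ∧ b • w = w := by
    by_cases hbv : b • v = v
    · exact ⟨v, hv, hv1, hbv⟩
    · refine ⟨v * b • v, Subgroup.mul_mem _ hv (hm v hv), ?_, ?_⟩
      · intro h1
        exact hbv (CITModule.eq_of_mul_eq_one h.sq h1).symm
      · rw [smul_mul', smul_smul, hbb, one_smul, mul_comm]
  have h1 : a • m • w = m • w := by
    have h2 : m • b • w = m • w := by rw [hbw]
    rw [smul_smul, hb] at h2
    rw [smul_smul, ← h2]
    congr 1
    group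
  apply h.mem_N_of_smul hw hw1
  rw [← h.fix_eq ha ha1]
  exact h1

theorem smul_ne (h : Hyp V A) {a : M} (ha : a ∈ A) (ha1 : a ≠ 1) {x : M ⧸ h.N}
    (hx : x ≠ ((1 : M) : M ⧸ h.N)) : a • x ≠ x := by
  induction x using QuotientGroup.induction_on with
  | H m =>
    intro h1
    apply hx
    have h2 : ((a * m : M) : M ⧸ h.N) = (m : M ⧸ h.N) := h1
    have h3 := QuotientGroup.eq.1 h2.symm
    rw [← mul_assoc] at h3
    have h4 := h.mem_N_of_fix ha ha1 h3
    symm
    rw [QuotientGroup.eq]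
    simpa using h4

theorem smul_ne_one (h : Hyp V A) {a : M} (ha : a ∈ A) {x : M ⧸ h.N}
    (hx : x ≠ ((1 : M) : M ⧸ h.N)) : a • x ≠ ((1 : M) : M ⧸ h.N) := by
  intro h1
  apply hx
  have h2 : x = a⁻¹ • ((1 : M) : M ⧸ h.N) := by rw [← h1, inv_smul_smul]
  rw [h2]
  have h3 : a⁻¹ • ((1 : M) : M ⧸ h.N) = ((a⁻¹ * 1 : M) : M ⧸ h.N) := rfl
  rw [h3, mul_one]
  symm
  rw [QuotientGroup.eq]
  simpa using h.A_le_N ha

theorem exists_ne_coset (h : Hyp V A) : ∃ x : M ⧸ h.N, x ≠ ((1 : M) : M ⧸ h.N) := by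
  obtain ⟨w, hw⟩ := h.N_ne_top
  refine ⟨(w : M ⧸ h.N), ?_⟩
  intro h1
  apply hw
  have h2 := QuotientGroup.eq.1 h1.symm
  simpa using h2

theorem card_ne_coset (h : Hyp V A) :
    Nat.card {x : M ⧸ h.N // x ≠ ((1 : M) : M ⧸ h.N)} = h.N.index - 1 := by
  classical
  haveI := Fintype.ofFinite (M ⧸ h.N)
  rw [Subgroup.index, Nat.card_eq_fintype_card, Nat.card_eq_fintype_card, Fintype.card_subtype_compl,
    Fintype.card_subtype_eq]

theorem index_eq (h : Hyp V A) : h.N.index = Nat.card A + 1 := by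
  apply le_antisymm h.index_le
  obtain ⟨x, hx⟩ := h.exists_ne_coset
  have h1 : Nat.card A ≤ Nat.card {x : M ⧸ h.N // x ≠ ((1 : M) : M ⧸ h.N)} := by
    apply Nat.card_le_card_of_injective
      (fun a : A => (⟨(a : M) • x, h.smul_ne_one a.2 hx⟩ : {x : M ⧸ h.N // x ≠ ((1 : M) : M ⧸ h.N)}))
    intro a b hab
    have h2 : (a : M) • x = (b : M) • x := congrArg Subtype.val hab
    by_contra hne
    apply h.smul_ne (A.mul_mem (A.inv_mem b.2) a.2) ?_ hx
    · rw [mul_smul, h2, inv_smul_smul]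
    · intro h3
      apply hne
      apply Subtype.ext
      exact (inv_mul_eq_one.1 h3).symm
  rw [h.card_ne_coset] at h1
  have h2 : 0 < h.N.index := Nat.pos_of_ne_zero Subgroup.index_ne_zero_of_finite
  omega

/-- `A` is transitive on the other cosets -/
theorem exists_smul_eq (h : Hyp V A) {x y : M ⧸ h.N} (hx : x ≠ ((1 : M) : M ⧸ h.N))
    (hy : y ≠ ((1 : M) : M ⧸ h.N)) : ∃ a ∈ A, a • x = y := by
  let f : A → {x : M ⧸ h.N // x ≠ ((1 : M) : M ⧸ h.N)} := fun a => ⟨(a : M) • x, h.smul_ne_one a.2 hx⟩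
  have hf : Function.Injective f := by
    intro a b hab
    have h2 : (a : M) • x = (b : M) • x := congrArg Subtype.val hab
    by_contra hne
    apply h.smul_ne (A.mul_mem (A.inv_mem b.2) a.2) ?_ hx
    · rw [mul_smul, h2, inv_smul_smul]
    · intro h3
      apply hne
      apply Subtype.ext
      exact (inv_mul_eq_one.1 h3).symm
  have hcard : Nat.card A = Nat.card {x : M ⧸ h.N // x ≠ ((1 : M) : M ⧸ h.N)} := by
    rw [h.card_ne_coset, h.index_eq]
    rfl
  have hbij : Function.Bijective f :=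
    (Nat.bijective_iff_injective_and_card f).2 ⟨hf, hcard⟩
  obtain ⟨a, ha⟩ := hbij.2 ⟨y, hy⟩
  exact ⟨a, a.2, congrArg Subtype.val ha⟩

/-- every vector lies in a conjugate of `C` -/
theorem exists_smul_mem (h : Hyp V A) {v : V} (hv : v ≠ 1) : ∃ m : M, m • v ∈ fixS V A := by
  have hcard : Nat.card ((M ⧸ h.N) × {c : fixS V A // c ≠ 1}) = Nat.card {v : V // v ≠ 1} := by
    rw [Nat.card_prod, card_ne_one, card_ne_one, h.card_C, h.card_V]
    have h1 : Nat.card (M ⧸ h.N) = Nat.card A + 1 := h.index_eq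
    rw [h1]
    have h2 := h.one_lt_card
    obtain ⟨c, hc⟩ : ∃ c, Nat.card A = c + 1 := ⟨Nat.card A - 1, by omega⟩
    rw [hc]
    have : (c + 1) ^ 2 = (c + 1 + 1) * c + 1 := by ring
    rw [this]
    rfl
  have hbij : Function.Bijective h.spreadMap :=
    (Nat.bijective_iff_injective_and_card _).2 ⟨h.spreadMap_injective, hcard⟩
  obtain ⟨⟨x, c⟩, hxc⟩ := hbij.2 ⟨v, hv⟩
  refine ⟨x.out⁻¹, ?_⟩
  have h1 : x.out • ((c : fixS V A) : V) = v := congrArg Subtype.val hxc
  rw [← h1, inv_smul_smul]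
  exact (c : fixS V A).2

/-- an involution of `N` centralises some `a ∈ A#` -/
theorem exists_comm (h : Hyp V A) {s : M} (hs : s * s = 1) (hsN : s ∈ h.N) :
    ∃ a ∈ A, a ≠ 1 ∧ s * a = a * s := by
  obtain ⟨e, he, he1⟩ := h.exists_ne_one
  have hs' : s⁻¹ = s := inv_eq_of_mul_eq_one_left hs
  by_cases hc : s * e = e * s
  · exact ⟨e, he, he1, hc⟩
  · have h1 : s * e * s⁻¹ ∈ A := h.normalizes hsN he
    rw [hs'] at h1
    refine ⟨e * (s * e * s), A.mul_mem he h1, ?_, ?_⟩
    · intro h2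
      apply hc
      have h3 : s * e * s = e⁻¹ := (inv_eq_of_mul_eq_one_right h2).symm
      rw [inv_eq_of_mul_eq_one_left (h.elem e he)] at h3
      calc s * e = s * e * (s * s) := by rw [hs, mul_one]
        _ = s * e * s * s := by group
        _ = e * s := by rw [h3]
    · rw [h.comm_A he h1]
      calc s * (s * e * s * e) = (s * s) * e * s * e := by group
        _ = e * s * e * (s * s) := by rw [hs, one_mul, mul_one]
        _ = e * (s * e * s) * s := by group
        _ = s * e * s * e * s := by rw [h.comm_A he h1]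

/-- two-point stabilisers contain no involution -/
theorem no_involution (h : Hyp V A) {s w : M} (hw : w ∉ h.N) (hs : s * s = 1) (hs1 : s ≠ 1)
    (h1 : s ∈ h.N) (h2 : w⁻¹ * s * w ∈ h.N) : False := by
  have hP := h.cit s (orderOf_eq_two hs hs1)
  obtain ⟨a, ha, ha1, hac⟩ := h.exists_comm hs h1
  have hs2 : w⁻¹ * s * w * (w⁻¹ * s * w) = 1 := by
    calc w⁻¹ * s * w * (w⁻¹ * s * w) = w⁻¹ * (s * s) * w := by group
      _ = 1 := by rw [hs]; group
  obtain ⟨b, hb, hb1, hbc⟩ := h.exists_comm hs2 h2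
  -- fixed vector of `C_M(s)` on `V`
  haveI : Fact (Nat.Prime 2) := ⟨Nat.prime_two⟩
  have hdvd : 2 ∣ Nat.card V := by
    obtain ⟨n, hn⟩ := (IsPGroup.iff_card.1 h.isPGroup_V)
    have h3 := h.one_lt_card_V
    rw [hn] at h3 ⊢
    have : n ≠ 0 := by
      rintro rfl
      simp at h3
    exact dvd_pow_self 2 this
  have h1fix : (1 : V) ∈ MulAction.fixedPoints (Subgroup.centralizer ({s} : Set M)) V := by
    intro g
    exact smul_one g
  obtain ⟨u, hu, hu1⟩ := hP.exists_fixed_point_of_prime_dvd_card_of_fixed_point V hdvd h1fix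
  have hau : a • u = u := hu ⟨a, by
    rw [Subgroup.mem_centralizer_singleton_iff]
    exact hac.symm⟩
  have hbu : (w * b * w⁻¹) • u = u := hu ⟨w * b * w⁻¹, by
    rw [Subgroup.mem_centralizer_singleton_iff]
    calc w * b * w⁻¹ * s = w * (b * (w⁻¹ * s * w)) * w⁻¹ := by group
      _ = w * ((w⁻¹ * s * w) * b) * w⁻¹ := by rw [hbc]
      _ = s * (w * b * w⁻¹) := by group⟩
  have huC : u ∈ fixS V A := by rw [← h.fix_eq ha ha1]; exact hau
  have huC' : w⁻¹ • u ∈ fixS V A := by
    rw [← h.fix_eq hb hb1, mem_fix]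
    have h3 : w⁻¹ • (w * b * w⁻¹) • u = w⁻¹ • u := by rw [hbu]
    rw [smul_smul] at h3
    rw [smul_smul, ← h3]
    congr 1
    group
  have h3 : w⁻¹ ∈ h.N := h.mem_N_of_smul huC (Ne.symm hu1) huC'
  exact hw (by simpa using h.N.inv_mem h3)

/-- every 2-subgroup of `N` lies in `A` -/
theorem mem_A_of_isPGroup (h : Hyp V A) {P : Subgroup M} (hP : IsPGroup 2 P) (hAP : A ≤ P)
    (hPN : P ≤ h.N) : P ≤ A := by
  intro x hx
  obtain ⟨w, hw⟩ := h.N_ne_top
  have hw1 : ((w : M) : M ⧸ h.N) ≠ ((1 : M) : M ⧸ h.N) := by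
    intro h1
    apply hw
    have h2 := QuotientGroup.eq.1 h1.symm
    simpa using h2
  have hxw : x • ((w : M) : M ⧸ h.N) ≠ ((1 : M) : M ⧸ h.N) := by
    intro h1
    apply hw
    have h2 : ((x * w : M) : M ⧸ h.N) = ((1 : M) : M ⧸ h.N) := h1
    have h3 := QuotientGroup.eq.1 h2.symm
    have h4 : x * w ∈ h.N := by simpa using h3
    have h5 := h.N.mul_mem (h.N.inv_mem (hPN hx)) h4
    rwa [inv_mul_cancel_left] at h5
  obtain ⟨a, ha, haw⟩ := h.exists_smul_eq hw1 hxw
  -- `a⁻¹ x` fixes `w N`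
  have hk : (a⁻¹ * x) • ((w : M) : M ⧸ h.N) = w := by
    rw [mul_smul, ← haw, inv_smul_smul]
  set k := a⁻¹ * x with hkdef
  have hkP : k ∈ P := P.mul_mem (P.inv_mem (hAP ha)) hx
  have hkN : w⁻¹ * k * w ∈ h.N := by
    have h2 : ((k * w : M) : M ⧸ h.N) = ((w : M) : M ⧸ h.N) := hk
    have h3 := QuotientGroup.eq.1 h2.symm
    rwa [← mul_assoc] at h3
  have hk1 : k = 1 := by
    by_contra hk1
    have hZ : IsPGroup 2 (Subgroup.zpowers k) := hP.to_le (by simpa using hkP)
    have hZne : Subgroup.zpowers k ≠ ⊥ := by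
      intro h1
      exact hk1 (Subgroup.zpowers_eq_bot.1 h1)
    obtain ⟨z, hz, hz1, hz2, _⟩ := exists_central_involution hZ hZne
    obtain ⟨j, rfl⟩ := Subgroup.mem_zpowers_iff.1 hz
    apply h.no_involution hw hz2 hz1
    · exact h.N.zpow_mem (hPN hkP) j
    · have h1 : w⁻¹ * k ^ j * w = (w⁻¹ * k * w) ^ j := by
        have := conj_zpow (i := j) (a := w⁻¹) (b := k)
        rw [inv_inv] at this
        exact this.symm
      rw [h1]
      exact h.N.zpow_mem hkN j
  have : x = a := by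
    have h1 : x = a * k := by rw [hkdef, mul_inv_cancel_left]
    rw [h1, hk1, mul_one]
  rw [this]
  exact ha

/-- stabilisers of vectors of `C#` are `A` -/
theorem stab_eq (h : Hyp V A) {v : V} (hv : v ∈ fixS V A) (hv1 : v ≠ 1) :
    MulAction.stabilizer M v = A := by
  apply le_antisymm
  · apply h.mem_A_of_isPGroup (h.stab v hv1)
    · intro a ha
      exact MulAction.mem_stabilizer_iff.2 (hv a ha)
    · intro x hx
      apply h.mem_N_of_smul hv hv1
      rw [MulAction.mem_stabilizer_iff.1 hx]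
      exact hv
  · intro a ha
    exact MulAction.mem_stabilizer_iff.2 (hv a ha)

/-- `C_M(e) = A` for `e ∈ A#` -/
theorem centralizer_eq (h : Hyp V A) {e : M} (he : e ∈ A) (he1 : e ≠ 1) :
    Subgroup.centralizer ({e} : Set M) = A := by
  apply le_antisymm
  · apply h.mem_A_of_isPGroup (h.cit e (orderOf_eq_two (h.elem e he) he1))
    · intro a ha
      rw [Subgroup.mem_centralizer_singleton_iff]
      exact h.comm_A ha he
    · intro x hx
      rw [Subgroup.mem_centralizer_singleton_iff] at hx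
      apply h.mem_N_of_mem he he1
      rw [hx, mul_inv_cancel_right]
      exact he
  · intro a ha
    rw [Subgroup.mem_centralizer_singleton_iff]
    exact h.comm_A ha he

theorem mem_of_comm' (h : Hyp V A) {e x : M} (he : e ∈ A) (he1 : e ≠ 1) (hx : x * e = e * x) :
    x ∈ A := by
  rw [← h.centralizer_eq he he1, Subgroup.mem_centralizer_singleton_iff]
  exact hx

/-- `A` is a maximal 2-subgroup -/
theorem max (h : Hyp V A) {P : Subgroup M} (hP : IsPGroup 2 P) (hAP : A ≤ P) : P = A := by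
  apply le_antisymm _ hAP
  have hPne : P ≠ ⊥ := by
    obtain ⟨e, he, he1⟩ := h.exists_ne_one
    intro h1
    apply he1
    have := hAP he
    rw [h1] at this
    exact Subgroup.mem_bot.1 this
  obtain ⟨z, _, hz1, hz2, hzc⟩ := exists_central_involution hP hPne
  have hzA : z ∈ A := h.mem_of_comm hz2 (fun a ha => hzc a (hAP ha))
  intro x hx
  exact h.mem_of_comm' hzA hz1 (hzc x hx).symm

/-- every involution is conjugate into `A` -/
theorem exists_conj_mem (h : Hyp V A) {t : M} (ht : t * t = 1) : ∃ m : M, m * t * m⁻¹ ∈ A := by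
  obtain ⟨v, hv1⟩ := h.ne
  obtain ⟨w, hw1, htw⟩ : ∃ w : V, w ≠ 1 ∧ t • w = w := by
    by_cases htv : t • v = v
    · exact ⟨v, hv1, htv⟩
    · refine ⟨v * t • v, ?_, ?_⟩
      · intro h1
        exact htv (CITModule.eq_of_mul_eq_one h.sq h1).symm
      · rw [smul_mul', smul_smul, ht, one_smul, mul_comm]
  obtain ⟨m, hm⟩ := h.exists_smul_mem hw1
  refine ⟨m, ?_⟩
  have hmw1 : m • w ≠ 1 := by
    intro h1
    exact hw1 (smul_left_cancel m (h1.trans (smul_one m).symm))
  rw [← h.stab_eq hm hmw1, MulAction.mem_stabilizer_iff, mul_smul, mul_smul, inv_smul_smul, htw]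

/-- `e ∈ A#` and `g e g⁻¹`, `g ∉ N`, have product of odd order -/
theorem exists_conj_of_notMem (h : Hyp V A) {e e' g : M} (he : e ∈ A) (he1 : e ≠ 1) (he' : e' ∈ A)
    (he1' : e' ≠ 1) (hg : g ∉ h.N) :
    ∃ d ∈ Subgroup.closure ({e, g * e' * g⁻¹} : Set M), d * e * d⁻¹ = g * e' * g⁻¹ := by
  have h2 : orderOf e = 2 := orderOf_eq_two (h.elem e he) he1
  have h3 : g * e' * g⁻¹ * (g * e' * g⁻¹) = 1 := by
    calc g * e' * g⁻¹ * (g * e' * g⁻¹) = g * (e' * e') * g⁻¹ := by group
      _ = 1 := by rw [h.elem e' he']; group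
  have h4 : g * e' * g⁻¹ ≠ 1 := by
    intro h5
    apply he1'
    rwa [mul_inv_eq_one, mul_eq_left] at h5
  have h5 : orderOf (g * e' * g⁻¹) = 2 := orderOf_eq_two h3 h4
  apply Cfsg.Agent.S0208.result e _ h2 h5
  by_contra hodd
  rw [Nat.not_odd_iff_even] at hodd
  obtain ⟨hz2, hze, hzg⟩ := Cfsg.Agent.S0209.result e _ h2 h5 hodd
  set z := (e * (g * e' * g⁻¹)) ^ (orderOf (e * (g * e' * g⁻¹)) / 2) with hz
  have hz1 : z ≠ 1 := by
    intro h6
    rw [h6, orderOf_one] at hz2
    omega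
  have hzA : z ∈ A := h.mem_of_comm' he he1 hze.eq
  have hzA' : g⁻¹ * z * g ∈ A := by
    apply h.mem_of_comm' he' he1'
    have h6 := hzg.eq
    calc g⁻¹ * z * g * e' = g⁻¹ * (z * (g * e' * g⁻¹)) * g := by group
      _ = g⁻¹ * ((g * e' * g⁻¹) * z) * g := by rw [h6]
      _ = e' * (g⁻¹ * z * g) := by group
  apply hg
  apply h.mem_N_of_mem hzA' (e := g⁻¹ * z * g)
  · intro h6
    apply hz1
    have : z = g * (g⁻¹ * z * g) * g⁻¹ := by group
    rw [this, h6]
    group
  · have : g * (g⁻¹ * z * g) * g⁻¹ = z := by group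
    rw [this]
    exact hzA

/-- all involutions of `A` are conjugate under any subgroup containing all the conjugates of `A` -/
theorem exists_conj (h : Hyp V A) {L : Subgroup M} (hL : ∀ g : M, ∀ a ∈ A, g * a * g⁻¹ ∈ L)
    {e e' : M} (he : e ∈ A) (he1 : e ≠ 1) (he' : e' ∈ A) (he1' : e' ≠ 1) (g : M) :
    ∃ d ∈ L, d * e * d⁻¹ = g * e' * g⁻¹ := by
  have key : ∀ {e e' g : M}, e ∈ A → e ≠ 1 → e' ∈ A → e' ≠ 1 → g ∉ h.N →
      ∃ d ∈ L, d * e * d⁻¹ = g * e' * g⁻¹ := by
    intro e e' g he he1 he' he1' hg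
    obtain ⟨d, hd, hde⟩ := h.exists_conj_of_notMem he he1 he' he1' hg
    refine ⟨d, ?_, hde⟩
    have h1 : Subgroup.closure ({e, g * e' * g⁻¹} : Set M) ≤ L := by
      rw [Subgroup.closure_le]
      rintro x (rfl | rfl)
      · have := hL 1 x he
        simpa using this
      · exact hL g e' he'
    exact h1 hd
  by_cases hg : g ∈ h.N
  · obtain ⟨w, hw⟩ := h.N_ne_top
    obtain ⟨d, hd, hde⟩ := key (e := e) (e' := e) he he1 he he1 hw
    have hge : g * e' * g⁻¹ ∈ A := h.normalizes hg he'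
    have hge1 : g * e' * g⁻¹ ≠ 1 := by
      intro h5
      apply he1'
      rwa [mul_inv_eq_one, mul_eq_left] at h5
    obtain ⟨d', hd', hde'⟩ := key (e := g * e' * g⁻¹) (e' := e) hge hge1 he he1 hw
    refine ⟨d'⁻¹ * d, L.mul_mem (L.inv_mem hd') hd, ?_⟩
    calc d'⁻¹ * d * e * (d'⁻¹ * d)⁻¹ = d'⁻¹ * (d * e * d⁻¹) * d' := by group
      _ = d'⁻¹ * (d' * (g * e' * g⁻¹) * d'⁻¹) * d' := by rw [hde, hde']
      _ = g * e' * g⁻¹ := by group
  · exact key he he1 he' he1' hg

theorem card_N (h : Hyp V A) : Nat.card h.N = (Nat.card A - 1) * Nat.card A := by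
  obtain ⟨e, he, he1⟩ := h.exists_ne_one
  rw [← card_ne_one (S := A)]
  have hne : ∀ n : M, n * e * n⁻¹ ≠ 1 := by
    intro n h5
    apply he1
    rwa [mul_inv_eq_one, mul_eq_left] at h5
  let f : h.N → {x : A // x ≠ 1} := fun n =>
    ⟨⟨(n : M) * e * (n : M)⁻¹, h.normalizes n.2 he⟩, fun h1 => hne n (congrArg Subtype.val h1)⟩
  apply card_eq_mul_of_fiber f
  rintro ⟨⟨e', he'⟩, he1'⟩
  have he1'' : e' ≠ 1 := fun h1 => he1' (Subtype.ext h1)
  obtain ⟨d, _, hd⟩ := h.exists_conj (L := ⊤) (fun _ _ _ => Subgroup.mem_top _) he he1 he' he1'' 1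
  rw [one_mul, inv_one, mul_one] at hd
  have hdN : d ∈ h.N := h.mem_N_of_mem he he1 (by rw [hd]; exact he')
  apply Nat.card_congr
  refine ⟨fun n => ⟨d⁻¹ * ((n : h.N) : M), ?_⟩, fun a => ⟨⟨d * (a : M), ?_⟩, ?_⟩, ?_, ?_⟩
  · apply h.mem_of_comm' he he1
    have h1 : ((n : h.N) : M) * e * ((n : h.N) : M)⁻¹ = e' :=
      congrArg (fun x => ((x : {x : A // x ≠ 1}) : M)) n.2
    have h1' : ((n : h.N) : M) * e * ((n : h.N) : M)⁻¹ = d * e * d⁻¹ := h1.trans hd.symm
    calc d⁻¹ * ((n : h.N) : M) * e = d⁻¹ * (((n : h.N) : M) * e * ((n : h.N) : M)⁻¹) * ((n : h.N) : M) := by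
          group
      _ = d⁻¹ * (d * e * d⁻¹) * ((n : h.N) : M) := by rw [h1']
      _ = e * (d⁻¹ * ((n : h.N) : M)) := by group
  · exact h.N.mul_mem hdN (h.A_le_N a.2)
  · apply Subtype.ext
    apply Subtype.ext
    show d * (a : M) * e * (d * (a : M))⁻¹ = e'
    calc d * (a : M) * e * (d * (a : M))⁻¹ = d * ((a : M) * e) * (a : M)⁻¹ * d⁻¹ := by group
      _ = d * (e * (a : M)) * (a : M)⁻¹ * d⁻¹ := by rw [h.comm_A a.2 he]
      _ = d * e * d⁻¹ := by group
      _ = e' := hd
  · intro n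
    apply Subtype.ext
    apply Subtype.ext
    show d * (d⁻¹ * ((n : h.N) : M)) = n
    group
  · intro a
    apply Subtype.ext
    show d⁻¹ * (d * (a : M)) = a
    group

theorem card_M (h : Hyp V A) : Nat.card M = (Nat.card A + 1) * Nat.card A * (Nat.card A - 1) := by
  rw [← Subgroup.card_mul_index h.N, h.card_N, h.index_eq]
  ring

/-- `M` is transitive on `V#` -/
theorem trans (h : Hyp V A) {v w : V} (hv : v ≠ 1) (hw : w ≠ 1) : ∃ m : M, m • v = w := by
  -- first for `v ∈ C`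
  obtain ⟨c, hc, hc1⟩ := h.exists_mem_C
  have key : ∀ w : V, w ≠ 1 → w ∈ MulAction.orbit M c := by
    have hsub : MulAction.orbit M c ⊆ {w : V | w ≠ 1} := by
      rintro _ ⟨m, rfl⟩ h1
      exact hc1 (smul_left_cancel m (h1.trans (smul_one m).symm))
    have hcard : Nat.card (MulAction.orbit M c) * Nat.card A = Nat.card M := by
      have h1 := Nat.card_congr (MulAction.orbitProdStabilizerEquivGroup M c)
      rw [Nat.card_prod, h.stab_eq hc hc1] at h1
      exact h1
    have h2 : Nat.card (MulAction.orbit M c) = Nat.card {w : V // w ≠ 1} := by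
      rw [card_ne_one, h.card_V]
      rw [h.card_M] at hcard
      have h3 := h.one_lt_card
      obtain ⟨a, ha⟩ : ∃ a, Nat.card A = a + 1 := ⟨Nat.card A - 1, by omega⟩
      rw [ha] at hcard ⊢
      have h4 : (a + 1) ^ 2 - 1 = (a + 1 + 1) * a := by
        have : (a + 1) ^ 2 = (a + 1 + 1) * a + 1 := by ring
        rw [this]; rfl
      rw [h4]
      apply Nat.eq_of_mul_eq_mul_right (show 0 < a + 1 by omega)
      rw [hcard]
      simp only [Nat.add_sub_cancel]
      ring
    have h3 : MulAction.orbit M c = {w : V | w ≠ 1} := by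
      apply Set.eq_of_subset_of_ncard_le hsub
      rw [← Nat.card_coe_set_eq, ← Nat.card_coe_set_eq]
      exact h2.ge
    intro w hw
    rw [h3]
    exact hw
  obtain ⟨m, hm⟩ := key v hv
  obtain ⟨n, hn⟩ := key w hw
  refine ⟨n * m⁻¹, ?_⟩
  have hm' : m • c = v := hm
  have hn' : n • c = w := hn
  rw [mul_smul, ← hm', inv_smul_smul, hn']

theorem exists_pow (h : Hyp V A) : ∃ n : ℕ, 1 ≤ n ∧ Nat.card A = 2 ^ n := by
  haveI : Fact (Nat.Prime 2) := ⟨Nat.prime_two⟩
  obtain ⟨n, hn⟩ := (IsPGroup.iff_card.1 (isPGroup_elem h.elem))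
  refine ⟨n, ?_, hn⟩
  by_contra h0
  have h1 := h.one_lt_card
  rw [hn, show n = 0 by omega] at h1
  simp at h1

theorem three_dvd (h : Hyp V A) : 3 ∣ Nat.card M := by
  obtain ⟨n, hn, hq⟩ := h.exists_pow
  rw [h.card_M]
  have h1 : 3 ∣ (Nat.card A + 1) * (Nat.card A - 1) := by
    rw [hq]
    have h2 : ∀ k : ℕ, 2 ^ k % 3 = 1 ∨ 2 ^ k % 3 = 2 := by
      intro k
      induction k with
      | zero => left; rfl
      | succ k ih => rw [pow_succ]; omega
    have hpos : 0 < 2 ^ n := by positivity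
    rcases h2 n with h3 | h3
    · exact Dvd.dvd.mul_left (by omega) _
    · exact Dvd.dvd.mul_right (by omega) _
  have h2 : (Nat.card A + 1) * Nat.card A * (Nat.card A - 1) =
      (Nat.card A + 1) * (Nat.card A - 1) * Nat.card A := by ring
  rw [h2]
  exact Dvd.dvd.mul_right h1 _

/-- `M` is generated by `A` and the elements of order 3 -/
theorem gen (h : Hyp V A) {L : Subgroup M} (hAL : A ≤ L) (h3 : ∀ d : M, orderOf d = 3 → d ∈ L) :
    L = ⊤ := by
  classical
  haveI : Fact (Nat.Prime 3) := ⟨Nat.prime_three⟩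
  obtain ⟨d, hd⟩ := exists_prime_orderOf_dvd_card' 3 h.three_dvd
  by_cases hq : Nat.card A = 2
  · apply Subgroup.eq_top_of_le_card
    rw [h.card_M, hq]
    have h1 : 2 ∣ Nat.card L := by rw [← hq]; exact Subgroup.card_dvd_of_le hAL
    have h2 : 3 ∣ Nat.card L := by
      have h4 : Nat.card (Subgroup.zpowers d) ∣ Nat.card L :=
        Subgroup.card_dvd_of_le (by simpa using h3 d hd)
      rwa [Nat.card_zpowers, hd] at h4
    have h4 : 6 ∣ Nat.card L := (Nat.Coprime.mul_dvd_of_dvd_of_dvd (by norm_num) h1 h2)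
    exact Nat.le_of_dvd Nat.card_pos h4
  · -- the normal subgroup generated by the elements of order 3
    let K : Subgroup M := Subgroup.normalClosure {x | orderOf x = 3}
    have hKL : K ≤ L := by
      apply (Subgroup.closure_le L).2
      intro x hx
      obtain ⟨y, hy, hyx⟩ := Group.mem_conjugatesOfSet_iff.1 hx
      obtain ⟨g, hg⟩ := isConj_iff.1 hyx
      apply h3
      rw [← hg]
      have h4 : orderOf (g * y * g⁻¹) = orderOf y := by
        have := orderOf_injective (MulAut.conj g).toMonoidHom (MulAut.conj g).injective y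
        simpa using this
      rw [h4]
      exact hy
    have hKn : K.Normal := Subgroup.normalClosure_normal
    have hdK : d ∈ K := Subgroup.subset_normalClosure hd
    have hd1 : d ≠ 1 := by
      rintro rfl
      rw [orderOf_one] at hd
      omega
    obtain ⟨a, ha, ha1⟩ := h.exists_ne_one
    -- `K` contains an involution
    have hinv : ∃ t ∈ K, t ≠ 1 ∧ t * t = 1 := by
      by_contra hcon
      push Not at hcon
      have hinvert : ∀ b ∈ A, b ≠ 1 → ∀ k ∈ K, b * k * b⁻¹ = k⁻¹ := by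
        intro b hb hb1 k hk
        let f : K → K := fun x => ⟨(x : M)⁻¹ * (b * x * b⁻¹), K.mul_mem (K.inv_mem x.2) (hKn.conj_mem x x.2 b)⟩
        have hf : Function.Injective f := by
          intro x y hxy
          have h4 : (x : M)⁻¹ * (b * x * b⁻¹) = (y : M)⁻¹ * (b * y * b⁻¹) := congrArg Subtype.val hxy
          have h5 : (y : M) * (x : M)⁻¹ * b = b * ((y : M) * (x : M)⁻¹) := by
            calc (y : M) * (x : M)⁻¹ * b = (y : M) * ((x : M)⁻¹ * (b * x * b⁻¹)) * b * (x : M)⁻¹ := by group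
              _ = (y : M) * ((y : M)⁻¹ * (b * y * b⁻¹)) * b * (x : M)⁻¹ := by rw [h4]
              _ = b * ((y : M) * (x : M)⁻¹) := by group
          have h6 := h.mem_of_comm' hb hb1 h5
          have h7 : (y : M) * (x : M)⁻¹ = 1 := by
            by_contra h8
            exact hcon _ (K.mul_mem y.2 (K.inv_mem x.2)) h8 (h.elem _ h6)
          exact Subtype.ext (mul_inv_eq_one.1 h7).symm
        obtain ⟨x, hx⟩ := (Finite.injective_iff_surjective.1 hf) ⟨k, hk⟩
        have h4 : (x : M)⁻¹ * (b * x * b⁻¹) = k := congrArg Subtype.val hx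
        have hbb : b⁻¹ = b := inv_eq_of_mul_eq_one_left (h.elem b hb)
        rw [← h4]
        calc b * ((x : M)⁻¹ * (b * x * b⁻¹)) * b⁻¹ = b * (x : M)⁻¹ * b * x * (b⁻¹ * b⁻¹) := by group
          _ = b * (x : M)⁻¹ * b * x := by rw [hbb, h.elem b hb, mul_one]
          _ = b * (x : M)⁻¹ * b⁻¹ * x := by rw [hbb]
          _ = ((x : M)⁻¹ * (b * x * b⁻¹))⁻¹ := by group
      obtain ⟨b, hb, hb1, hab⟩ : ∃ b ∈ A, b ≠ 1 ∧ a ≠ b := by
        by_contra hcon2
        push Not at hcon2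
        have h4 : Nat.card {x : A // x ≠ 1} ≤ 1 := by
          rw [Finite.card_le_one_iff_subsingleton]
          refine ⟨fun x y => ?_⟩
          apply Subtype.ext
          apply Subtype.ext
          rw [← hcon2 x x.1.2 (fun h5 => x.2 (Subtype.ext h5)),
            ← hcon2 y y.1.2 (fun h5 => y.2 (Subtype.ext h5))]
        rw [card_ne_one] at h4
        have h5 := h.one_lt_card
        omega
      have h4 : d * (a * b) = a * b * d := by
        have h6 := hinvert b hb hb1 d hdK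
        have h7 := hinvert a ha ha1 _ (K.inv_mem hdK)
        rw [inv_inv, ← h6] at h7
        calc d * (a * b) = a * (b * d * b⁻¹) * a⁻¹ * (a * b) := by rw [h7]
          _ = a * b * d := by group
      have hab1 : a * b ≠ 1 := by
        intro h5
        apply hab
        rw [← inv_eq_of_mul_eq_one_right h5, inv_eq_of_mul_eq_one_left (h.elem a ha)]
      have h5 := h.mem_of_comm' (A.mul_mem ha hb) hab1 h4
      exact hcon d hdK hd1 (h.elem d h5)
    obtain ⟨t, htK, ht1, ht2⟩ := hinv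
    obtain ⟨m, hm⟩ := h.exists_conj_mem ht2
    have hm1 : m * t * m⁻¹ ≠ 1 := by
      intro h5
      apply ht1
      rwa [mul_inv_eq_one, mul_eq_left] at h5
    have hconj : ∀ g : M, ∀ a ∈ A, g * a * g⁻¹ ∈ K := by
      intro g a ha
      by_cases ha1 : a = 1
      · rw [ha1, mul_one, mul_inv_cancel]; exact K.one_mem
      · obtain ⟨d, _, hd⟩ := h.exists_conj (L := ⊤) (fun _ _ _ => Subgroup.mem_top _) hm hm1 ha ha1 g
        rw [← hd]
        exact hKn.conj_mem _ (hKn.conj_mem _ htK m) d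
    rw [eq_top_iff]
    intro x _
    obtain ⟨d, hd, hde⟩ := h.exists_conj hconj ha ha1 ha ha1 x
    have h4 : d⁻¹ * x ∈ A := by
      apply h.mem_of_comm' ha ha1
      calc d⁻¹ * x * a = d⁻¹ * (x * a * x⁻¹) * x := by group
        _ = d⁻¹ * (d * a * d⁻¹) * x := by rw [hde]
        _ = a * (d⁻¹ * x) := by group
    have h5 : x = d * (d⁻¹ * x) := by group
    rw [h5]
    exact L.mul_mem (hKL hd) (hAL h4)

theorem normal_odd (h : Hyp V A) (K : Subgroup M) (hn : K.Normal) (hne : K ≠ ⊥) :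
    ∃ d ∈ K, d ≠ 1 ∧ Odd (orderOf d) := by
  apply exists_odd_of_not_isPGroup
  intro hP
  exact hne (h.o2 K hn hP)

end Hyp

/-- the conclusions of the FF lemma -/
structure Concl {M : Type*} (V : Type*) [Group M] [CommGroup V] [MulDistribMulAction M V]
    (A : Subgroup M) (q : ℕ) : Prop where
  pow : ∃ n : ℕ, 1 ≤ n ∧ q = 2 ^ n
  card_A : Nat.card A = q
  card_V : Nat.card V = q ^ 2
  card_C : Nat.card (fixS V A) = q
  card_M : Nat.card M = (q + 1) * q * (q - 1)
  /-- the action is faithful -/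
  inj : ∀ m : M, (∀ v : V, m • v = v) → m = 1
  /-- `C_V(e) = C_V(A)` -/
  fix_eq : ∀ e ∈ A, e ≠ 1 → ∀ v : V, e • v = v → v ∈ fixS V A
  /-- `[V,A] ≤ C` -/
  comm_mem : ∀ e ∈ A, ∀ v : V, e • v * v⁻¹ ∈ fixS V A
  max : ∀ P : Subgroup M, IsPGroup 2 P → A ≤ P → P = A
  centralizer : ∀ e ∈ A, e ≠ 1 → ∀ m : M, m * e = e * m → m ∈ A
  stab : ∀ v ∈ fixS V A, v ≠ 1 → ∀ m : M, m • v = v → m ∈ A
  trans : ∀ v w : V, v ≠ 1 → w ≠ 1 → ∃ m : M, m • v = w
  spread : ∀ m : M, (∃ v ∈ fixS V A, v ≠ 1 ∧ m • v ∈ fixS V A) → ∀ v ∈ fixS V A, m • v ∈ fixS V A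
  normalizes : ∀ m : M, (∀ v ∈ fixS V A, m • v ∈ fixS V A) → ∀ t ∈ A, m * t * m⁻¹ ∈ A
  ti : ∀ m : M, (∃ t ∈ A, t ≠ 1 ∧ m * t * m⁻¹ ∈ A) → ∀ v ∈ fixS V A, m • v ∈ fixS V A
  gen : ∀ L : Subgroup M, A ≤ L → (∀ d : M, orderOf d = 3 → d ∈ L) → L = ⊤
  normal_odd : ∀ N : Subgroup M, N.Normal → N ≠ ⊥ → ∃ d ∈ N, d ≠ 1 ∧ Odd (orderOf d)

/-- **FF lemma** -/
theorem main {M V : Type*} [Group M] [Finite M] [CommGroup V] [Finite V] [MulDistribMulAction M V]
    {A : Subgroup M} (h : Hyp V A) : Concl V A (Nat.card A) where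
  pow := h.exists_pow
  card_A := rfl
  card_V := h.card_V
  card_C := h.card_C
  card_M := h.card_M
  inj := fun _ hm => h.inj hm
  fix_eq := by
    intro e he he1 v hv
    rw [← h.fix_eq he he1]
    exact hv
  comm_mem := by
    intro e he v
    by_cases he1 : e = 1
    · rw [he1, one_smul, mul_inv_cancel]; exact Subgroup.one_mem _
    · rw [← h.fix_eq he he1, CITModule.inv_eq_self h.sq, mul_comm]
      exact h.mul_smul_mem (h.elem e he) he1 v
  max := fun _ hP hAP => h.max hP hAP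
  centralizer := fun _ he he1 _ hm => h.mem_of_comm' he he1 hm
  stab := by
    intro v hv hv1 m hm
    rw [← h.stab_eq hv hv1]
    exact MulAction.mem_stabilizer_iff.2 hm
  trans := fun _ _ hv hw => h.trans hv hw
  spread := fun _ ⟨_, hv, hv1, hmv⟩ => h.spread hv hv1 hmv
  normalizes := fun _ hm _ ht => h.normalizes hm ht
  ti := fun _ ⟨_, ht, ht1, hmt⟩ => h.ti ht ht1 hmt
  gen := fun _ hAL h3 => h.gen hAL h3
  normal_odd := h.normal_odd

end Cfsg.Agent.LieExceptional.CITFF
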