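import Mathlib
import Cfsg.Prelude.Def_LieExceptional
import Cfsg.Agent.LieExceptional.CCEven
import Cfsg.Agent.OddOrderLocal.CNBasic

/-!
# CN-groups with an involution commuting with a non-identity element of odd order

In such a group there is a nilpotent Hall TI-subgroup of even order, not a 2-group, containing the centralisers of
its non-identity elements.
-/

set_option autoImplicit false

namespace Cfsg.Agent.LieExceptional.CNSimple

open Subgroup

variable {G : Type*} [Group G] [Finite G]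

/-- a 2-element of a nilpotent subgroup containing a Sylow 2-subgroup lies in the latter -/
theorem mem_sylow {C : Subgroup G} (hC : Group.IsNilpotent C) (S : Sylow 2 G)
    (hS : (S : Subgroup G) ≤ C) {a : G} (ha : a ∈ C) {k : ℕ} (hk : a ^ 2 ^ k = 1) : a ∈ S := by
  have : Fact (Nat.Prime 2) := ⟨Nat.prime_two⟩
  have h3 : Group.IsNilpotent C ↔ ∀ (p : ℕ) (_ : Fact p.Prime) (P : Sylow p C), (P : Subgroup C).Normal :=
    (Group.isNilpotent_of_finite_tfae (G := C)).out 0 3
  have hnorm : ∀ (P : Sylow 2 C), (P : Subgroup C).Normal := fun P => h3.mp hC 2 inferInstance P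
  let P : Sylow 2 C := S.subtype hS
  have hpg : IsPGroup 2 (zpowers (⟨a, ha⟩ : C)) := by
    apply IsPGroup.of_card_dvd_pow (n := k)
    rw [Nat.card_zpowers]
    apply orderOf_dvd_of_pow_eq_one
    exact Subtype.ext hk
  obtain ⟨Q, hQ⟩ := hpg.exists_le_sylow
  have := Sylow.unique_of_normal P (hnorm P)
  have hQP : Q = P := Subsingleton.elim _ _
  have h1 : (⟨a, ha⟩ : C) ∈ P := by
    rw [← hQP]; exact hQ (mem_zpowers _)
  exact h1

theorem exists_conf (hCN : Cfsg.IsCNGroup G) {t y : G} (ht : orderOf t = 2)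
    (hy : (orderOf y).Coprime 2) (hy1 : y ≠ 1) (hty : t * y = y * t) :
    ∃ H : Subgroup G, CCEven.Conf H ∧ y ∈ H ∧ Group.IsNilpotent H := by
  have : Fact (Nat.Prime 2) := ⟨Nat.prime_two⟩
  have ht1 : t ≠ 1 := by rintro rfl; rw [orderOf_one] at ht; omega
  have hp0 : IsPGroup 2 (zpowers t) := by
    apply IsPGroup.of_card (n := 1)
    rw [Nat.card_zpowers, ht, pow_one]
  obtain ⟨S, hS⟩ := hp0.exists_le_sylow
  have htS : t ∈ S := hS (mem_zpowers t)
  -- 2-elements and elements of odd order commute in centralisers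
  have comm : ∀ w a b : G, w ≠ 1 → a * w = w * a → b * w = w * b → (∃ k : ℕ, a ^ 2 ^ k = 1) →
      (orderOf b).Coprime 2 → a * b = b * a := by
    intro w a b hw ha hb ⟨k, hk⟩ hb2
    refine Cfsg.Agent.OddOrderLocal.CNBasic.commute_of_mem_of_coprime (hCN w hw)
      (mem_centralizer_singleton_iff.2 ha) (mem_centralizer_singleton_iff.2 hb) ?_
    exact (Nat.Coprime.pow_right k hb2).symm.coprime_dvd_left (orderOf_dvd_of_pow_eq_one hk)
  have two : ∀ s ∈ S, ∃ k : ℕ, s ^ 2 ^ k = 1 := by
    intro s hs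
    obtain ⟨k, hk⟩ := S.isPGroup' ⟨s, hs⟩
    exact ⟨k, congrArg Subtype.val hk⟩
  have : Nontrivial S := ⟨⟨⟨t, htS⟩, 1, fun h => ht1 (congrArg Subtype.val h)⟩⟩
  have hnt : Nontrivial (center S) := S.isPGroup'.center_nontrivial
  obtain ⟨w, hw⟩ := exists_ne (1 : center S)
  obtain ⟨z, hzS, hz1, hzc⟩ : ∃ z : G, z ∈ S ∧ z ≠ 1 ∧ ∀ g ∈ S, g * z = z * g := by
    refine ⟨((w : S) : G), (w : S).2, ?_, ?_⟩
    · intro h
      apply hw
      apply Subtype.ext
      apply Subtype.ext
      exact h
    · intro g hg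
      have := mem_center_iff.1 w.2 ⟨g, hg⟩
      exact congrArg Subtype.val this
  have hzy : z * y = y * z := comm t z y ht1 (hzc t htS).symm hty.symm (two z hzS) hy
  have hSy : ∀ s ∈ S, s * y = y * s := fun s hs => comm z s y hz1 (hzc s hs) hzy.symm (two s hs) hy
  have memS : ∀ v a : G, v ≠ 1 → (∀ s ∈ S, s * v = v * s) → a * v = v * a → (∃ k : ℕ, a ^ 2 ^ k = 1) →
      a ∈ S := by
    intro v a hv hSv ha ⟨k, hk⟩
    exact mem_sylow (hCN v hv) S (fun s hs => mem_centralizer_singleton_iff.2 (hSv s hs))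
      (mem_centralizer_singleton_iff.2 ha) hk
  have hzp : ∀ a b c : G, a ∈ zpowers b → b * c = c * b → a * c = c * a := by
    intro a b c ha hbc
    obtain ⟨n, rfl⟩ := mem_zpowers_iff.1 ha
    exact ((show Commute b c from hbc).zpow_left n).eq
  -- the key property
  have cent : ∀ h g : G, h * z = z * h → h ≠ 1 → g * h = h * g → g * z = z * g := by
    intro h g hhz hh1 hgh
    obtain ⟨a, b, haz, hbz, hab, ⟨k, hk⟩, hb2⟩ :=
      Cfsg.Agent.OddOrderLocal.CNBasic.exists_mul_parts Nat.prime_two g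
    obtain ⟨c, d, hcz, hdz, hcd, ⟨l, hl⟩, hd2⟩ :=
      Cfsg.Agent.OddOrderLocal.CNBasic.exists_mul_parts Nat.prime_two h
    have hc_z : c * z = z * c := hzp c h z hcz hhz
    have hd_z : d * z = z * d := hzp d h z hdz hhz
    have gc : g * c = c * g := (hzp c h g hcz hgh.symm).symm
    have gd : g * d = d * g := (hzp d h g hdz hgh.symm).symm
    have ac : a * c = c * a := hzp a g c haz gc
    have bc : b * c = c * b := hzp b g c hbz gc
    have ad : a * d = d * a := hzp a g d haz gd
    have bd : b * d = d * b := hzp b g d hbz gd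
    have haz' : a * z = z * a ∧ b * z = z * b := by
      by_cases hc1 : c = 1
      · have hd1 : d ≠ 1 := by
          rintro rfl
          apply hh1
          rw [← hcd, hc1, one_mul]
        have hSd : ∀ s ∈ S, s * d = d * s := fun s hs =>
          comm z s d hz1 (hzc s hs) hd_z (two s hs) hd2
        constructor
        · exact hzc a (memS d a hd1 hSd ad ⟨k, hk⟩)
        · exact (comm d z b hd1 (hSd z hzS) bd (two z hzS) hb2).symm
      · have hcS : c ∈ S := memS z c hz1 hzc hc_z ⟨l, hl⟩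
        constructor
        · have hay : a * y = y * a :=
            comm c a y hc1 ac (hSy c hcS).symm ⟨k, hk⟩ hy
          exact hzc a (memS y a hy1 hSy hay ⟨k, hk⟩)
        · exact (comm c z b hc1 (hzc c hcS).symm bc (two z hzS) hb2).symm
    rw [← hab, mul_assoc, haz'.2, ← mul_assoc, haz'.1, mul_assoc]
  have memH : ∀ g : G, g ∈ centralizer ({z} : Set G) ↔ g * z = z * g := fun g =>
    mem_centralizer_singleton_iff
  refine ⟨centralizer {z}, ⟨?_, ?_, ?_⟩, (memH y).2 hzy.symm, hCN z hz1⟩
  · intro h hh hh1 g hgh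
    exact (memH g).2 (cent h g ((memH h).1 hh) hh1 hgh)
  · intro h hh hh1 g hg
    have hh' := (memH h).1 hh
    have hg' := (memH _).1 hg
    -- `z' = g⁻¹ z g`
    have h1 : (g⁻¹ * z * g) * h = h * (g⁻¹ * z * g) := by
      calc (g⁻¹ * z * g) * h = g⁻¹ * (z * (g * h * g⁻¹)) * g := by group
        _ = h * (g⁻¹ * z * g) := by rw [← hg']; group
    have h2 : (g⁻¹ * z * g) * z = z * (g⁻¹ * z * g) := cent h _ hh' hh1 h1
    have hz'1 : g⁻¹ * z * g ≠ 1 := by
      intro h
      apply hz1
      have : z = g * (g⁻¹ * z * g) * g⁻¹ := by group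
      rw [this, h]; group
    rw [mem_normalizer_iff]
    intro k
    rw [memH, memH]
    constructor
    · intro hk
      have h3 : (g * z * g⁻¹) * z = z * (g * z * g⁻¹) := by
        calc (g * z * g⁻¹) * z = g * (z * (g⁻¹ * z * g)) * g⁻¹ := by group
          _ = z * (g * z * g⁻¹) := by rw [← h2]; group
      have h4 : g * z * g⁻¹ ≠ 1 := by
        intro h
        apply hz1
        have : z = g⁻¹ * (g * z * g⁻¹) * g := by group
        rw [this, h]; group
      apply cent (g * z * g⁻¹) _ h3 h4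
      calc g * k * g⁻¹ * (g * z * g⁻¹) = g * (k * z) * g⁻¹ := by group
        _ = g * z * g⁻¹ * (g * k * g⁻¹) := by rw [hk]; group
    · intro hk
      apply cent (g⁻¹ * z * g) _ h2 hz'1
      calc k * (g⁻¹ * z * g) = g⁻¹ * ((g * k * g⁻¹) * z) * g := by group
        _ = g⁻¹ * z * g * k := by rw [hk]; group
  · have h1 : orderOf (⟨t, (memH t).2 (hzc t htS)⟩ : centralizer ({z} : Set G)) = 2 := by
      rw [Subgroup.orderOf_mk, ht]
    rw [← h1]
    exact orderOf_dvd_natCard _

end Cfsg.Agent.LieExceptional.CNSimple
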