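import Mathlib

/-!
Two general facts:
* if a cyclic group `H` embeds in a finite group `G` and the `p`-parts of the orders agree, then every Sylow
  `p`-subgroup of `G` (hence every `p`-subgroup of `G`) is cyclic;
* if `p` does not divide `q` and `n` is the least positive exponent with `p ∣ q ^ n - 1` (or there is no
  such exponent `≤ n`), then every `p`-subgroup of `GL_n(q)` is cyclic (Singer cycle).
-/

set_option autoImplicit false

namespace Cfsg.Agent.LieExceptional.CyclicSylow

open Matrix

universe u v

/-- If a cyclic group `H` embeds in the finite group `G` and the `p`-parts of `|H|` and `|G|` agree, the Sylow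
`p`-subgroups of `G` are cyclic. -/
theorem isCyclic_sylow_of_hom {G : Type u} {H : Type v} [Group G] [Finite G] [Group H] [IsCyclic H]
    {p : ℕ} [Fact p.Prime] (f : H →* G) (hf : Function.Injective f)
    (hv : (Nat.card G).factorization p = (Nat.card H).factorization p) (P : Sylow p G) :
    IsCyclic P := by
  have : Finite H := Finite.of_injective f hf
  obtain ⟨Q⟩ : Nonempty (Sylow p H) := inferInstance
  have hcard : Nat.card ((Q : Subgroup H).map f) = p ^ (Nat.card G).factorization p := by
    rw [hv, ← Sylow.card_eq_multiplicity Q]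
    exact Nat.card_congr ((Q : Subgroup H).equivMapOfInjective f hf).toEquiv.symm
  let Q' : Sylow p G := Sylow.ofCard ((Q : Subgroup H).map f) hcard
  have hQ'c : IsCyclic Q' := by
    have e : (Q : Subgroup H) ≃* ((Q : Subgroup H).map f) := (Q : Subgroup H).equivMapOfInjective f hf
    have : IsCyclic ((Q : Subgroup H).map f) := (isCyclic_of_surjective e e.surjective)
    exact this
  obtain ⟨g, hg⟩ := MulAction.exists_smul_eq G Q' P
  subst hg
  exact isCyclic_of_surjective (Q'.equivSMul g) (Q'.equivSMul g).surjective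

/-- Same hypotheses: every `p`-subgroup of `G` is cyclic. -/
theorem isCyclic_of_isPGroup_of_hom {G : Type u} {H : Type v} [Group G] [Finite G] [Group H] [IsCyclic H]
    {p : ℕ} [Fact p.Prime] (f : H →* G) (hf : Function.Injective f)
    (hv : (Nat.card G).factorization p = (Nat.card H).factorization p) {Q : Subgroup G}
    (hQ : IsPGroup p Q) : IsCyclic Q := by
  obtain ⟨P, hP⟩ := hQ.exists_le_sylow
  have := isCyclic_sylow_of_hom f hf hv P
  exact isCyclic_of_injective (Subgroup.inclusion hP) (Subgroup.inclusion_injective hP)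

/-- The unit group of the extension of degree `n` of a finite field `F` embeds in `GL_n(F)` (Singer cycle). -/
theorem exists_singer (F : Type u) [Field F] [Finite F] (n : ℕ) [NeZero n] :
    ∃ (K : Type) (_ : Field K) (_ : Finite K), Nat.card K = Nat.card F ^ n ∧
      ∃ f : Kˣ →* GL (Fin n) F, Function.Injective f := by
  classical
  obtain ⟨p, hp⟩ := CharP.exists F
  have : Fact p.Prime := ⟨CharP.char_is_prime F p⟩
  refine ⟨FiniteField.Extension F p n, inferInstance, inferInstance,
    FiniteField.natCard_extension F p n, ?_⟩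
  let b := Module.finBasisOfFinrankEq F (FiniteField.Extension F p n) (FiniteField.finrank_extension F p n)
  refine ⟨Units.map (Algebra.leftMulMatrix b).toRingHom.toMonoidHom, ?_⟩
  apply Units.map_injective
  exact Algebra.leftMulMatrix_injective b

/-- The `p`-part of `|GL_n(q)|` when `p ∤ q` and `p ∤ q ^ i - 1` for `0 < i < n`. -/
theorem factorization_card_GL {F : Type u} [Field F] [Finite F] {n : ℕ} [NeZero n] {p : ℕ}
    [Fact p.Prime] (hpq : ¬ p ∣ Nat.card F) (h : ∀ i, 0 < i → i < n → ¬ p ∣ Nat.card F ^ i - 1) :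
    (Nat.card (GL (Fin n) F)).factorization p = (Nat.card F ^ n - 1).factorization p := by
  classical
  let _ : Fintype F := Fintype.ofFinite F
  have hq1 : 1 < Nat.card F := Finite.one_lt_card
  have hcard : Nat.card (GL (Fin n) F) = ∏ i : Fin n, (Nat.card F ^ n - Nat.card F ^ (i : ℕ)) := by
    rw [Nat.card_eq_fintype_card (α := F)]
    exact Matrix.card_GL_field (𝔽 := F) n
  rw [hcard]
  set q := Nat.card F with hq
  have hfac : ∀ i : Fin n, q ^ n - q ^ (i : ℕ) = q ^ (i : ℕ) * (q ^ (n - i) - 1) := by
    intro i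
    rw [Nat.mul_sub, ← pow_add, mul_one]
    congr 2
    omega
  have hpos : ∀ i : Fin n, q ^ (n - (i : ℕ)) - 1 ≠ 0 := by
    intro i
    have : 1 < q ^ (n - (i : ℕ)) := Nat.one_lt_pow (by omega) hq1
    omega
  have hq0 : q ≠ 0 := by omega
  rw [Nat.factorization_prod (fun i _ => by
    rw [hfac i]; exact mul_ne_zero (pow_ne_zero _ hq0) (hpos i))]
  rw [Finsupp.finsetSum_apply]
  rw [Finset.sum_eq_single (⟨0, Nat.pos_of_ne_zero (NeZero.ne n)⟩ : Fin n)]
  · simp
  · intro i _ hi
    rw [hfac i]
    apply Nat.factorization_eq_zero_of_not_dvd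
    intro hd
    rcases (Fact.out : p.Prime).dvd_mul.1 hd with h1 | h1
    · exact hpq ((Fact.out : p.Prime).dvd_of_dvd_pow h1)
    · refine h (n - i) (by omega) ?_ h1
      have : (i : ℕ) ≠ 0 := fun h0 => hi (Fin.ext h0)
      have := i.2
      omega
  · intro h0
    exact absurd (Finset.mem_univ _) h0

/-- If `p ∤ q` and `p ∤ q ^ i - 1` for `0 < i < n`, then every `p`-subgroup of `GL_n(q)` is cyclic. -/
theorem isCyclic_of_isPGroup_GL {F : Type u} [Field F] [Finite F] {n : ℕ} [NeZero n] {p : ℕ}
    [Fact p.Prime] (hpq : ¬ p ∣ Nat.card F) (h : ∀ i, 0 < i → i < n → ¬ p ∣ Nat.card F ^ i - 1)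
    {Q : Subgroup (GL (Fin n) F)} (hQ : IsPGroup p Q) : IsCyclic Q := by
  classical
  let _ : Fintype F := Fintype.ofFinite F
  obtain ⟨K, _, _, hK, f, hf⟩ := exists_singer F n
  have : Finite (GL (Fin n) F) := inferInstance
  refine isCyclic_of_isPGroup_of_hom f hf ?_ hQ
  rw [factorization_card_GL hpq h, ← hK]
  rw [Nat.card_units]

/-- If `p ∤ q` and `p ∤ q ^ i - 1` for `0 < i < n`, then every `p`-group with an injective homomorphism to
`GL_n(q)` is cyclic. -/
theorem isCyclic_of_isPGroup_of_hom_GL {F : Type u} [Field F] [Finite F] {n : ℕ} [NeZero n] {p : ℕ}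
    [Fact p.Prime] (hpq : ¬ p ∣ Nat.card F) (h : ∀ i, 0 < i → i < n → ¬ p ∣ Nat.card F ^ i - 1)
    {P : Type v} [Group P] (hP : IsPGroup p P) (f : P →* GL (Fin n) F) (hf : Function.Injective f) :
    IsCyclic P := by
  have h1 : IsPGroup p f.range := hP.of_surjective f.rangeRestrict f.rangeRestrict_surjective
  have := isCyclic_of_isPGroup_GL hpq h h1
  exact isCyclic_of_injective f.rangeRestrict (fun x y hxy => hf (congrArg Subtype.val hxy))

end Cfsg.Agent.LieExceptional.CyclicSylow
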