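import Mathlib

set_option autoImplicit false

namespace Cfsg.Agent.LieExceptional.FrobDimRing

open scoped Pointwise

/-- A finite reduced commutative ring with a group of prime order acting with fixed ring `{0,1}`: a
nonzero nonunit forces all elements to be idempotent. -/
theorem isUnit_of_ne_zero {E Γ : Type*} [CommRing E] [Finite E] [IsReduced E] [Group Γ] [Finite Γ]
    [MulSemiringAction Γ E] (hΓ : (Nat.card Γ).Prime)
    (hfix : ∀ e : E, (∀ g : Γ, g • e = e) → e = 0 ∨ e = 1) (h2 : (2 : E) = 0)
    (hne : ∃ w : E, w * w ≠ w) (e : E) (he : e ≠ 0) : IsUnit e := by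
  classical
  have := Fintype.ofFinite Γ
  by_contra hu
  -- product over a finset of conjugates
  let P : Finset Γ → E := fun S => ∏ g ∈ S, g • e
  have hPsmul : ∀ (h : Γ) (S : Finset Γ), h • P S = P (h • S) := by
    intro h S
    simp only [P]
    rw [Finset.smul_prod']
    rw [Finset.smul_finset_def, Finset.prod_image]
    · simp [mul_smul]
    · intro a _ b _ hab
      exact smul_left_cancel h hab
  -- norm is zero
  have hnorm : P Finset.univ = 0 := by
    have h1 : ∀ g : Γ, g • P Finset.univ = P Finset.univ := by
      intro g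
      rw [hPsmul]
      simp
    rcases hfix _ h1 with h | h
    · exact h
    · exfalso
      apply hu
      have : P Finset.univ = e * ∏ g ∈ Finset.univ.erase (1 : Γ), g • e := by
        simp only [P]
        rw [← Finset.mul_prod_erase Finset.univ _ (Finset.mem_univ (1 : Γ))]
        simp
      rw [this] at h
      exact IsUnit.of_mul_eq_one _ h
  -- maximal S with P S ≠ 0
  obtain ⟨S, hS, hmax⟩ : ∃ S : Finset Γ, P S ≠ 0 ∧ ∀ T : Finset Γ, P T ≠ 0 → T.card ≤ S.card := by
    have := Finset.exists_max_image (Finset.univ.filter (fun S : Finset Γ => P S ≠ 0)) Finset.card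
      ⟨{1}, by simp [P, he]⟩
    obtain ⟨S, hS, hmax⟩ := this
    simp only [Finset.mem_filter, Finset.mem_univ, true_and] at hS hmax
    exact ⟨S, hS, hmax⟩
  have hSne : S.Nonempty := by
    rw [Finset.nonempty_iff_ne_empty]
    rintro rfl
    have := hmax {1} (by simp [P, he])
    simp at this
  have hSuniv : S ≠ Finset.univ := by
    rintro rfl
    exact hS hnorm
  -- f
  set f := P S with hf
  have horth : ∀ h : Γ, h ≠ 1 → f * (h • f) = 0 := by
    intro h hh
    rw [hf, hPsmul]
    have hneS : h • S ≠ S := by
      intro hhS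
      -- stabilizer is everything
      have hst : MulAction.stabilizer Γ S = ⊤ := by
        have hdvd := Subgroup.card_subgroup_dvd_card (MulAction.stabilizer Γ S)
        rcases (Nat.dvd_prime hΓ).mp hdvd with h1 | h1
        · exfalso
          have hbot := (Subgroup.card_eq_one).mp h1
          have : h ∈ MulAction.stabilizer Γ S := hhS
          rw [hbot] at this
          exact hh (Subgroup.mem_bot.mp this)
        · exact Subgroup.eq_top_of_card_eq _ h1
      obtain ⟨s, hs⟩ := hSne
      apply hSuniv
      ext g
      simp only [Finset.mem_univ, iff_true]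
      have hmem : g * s⁻¹ ∈ MulAction.stabilizer Γ S := by rw [hst]; trivial
      have : (g * s⁻¹) • S = S := hmem
      rw [← this]
      have h3 := Finset.smul_mem_smul_finset (a := g * s⁻¹) hs
      simpa using h3
    have hcard : S.card < (S ∪ h • S).card := by
      apply Finset.card_lt_card
      rw [Finset.ssubset_iff_subset_ne]
      refine ⟨Finset.subset_union_left, ?_⟩
      intro heq
      have hsub : h • S ⊆ S := fun y hy => by
        have hy2 : y ∈ S ∪ h • S := Finset.mem_union_right _ hy
        rwa [← heq] at hy2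
      exact hneS (Finset.eq_of_subset_of_card_le hsub (by simp))
    have hz : P (S ∪ h • S) = 0 := by
      by_contra hnz
      have := hmax _ hnz
      omega
    have hui : P (S ∪ h • S) * P (S ∩ h • S) = P S * P (h • S) :=
      Finset.prod_union_inter
    rw [← hui, hz, zero_mul]
  have hf0 : f ≠ 0 := hS
  -- f * trace
  have htr : ∀ w : E, f * (f * w) = 0 ∨ f * (f * w) = f := by
    intro w
    have hinv : ∀ g : Γ, g • (∑ h : Γ, h • (f * w)) = ∑ h : Γ, h • (f * w) := by
      intro g
      rw [Finset.smul_sum]
      simp_rw [← mul_smul]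
      exact Fintype.sum_equiv (Equiv.mulLeft g) _ _ (fun _ => rfl)
    have hval : f * (∑ h : Γ, h • (f * w)) = f * (f * w) := by
      rw [Finset.mul_sum, Finset.sum_eq_single (1 : Γ)]
      · simp
      · intro h _ hh
        rw [smul_mul', ← mul_assoc, horth h hh, zero_mul]
      · simp
    rcases hfix _ hinv with h | h
    · left; rw [← hval, h, mul_zero]
    · right; rw [← hval, h, mul_one]
  have hff : f * f = f := by
    rcases htr 1 with h | h
    · exfalso
      rw [mul_one] at h
      apply hf0
      have hn : IsNilpotent f := ⟨2, by rw [pow_two]; exact h⟩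
      exact hn.eq_zero
    · simpa using h
  have hfw : ∀ w : E, f * w = 0 ∨ f * w = f := by
    intro w
    have := htr w
    rwa [← mul_assoc, hff] at this
  -- trace of f is 1
  have htr1 : ∑ h : Γ, h • f = 1 := by
    have hinv : ∀ g : Γ, g • (∑ h : Γ, h • f) = ∑ h : Γ, h • f := by
      intro g
      rw [Finset.smul_sum]
      simp_rw [← mul_smul]
      exact Fintype.sum_equiv (Equiv.mulLeft g) _ _ (fun _ => rfl)
    rcases hfix _ hinv with h | h
    · exfalso
      have hval : f * (∑ h : Γ, h • f) = f * f := by
        rw [Finset.mul_sum, Finset.sum_eq_single (1 : Γ)]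
        · simp
        · intro h _ hh
          exact horth h hh
        · simp
      rw [h, mul_zero, hff] at hval
      exact hf0 hval.symm
    · exact h
  have hchar : CharP E 2 := by
    have : Nontrivial E := ⟨⟨e, 0, he⟩⟩
    exact CharTwo.of_one_ne_zero_of_two_eq_zero one_ne_zero h2
  obtain ⟨w, hw⟩ := hne
  apply hw
  have hw1 : w = ∑ h : Γ, (h • f) * w := by
    rw [← Finset.sum_mul, htr1, one_mul]
  have hidem : ∀ h : Γ, ((h • f) * w) ^ 2 = (h • f) * w := by
    intro h
    have h1 : (h • f) * w = h • (f * (h⁻¹ • w)) := by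
      rw [smul_mul', smul_inv_smul]
    rcases hfw (h⁻¹ • w) with h2 | h2
    · rw [h1, h2]; simp
    · rw [h1, h2, ← smul_pow', pow_two, hff]
  rw [← pow_two]
  conv_lhs => rw [hw1]
  rw [CharTwo.sum_sq]
  simp_rw [hidem]
  exact hw1.symm

/-- The order of a finite reduced commutative ring of characteristic two, with a group `Γ` of prime order
acting faithfully with fixed ring `{0,1}` and not all elements idempotent, is `2 ^ |Γ|`. -/
theorem card_eq {E Γ : Type*} [CommRing E] [Finite E] [IsReduced E] [Group Γ] [Finite Γ]
    [MulSemiringAction Γ E] [FaithfulSMul Γ E] (hΓ : (Nat.card Γ).Prime)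
    (hfix : ∀ e : E, (∀ g : Γ, g • e = e) → e = 0 ∨ e = 1) (h2 : (2 : E) = 0)
    (hne : ∃ w : E, w * w ≠ w) : Nat.card E = 2 ^ Nat.card Γ := by
  classical
  have := Fintype.ofFinite Γ
  have hnt : Nontrivial E := by
    obtain ⟨w, hw⟩ := hne
    exact ⟨⟨_, _, hw⟩⟩
  have hfield : IsField E := by
    refine ⟨⟨0, 1, zero_ne_one⟩, mul_comm, ?_⟩
    intro a ha
    obtain ⟨u, hu⟩ := isUnit_of_ne_zero hΓ hfix h2 hne a ha
    exact ⟨(u⁻¹ : Eˣ), by rw [← hu]; simp⟩
  let _ : Field E := hfield.toField
  have hfr := FixedPoints.finrank_eq_card Γ E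
  have hcard : Nat.card (FixedPoints.subfield Γ E) = 2 := by
    rw [Nat.card_eq_two_iff]
    refine ⟨0, 1, zero_ne_one, ?_⟩
    ext ⟨e, he⟩
    simp only [Set.mem_insert_iff, Set.mem_singleton_iff, Set.mem_univ, iff_true]
    rcases hfix e (fun g => he g) with h | h
    · left; exact Subtype.ext h
    · right; exact Subtype.ext h
  have := Module.natCard_eq_pow_finrank (K := FixedPoints.subfield Γ E) (V := E)
  rw [this, hcard, hfr, Nat.card_eq_fintype_card]

end Cfsg.Agent.LieExceptional.FrobDimRing
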