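import Mathlib
import Cfsg.Agent.LieExceptional.FrobDimRing

set_option autoImplicit false

namespace Cfsg.Agent.LieExceptional.FrobDim

/-- In a group, if `x ^ r = 1` with `r` prime and `a` commutes with a nontrivial power `x ^ i`, `i < r`, then
`a` commutes with `x`. -/
theorem commute_of_commute_pow {K : Type*} [Group K] {x a : K} {r i : ℕ} (hr : r.Prime) (hx : x ^ r = 1)
    (hi : 0 < i) (hir : i < r) (h : Commute (x ^ i) a) : Commute x a := by
  have hcop : Nat.Coprime r i := (Nat.Prime.coprime_iff_not_dvd hr).mpr (Nat.not_dvd_of_pos_of_lt hi hir)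
  obtain ⟨m, hm⟩ := Nat.exists_mul_mod_eq_one_of_coprime hcop.symm hr.one_lt
  have hxm : (x ^ i) ^ m = x := by
    rw [← pow_mul, ← Nat.div_add_mod (i * m) r, hm.2, pow_add, pow_mul, hx, one_pow, one_mul, pow_one]
  rw [← hxm]
  exact h.pow_left m

/-- Let an abelian group `A` of odd order act on an abelian group `V` of exponent two, without nonzero fixed points, and
let `x` of prime order `r` normalise `A` with `C_A(x) = 1` and have exactly one nonzero fixed point on `V`.
Then `|V| = 2 ^ r`. -/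
theorem card_eq_two_pow {V K : Type*} [AddCommGroup V] [Finite V] (hV : ∀ v : V, v + v = 0)
    [Group K] (ρ : K →* AddMonoid.End V) (A : Subgroup K) [Finite A]
    (hcomm : ∀ a ∈ A, ∀ b ∈ A, a * b = b * a) (hodd : Odd (Nat.card A)) (hA : A ≠ ⊥)
    (x : K) {r : ℕ} (hr : r.Prime) (hx : x ^ r = 1) (hxA : ∀ a ∈ A, x * a * x⁻¹ ∈ A)
    (hC : ∀ a ∈ A, Commute x a → a = 1) (v₀ : V) (hv₀ : v₀ ≠ 0)
    (hfix : ∀ v, ρ x v = v → v = 0 ∨ v = v₀) (hfix0 : ρ x v₀ = v₀)
    (hfree : ∀ v, (∀ a ∈ A, ρ a v = v) → v = 0) (hinj : ∀ a ∈ A, ρ a = 1 → a = 1) :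
    Nat.card V = 2 ^ r := by
  classical
  have := Fintype.ofFinite A
  -- powers of x normalise A
  have hxpow : ∀ (i : ℕ), ∀ a ∈ A, x ^ i * a * (x ^ i)⁻¹ ∈ A := by
    intro i
    induction i with
    | zero => intro a ha; simpa using ha
    | succ i ih =>
      intro a ha
      have := hxA _ (ih a ha)
      have h2 : x ^ (i + 1) * a * (x ^ (i + 1))⁻¹ = x * (x ^ i * a * (x ^ i)⁻¹) * x⁻¹ := by
        rw [pow_succ']; group
      rwa [h2]
  have hρmul : ∀ (g h : K) (v : V), ρ (g * h) v = ρ g (ρ h v) := by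
    intro g h v; rw [map_mul]; rfl
  -- the sum over A kills everything
  have hsumA : ∀ u : V, ∑ a : A, ρ (a : K) u = 0 := by
    intro u
    apply hfree
    intro b hb
    rw [map_sum]
    simp_rw [← hρmul]
    exact Fintype.sum_equiv (Equiv.mulLeft (⟨b, hb⟩ : A)) _ _ (fun _ => rfl)
  -- nsmul by odd numbers
  have hoddsmul : ∀ (n : ℕ) (v : V), Odd n → n • v = v := by
    rintro n v ⟨k, rfl⟩
    rw [add_smul, one_smul, mul_comm, mul_smul, two_smul, hV, smul_zero, zero_add]
  let T : V → V := fun u => ∑ i ∈ Finset.range r, ρ (x ^ i) u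
  have hTfix : ∀ u, T u = 0 ∨ T u = v₀ := by
    intro u
    apply hfix
    simp only [T]
    rw [map_sum]
    simp_rw [← hρmul, ← pow_succ']
    have h1 := Finset.sum_range_succ (fun i => ρ (x ^ i) u) r
    have h2 := Finset.sum_range_succ' (fun i => ρ (x ^ i) u) r
    rw [h1] at h2
    rw [hx, pow_zero] at h2
    exact (add_right_cancel h2).symm
  -- the key identity
  have hkey : ∀ w : V, ∑ a : A, ρ (a : K) (T (ρ (a : K)⁻¹ w)) = w := by
    intro w
    simp only [T]
    simp_rw [map_sum, ← hρmul]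
    rw [Finset.sum_comm, Finset.sum_eq_single 0]
    · simp only [pow_zero, one_mul, mul_inv_cancel, map_one]
      rw [Finset.sum_const, Finset.card_univ, ← Nat.card_eq_fintype_card]
      exact hoddsmul _ _ hodd
    · intro i hi hi0
      have hir : i < r := Finset.mem_range.mp hi
      let φ : A → A := fun a => ⟨(a : K) * (x ^ i * (a : K)⁻¹ * (x ^ i)⁻¹),
        A.mul_mem a.2 (hxpow i _ (A.inv_mem a.2))⟩
      have hφinj : Function.Injective φ := by
        intro a b hab
        have h1 : (a : K) * (x ^ i * (a : K)⁻¹ * (x ^ i)⁻¹) = (b : K) * (x ^ i * (b : K)⁻¹ * (x ^ i)⁻¹) :=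
          congrArg Subtype.val hab
        have h2 : (b : K)⁻¹ * a = 1 := by
          apply hC _ (A.mul_mem (A.inv_mem b.2) a.2)
          apply commute_of_commute_pow hr hx (Nat.pos_of_ne_zero hi0) hir
          have h3 : (a : K) * x ^ i * (a : K)⁻¹ = b * x ^ i * (b : K)⁻¹ := by
            have := congrArg (· * x ^ i) h1
            simpa [mul_assoc] using this
          change x ^ i * ((b : K)⁻¹ * a) = (b : K)⁻¹ * a * x ^ i
          have := congrArg (fun z => (b : K)⁻¹ * z * a) h3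
          simp only [mul_assoc, inv_mul_cancel, mul_one, inv_mul_cancel_left] at this
          rw [mul_assoc]
          exact this.symm
        exact Subtype.ext (inv_mul_eq_one.mp h2).symm
      have hφbij : Function.Bijective φ := Finite.injective_iff_bijective.mp hφinj
      have h4 : ∑ a : A, ρ ((a : K) * (x ^ i * (a : K)⁻¹)) w = ∑ a : A, ρ ((φ a : A) : K) (ρ (x ^ i) w) := by
        apply Finset.sum_congr rfl
        intro a _
        rw [← hρmul]
        congr 2
        simp only [φ]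
        group
      rw [h4]
      rw [hφbij.sum_comp (fun b : A => ρ (b : K) (ρ (x ^ i) w))]
      exact hsumA _
    · intro h; exact absurd (Finset.mem_range.mpr hr.pos) h
  -- the ring
  let s : Set (AddMonoid.End V) := ρ '' (A : Set K)
  have hscomm : ∀ y ∈ s, ∀ z ∈ s, y * z = z * y := by
    rintro _ ⟨a, ha, rfl⟩ _ ⟨b, hb, rfl⟩
    rw [← map_mul, ← map_mul, hcomm a ha b hb]
  let E : Subring (AddMonoid.End V) := Subring.closure s
  let _ : CommRing E := Subring.closureCommRingOfComm hscomm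
  have hAE : ∀ a ∈ A, ρ a ∈ E := fun a ha => Subring.subset_closure ⟨a, ha, rfl⟩
  have hfinEnd : Finite (AddMonoid.End V) := Finite.of_injective (fun f : V →+ V => (f : V → V)) DFunLike.coe_injective
  have hfinE : Finite E := inferInstance
  -- evaluation
  have hEcomm : ∀ e ∈ E, ∀ a ∈ A, e * ρ a = ρ a * e := by
    intro e he a ha
    have := mul_comm (⟨e, he⟩ : E) ⟨ρ a, hAE a ha⟩
    exact congrArg Subtype.val this
  have hsurj : ∀ w : V, ∃ e ∈ E, e v₀ = w := by
    intro w
    have h1 : ∀ a : A, ∃ e ∈ E, e v₀ = ρ (a : K) (T (ρ (a : K)⁻¹ w)) := by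
      intro a
      rcases hTfix (ρ (a : K)⁻¹ w) with h | h
      · exact ⟨0, E.zero_mem, by rw [h, map_zero]; rfl⟩
      · exact ⟨ρ a, hAE _ a.2, by rw [h]⟩
    choose f hf1 hf2 using h1
    refine ⟨∑ a, f a, E.sum_mem (fun a _ => hf1 a), ?_⟩
    rw [← hkey w]
    rw [← Finset.sum_congr rfl (fun a _ => hf2 a)]
    exact AddMonoidHom.finsetSum_apply _ _ _
  have hevinj : ∀ e ∈ E, e v₀ = 0 → e = 0 := by
    intro e he h0
    ext w
    rw [← hkey w]
    change e _ = 0
    rw [map_sum]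
    apply Finset.sum_eq_zero
    intro a _
    have h3 : e (ρ (a : K) (T (ρ (a : K)⁻¹ w))) = ρ (a : K) (e (T (ρ (a : K)⁻¹ w))) :=
      congrArg (fun f : AddMonoid.End V => f (T (ρ (a : K)⁻¹ w))) (hEcomm e he a a.2)
    rw [h3]
    rcases hTfix (ρ (a : K)⁻¹ w) with h | h
    · rw [h, map_zero, map_zero]
    · rw [h, h0, map_zero]
  have hcardE : Nat.card E = Nat.card V := by
    apply Nat.card_congr
    refine Equiv.ofBijective (fun e : E => (e : AddMonoid.End V) v₀) ⟨?_, ?_⟩
    · intro e e' h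
      have : ((e : AddMonoid.End V) - e') = 0 := by
        apply hevinj _ (E.sub_mem e.2 e'.2)
        change (e : AddMonoid.End V) v₀ - (e' : AddMonoid.End V) v₀ = 0
        exact sub_eq_zero.mpr h
      exact Subtype.ext (sub_eq_zero.mp this)
    · intro w
      obtain ⟨e, he, hw⟩ := hsurj w
      exact ⟨⟨e, he⟩, hw⟩
  have h2E : (2 : E) = 0 := by
    apply Subtype.ext
    ext v
    change ((2 : AddMonoid.End V)) v = 0
    rw [show (2 : AddMonoid.End V) = 1 + 1 from one_add_one_eq_two.symm]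
    exact hV v
  -- reduced
  have hchar : CharP E 2 := by
    have : Nontrivial E := by
      refine ⟨⟨0, 1, ?_⟩⟩
      intro h
      have : (0 : AddMonoid.End V) v₀ = (1 : AddMonoid.End V) v₀ := by
        have := congrArg Subtype.val h
        exact congrArg (fun f : AddMonoid.End V => f v₀) this
      exact hv₀ this.symm
    exact CharTwo.of_one_ne_zero_of_two_eq_zero one_ne_zero h2E
  have hsq : ∀ e : E, ∃ e' : E, e' ^ 2 = e := by
    rintro ⟨e, he⟩
    induction he using Subring.closure_induction with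
    | mem y hy =>
      obtain ⟨a, ha, rfl⟩ := hy
      obtain ⟨k, hk⟩ := hodd
      refine ⟨⟨ρ (a ^ (k + 1)), hAE _ (A.pow_mem ha _)⟩, ?_⟩
      apply Subtype.ext
      change (ρ (a ^ (k + 1))) ^ 2 = ρ a
      rw [← map_pow, ← pow_mul]
      congr 1
      have h1 : a ^ Nat.card A = 1 := by
        have := pow_card_eq_one' (x := (⟨a, ha⟩ : A))
        exact congrArg Subtype.val this
      rw [show (k + 1) * 2 = Nat.card A + 1 by omega, pow_succ, h1, one_mul]
    | zero => exact ⟨0, by simp; rfl⟩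
    | one => exact ⟨1, by simp; rfl⟩
    | add y z hy hz ihy ihz =>
      obtain ⟨e1, h1⟩ := ihy
      obtain ⟨e2, h2⟩ := ihz
      refine ⟨e1 + e2, ?_⟩
      rw [CharTwo.add_sq, h1, h2]
      rfl
    | neg y hy ihy =>
      obtain ⟨e1, h1⟩ := ihy
      refine ⟨e1, ?_⟩
      rw [h1]
      have h3 := CharTwo.neg_eq (⟨y, hy⟩ : E)
      exact h3.symm
    | mul y z hy hz ihy ihz =>
      obtain ⟨e1, h1⟩ := ihy
      obtain ⟨e2, h2⟩ := ihz
      refine ⟨e1 * e2, ?_⟩
      rw [mul_pow, h1, h2]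
      rfl
  have hred : IsReduced E := by
    rw [isReduced_iff_pow_one_lt 2 one_lt_two]
    intro y hy
    have hinj2 : Function.Injective (fun e : E => e ^ 2) := Finite.injective_iff_surjective.mpr hsq
    apply hinj2
    simpa using hy
  -- x ≠ 1
  obtain ⟨⟨a₀, ha₀⟩, ha₀1'⟩ := Subgroup.ne_bot_iff_exists_ne_one.mp hA
  have ha₀1 : a₀ ≠ 1 := fun h => ha₀1' (Subtype.ext h)
  have hx1 : x ≠ 1 := by
    rintro rfl
    exact ha₀1 (hC a₀ ha₀ (Commute.one_left _))
  have : Fact r.Prime := ⟨hr⟩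
  have hordx : orderOf x = r := orderOf_eq_prime hx hx1
  let Γ := Subgroup.zpowers x
  have hfinΓ : Finite Γ := by
    have : IsOfFinOrder x := isOfFinOrder_iff_pow_eq_one.mpr ⟨r, hr.pos, hx⟩
    exact this.finite_zpowers
  have hcardΓ : Nat.card Γ = r := by rw [← hordx]; exact Nat.card_zpowers x
  have hΓpow : ∀ g : Γ, ∃ i : ℕ, i < r ∧ x ^ i = g := by
    rintro ⟨g, hg⟩
    have hfo : IsOfFinOrder x := isOfFinOrder_iff_pow_eq_one.mpr ⟨r, hr.pos, hx⟩
    obtain ⟨i, hi⟩ := hfo.mem_powers_iff_mem_zpowers.mpr hg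
    refine ⟨i % r, Nat.mod_lt _ hr.pos, ?_⟩
    change x ^ (i % r) = g
    rw [← hordx, pow_mod_orderOf]
    exact hi
  have hΓA : ∀ g : Γ, ∀ a ∈ A, (g : K) * a * (g : K)⁻¹ ∈ A := by
    intro g a ha
    obtain ⟨i, -, hi⟩ := hΓpow g
    rw [← hi]
    exact hxpow i a ha
  have hΓE : ∀ g : Γ, ∀ e ∈ E, ρ (g : K) * e * ρ ((g : K)⁻¹) ∈ E := by
    intro g e he
    have hinvmul : ρ ((g : K)⁻¹) * ρ (g : K) = 1 := by rw [← map_mul, inv_mul_cancel, map_one]
    have hmulinv : ρ (g : K) * ρ ((g : K)⁻¹) = 1 := by rw [← map_mul, mul_inv_cancel, map_one]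
    induction he using Subring.closure_induction with
    | mem y hy =>
      obtain ⟨a, ha, rfl⟩ := hy
      rw [← map_mul, ← map_mul]
      exact hAE _ (hΓA g a ha)
    | zero => rw [mul_zero, zero_mul]; exact E.zero_mem
    | one => rw [mul_one, hmulinv]; exact E.one_mem
    | add y z hy hz ihy ihz => rw [mul_add, add_mul]; exact E.add_mem ihy ihz
    | neg y hy ihy => rw [mul_neg, neg_mul]; exact E.neg_mem ihy
    | mul y z hy hz ihy ihz =>
      have : ρ (g : K) * (y * z) * ρ ((g : K)⁻¹) = (ρ (g : K) * y * ρ ((g : K)⁻¹)) * (ρ (g : K) * z * ρ ((g : K)⁻¹)) := by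
        calc ρ (g : K) * (y * z) * ρ ((g : K)⁻¹) = ρ (g : K) * y * 1 * z * ρ ((g : K)⁻¹) := by
              rw [mul_one, mul_assoc (ρ (g : K)) y z]
          _ = _ := by rw [← hinvmul]; simp only [mul_assoc]
      rw [this]
      exact E.mul_mem ihy ihz
  let act : MulSemiringAction Γ E :=
    { smul := fun g e => ⟨ρ (g : K) * e * ρ ((g : K)⁻¹), hΓE g e e.2⟩
      one_smul := by
        intro e
        apply Subtype.ext
        change ρ ((1 : Γ) : K) * (e : AddMonoid.End V) * ρ (((1 : Γ) : K)⁻¹) = e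
        simp
      mul_smul := by
        intro g h e
        apply Subtype.ext
        change ρ ((g * h : Γ) : K) * (e : AddMonoid.End V) * ρ (((g * h : Γ) : K)⁻¹) =
          ρ (g : K) * (ρ (h : K) * (e : AddMonoid.End V) * ρ ((h : K)⁻¹)) * ρ ((g : K)⁻¹)
        rw [Subgroup.coe_mul, mul_inv_rev, map_mul, map_mul]
        simp only [mul_assoc]
      smul_zero := by
        intro g
        apply Subtype.ext
        change ρ (g : K) * (0 : AddMonoid.End V) * ρ ((g : K)⁻¹) = 0
        simp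
      smul_add := by
        intro g e e'
        apply Subtype.ext
        change ρ (g : K) * ((e : AddMonoid.End V) + e') * ρ ((g : K)⁻¹) = ρ (g : K) * e * ρ ((g : K)⁻¹) + ρ (g : K) * e' * ρ ((g : K)⁻¹)
        rw [mul_add, add_mul]
      smul_one := by
        intro g
        apply Subtype.ext
        change ρ (g : K) * (1 : AddMonoid.End V) * ρ ((g : K)⁻¹) = 1
        rw [mul_one, ← map_mul, mul_inv_cancel, map_one]
      smul_mul := by
        intro g e e'
        apply Subtype.ext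
        change ρ (g : K) * ((e : AddMonoid.End V) * e') * ρ ((g : K)⁻¹) = (ρ (g : K) * e * ρ ((g : K)⁻¹)) * (ρ (g : K) * e' * ρ ((g : K)⁻¹))
        have hinvmul : ρ ((g : K)⁻¹) * ρ (g : K) = 1 := by rw [← map_mul, inv_mul_cancel, map_one]
        calc ρ (g : K) * ((e : AddMonoid.End V) * e') * ρ ((g : K)⁻¹) = ρ (g : K) * e * 1 * e' * ρ ((g : K)⁻¹) := by
              rw [mul_one, mul_assoc (ρ (g : K)) (e : AddMonoid.End V) (e' : AddMonoid.End V)]
          _ = _ := by rw [← hinvmul]; simp only [mul_assoc] }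
  have hsmul : ∀ (g : Γ) (e : E), ((g • e : E) : AddMonoid.End V) = ρ (g : K) * e * ρ ((g : K)⁻¹) := fun _ _ => rfl
  have hfaith : FaithfulSMul Γ E := by
    constructor
    intro g h hgh
    by_contra hne
    -- k = h⁻¹ g acts trivially
    have hk : ∀ e : E, (h⁻¹ * g) • e = e := by
      intro e
      rw [mul_smul, hgh e, inv_smul_smul]
    have hk1 : h⁻¹ * g ≠ 1 := fun h1 => hne (inv_mul_eq_one.mp h1).symm
    obtain ⟨i, hir, hi⟩ := hΓpow (h⁻¹ * g)
    have hi0 : 0 < i := by
      rcases Nat.eq_zero_or_pos i with h0 | h0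
      · exfalso
        apply hk1
        apply Subtype.ext
        rw [← hi, h0, pow_zero]; rfl
      · exact h0
    apply ha₀1
    apply hC a₀ ha₀
    apply commute_of_commute_pow hr hx hi0 hir
    have h5 := congrArg Subtype.val (hk ⟨ρ a₀, hAE a₀ ha₀⟩)
    rw [hsmul, ← map_mul, ← map_mul] at h5
    change ρ (((h⁻¹ * g : Γ) : K) * a₀ * ((h⁻¹ * g : Γ) : K)⁻¹) = ρ a₀ at h5
    have h6 : (((h⁻¹ * g : Γ) : K) * a₀ * ((h⁻¹ * g : Γ) : K)⁻¹) * a₀⁻¹ = 1 := by
      apply hinj _ (A.mul_mem (hΓA _ _ ha₀) (A.inv_mem ha₀))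
      rw [map_mul, h5, ← map_mul, mul_inv_cancel, map_one]
    rw [← hi] at h6
    have h7 : x ^ i * a₀ * (x ^ i)⁻¹ = a₀ := mul_inv_eq_one.mp h6
    exact mul_inv_eq_iff_eq_mul.mp h7
  have hfixE : ∀ e : E, (∀ g : Γ, g • e = e) → e = 0 ∨ e = 1 := by
    intro e he
    have h1 := congrArg Subtype.val (he ⟨x, Subgroup.mem_zpowers x⟩)
    rw [hsmul] at h1
    change ρ x * (e : AddMonoid.End V) * ρ (x⁻¹) = e at h1
    have hxinv : ρ (x⁻¹) v₀ = v₀ := by
      have : ρ (x⁻¹) (ρ x v₀) = v₀ := by rw [← hρmul, inv_mul_cancel, map_one]; rfl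
      rwa [hfix0] at this
    have h2 : ρ x ((e : AddMonoid.End V) v₀) = (e : AddMonoid.End V) v₀ := by
      have := congrArg (fun f : AddMonoid.End V => f v₀) h1
      change ρ x ((e : AddMonoid.End V) (ρ (x⁻¹) v₀)) = (e : AddMonoid.End V) v₀ at this
      rwa [hxinv] at this
    rcases hfix _ h2 with h3 | h3
    · left; exact Subtype.ext (hevinj _ e.2 h3)
    · right
      have : ((e : AddMonoid.End V) - 1) = 0 := by
        apply hevinj _ (E.sub_mem e.2 E.one_mem)
        change (e : AddMonoid.End V) v₀ - v₀ = 0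
        rw [h3, sub_self]
      exact Subtype.ext (sub_eq_zero.mp this)
  have hne : ∃ w : E, w * w ≠ w := by
    refine ⟨⟨ρ a₀, hAE a₀ ha₀⟩, ?_⟩
    intro h
    have h1 : ρ a₀ * ρ a₀ = ρ a₀ := congrArg Subtype.val h
    apply ha₀1
    apply hinj a₀ ha₀
    have h2 : ρ (a₀⁻¹) * (ρ a₀ * ρ a₀) = ρ (a₀⁻¹) * ρ a₀ := by rw [h1]
    rw [← mul_assoc, ← map_mul, inv_mul_cancel, map_one, one_mul] at h2
    exact h2
  have := FrobDimRing.card_eq (E := E) (Γ := Γ) (by rw [hcardΓ]; exact hr) hfixE h2E hne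
  rw [← hcardE, this, hcardΓ]

end Cfsg.Agent.LieExceptional.FrobDim
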