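import Mathlib

set_option autoImplicit false

namespace Cfsg.Agent.LieExceptional.FrobInvariantAbelian

open scoped Pointwise

/-- An element `x` of prime order `r` normalises a nontrivial abelian subgroup of a nontrivial normal subgroup `M` of order
prime to `r`. -/
theorem exists_abelian_invariant {K : Type*} [Group K] [Finite K] (M : Subgroup K) [M.Normal] (hM : M ≠ ⊥)
    (x : K) {r : ℕ} (hr : r.Prime) (hx : x ^ r = 1) (hrM : ¬ r ∣ Nat.card M) :
    ∃ A : Subgroup K, A ≤ M ∧ A ≠ ⊥ ∧ (∀ a ∈ A, ∀ b ∈ A, a * b = b * a) ∧ ∀ a ∈ A, x * a * x⁻¹ ∈ A := by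
  classical
  have : Fact r.Prime := ⟨hr⟩
  have hM1 : Nat.card M ≠ 1 := fun h => hM (Subgroup.card_eq_one.mp h)
  obtain ⟨q, hq, hqM⟩ := Nat.exists_prime_and_dvd hM1
  have : Fact q.Prime := ⟨hq⟩
  let Γ : Subgroup (ConjAct K) := Subgroup.zpowers (ConjAct.toConjAct x)
  have hΓ : IsPGroup r Γ := by
    rintro ⟨g, hg⟩
    refine ⟨1, ?_⟩
    obtain ⟨i, rfl⟩ := Subgroup.mem_zpowers_iff.mp hg
    apply Subtype.ext
    change ((ConjAct.toConjAct x) ^ i) ^ (r ^ 1) = 1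
    rw [pow_one, ← zpow_natCast, ← zpow_mul, mul_comm, zpow_mul, zpow_natCast, ← map_pow, hx, map_one, one_zpow]
  obtain ⟨P⟩ : Nonempty (Sylow q M) := inferInstance
  have hcard : ¬ r ∣ Nat.card (Sylow q M) := by
    intro h
    apply hrM
    exact (h.trans P.card_dvd_index).trans (Subgroup.index_dvd_card _)
  obtain ⟨Q, hQ⟩ := hΓ.nonempty_fixed_point_of_prime_not_dvd_card (Sylow q M) hcard
  have hQx : ConjAct.toConjAct x • Q = Q := hQ ⟨ConjAct.toConjAct x, Subgroup.mem_zpowers _⟩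
  -- Q as subgroup of K
  let Q' : Subgroup K := (Q : Subgroup M).map M.subtype
  have hmem : ∀ y : K, y ∈ Q' ↔ ∃ h : y ∈ M, (⟨y, h⟩ : M) ∈ (Q : Subgroup M) := by
    intro y
    constructor
    · rintro ⟨z, hz, rfl⟩
      exact ⟨z.2, hz⟩
    · rintro ⟨h, hy⟩
      exact ⟨⟨y, h⟩, hy, rfl⟩
  have hconj : ∀ y : K, y ∈ Q' → x * y * x⁻¹ ∈ Q' := by
    intro y hy
    obtain ⟨hyM, hyQ⟩ := (hmem y).mp hy
    have hsub : ((ConjAct.toConjAct x • Q : Sylow q M) : Subgroup M) = (Q : Subgroup M) := by rw [hQx]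
    have h1 : ConjAct.toConjAct x • (⟨y, hyM⟩ : M) ∈ ((ConjAct.toConjAct x • Q : Sylow q M) : Subgroup M) := by
      rw [Sylow.pointwise_smul_def]
      exact Subgroup.smul_mem_pointwise_smul _ _ _ hyQ
    rw [hsub] at h1
    rw [hmem]
    exact ⟨(inferInstance : M.Normal).conj_mem y hyM x, h1⟩
  have hconjinv : ∀ y : K, y ∈ Q' → x⁻¹ * y * x ∈ Q' := by
    intro y hy
    obtain ⟨hyM, hyQ⟩ := (hmem y).mp hy
    have hQx' : (ConjAct.toConjAct x)⁻¹ • Q = Q := by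
      rw [inv_smul_eq_iff]; exact hQx.symm
    have hsub : (((ConjAct.toConjAct x)⁻¹ • Q : Sylow q M) : Subgroup M) = (Q : Subgroup M) := by rw [hQx']
    have h1 : (ConjAct.toConjAct x)⁻¹ • (⟨y, hyM⟩ : M) ∈ (((ConjAct.toConjAct x)⁻¹ • Q : Sylow q M) : Subgroup M) := by
      rw [Sylow.pointwise_smul_def]
      exact Subgroup.smul_mem_pointwise_smul _ _ _ hyQ
    rw [hsub] at h1
    rw [hmem]
    have h2 := (inferInstance : M.Normal).conj_mem y hyM x⁻¹
    rw [inv_inv] at h2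
    refine ⟨h2, ?_⟩
    have h3 : ((ConjAct.toConjAct x)⁻¹ • (⟨y, hyM⟩ : M)) = ⟨x⁻¹ * y * x, h2⟩ := by
      apply Subtype.ext
      rw [ConjAct.Subgroup.val_conj_smul, ← map_inv, ConjAct.toConjAct_smul, inv_inv]
    rw [← h3]
    exact h1
  refine ⟨Q' ⊓ Subgroup.centralizer (Q' : Set K), ?_, ?_, ?_, ?_⟩
  · intro y hy
    exact ((hmem y).mp hy.1).1
  · -- nontrivial
    have hQne : (Q : Subgroup M) ≠ ⊥ := Q.ne_bot_of_dvd_card hqM
    have hQnt : Nontrivial (Q : Subgroup M) := (Subgroup.nontrivial_iff_ne_bot _).mpr hQne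
    have hcen := Q.isPGroup'.center_nontrivial
    obtain ⟨z, hz⟩ := exists_ne (1 : Subgroup.center (Q : Subgroup M))
    rw [Subgroup.ne_bot_iff_exists_ne_one]
    refine ⟨⟨(((z : (Q : Subgroup M)) : M) : K), ?_⟩, ?_⟩
    · refine Subgroup.mem_inf.mpr ⟨(hmem _).mpr ⟨((z : (Q : Subgroup M)) : M).2, (z : (Q : Subgroup M)).2⟩, ?_⟩
      rw [Subgroup.mem_centralizer_iff]
      intro y hy
      obtain ⟨hyM, hyQ⟩ := (hmem y).mp hy
      have := Subgroup.mem_center_iff.mp z.2 ⟨⟨y, hyM⟩, hyQ⟩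
      exact congrArg (fun w : (Q : Subgroup M) => ((w : M) : K)) this
    · intro h
      apply hz
      have h1 : (((z : (Q : Subgroup M)) : M) : K) = 1 := congrArg Subtype.val h
      have h2 : ((z : (Q : Subgroup M)) : M) = 1 := Subtype.ext h1
      have h3 : (z : (Q : Subgroup M)) = 1 := Subtype.ext h2
      exact Subtype.ext h3
  · intro a ha b hb
    exact (Subgroup.mem_centralizer_iff.mp ha.2 b hb.1).symm
  · intro a ha
    refine Subgroup.mem_inf.mpr ⟨hconj a ha.1, ?_⟩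
    rw [Subgroup.mem_centralizer_iff]
    intro y hy
    have h1 := Subgroup.mem_centralizer_iff.mp ha.2 _ (hconjinv y hy)
    have := congrArg (fun z => x * z * x⁻¹) h1
    simpa [mul_assoc] using this

end Cfsg.Agent.LieExceptional.FrobInvariantAbelian
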