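import Mathlib

/-!
Matrices `M` over a field whose minimal polynomial is irreducible of degree the size of `M`:
the matrices commuting with `M` are the polynomials in `M`, they form a field, so over a finite field every group of
invertible matrices commuting with `M` is cyclic, and at most `n` conjugates of `M` commute with `M`.
Also: over a field with `q` elements, `q` even, a non-identity `4 × 4` matrix `M` with `M ^ (q² + 1) = 1` is such a
matrix.
-/

set_option autoImplicit false

namespace Cfsg.Agent.LieExceptional.IrredMatrix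

open Matrix Polynomial

universe u

variable {F : Type u} [Field F] {n : ℕ}

/-- If the minimal polynomial of `M` is irreducible, every polynomial in `M` is zero or invertible. -/
theorem exists_inv_aeval {M : Matrix (Fin n) (Fin n) F} (hM : Irreducible (minpoly F M)) (f : F[X])
    (hf : aeval M f ≠ 0) : ∃ g : F[X], aeval M g * aeval M f = 1 := by
  have h1 : ¬ minpoly F M ∣ f := fun h => hf ((minpoly.dvd_iff).1 h)
  obtain ⟨a, b, hab⟩ := (hM.coprime_iff_not_dvd).2 h1
  refine ⟨b, ?_⟩
  have := congrArg (aeval M) hab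
  simpa using this

theorem mulVec_aeval_ne_zero {M : Matrix (Fin n) (Fin n) F} (hM : Irreducible (minpoly F M)) (f : F[X])
    (hf : aeval M f ≠ 0) {v : Fin n → F} (hv : v ≠ 0) : (aeval M f) *ᵥ v ≠ 0 := by
  intro h
  obtain ⟨g, hg⟩ := exists_inv_aeval hM f hf
  apply hv
  calc v = (aeval M g * aeval M f) *ᵥ v := by rw [hg, Matrix.one_mulVec]
    _ = aeval M g *ᵥ (aeval M f *ᵥ v) := by rw [Matrix.mulVec_mulVec]
    _ = 0 := by rw [h, Matrix.mulVec_zero]

/-- every vector is of the form `f(M) v` -/
theorem exists_aeval_mulVec_eq {M : Matrix (Fin n) (Fin n) F} (hM : Irreducible (minpoly F M))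
    (hd : n ≤ (minpoly F M).natDegree) {v : Fin n → F} (hv : v ≠ 0) (w : Fin n → F) :
    ∃ f : F[X], (aeval M f) *ᵥ v = w := by
  let ψ : F[X] →ₗ[F] (Fin n → F) :=
    { toFun := fun f => (aeval M f) *ᵥ v
      map_add' := by intro f g; simp [Matrix.add_mulVec]
      map_smul' := by intro c f; simp [Matrix.smul_mulVec] }
  let φ : (Fin n → F) →ₗ[F] (Fin n → F) :=
    (ψ.comp (Submodule.subtype _)).comp (degreeLTEquiv F n).symm.toLinearMap
  have hinj : Function.Injective φ := by
    rw [← LinearMap.ker_eq_bot, LinearMap.ker_eq_bot']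
    intro c hc
    by_contra hne
    have h1 : ((degreeLTEquiv F n).symm c : F[X]) ≠ 0 := by
      intro h
      apply hne
      have h2 : (degreeLTEquiv F n).symm c = 0 := Subtype.ext h
      simpa using h2
    have h2 : aeval M ((degreeLTEquiv F n).symm c : F[X]) ≠ 0 := by
      intro h
      have h3 := (minpoly.dvd_iff).2 h
      have h4 := degree_le_of_dvd h3 h1
      have h5 := mem_degreeLT.1 ((degreeLTEquiv F n).symm c).2
      have h6 : (n : WithBot ℕ) ≤ (minpoly F M).degree := by
        rw [degree_eq_natDegree hM.ne_zero]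
        exact_mod_cast hd
      exact absurd (lt_of_le_of_lt (h6.trans h4) h5) (lt_irrefl _)
    exact mulVec_aeval_ne_zero hM _ h2 hv hc
  have hsurj : Function.Surjective φ := LinearMap.injective_iff_surjective.1 hinj
  obtain ⟨c, hc⟩ := hsurj w
  exact ⟨_, hc⟩

/-- the matrices commuting with `M` are the polynomials in `M` -/
theorem exists_eq_aeval_of_commute {M : Matrix (Fin n) (Fin n) F} (hM : Irreducible (minpoly F M))
    (hd : n ≤ (minpoly F M).natDegree) {N : Matrix (Fin n) (Fin n) F} (hN : Commute M N) :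
    ∃ f : F[X], N = aeval M f := by
  rcases Nat.eq_zero_or_pos n with h0 | h0
  · subst h0
    exact ⟨0, Subsingleton.elim _ _⟩
  have hv : (Pi.single ⟨0, h0⟩ 1 : Fin n → F) ≠ 0 := by
    intro h
    have := congrFun h ⟨0, h0⟩
    simp at this
  obtain ⟨f, hf⟩ := exists_aeval_mulVec_eq hM hd hv (N *ᵥ (Pi.single ⟨0, h0⟩ 1))
  refine ⟨f, ?_⟩
  have hcomm : ∀ g : F[X], Commute (aeval M g) N := by
    intro g
    induction g using Polynomial.induction_on' with
    | add p q hp hq => rw [map_add]; exact hp.add_left hq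
    | monomial k a =>
      rw [aeval_monomial]
      exact (Algebra.commute_algebraMap_left a N).mul_left (hN.pow_left k)
  refine Matrix.ext_of_mulVec_single ?_
  intro i
  obtain ⟨g, hg⟩ := exists_aeval_mulVec_eq hM hd hv (Pi.single i 1)
  rw [← hg, Matrix.mulVec_mulVec, ← (hcomm g).eq, ← Matrix.mulVec_mulVec, ← hf, Matrix.mulVec_mulVec,
    Matrix.mulVec_mulVec, ← map_mul, ← map_mul, mul_comm]

/-- A group mapping injectively (by a homomorphism of monoids) to matrices commuting with `M` is cyclic
(`F` finite). -/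
theorem isCyclic_of_commute [Finite F] {M : Matrix (Fin n) (Fin n) F} (hM : Irreducible (minpoly F M))
    (hd : n ≤ (minpoly F M).natDegree) {C : Type*} [Group C] (φ : C →* Matrix (Fin n) (Fin n) F)
    (hφ : Function.Injective φ) (hc : ∀ c, Commute M (φ c)) : IsCyclic C := by
  classical
  -- the commutative ring of polynomials in `M`
  let K := Algebra.adjoin F ({M} : Set (Matrix (Fin n) (Fin n) F))
  let _ : CommRing K := Algebra.adjoinCommRingOfComm F (by
    intro a ha b hb
    rw [Set.mem_singleton_iff.1 ha, Set.mem_singleton_iff.1 hb])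
  have hK : ∀ f : F[X], aeval M f ∈ K := fun f => aeval_mem_adjoin_singleton F M
  have hK' : ∀ x ∈ K, ∃ f : F[X], x = aeval M f := by
    intro x hx
    have hx' : x ∈ Algebra.adjoin F ({M} : Set (Matrix (Fin n) (Fin n) F)) := hx
    rw [Algebra.adjoin_singleton_eq_range_aeval] at hx'
    obtain ⟨f, hf⟩ := hx'
    exact ⟨f, hf.symm⟩
  have hNT : Nontrivial (Matrix (Fin n) (Fin n) F) := by
    by_contra h
    rw [not_nontrivial_iff_subsingleton] at h
    have : minpoly F M = 1 := by
      have h1 : minpoly F M ∣ 1 := minpoly.dvd F M (Subsingleton.elim _ _)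
      exact absurd (isUnit_of_dvd_one h1) hM.not_isUnit
    exact hM.not_isUnit (this ▸ isUnit_one)
  have hdom : IsDomain K := by
    have : Nontrivial K := by
      refine ⟨⟨0, 1, ?_⟩⟩
      intro h
      exact zero_ne_one (congrArg Subtype.val h : (0 : Matrix (Fin n) (Fin n) F) = 1)
    have : NoZeroDivisors K := by
      refine ⟨?_⟩
      intro a b hab
      by_contra hne
      rw [not_or] at hne
      obtain ⟨f, hf⟩ := hK' a a.2
      have h1 : aeval M f ≠ 0 := by
        rw [← hf]
        intro h
        exact hne.1 (Subtype.ext h)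
      obtain ⟨g, hg⟩ := exists_inv_aeval hM f h1
      apply hne.2
      apply Subtype.ext
      have h2 : (a : Matrix (Fin n) (Fin n) F) * b = 0 := congrArg Subtype.val hab
      calc (b : Matrix (Fin n) (Fin n) F) = (aeval M g * aeval M f) * b := by rw [hg, one_mul]
        _ = aeval M g * (a * b) := by rw [mul_assoc, ← hf]
        _ = 0 := by rw [h2, mul_zero]
    exact NoZeroDivisors.to_isDomain K
  have hmem : ∀ c, φ c ∈ K := by
    intro c
    obtain ⟨f, hf⟩ := exists_eq_aeval_of_commute hM hd (hc c)
    rw [hf]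
    exact hK f
  let ψ : C →* K :=
    { toFun := fun c => ⟨φ c, hmem c⟩
      map_one' := Subtype.ext φ.map_one
      map_mul' := fun a b => Subtype.ext (φ.map_mul a b) }
  have hψ : Function.Injective ψ := fun a b h => hφ (congrArg Subtype.val h)
  have hfinM : Finite (Matrix (Fin n) (Fin n) F) := inferInstance
  have : Finite C := Finite.of_injective φ hφ
  exact isCyclic_of_injective_ringHom ψ hψ

/-- At most `n` conjugates of `M` commute with `M`. -/
theorem card_le_of_commute [Finite F] {M : Matrix (Fin n) (Fin n) F} (hM : Irreducible (minpoly F M))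
    (hd : n ≤ (minpoly F M).natDegree) (S : Finset (Matrix (Fin n) (Fin n) F))
    (hS : ∀ N ∈ S, Commute M N ∧ aeval N (minpoly F M) = 0) : S.card ≤ (minpoly F M).natDegree := by
  classical
  let K := Algebra.adjoin F ({M} : Set (Matrix (Fin n) (Fin n) F))
  let _ : CommRing K := Algebra.adjoinCommRingOfComm F (by
    intro a ha b hb
    rw [Set.mem_singleton_iff.1 ha, Set.mem_singleton_iff.1 hb])
  have hK : ∀ f : F[X], aeval M f ∈ K := fun f => aeval_mem_adjoin_singleton F M
  have hK' : ∀ x ∈ K, ∃ f : F[X], x = aeval M f := by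
    intro x hx
    have hx' : x ∈ Algebra.adjoin F ({M} : Set (Matrix (Fin n) (Fin n) F)) := hx
    rw [Algebra.adjoin_singleton_eq_range_aeval] at hx'
    obtain ⟨f, hf⟩ := hx'
    exact ⟨f, hf.symm⟩
  have hNT : Nontrivial (Matrix (Fin n) (Fin n) F) := by
    by_contra h
    rw [not_nontrivial_iff_subsingleton] at h
    have h1 : minpoly F M ∣ 1 := minpoly.dvd F M (Subsingleton.elim _ _)
    exact absurd (isUnit_of_dvd_one h1) hM.not_isUnit
  have hdom : IsDomain K := by
    have : Nontrivial K := by
      refine ⟨⟨0, 1, ?_⟩⟩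
      intro h
      exact zero_ne_one (congrArg Subtype.val h : (0 : Matrix (Fin n) (Fin n) F) = 1)
    have : NoZeroDivisors K := by
      refine ⟨?_⟩
      intro a b hab
      by_contra hne
      rw [not_or] at hne
      obtain ⟨f, hf⟩ := hK' a a.2
      have h1 : aeval M f ≠ 0 := by
        rw [← hf]
        intro h
        exact hne.1 (Subtype.ext h)
      obtain ⟨g, hg⟩ := exists_inv_aeval hM f h1
      apply hne.2
      apply Subtype.ext
      have h2 : (a : Matrix (Fin n) (Fin n) F) * b = 0 := congrArg Subtype.val hab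
      calc (b : Matrix (Fin n) (Fin n) F) = (aeval M g * aeval M f) * b := by rw [hg, one_mul]
        _ = aeval M g * (a * b) := by rw [mul_assoc, ← hf]
        _ = 0 := by rw [h2, mul_zero]
    exact NoZeroDivisors.to_isDomain K
  let e : F →+* K :=
    { toFun := fun c => ⟨algebraMap F _ c, K.algebraMap_mem c⟩
      map_one' := Subtype.ext (map_one _)
      map_mul' := fun a b => Subtype.ext (map_mul _ a b)
      map_zero' := Subtype.ext (map_zero _)
      map_add' := fun a b => Subtype.ext (map_add _ a b) }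
  have hmem : ∀ N ∈ S, N ∈ K := by
    intro N hN
    obtain ⟨f, hf⟩ := exists_eq_aeval_of_commute hM hd (hS N hN).1
    rw [hf]
    exact hK f
  have heval : ∀ (x : K) (f : F[X]), ((eval₂ e x f : K) : Matrix (Fin n) (Fin n) F) =
      aeval (x : Matrix (Fin n) (Fin n) F) f := by
    intro x f
    induction f using Polynomial.induction_on' with
    | add p q hp hq => rw [eval₂_add, map_add, ← hp, ← hq]; rfl
    | monomial k a =>
      rw [eval₂_monomial, aeval_monomial]
      have : ∀ j : ℕ, ((x ^ j : K) : Matrix (Fin n) (Fin n) F) = (x : Matrix (Fin n) (Fin n) F) ^ j := by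
        intro j
        induction j with
        | zero => rfl
        | succ j ih => rw [pow_succ, pow_succ, ← ih]; rfl
      rw [← this]
      rfl
  have hinj : Function.Injective e := e.injective
  have hne : (minpoly F M).map e ≠ 0 := (Polynomial.map_ne_zero_iff hinj).2 hM.ne_zero
  have h1 : S.card ≤ ((minpoly F M).map e).roots.toFinset.card := by
    refine Finset.card_le_card_of_injOn
      (fun N => if h : N ∈ K then (⟨N, h⟩ : K) else 0) ?_ ?_
    · intro N hN
      have hN' := hmem N hN
      simp only [hN', dif_pos, Finset.mem_coe, Multiset.mem_toFinset]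
      rw [mem_roots hne, IsRoot.def, eval_map]
      apply Subtype.ext
      rw [heval]
      exact (hS N hN).2
    · intro N hN N' hN' h
      have h1 := hmem N hN
      have h2 := hmem N' hN'
      simp only [h1, h2, dif_pos] at h
      exact congrArg Subtype.val h
  calc S.card ≤ ((minpoly F M).map e).roots.toFinset.card := h1
    _ ≤ Multiset.card ((minpoly F M).map e).roots := Multiset.toFinset_card_le _
    _ ≤ ((minpoly F M).map e).natDegree := card_roots' _
    _ = (minpoly F M).natDegree := natDegree_map_eq_of_injective hinj _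

/-- Over a field with `q` elements, `q` even, the minimal polynomial of a non-identity `4 × 4` matrix `M` with
`M ^ (q² + 1) = 1` is irreducible of degree `4`. -/
theorem irreducible_minpoly_of_pow [Finite F] (h2 : (2 : F) = 0) {M : Matrix (Fin 4) (Fin 4) F}
    (hM : M ^ (Nat.card F ^ 2 + 1) = 1) (h1 : M ≠ 1) :
    Irreducible (minpoly F M) ∧ (minpoly F M).natDegree = 4 := by
  classical
  let _ : Fintype F := Fintype.ofFinite F
  set q := Nat.card F with hq
  set μ := minpoly F M with hμ
  have hint : IsIntegral F M := Matrix.isIntegral M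
  have hμ0 : μ ≠ 0 := minpoly.ne_zero hint
  have hdeg : μ.natDegree ≤ 4 := by
    have h := Polynomial.natDegree_le_of_dvd (Matrix.minpoly_dvd_charpoly M) (Matrix.charpoly_monic M).ne_zero
    rwa [Matrix.charpoly_natDegree_eq_dim, Fintype.card_fin] at h
  have hqF : (q : F) = 0 := by
    rw [hq, Nat.card_eq_fintype_card]
    exact FiniteField.cast_card_eq_zero F
  -- the cofactor of `X - 1`
  let Φ : F[X] := ∑ i ∈ Finset.range (q ^ 2 + 1), X ^ i
  have hΦ : Φ * (X - 1) = X ^ (q ^ 2 + 1) - 1 := geom_sum_mul _ _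
  have hΦ1 : eval 1 Φ = 1 := by
    simp only [Φ, eval_finset_sum, eval_pow, eval_X, one_pow, Finset.sum_const, Finset.card_range,
      nsmul_eq_mul, mul_one]
    push_cast
    rw [hqF]
    ring
  have hnc : ¬ IsCoprime μ Φ := by
    rintro ⟨a, b, hab⟩
    apply h1
    have h3 : aeval M b * aeval M Φ = 1 := by
      have := congrArg (aeval M) hab
      rw [map_add, map_mul, map_mul, hμ, minpoly.aeval, mul_zero, zero_add, map_one] at this
      exact this
    have h4 : aeval M Φ * (M - 1) = 0 := by
      have := congrArg (aeval M) hΦ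
      simpa [hM] using this
    have h5 : M - 1 = 0 := by
      calc M - 1 = (aeval M b * aeval M Φ) * (M - 1) := by rw [h3, one_mul]
        _ = 0 := by rw [mul_assoc, h4, mul_zero]
    exact sub_eq_zero.1 h5
  obtain ⟨f, hf, hfμ, hfΦ⟩ : ∃ f : F[X], Irreducible f ∧ f ∣ μ ∧ f ∣ Φ := by
    have h3 : ¬ IsUnit (EuclideanDomain.gcd μ Φ) := fun h => hnc (EuclideanDomain.gcd_isUnit_iff.1 h)
    have h4 : EuclideanDomain.gcd μ Φ ≠ 0 := by
      intro h
      exact hμ0 (EuclideanDomain.gcd_eq_zero_iff.1 h).1
    obtain ⟨f, hf, hfd⟩ := WfDvdMonoid.exists_irreducible_factor h3 h4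
    exact ⟨f, hf, hfd.trans (EuclideanDomain.gcd_dvd_left _ _), hfd.trans (EuclideanDomain.gcd_dvd_right _ _)⟩
  have hfN : f ∣ X ^ (q ^ 2 + 1) - 1 := hΦ ▸ (hfΦ.mul_right _)
  have hf4 : f.natDegree ∣ 4 := by
    apply hf.natDegree_dvd_of_dvd_X_pow_card_pow_sub_X
    have h3 : (X ^ (q ^ 2 + 1) - 1 : F[X]) ∣ X ^ (q ^ 4 - 1) - 1 := by
      have h4 : q ^ 4 - 1 = (q ^ 2 + 1) * (q ^ 2 - 1) := by
        have : 1 ≤ q ^ 2 := Nat.one_le_pow _ _ Nat.card_pos
        zify [this, Nat.one_le_pow 4 q Nat.card_pos]
        ring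
      rw [h4, pow_mul]
      exact sub_one_dvd_pow_sub_one _ _
    have h5 : (X ^ q ^ 4 - X : F[X]) = X * (X ^ (q ^ 4 - 1) - 1) := by
      rw [mul_sub, mul_one, ← pow_succ', Nat.sub_add_cancel (Nat.one_le_pow _ _ Nat.card_pos)]
    rw [← hq, h5]
    exact (hfN.trans h3).mul_left _
  have hfx : ¬ f ∣ X - 1 := by
    intro h
    have h3 : Associated f (X - C 1) := hf.associated_of_dvd (irreducible_X_sub_C (1 : F)) (by simpa using h)
    have h4 : X - C 1 ∣ Φ := h3.symm.dvd.trans hfΦ
    rw [dvd_iff_isRoot, IsRoot.def, hΦ1] at h4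
    exact one_ne_zero h4
  have hf4' : f.natDegree = 4 := by
    by_contra hne
    have h3 : f.natDegree ∣ 2 := by
      have h4 : f.natDegree ≤ 4 := Nat.le_of_dvd (by norm_num) hf4
      have h5 : 0 < f.natDegree := hf.natDegree_pos
      interval_cases hfd : f.natDegree
      · norm_num
      · norm_num
      · norm_num at hf4
      · exact absurd rfl hne
    have h4 := (hf.natDegree_dvd_iff_dvd_X_pow_card_pow_sub_X (n := 2)).1 h3
    rw [← hq] at h4
    have h5 : f ∣ (X - 1) ^ 2 := by
      have h6 : ((X - 1) ^ 2 : F[X]) = (X ^ (q ^ 2 + 1) - 1) - X * (X ^ q ^ 2 - X) := by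
        have h7 : (2 : F[X]) = 0 := by
          have h9 : (2 : F[X]) = C (2 : F) := by
            rw [show (2 : F) = 1 + 1 by norm_num, C_add, C_1]
            norm_num
          rw [h9, h2, C_0]
        have h8 : (X ^ (q ^ 2 + 1) : F[X]) = X * X ^ q ^ 2 := by rw [pow_succ, mul_comm]
        rw [h8]
        linear_combination (1 - X) * h7
      rw [h6]
      exact dvd_sub hfN (h4.mul_left _)
    exact hfx (hf.prime.dvd_of_dvd_pow h5)
  obtain ⟨g, hg⟩ := hfμ
  have hg0 : g ≠ 0 := by
    rintro rfl
    rw [mul_zero] at hg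
    exact hμ0 hg
  have hgd : g.natDegree = 0 := by
    have h3 := natDegree_mul hf.ne_zero hg0
    rw [← hg, hf4'] at h3
    omega
  have hgu : IsUnit g := by
    rw [natDegree_eq_zero] at hgd
    obtain ⟨c, hc⟩ := hgd
    rw [← hc] at hg0 ⊢
    exact isUnit_C.2 (isUnit_iff_ne_zero.2 (fun h => hg0 (by rw [h, C_0])))
  have hassoc : Associated f μ := ⟨hgu.unit, by rw [hg]; rfl⟩
  refine ⟨hassoc.irreducible hf, ?_⟩
  rw [← hf4', hg, natDegree_mul hf.ne_zero hg0, hgd, add_zero]

end Cfsg.Agent.LieExceptional.IrredMatrix
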