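import Mathlib
import Cfsg.Agent.LieExceptional.SuzukiTori

/-!
# Centralisers of real elements of odd order in a CIT group

`G` is a finite group in which centralisers of involutions are `2`-groups, and in which a `2`-subgroup with a single
involution has order at most `4`. For `x ≠ 1` real of odd order, `A = C(x)` is abelian of odd order, inverted by an
involution, a Hall subgroup with trivial intersections, and has index `2` or `4` in its normaliser.
-/

set_option autoImplicit false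

namespace Cfsg.Agent.LieExceptional.RealTori

open Cfsg.Agent.LieExceptional.SuzukiTori

universe u

/-- hypotheses on the involutions of `G` -/
structure CIT (G : Type u) [Group G] : Prop where
  hfin : Finite G
  hCIT : ∀ s : G, orderOf s = 2 → IsPGroup 2 (Subgroup.centralizer ({s} : Set G))
  h4 : ∀ D : Subgroup G, IsPGroup 2 D → ∀ g ∈ D, orderOf g = 2 → (∀ s ∈ D, orderOf s = 2 → s = g) → Nat.card D ≤ 4

/-- `s` is an involution inverting `x` -/
def Inverts {G : Type u} [Group G] (s x : G) : Prop := orderOf s = 2 ∧ s * x * s⁻¹ = x⁻¹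

/-- `x` is a non-identity element of odd order inverted by an involution -/
def RealOdd {G : Type u} [Group G] (x : G) : Prop := x ≠ 1 ∧ Odd (orderOf x) ∧ ∃ s : G, Inverts s x

variable {G : Type u} [Group G]

theorem sq_of_orderOf_two {s : G} (hs : orderOf s = 2) : s * s = 1 := by
  rw [← pow_two, ← hs, pow_orderOf_eq_one]

theorem inv_of_orderOf_two {s : G} (hs : orderOf s = 2) : s⁻¹ = s :=
  inv_eq_of_mul_eq_one_left (sq_of_orderOf_two hs)

theorem orderOf_two_of_sq {s : G} (h1 : s ≠ 1) (h : s * s = 1) : orderOf s = 2 :=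
  orderOf_eq_prime (by rw [pow_two]; exact h) h1

theorem mem_cent {x y : G} : y ∈ Subgroup.centralizer ({x} : Set G) ↔ y * x = x * y :=
  Subgroup.mem_centralizer_singleton_iff

/-- an element of odd order commuting with an involution is trivial -/
theorem eq_one_of_commute (S : CIT G) {s x : G} (hs : orderOf s = 2) (hx : Odd (orderOf x)) (hc : x * s = s * x) :
    x = 1 := by
  have hmem : x ∈ Subgroup.centralizer ({s} : Set G) := mem_cent.2 hc
  obtain ⟨k, hk⟩ := S.hCIT s hs ⟨x, hmem⟩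
  have hk' : x ^ 2 ^ k = 1 := congrArg Subtype.val hk
  have h1 : orderOf x ∣ 2 ^ k := orderOf_dvd_of_pow_eq_one hk'
  have h2 : Nat.Coprime (orderOf x) (2 ^ k) := Nat.Coprime.pow_right _ (Nat.coprime_two_right.2 hx)
  have h3 : orderOf x = 1 := Nat.eq_one_of_dvd_coprimes h2 dvd_rfl h1
  exact orderOf_eq_one_iff.1 h3

theorem odd_card_centralizer (S : CIT G) {x : G} (hx : RealOdd x) :
    Odd (Nat.card (Subgroup.centralizer ({x} : Set G))) := by
  have := S.hfin
  rw [← Nat.not_even_iff_odd]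
  intro h
  obtain ⟨c, hc⟩ := exists_prime_orderOf_dvd_card' (G := Subgroup.centralizer ({x} : Set G)) 2 h.two_dvd
  have hc' : orderOf (c : G) = 2 := by rw [Subgroup.orderOf_coe, hc]
  exact hx.1 (eq_one_of_commute S hc' hx.2.1 (mem_cent.1 c.2).symm)

theorem odd_orderOf_of_mem (S : CIT G) {x y : G} (hx : RealOdd x) (hy : y ∈ Subgroup.centralizer ({x} : Set G)) :
    Odd (orderOf y) := by
  have h1 := odd_card_centralizer S hx
  have h2 : orderOf y ∣ Nat.card (Subgroup.centralizer ({x} : Set G)) := by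
    have := orderOf_dvd_natCard (⟨y, hy⟩ : Subgroup.centralizer ({x} : Set G))
    rwa [← Subgroup.orderOf_coe] at this
  exact Odd.of_dvd_nat h1 h2

theorem conj_mem_centralizer {s x y : G} (hs : Inverts s x) (hy : y ∈ Subgroup.centralizer ({x} : Set G)) :
    s * y * s⁻¹ ∈ Subgroup.centralizer ({x} : Set G) := by
  have h1 := (mem_centralizer_conj (x := y) (c := x) s).2 hy
  rw [hs.2] at h1
  rw [mem_cent] at h1 ⊢
  have h2 : Commute (s * y * s⁻¹) x⁻¹ := h1
  exact (Commute.inv_right_iff.1 h2)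

/-- an involution normalising `C(x)` inverts `C(x)` -/
theorem inverts_of_normalizes (S : CIT G) {s x : G} (hx : RealOdd x) (hs : orderOf s = 2)
    (hN : ∀ y ∈ Subgroup.centralizer ({x} : Set G), s * y * s⁻¹ ∈ Subgroup.centralizer ({x} : Set G)) :
    ∀ y ∈ Subgroup.centralizer ({x} : Set G), s * y * s⁻¹ = y⁻¹ := by
  intro y hy
  have := S.hfin
  have hss := sq_of_orderOf_two hs
  have hsi := inv_of_orderOf_two hs
  -- injective map `a ↦ a⁻¹ (s a s⁻¹)`
  let f : Subgroup.centralizer ({x} : Set G) → Subgroup.centralizer ({x} : Set G) :=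
    fun a => ⟨(a : G)⁻¹ * (s * a * s⁻¹), Subgroup.mul_mem _ (Subgroup.inv_mem _ a.2) (hN _ a.2)⟩
  have hf : Function.Injective f := by
    intro a b hab
    have h1 : (a : G)⁻¹ * (s * a * s⁻¹) = (b : G)⁻¹ * (s * b * s⁻¹) := congrArg Subtype.val hab
    have h2 : ((b : G) * (a : G)⁻¹) * s = s * ((b : G) * (a : G)⁻¹) := by
      have h3 : (b : G) * ((a : G)⁻¹ * (s * a * s⁻¹)) * (s * (a : G)⁻¹) =
          (b : G) * ((b : G)⁻¹ * (s * b * s⁻¹)) * (s * (a : G)⁻¹) := by
        rw [h1]
      calc (b : G) * (a : G)⁻¹ * s = (b : G) * ((a : G)⁻¹ * (s * a * s⁻¹)) * (s * (a : G)⁻¹) := by group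
        _ = (b : G) * ((b : G)⁻¹ * (s * b * s⁻¹)) * (s * (a : G)⁻¹) := h3
        _ = s * (b * (a : G)⁻¹) := by group
    have h4 : (b : G) * (a : G)⁻¹ = 1 := by
      apply eq_one_of_commute S hs _ h2
      exact odd_orderOf_of_mem S hx (Subgroup.mul_mem _ b.2 (Subgroup.inv_mem _ a.2))
    exact Subtype.ext (mul_inv_eq_one.1 h4).symm
  obtain ⟨a, ha⟩ := (Finite.injective_iff_surjective.1 hf) ⟨y, hy⟩
  have ha' : (a : G)⁻¹ * (s * a * s⁻¹) = y := congrArg Subtype.val ha
  rw [← ha']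
  calc s * ((a : G)⁻¹ * (s * a * s⁻¹)) * s⁻¹ = s * (a : G)⁻¹ * s * a * (s⁻¹ * s⁻¹) := by group
    _ = s * (a : G)⁻¹ * s⁻¹ * a := by rw [hsi, hss, mul_one]
    _ = _ := by group

/-- the involution inverting `x` inverts `C(x)` -/
theorem inverts_of_mem (S : CIT G) {s x y : G} (hx : RealOdd x) (hs : Inverts s x)
    (hy : y ∈ Subgroup.centralizer ({x} : Set G)) : s * y * s⁻¹ = y⁻¹ :=
  inverts_of_normalizes S hx hs.1 (fun _ hz => conj_mem_centralizer hs hz) y hy

/-- `C(x)` is abelian -/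
theorem comm_of_mem (S : CIT G) {x y z : G} (hx : RealOdd x) (hy : y ∈ Subgroup.centralizer ({x} : Set G))
    (hz : z ∈ Subgroup.centralizer ({x} : Set G)) : y * z = z * y := by
  obtain ⟨s, hs⟩ := hx.2.2
  have h1 := inverts_of_mem S hx hs hy
  have h2 := inverts_of_mem S hx hs hz
  have h3 := inverts_of_mem S hx hs (Subgroup.mul_mem _ hy hz)
  have h4 : s * (y * z) * s⁻¹ = (s * y * s⁻¹) * (s * z * s⁻¹) := by group
  rw [h4, h1, h2, mul_inv_rev] at h3
  have h5 : (y⁻¹ * z⁻¹)⁻¹ = (z⁻¹ * y⁻¹)⁻¹ := by rw [h3]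
  simpa [mul_inv_rev] using h5.symm

theorem realOdd_of_mem (S : CIT G) {x y : G} (hx : RealOdd x) (hy : y ∈ Subgroup.centralizer ({x} : Set G))
    (hy1 : y ≠ 1) : RealOdd y := by
  obtain ⟨s, hs⟩ := hx.2.2
  exact ⟨hy1, odd_orderOf_of_mem S hx hy, s, hs.1, inverts_of_mem S hx hs hy⟩

theorem self_mem {x : G} : x ∈ Subgroup.centralizer ({x} : Set G) := mem_cent.2 rfl

theorem centralizer_eq (S : CIT G) {x y : G} (hx : RealOdd x) (hy : y ∈ Subgroup.centralizer ({x} : Set G))
    (hy1 : y ≠ 1) : Subgroup.centralizer ({y} : Set G) = Subgroup.centralizer ({x} : Set G) := by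
  have hyr := realOdd_of_mem S hx hy hy1
  apply le_antisymm
  · intro z hz
    exact mem_cent.2 (comm_of_mem S hyr hz (mem_cent.2 (mem_cent.1 hy).symm))
  · intro z hz
    exact mem_cent.2 (comm_of_mem S hx hz hy)

theorem ti (S : CIT G) {x : G} (hx : RealOdd x) (y c : G) (hc : c ∈ Subgroup.centralizer ({x} : Set G)) (hc1 : c ≠ 1)
    (h : y * c * y⁻¹ ∈ Subgroup.centralizer ({x} : Set G)) :
    y ∈ Subgroup.normalizer (Subgroup.centralizer ({x} : Set G) : Set G) := by
  have h2 : y * c * y⁻¹ ≠ 1 := by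
    intro h
    apply hc1
    have : c = y⁻¹ * (y * c * y⁻¹) * y := by group
    rw [this, h]
    group
  rw [Subgroup.mem_normalizer_iff]
  intro z
  have h3 := mem_centralizer_conj (x := z) (c := c) y
  rw [centralizer_eq S hx hc hc1, centralizer_eq S hx h h2] at h3
  exact h3.symm

/-- the number of non-identity elements conjugate into `C(x)` -/
theorem card_tset_eq (S : CIT G) {x : G} (hx : RealOdd x) :
    Nat.card (tset (Subgroup.centralizer ({x} : Set G))) *
      Nat.card (Subgroup.normalizer (Subgroup.centralizer ({x} : Set G) : Set G)) =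
      Nat.card G * (Nat.card (Subgroup.centralizer ({x} : Set G)) - 1) := by
  have := S.hfin
  exact card_tset _ (fun y c hc hc1 h => ti S hx y c hc hc1 h)

theorem realOdd_conj {x : G} (g : G) (hx : RealOdd (g⁻¹ * x * g)) : RealOdd x := by
  obtain ⟨h1, h2, s, hs1, hs2⟩ := hx
  refine ⟨?_, ?_, g * s * g⁻¹, ?_, ?_⟩
  · rintro rfl
    exact h1 (by group)
  · have h3 : orderOf (g⁻¹ * x * g) = orderOf x := by
      have := MulAut.conj g⁻¹
      have h4 : (MulAut.conj g⁻¹) x = g⁻¹ * x * g := by simp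
      rw [← h4]
      exact orderOf_injective (MulAut.conj g⁻¹).toMonoidHom (MulAut.conj g⁻¹).injective x
    rwa [h3] at h2
  · have h4 : (MulAut.conj g) s = g * s * g⁻¹ := by simp
    rw [← h4, ← hs1]
    exact orderOf_injective (MulAut.conj g).toMonoidHom (MulAut.conj g).injective s
  · calc g * s * g⁻¹ * x * (g * s * g⁻¹)⁻¹ = g * (s * (g⁻¹ * x * g) * s⁻¹) * g⁻¹ := by group
      _ = g * (g⁻¹ * x * g)⁻¹ * g⁻¹ := by rw [hs2]
      _ = x⁻¹ := by group

theorem realOdd_of_mem_tset (S : CIT G) {x y : G} (hx : RealOdd x)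
    (hy : y ∈ tset (Subgroup.centralizer ({x} : Set G))) : RealOdd y := by
  obtain ⟨hy1, g, hg⟩ := hy
  apply realOdd_conj g
  apply realOdd_of_mem S hx hg
  intro h
  apply hy1
  have : y = g * (g⁻¹ * y * g) * g⁻¹ := by group
  rw [this, h]
  group

theorem ne_one_conj {y g : G} (hy : y ≠ 1) : g⁻¹ * y * g ≠ 1 := by
  intro h
  apply hy
  have : y = g * (g⁻¹ * y * g) * g⁻¹ := by group
  rw [this, h]
  group

theorem card_centralizer_of_mem_tset (S : CIT G) {x y : G} (hx : RealOdd x)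
    (hy : y ∈ tset (Subgroup.centralizer ({x} : Set G))) :
    Nat.card (Subgroup.centralizer ({y} : Set G)) = Nat.card (Subgroup.centralizer ({x} : Set G)) := by
  obtain ⟨hy1, g, hg⟩ := hy
  rw [← centralizer_eq S hx hg (ne_one_conj hy1)]
  refine Nat.card_congr ⟨fun z => ⟨g⁻¹ * z * g, ?_⟩, fun z => ⟨g * z * g⁻¹, ?_⟩, ?_, ?_⟩
  · have h1 := (mem_centralizer_conj (x := (z : G)) (c := y) g⁻¹).2 z.2
    simpa using h1
  · have h1 := (mem_centralizer_conj (x := (z : G)) (c := g⁻¹ * y * g) g).2 z.2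
    have h2 : g * (g⁻¹ * y * g) * g⁻¹ = y := by group
    rwa [h2] at h1
  · intro z
    apply Subtype.ext
    show g * (g⁻¹ * (z : G) * g) * g⁻¹ = z
    group
  · intro z
    apply Subtype.ext
    show g⁻¹ * (g * (z : G) * g⁻¹) * g = z
    group

/-- classes which meet coincide -/
theorem mem_tset_of_inter (S : CIT G) {x y t : G} (hx : RealOdd x) (hy : RealOdd y)
    (ht : t ∈ tset (Subgroup.centralizer ({x} : Set G))) (ht' : t ∈ tset (Subgroup.centralizer ({y} : Set G))) :
    y ∈ tset (Subgroup.centralizer ({x} : Set G)) := by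
  obtain ⟨ht1, g, hg⟩ := ht
  obtain ⟨_, k, hk⟩ := ht'
  have hgt : g⁻¹ * t * g ≠ 1 := ne_one_conj ht1
  have hkt : k⁻¹ * t * k ≠ 1 := ne_one_conj ht1
  refine ⟨hy.1, k⁻¹ * g, ?_⟩
  have h1 : y ∈ Subgroup.centralizer ({k⁻¹ * t * k} : Set G) := by
    rw [centralizer_eq S hy hk hkt]
    exact self_mem
  have h2 := (mem_centralizer_conj (g⁻¹ * k)).2 h1
  have h3 : g⁻¹ * k * (k⁻¹ * t * k) * (g⁻¹ * k)⁻¹ = g⁻¹ * t * g := by group
  rw [h3, centralizer_eq S hx hg hgt] at h2
  have h4 : g⁻¹ * k * y * (g⁻¹ * k)⁻¹ = (k⁻¹ * g)⁻¹ * y * (k⁻¹ * g) := by group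
  rwa [h4] at h2

/-- a Sylow `p`-subgroup containing an element of order `p` of `C(x)` lies in `C(x)` -/
theorem sylow_le (S : CIT G) {x a : G} (hx : RealOdd x) {p : ℕ} [Fact p.Prime] (ha : orderOf a = p)
    (hax : a ∈ Subgroup.centralizer ({x} : Set G)) (P : Sylow p G) (haP : a ∈ P) :
    ∀ c ∈ P, c ∈ Subgroup.centralizer ({x} : Set G) := by
  have := S.hfin
  have hp : p.Prime := Fact.out
  have ha1 : a ≠ 1 := by
    rintro rfl
    rw [orderOf_one] at ha
    exact hp.one_lt.ne ha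
  have hPnt : Nontrivial P := ⟨⟨⟨a, haP⟩, 1, fun h => ha1 (congrArg Subtype.val h)⟩⟩
  have hcen : Nontrivial (Subgroup.center P) := P.isPGroup'.center_nontrivial
  obtain ⟨z, hz⟩ := exists_ne (1 : Subgroup.center P)
  have hz1 : ((z : P) : G) ≠ 1 := fun h => hz (Subtype.ext (Subtype.ext h))
  have hPz : ∀ c ∈ P, c * ((z : P) : G) = ((z : P) : G) * c := by
    intro c hc
    have := (Subgroup.mem_center_iff.1 z.2) ⟨c, hc⟩
    exact congrArg Subtype.val this
  -- `z ∈ C(a) = C(x)`
  have hzx : ((z : P) : G) ∈ Subgroup.centralizer ({x} : Set G) := by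
    rw [← centralizer_eq S hx hax ha1]
    exact mem_cent.2 (hPz a haP).symm
  intro c hc
  rw [← centralizer_eq S hx hzx hz1]
  exact mem_cent.2 (hPz c hc)

/-- two classes whose orders have a common prime divisor coincide -/
theorem coprime_card (S : CIT G) {x y : G} (hx : RealOdd x) (hy : RealOdd y)
    (hxy : y ∉ tset (Subgroup.centralizer ({x} : Set G))) :
    Nat.Coprime (Nat.card (Subgroup.centralizer ({x} : Set G))) (Nat.card (Subgroup.centralizer ({y} : Set G))) := by
  have hfinG := S.hfin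
  apply Nat.coprime_of_dvd
  intro p hp hp1 hp2
  have : Fact p.Prime := ⟨hp⟩
  obtain ⟨a, ha⟩ := exists_prime_orderOf_dvd_card' p hp1
  obtain ⟨b, hb⟩ := exists_prime_orderOf_dvd_card' p hp2
  have ha' : orderOf (a : G) = p := by rw [Subgroup.orderOf_coe, ha]
  have hb' : orderOf (b : G) = p := by rw [Subgroup.orderOf_coe, hb]
  have hb1 : (b : G) ≠ 1 := by
    intro h
    rw [h, orderOf_one] at hb'
    exact hp.one_lt.ne hb'
  have hpz : ∀ c : G, orderOf c = p → IsPGroup p (Subgroup.zpowers c) := by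
    intro c hc
    apply IsPGroup.of_card (n := 1)
    rw [Nat.card_zpowers, hc, pow_one]
  obtain ⟨P, hP⟩ := (hpz a ha').exists_le_sylow
  obtain ⟨Q, hQ⟩ := (hpz b hb').exists_le_sylow
  have haP : (a : G) ∈ P := hP (Subgroup.mem_zpowers _)
  have hbQ : (b : G) ∈ Q := hQ (Subgroup.mem_zpowers _)
  have hPx := sylow_le S hx ha' a.2 P haP
  obtain ⟨g, hg⟩ := MulAction.exists_smul_eq G P Q
  apply hxy
  apply mem_tset_of_inter S hx hy (t := (b : G))
  · refine ⟨hb1, g, hPx _ ?_⟩
    have h1 : (b : G) ∈ g • P := hg ▸ hbQ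
    rw [← SetLike.mem_coe, Sylow.coe_smul] at h1
    rw [Set.mem_smul_set_iff_inv_smul_mem] at h1
    simpa [MulAut.smul_def] using h1
  · refine ⟨hb1, 1, ?_⟩
    simp

/-- the number of involutions inverting `x` is `|C(x)|` -/
theorem card_inverts (S : CIT G) {x : G} (hx : RealOdd x) :
    Nat.card {s : G // Inverts s x} = Nat.card (Subgroup.centralizer ({x} : Set G)) := by
  obtain ⟨s, hs⟩ := hx.2.2
  have hss := sq_of_orderOf_two hs.1
  have hsi := inv_of_orderOf_two hs.1
  have hodd : ∀ y ∈ Subgroup.centralizer ({x} : Set G), Odd (orderOf y) := fun y hy => odd_orderOf_of_mem S hx hy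
  refine Nat.card_congr ⟨fun t => ⟨s⁻¹ * t, ?_⟩, fun a => ⟨s * a, ?_, ?_⟩, ?_, ?_⟩
  · -- `s⁻¹ t` centralises `x`
    rw [mem_cent]
    have h1 : (t : G) * x * (t : G)⁻¹ = x⁻¹ := t.2.2
    have h2 : (t : G) * x = x⁻¹ * t := by rw [← h1]; group
    have h3 : s * x = x⁻¹ * s := by rw [← hs.2]; group
    have h4 : s⁻¹ * x⁻¹ = x * s⁻¹ := by
      have : s⁻¹ * x⁻¹ * s = x := by
        rw [← hs.2]
        group
      calc s⁻¹ * x⁻¹ = (s⁻¹ * x⁻¹ * s) * s⁻¹ := by group
        _ = x * s⁻¹ := by rw [this]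
    calc s⁻¹ * (t : G) * x = s⁻¹ * (t * x) := by group
      _ = s⁻¹ * x⁻¹ * t := by rw [h2]; group
      _ = x * (s⁻¹ * t) := by rw [h4]; group
  · -- `s a` is an involution
    have h1 := inverts_of_mem S hx hs a.2
    apply orderOf_two_of_sq
    · intro h
      have h2 : (a : G) = s⁻¹ := by
        calc (a : G) = s⁻¹ * (s * a) := by group
          _ = s⁻¹ := by rw [h, mul_one]
      have h3 := hodd _ a.2
      rw [h2, hsi, hs.1] at h3
      exact absurd h3 (by decide)
    · calc s * (a : G) * (s * a) = (s * a * s⁻¹) * (s * s) * a := by group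
        _ = (a : G)⁻¹ * a := by rw [h1, hss, mul_one]
        _ = 1 := by group
  · have h2 : (a : G) * x = x * a := mem_cent.1 a.2
    calc s * (a : G) * x * (s * a)⁻¹ = s * (a * x) * (a : G)⁻¹ * s⁻¹ := by group
      _ = s * (x * a) * (a : G)⁻¹ * s⁻¹ := by rw [h2]
      _ = s * x * s⁻¹ := by group
      _ = x⁻¹ := hs.2
  · intro t
    apply Subtype.ext
    show s * (s⁻¹ * (t : G)) = t
    group
  · intro a
    apply Subtype.ext
    show s⁻¹ * (s * (a : G)) = a
    group

/-- if `s` and `t` both invert `x` then `s⁻¹ t` centralises `x` -/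
theorem inv_mul_mem {s t x : G} (hs : Inverts s x) (ht : Inverts t x) :
    s⁻¹ * t ∈ Subgroup.centralizer ({x} : Set G) := by
  rw [mem_cent]
  have h2 : t * x = x⁻¹ * t := by rw [← ht.2]; group
  have h4 : s⁻¹ * x⁻¹ = x * s⁻¹ := by
    have : s⁻¹ * x⁻¹ * s = x := by
      rw [← hs.2]
      group
    calc s⁻¹ * x⁻¹ = (s⁻¹ * x⁻¹ * s) * s⁻¹ := by group
      _ = x * s⁻¹ := by rw [this]
  calc s⁻¹ * t * x = s⁻¹ * (t * x) := by group
    _ = s⁻¹ * x⁻¹ * t := by rw [h2]; group
    _ = x * (s⁻¹ * t) := by rw [h4]; group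

theorem mem_normalizer_of_inverts (S : CIT G) {s x : G} (hx : RealOdd x) (hs : Inverts s x) :
    s ∈ Subgroup.normalizer (Subgroup.centralizer ({x} : Set G) : Set G) := by
  apply ti S hx s x self_mem hx.1
  rw [hs.2]
  exact Subgroup.inv_mem _ self_mem

/-- the index of `C(x)` in its normaliser is `2` or `4` -/
theorem card_normalizer (S : CIT G) {x : G} (hx : RealOdd x) :
    Nat.card (Subgroup.normalizer (Subgroup.centralizer ({x} : Set G) : Set G)) =
        2 * Nat.card (Subgroup.centralizer ({x} : Set G)) ∨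
      Nat.card (Subgroup.normalizer (Subgroup.centralizer ({x} : Set G) : Set G)) =
        4 * Nat.card (Subgroup.centralizer ({x} : Set G)) := by
  have hfinG := S.hfin
  obtain ⟨s, hs⟩ := hx.2.2
  set A := Subgroup.centralizer ({x} : Set G) with hA
  set N := Subgroup.normalizer (A : Set G) with hN
  have hsN : s ∈ N := mem_normalizer_of_inverts S hx hs
  set D := N ⊓ Subgroup.centralizer ({s} : Set G) with hD
  have hsD : s ∈ D := ⟨hsN, self_mem⟩
  have hDp : IsPGroup 2 D := (S.hCIT s hs.1).to_le inf_le_right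
  -- involutions of `N` invert `A`
  have hinvN : ∀ d ∈ N, orderOf d = 2 → Inverts d x := by
    intro d hd hd2
    refine ⟨hd2, ?_⟩
    exact inverts_of_normalizes S hx hd2 (fun y hy => (Subgroup.mem_normalizer_iff.1 hd y).1 hy) x self_mem
  have hAs : ∀ a ∈ A, a * s = s * a → a = 1 := fun a ha h =>
    eq_one_of_commute S hs.1 (odd_orderOf_of_mem S hx ha) h
  have huniq : ∀ d ∈ D, orderOf d = 2 → d = s := by
    intro d hd hd2
    have h1 : s⁻¹ * d ∈ A := inv_mul_mem hs (hinvN d hd.1 hd2)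
    have h2 : s⁻¹ * d = 1 := by
      apply hAs _ h1
      have h3 : d * s = s * d := mem_cent.1 hd.2
      calc s⁻¹ * d * s = s⁻¹ * (d * s) := by group
        _ = s⁻¹ * (s * d) := by rw [h3]
        _ = s * (s⁻¹ * d) := by group
    exact (inv_mul_eq_one.1 h2).symm
  have hD4 : Nat.card D ≤ 4 := S.h4 D hDp s hsD hs.1 huniq
  -- `|D| ∈ {2, 4}`
  have hD24 : Nat.card D = 2 ∨ Nat.card D = 4 := by
    obtain ⟨k, hk⟩ := IsPGroup.iff_card.1 hDp
    rw [hk] at hD4 ⊢
    have hk2 : k ≤ 2 := by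
      by_contra h
      have : 2 ^ 3 ≤ 2 ^ k := Nat.pow_le_pow_right (by norm_num) (by omega)
      omega
    have hk0 : k ≠ 0 := by
      rintro rfl
      rw [pow_zero] at hk
      have h1 : Subsingleton D := (Nat.card_eq_one_iff_unique.1 hk).1
      have h2 : (⟨s, hsD⟩ : D) = 1 := Subsingleton.elim _ _
      have h3 : s = 1 := congrArg Subtype.val h2
      have h4 := hs.1
      rw [h3, orderOf_one] at h4
      exact absurd h4 (by norm_num)
    interval_cases k
    · exact absurd rfl hk0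
    · left; norm_num
    · right; norm_num
  -- `|N| = |A| |D|`
  have hcard : Nat.card N = Nat.card A * Nat.card D := by
    rw [← Nat.card_prod]
    symm
    have hAN : A ≤ N := Subgroup.le_normalizer
    refine Nat.card_congr (Equiv.ofBijective
      (fun p : A × D => (⟨(p.1 : G) * p.2, N.mul_mem (hAN p.1.2) p.2.2.1⟩ : N)) ⟨?_, ?_⟩)
    · rintro ⟨a, d⟩ ⟨a', d'⟩ h
      have h1 : (a : G) * d = a' * d' := congrArg Subtype.val h
      have h2 : (a' : G)⁻¹ * a = d' * (d : G)⁻¹ := by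
        calc (a' : G)⁻¹ * a = (a' : G)⁻¹ * (a * d) * (d : G)⁻¹ := by group
          _ = d' * (d : G)⁻¹ := by rw [h1]; group
      have h3 : (a' : G)⁻¹ * a = 1 := by
        apply hAs _ (A.mul_mem (A.inv_mem a'.2) a.2)
        rw [h2]
        have e1 : (d : G) * s = s * d := mem_cent.1 d.2.2
        have e2 : (d' : G) * s = s * d' := mem_cent.1 d'.2.2
        have e3 : (d : G)⁻¹ * s = s * (d : G)⁻¹ := by
          calc (d : G)⁻¹ * s = (d : G)⁻¹ * (s * d) * (d : G)⁻¹ := by group
            _ = (d : G)⁻¹ * (d * s) * (d : G)⁻¹ := by rw [e1]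
            _ = _ := by group
        calc (d' : G) * (d : G)⁻¹ * s = d' * ((d : G)⁻¹ * s) := by group
          _ = d' * s * (d : G)⁻¹ := by rw [e3]; group
          _ = s * (d' * (d : G)⁻¹) := by rw [e2]; group
      have h4 : a = a' := Subtype.ext (inv_mul_eq_one.1 h3).symm
      subst h4
      have h5 : d = d' := Subtype.ext (mul_left_cancel h1)
      rw [h5]
    · rintro ⟨n, hn⟩
      -- the involution `n s n⁻¹` inverts `A`
      have hg2 : orderOf (n * s * n⁻¹) = 2 := by
        have h4 : (MulAut.conj n) s = n * s * n⁻¹ := by simp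
        rw [← h4, ← hs.1]
        exact orderOf_injective (MulAut.conj n).toMonoidHom (MulAut.conj n).injective s
      have hgN : n * s * n⁻¹ ∈ N := N.mul_mem (N.mul_mem hn hsN) (N.inv_mem hn)
      have ha0 : s⁻¹ * (n * s * n⁻¹) ∈ A := inv_mul_mem hs (hinvN _ hgN hg2)
      set a0 := s⁻¹ * (n * s * n⁻¹) with ha0def
      obtain ⟨k, hk⟩ := odd_orderOf_of_mem S hx ha0
      have hb : a0 ^ (k + 1) ∈ A := A.pow_mem ha0 _
      have hb2 : a0 ^ (k + 1) * a0 ^ (k + 1) = a0 := by
        rw [← pow_add, show k + 1 + (k + 1) = (2 * k + 1) + 1 by ring, pow_succ, ← hk, pow_orderOf_eq_one,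
          one_mul]
      set b := a0 ^ (k + 1) with hbdef
      -- `b⁻¹ s b = n s n⁻¹`
      have hsb : s * b * s⁻¹ = b⁻¹ := inverts_of_mem S hx hs hb
      have hkey : b⁻¹ * s * b = n * s * n⁻¹ := by
        have h1 : b⁻¹ * s = s * b := by rw [← hsb]; group
        calc b⁻¹ * s * b = s * (b * b) := by rw [h1]; group
          _ = s * a0 := by rw [hb2]
          _ = n * s * n⁻¹ := by rw [ha0def]; group
      have hd : b * n ∈ D := by
        refine ⟨N.mul_mem (Subgroup.le_normalizer hb) hn, ?_⟩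
        apply mem_cent.2
        calc b * n * s = b * (n * s * n⁻¹) * n := by group
          _ = b * (b⁻¹ * s * b) * n := by rw [hkey]
          _ = s * (b * n) := by group
      refine ⟨(⟨b⁻¹, A.inv_mem hb⟩, ⟨b * n, hd⟩), ?_⟩
      apply Subtype.ext
      show b⁻¹ * (b * n) = n
      group
  rcases hD24 with h | h
  · left; rw [hcard, h, mul_comm]
  · right; rw [hcard, h, mul_comm]

end Cfsg.Agent.LieExceptional.RealTori
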