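import Mathlib

/-!
# Arithmetic end game for groups of Ree type (S0343)

`x = ε q` is the signed variable, `x ≡ 5 (mod 8)`, `Z = z₁` with `|G| = Z q³ (q² - 1)`.
-/

set_option autoImplicit false

namespace Cfsg.Agent.LieExceptional.ReeArith

/-- Case II, core congruence: `X = (x - 1) / 2`. -/
theorem caseII_core {X k L : ℤ} (hX : X ≠ 0)
    (hB : (3 + 2 * k * X) * (1 + L * X + 1) * ((1 + L * X) + 1 - (1 + X) * (3 + 2 * k * X))
        - (1 + L * X + 1) * (1 + X) * (1 + L * X)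
      = 2 * (1 + X) * (4 + 2 * X) * (1 + L * X) *
        ((1 + L * X) + 1 - (1 + X) * (3 + 2 * k * X))) : X ∣ 16 := by
  refine ⟨-(40 + 12 * L - 6 * L ^ 2 + 16 * k + 12 * k * L - 8 * k ^ 2
    + X * (12 + 36 * L - 13 * L ^ 2 + 32 * k + 28 * k * L + 2 * k * L ^ 2 - 8 * k ^ 2
      - 4 * k ^ 2 * L)
    + X ^ 2 * (12 * L - 4 * L ^ 2 + 8 * k + 32 * k * L - 4 * k ^ 2 * L) + X ^ 3 * (8 * k * L)), ?_⟩
  have h : X * 16 = X * (X * -(40 + 12 * L - 6 * L ^ 2 + 16 * k + 12 * k * L - 8 * k ^ 2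
    + X * (12 + 36 * L - 13 * L ^ 2 + 32 * k + 28 * k * L + 2 * k * L ^ 2 - 8 * k ^ 2
      - 4 * k ^ 2 * L)
    + X ^ 2 * (12 * L - 4 * L ^ 2 + 8 * k + 32 * k * L - 4 * k ^ 2 * L)
    + X ^ 3 * (8 * k * L))) := by
    linear_combination hB
  exact mul_left_cancel₀ hX h

/-- Case II is impossible.  Data: `x = ε q ≡ 5 (mod 8)`, `Z = z₁` (`|G| = Z q³ (q² - 1)`), `M` the
signed degree of the second `1`-type character, `e = M + 1 - (x+1)/2 · Z` the signed degree `X₃'`.
`hB` is the equation (B) `Z m / M - m y / e = (x+1)(x+3)`, `m = M + 1`, `y = (x+1)/2`. -/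
theorem caseII_false {x Z M e y : ℤ} (hx8 : x % 8 = 5) (hx : 5 < |x|)
    (hy : 2 * y = x + 1) (he : e = M + 1 - y * Z)
    (hZ : (x - 1) ∣ Z - 3) (hM : (x - 1) / 2 ∣ M - 1)
    (hB : Z * (M + 1) * e - (M + 1) * y * M = 2 * y * (x + 3) * M * e) : False := by
  obtain ⟨X, hX⟩ : ∃ X : ℤ, x = 1 + 2 * X := ⟨(x - 1) / 2, by omega⟩
  have hX1 : (x - 1) / 2 = X := by omega
  have hX2 : x - 1 = 2 * X := by omega
  rw [hX1] at hM
  rw [hX2] at hZ
  obtain ⟨k, hk⟩ := hZ
  obtain ⟨L, hL⟩ := hM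
  have hyX : y = 1 + X := by omega
  have hX0 : X ≠ 0 := by
    rintro rfl
    omega
  have hZe : Z = 3 + 2 * k * X := by linear_combination hk
  have hMe : M = 1 + L * X := by linear_combination hL
  have hX3 : X ∣ 16 := by
    apply caseII_core (k := k) (L := L) hX0
    subst he
    rw [hZe, hMe, hyX, hX] at hB
    linear_combination hB
  have h4 : X % 4 = 2 := by omega
  have hXle : |X| ≤ 16 := Int.le_of_dvd (by norm_num) ((abs_dvd X 16).mpr hX3)
  have h1 : -16 ≤ X ∧ X ≤ 16 := abs_le.mp hXle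
  have h2 : X = 2 ∨ X = -2 := by
    obtain ⟨ha, hb⟩ := h1
    obtain ⟨c, hc⟩ := hX3
    interval_cases X <;> omega
  rcases h2 with h | h
  · subst h
    have : x = 5 := by omega
    subst this
    norm_num at hx
  · subst h
    have : x = -3 := by omega
    subst this
    norm_num at hx

/-! ### Case I -/

theorem le_abs_sub_one {x : ℤ} (hx8 : x % 8 = 5) (hx : 5 < |x|) : 12 ≤ |x - 1| := by
  rcases abs_cases x with ⟨h, _⟩ | ⟨h, _⟩ <;> rcases abs_cases (x - 1) with ⟨h', _⟩ | ⟨h', _⟩ <;>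
    omega

/-- If `x - 1` divides a small positive number we are done. -/
theorem not_dvd_small {x c : ℤ} (hx8 : x % 8 = 5) (hx : 5 < |x|) (hc : (x - 1) ∣ c)
    (h0 : c ≠ 0) (h : |c| < 12) : False := by
  have h1 := le_abs_sub_one hx8 hx
  have h2 : |x - 1| ≤ |c| := Int.le_of_dvd (abs_pos.mpr h0) ((abs_dvd_abs _ _).mpr hc)
  omega

/-- Powers of `p` that are `± 1` modulo `(x - 1) / gcd(3, x - 1)`, where `x = ± p ^ n`. -/
theorem key {p n : ℕ} (hp : p.Prime) (hn : 0 < n) {x : ℤ}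
    (hx : x = (p : ℤ) ^ n ∨ x = -(p : ℤ) ^ n) (hx8 : x % 8 = 5) (hx5 : 5 < |x|)
    {τ : ℤ} (hτ : τ = 1 ∨ τ = -1) {d : ℕ} (h : (x - 1) ∣ 3 * ((p : ℤ) ^ d - τ)) :
    ∃ u : ℕ, τ * (p : ℤ) ^ d = x ^ u := by
  obtain ⟨ε, hε, hεx⟩ : ∃ ε : ℤ, (ε = 1 ∨ ε = -1) ∧ (p : ℤ) ^ n = ε * x := by
    rcases hx with h | h
    · exact ⟨1, Or.inl rfl, by rw [h]; ring⟩
    · exact ⟨-1, Or.inr rfl, by rw [h]; ring⟩
  set u := d / n with hu
  set v := d % n with hv
  have hd : d = n * u + v := (Nat.div_add_mod d n).symm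
  have hvn : v < n := Nat.mod_lt _ hn
  have hpd : (p : ℤ) ^ d = (ε * x) ^ u * (p : ℤ) ^ v := by
    rw [hd, pow_add, pow_mul, hεx]
  have hε2 : ε ^ u * ε ^ u = 1 := by
    rw [← mul_pow]
    rcases hε with h | h <;> simp [h]
  have hεu : ε ^ u = 1 ∨ ε ^ u = -1 := by
    rcases hε with h | h
    · left; simp [h]
    · rw [h]; exact neg_one_pow_eq_or ℤ u
  have hτ2 : τ * τ = 1 := by rcases hτ with h | h <;> simp [h]
  -- `s = ε ^ u * τ`
  obtain ⟨s, hs, hs1⟩ : ∃ s : ℤ, s = ε ^ u * τ ∧ (s = 1 ∨ s = -1) := by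
    refine ⟨_, rfl, ?_⟩
    rcases hεu with h | h <;> rcases hτ with h' | h' <;> simp [h, h']
  have hxu : (x - 1) ∣ x ^ u - 1 := by
    simpa using sub_dvd_pow_sub_pow x 1 u
  have h3 : (x - 1) ∣ 3 * ((p : ℤ) ^ v - s) := by
    obtain ⟨c, hc⟩ := hxu
    obtain ⟨c', hc'⟩ := h
    refine ⟨ε ^ u * c' - 3 * c * (p : ℤ) ^ v, ?_⟩
    rw [hpd, mul_pow] at hc'
    have hxe : x ^ u = 1 + (x - 1) * c := by linear_combination hc
    rw [hxe] at hc'
    rw [hs]
    linear_combination (ε ^ u) * hc' - 3 * (p : ℤ) ^ v * (1 + (x - 1) * c) * hε2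
  have hp2 : p ≠ 2 := by
    rintro rfl
    have : (2 : ℤ) ∣ x := by
      rcases hx with h | h
      · rw [h]; exact dvd_pow_self _ hn.ne'
      · rw [h]; exact (dvd_neg.mpr (dvd_pow_self _ hn.ne'))
    omega
  have hp3 : 3 ≤ p := by
    have := hp.two_le
    omega
  have habs : (p : ℤ) ^ n - 1 ≤ |x - 1| := by
    have h0 : (0 : ℤ) < (p : ℤ) ^ n := by positivity
    rcases hx with h | h
    · rw [h]; exact le_abs_self _
    · rw [h, abs_of_nonpos (by linarith)]; linarith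
  have hv0 : v = 0 := by
    by_contra hv0
    have hv1 : 1 ≤ v := Nat.one_le_iff_ne_zero.mpr hv0
    have hn2 : 2 ≤ n := by omega
    have hpv : (3 : ℤ) ≤ (p : ℤ) ^ v := by
      calc (3 : ℤ) ≤ (p : ℤ) := by exact_mod_cast hp3
        _ = (p : ℤ) ^ 1 := (pow_one _).symm
        _ ≤ (p : ℤ) ^ v := pow_le_pow_right₀ (by exact_mod_cast hp.one_le) hv1
    have hpvn : (p : ℤ) ^ v ≤ (p : ℤ) ^ (n - 1) :=
      pow_le_pow_right₀ (by exact_mod_cast hp.one_le) (by omega)
    have hpn : (p : ℤ) ^ n = p * (p : ℤ) ^ (n - 1) := by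
      rw [← pow_succ']; congr 1; omega
    have hpos : 0 < (p : ℤ) ^ v - s := by rcases hs1 with h | h <;> rw [h] <;> linarith
    have hle1 : (p : ℤ) ^ v - s ≤ (p : ℤ) ^ (n - 1) + 1 := by
      rcases hs1 with h | h <;> rw [h] <;> linarith
    have hPp : (p : ℤ) ≤ (p : ℤ) ^ (n - 1) := by
      calc (p : ℤ) = (p : ℤ) ^ 1 := (pow_one _).symm
        _ ≤ (p : ℤ) ^ (n - 1) := pow_le_pow_right₀ (by exact_mod_cast hp.one_le) (by omega)
    rcases Nat.eq_or_lt_of_le hp3 with h3p | h3p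
    · -- p = 3
      have hcop : IsCoprime (x - 1) 3 := by
        have h3x : (3 : ℤ) ∣ x := by
          have : (3 : ℤ) = (p : ℤ) := by exact_mod_cast h3p
          rw [this]
          rcases hx with h | h
          · rw [h]; exact dvd_pow_self _ hn.ne'
          · rw [h]; exact (dvd_neg.mpr (dvd_pow_self _ hn.ne'))
        obtain ⟨c, hc⟩ := h3x
        exact ⟨-1, c, by rw [hc]; ring⟩
      have h4 : (x - 1) ∣ (p : ℤ) ^ v - s := hcop.dvd_of_dvd_mul_left h3
      have h5 : |x - 1| ≤ (p : ℤ) ^ v - s := Int.le_of_dvd hpos ((abs_dvd _ _).mpr h4)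
      have h6 : (p : ℤ) = 3 := by exact_mod_cast h3p.symm
      rw [h6] at hpn hPp h5 hle1 habs
      linarith
    · have hp5 : (5 : ℤ) ≤ p := by
        have : p ≠ 4 := by rintro rfl; exact absurd hp (by decide)
        have : 5 ≤ p := by omega
        exact_mod_cast this
      have h5 : |x - 1| ≤ 3 * ((p : ℤ) ^ v - s) :=
        Int.le_of_dvd (by linarith) ((abs_dvd _ _).mpr h3)
      have h7 : 5 * (p : ℤ) ^ (n - 1) ≤ p * (p : ℤ) ^ (n - 1) :=
        mul_le_mul_of_nonneg_right hp5 (by positivity)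
      linarith
  rw [hv0, pow_zero] at h3 hpd
  have hs' : s = 1 := by
    rcases hs1 with h | h
    · exact h
    · exfalso
      rw [h] at h3
      exact not_dvd_small hx8 hx5 h3 (by norm_num) (by norm_num)
  refine ⟨u, ?_⟩
  rw [hpd, mul_pow]
  rw [hs'] at hs
  linear_combination -x ^ u * hs

theorem step1 {p : ℕ} (hp : p.Prime) {n : ℕ} {x Z N e : ℤ}
    (hx : x = (p : ℤ) ^ n ∨ x = -(p : ℤ) ^ n) (hN0 : N ≠ 0) (he0 : e ≠ 0)
    (hsum : e = (x + 1) * Z - N) (hN : N ∣ Z * x ^ 2) (he : e ∣ Z * x ^ 3) :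
    ∃ (N' : ℤ) (i j : ℕ) (τ : ℤ), (τ = 1 ∨ τ = -1) ∧ N = N' * (p : ℤ) ^ i ∧
      e = τ * N' * (p : ℤ) ^ j := by
  have hpZ : Prime (p : ℤ) := Nat.prime_iff_prime_int.mp hp
  have hfin : ∀ a : ℤ, a ≠ 0 → FiniteMultiplicity (p : ℤ) a := fun a ha =>
    FiniteMultiplicity.of_prime_left hpZ ha
  obtain ⟨N', hN1, hN2⟩ := (hfin N hN0).exists_eq_pow_mul_and_not_dvd
  obtain ⟨E', hE1, hE2⟩ := (hfin e he0).exists_eq_pow_mul_and_not_dvd
  set i := multiplicity (p : ℤ) N
  set j := multiplicity (p : ℤ) e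
  have hcopx : ∀ a : ℤ, ¬ (p : ℤ) ∣ a → ∀ k : ℕ, IsCoprime a (x ^ k) := by
    intro a ha k
    have h1 : IsCoprime (p : ℤ) a := (Prime.coprime_iff_not_dvd hpZ).mpr ha
    apply IsCoprime.pow_right
    rcases hx with h | h
    · rw [h]; exact h1.symm.pow_right
    · rw [h]; exact h1.symm.pow_right.neg_right
  have hcopp : ∀ a : ℤ, ¬ (p : ℤ) ∣ a → ∀ k : ℕ, IsCoprime a ((p : ℤ) ^ k) := by
    intro a ha k
    exact ((Prime.coprime_iff_not_dvd hpZ).mpr ha).symm.pow_right
  have hNZ : N' ∣ Z :=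
    (hcopx N' hN2 2).dvd_of_dvd_mul_right ((Dvd.intro_left _ hN1.symm).trans hN)
  have hEZ : E' ∣ Z :=
    (hcopx E' hE2 3).dvd_of_dvd_mul_right ((Dvd.intro_left _ hE1.symm).trans he)
  have hNN : N' ∣ N := Dvd.intro_left _ hN1.symm
  have hEe : E' ∣ e := Dvd.intro_left _ hE1.symm
  have h1 : N' ∣ e := by
    rw [hsum]; exact dvd_sub (hNZ.mul_left _) hNN
  have h2 : E' ∣ N := by
    have : N = (x + 1) * Z - e := by rw [hsum]; ring
    rw [this]; exact dvd_sub (hEZ.mul_left _) hEe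
  have h3 : N' ∣ E' := by
    rw [hE1] at h1
    exact (hcopp N' hN2 j).dvd_of_dvd_mul_left h1
  have h4 : E' ∣ N' := by
    rw [hN1] at h2
    exact (hcopp E' hE2 i).dvd_of_dvd_mul_left h2
  rcases Int.associated_iff.mp (associated_of_dvd_dvd h4 h3) with h5 | h5
  · exact ⟨N', i, j, 1, Or.inl rfl, by rw [mul_comm]; exact hN1, by rw [hE1, h5]; ring⟩
  · exact ⟨N', i, j, -1, Or.inr rfl, by rw [mul_comm]; exact hN1, by rw [hE1, h5]; ring⟩

/-- Either `e = N x ^ u` or `N = e x ^ u`. -/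
theorem step2 {p : ℕ} (hp : p.Prime) {n : ℕ} (hn : 0 < n) {x Z N e : ℤ}
    (hx : x = (p : ℤ) ^ n ∨ x = -(p : ℤ) ^ n) (hx8 : x % 8 = 5) (hx5 : 5 < |x|)
    (hN0 : N ≠ 0) (he0 : e ≠ 0)
    (hsum : e = (x + 1) * Z - N) (hN : N ∣ Z * x ^ 2) (he : e ∣ Z * x ^ 3)
    (hZ3 : (x - 1) ∣ Z - 3) (hN3 : (x - 1) ∣ N - 3) :
    (∃ u : ℕ, e = N * x ^ u) ∨ (∃ u : ℕ, N = e * x ^ u) := by
  obtain ⟨N', i, j, τ, hτ, hNi, hej⟩ := step1 hp hx hN0 he0 hsum hN he
  have hτ2 : τ * τ = 1 := by rcases hτ with h | h <;> simp [h]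
  have he3 : (x - 1) ∣ e - 3 := by
    obtain ⟨c, hc⟩ := hZ3
    obtain ⟨c', hc'⟩ := hN3
    refine ⟨(x + 1) * c - c' + 3, ?_⟩
    rw [hsum]
    linear_combination (x + 1) * hc - hc'
  have hNe : (x - 1) ∣ N - e := by
    have := dvd_sub hN3 he3
    have h : N - e = (N - 3) - (e - 3) := by ring
    rw [h]; exact this
  rcases le_total i j with hij | hij
  · left
    obtain ⟨d, rfl⟩ := Nat.exists_eq_add_of_le hij
    have h1 : e = N * (τ * (p : ℤ) ^ d) := by rw [hej, hNi, pow_add]; ring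
    obtain ⟨u, hu⟩ := key hp hn hx hx8 hx5 hτ (d := d) (by
      obtain ⟨c, hc⟩ := hNe
      obtain ⟨c', hc'⟩ := hN3
      refine ⟨-τ * c + c' * (-((p : ℤ) ^ d - τ)), ?_⟩
      rw [h1] at hc
      have hN' : N = 3 + (x - 1) * c' := by linear_combination hc'
      rw [hN'] at hc
      linear_combination (-τ) * hc - (3 + (x - 1) * c') * (p : ℤ) ^ d * hτ2)
    exact ⟨u, by rw [← hu]; exact h1⟩
  · right
    obtain ⟨d, rfl⟩ := Nat.exists_eq_add_of_le hij
    have h1 : N = e * (τ * (p : ℤ) ^ d) := by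
      rw [hej, hNi, pow_add]
      linear_combination (-N' * (p : ℤ) ^ j * (p : ℤ) ^ d) * hτ2
    obtain ⟨u, hu⟩ := key hp hn hx hx8 hx5 hτ (d := d) (by
      obtain ⟨c, hc⟩ := hNe
      obtain ⟨c', hc'⟩ := he3
      refine ⟨τ * c + c' * (-((p : ℤ) ^ d - τ)), ?_⟩
      rw [h1] at hc
      have he' : e = 3 + (x - 1) * c' := by linear_combination hc'
      rw [he'] at hc
      linear_combination τ * hc - (3 + (x - 1) * c') * (p : ℤ) ^ d * hτ2)
    exact ⟨u, by rw [← hu]; exact h1⟩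

/-- **Case I.**  `N = -M` and `e` are the (negated) signed degrees `-X₁'`, `-X₄'`; `hA` is the
equation (A) with denominators cleared.  Conclusion: Ree type. -/
theorem caseI {p n : ℕ} (hp : p.Prime) (hn : 0 < n) {x Z N e : ℤ}
    (hx : x = (p : ℤ) ^ n ∨ x = -(p : ℤ) ^ n) (hx8 : x % 8 = 5) (hx5 : 5 < |x|)
    (hN0 : N ≠ 0) (he0 : e ≠ 0)
    (hsum : e = (x + 1) * Z - N) (hN : N ∣ Z * x ^ 2) (he : e ∣ Z * x ^ 3)
    (hZ3 : (x - 1) ∣ Z - 3) (hN3 : (x - 1) ∣ N - 3)
    (hA : ((Z * x - (x ^ 2 - 1) * (x + 1)) * N - Z * x) * e * (e - N + 1)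
      = Z * x ^ 3 * N * (N - 1)) : Z = N ∧ N = x ^ 2 + x + 1 := by
  have hx0 : x ≠ 0 := by rintro rfl; simp at hx5
  have hx1 : x + 1 ≠ 0 := by
    intro h
    have : x = -1 := by linarith
    subst this; norm_num at hx5
  have hxm1 : x - 1 ≠ 0 := by
    intro h
    have : x = 1 := by linarith
    subst this; norm_num at hx5
  have hxu : ¬ IsUnit x := by
    intro h
    rcases Int.isUnit_iff.mp h with h | h <;> subst h <;> norm_num at hx5
  have he3 : (x - 1) ∣ e - 3 := by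
    obtain ⟨c, hc⟩ := hZ3
    obtain ⟨c', hc'⟩ := hN3
    refine ⟨(x + 1) * c - c' + 3, ?_⟩
    rw [hsum]
    linear_combination (x + 1) * hc - hc'
  have hxm : x ≡ 1 [ZMOD (x - 1)] :=
    (Int.modEq_iff_dvd.mpr ⟨1, by ring⟩ : (1 : ℤ) ≡ x [ZMOD (x - 1)]).symm
  have hNm : N ≡ 3 [ZMOD (x - 1)] := (Int.modEq_iff_dvd.mpr hN3 : (3 : ℤ) ≡ N [ZMOD (x - 1)]).symm
  have hem : e ≡ 3 [ZMOD (x - 1)] := (Int.modEq_iff_dvd.mpr he3 : (3 : ℤ) ≡ e [ZMOD (x - 1)]).symm
  -- `x ^ u ∣ (1 + x ^ u) * x ^ k` forces `u ≤ k`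
  have hbound : ∀ u k : ℕ, x ^ u ∣ (1 + x ^ u) * x ^ k → u ≤ k := by
    intro u k h
    by_contra hlt
    push Not at hlt
    have hu1 : 0 < u := by omega
    have hcop : IsCoprime (x ^ u) (1 + x ^ u) := ⟨-1, 1, by ring⟩
    have h2 : x ^ u ∣ x ^ k := hcop.dvd_of_dvd_mul_left h
    have h3 : x ^ (u - k) ∣ 1 := by
      have : x ^ u = x ^ k * x ^ (u - k) := by rw [← pow_add]; congr 1; omega
      rw [this] at h2
      have h4 : x ^ k * x ^ (u - k) ∣ x ^ k * 1 := by rw [mul_one]; exact h2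
      exact (mul_dvd_mul_iff_left (pow_ne_zero k hx0)).mp h4
    have h5 : IsUnit (x ^ (u - k)) := isUnit_of_dvd_one h3
    exact hxu (isUnit_pow_iff (by omega) |>.mp h5)
  rcases step2 hp hn hx hx8 hx5 hN0 he0 hsum hN he hZ3 hN3 with ⟨u, hu⟩ | ⟨u, hu⟩
  · -- `e = N x ^ u`
    have hZN : (x + 1) * Z = N * (1 + x ^ u) := by rw [mul_add, mul_one, ← hu, hsum]; ring
    have hu3 : u ≤ 3 := by
      apply hbound
      have h1 : N * x ^ u ∣ N * ((1 + x ^ u) * x ^ 3) := by
        have : N * ((1 + x ^ u) * x ^ 3) = (x + 1) * (Z * x ^ 3) := by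
          rw [← mul_assoc, ← hZN]; ring
        rw [this, ← hu]; exact he.mul_left _
      exact (mul_dvd_mul_iff_left hN0).mp h1
    interval_cases u
    · -- u = 0
      exfalso
      have he' : e = N := by rw [hu]; ring
      have hZN' : (x + 1) * Z = 2 * N := by rw [hZN]; ring
      have hZ0 : Z ≠ 0 := by
        rintro rfl
        apply hN0
        linarith
      have h1 : x ∣ 1 := by
        refine ⟨-(x + Z * (x + 1)), ?_⟩
        have h2 : N * (Z * ((x ^ 2 - 1) * (1 + x * (x + Z * (x + 1))))) = 0 := by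
          rw [he'] at hA
          linear_combination (-2) * hA
            - N * (Z * x - (x ^ 2 - 1) * (x + 1) - Z * x ^ 3) * hZN'
        have h3 : Z * ((x ^ 2 - 1) * (1 + x * (x + Z * (x + 1)))) = 0 :=
          (mul_eq_zero.mp h2).resolve_left hN0
        have h4 := (mul_eq_zero.mp h3).resolve_left hZ0
        have h5 : (x ^ 2 - 1) ≠ 0 := by
          have : x ^ 2 - 1 = (x - 1) * (x + 1) := by ring
          rw [this]; exact mul_ne_zero hxm1 hx1
        have h6 := (mul_eq_zero.mp h4).resolve_left h5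
        linarith
      exact hxu (isUnit_of_dvd_one h1)
    · -- u = 1
      have he' : e = N * x := by rw [hu]; ring
      have hZN' : Z = N := by
        have : (x + 1) * (Z - N) = 0 := by rw [pow_one] at hZN; linear_combination hZN
        have := (mul_eq_zero.mp this).resolve_left hx1
        linarith
      refine ⟨hZN', ?_⟩
      rw [hZN', he'] at hA
      have h1 : N * (N * (x * ((x - 1) * ((N - (x ^ 2 + x + 1)) * (x * N + 1))))) = 0 := by
        linear_combination hA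
      have h2 := (mul_eq_zero.mp h1).resolve_left hN0
      have h3 := (mul_eq_zero.mp h2).resolve_left hN0
      have h4 := (mul_eq_zero.mp h3).resolve_left hx0
      have h5 := (mul_eq_zero.mp h4).resolve_left hxm1
      rcases mul_eq_zero.mp h5 with h | h
      · linarith
      · exfalso
        apply hxu
        apply isUnit_of_dvd_one
        exact ⟨-N, by linarith⟩
    · -- u = 2
      exfalso
      have h1 : N * (N * (x ^ 2 * ((x ^ 2 - 1) * ((x * (x ^ 2 + 1) * (N - 1)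
          - (x ^ 2 - 1) * (x + 1) ^ 2) * N - (x + 1) ^ 2)))) = 0 := by
        rw [hu] at hA
        linear_combination (x + 1) * hA + (-(x * (N-1) * (N * x^2) * (N * x^2 - N + 1))
          + x^3 * N * (N-1)) * hZN
      have h2 := (mul_eq_zero.mp h1).resolve_left hN0
      have h3 := (mul_eq_zero.mp h2).resolve_left hN0
      have h4 := (mul_eq_zero.mp h3).resolve_left (pow_ne_zero 2 hx0)
      have h5 : (x ^ 2 - 1) ≠ 0 := by
        have : x ^ 2 - 1 = (x - 1) * (x + 1) := by ring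
        rw [this]; exact mul_ne_zero hxm1 hx1
      have h6 := (mul_eq_zero.mp h4).resolve_left h5
      apply not_dvd_small hx8 hx5 (c := 8) _ (by norm_num) (by norm_num)
      have h7 : (x * (x ^ 2 + 1) * (N - 1) - (x ^ 2 - 1) * (x + 1) ^ 2) * N - (x + 1) ^ 2
          ≡ (1 * (1 ^ 2 + 1) * (3 - 1) - (1 ^ 2 - 1) * (1 + 1) ^ 2) * 3 - (1 + 1) ^ 2
            [ZMOD (x - 1)] := by gcongr
      rw [h6] at h7
      norm_num at h7
      exact (Int.modEq_zero_iff_dvd.mp h7.symm)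
    · -- u = 3
      exfalso
      have hZN' : Z = N * (x ^ 2 - x + 1) := by
        have : (x + 1) * (Z - N * (x ^ 2 - x + 1)) = 0 := by linear_combination hZN
        have := (mul_eq_zero.mp this).resolve_left hx1
        linarith
      have h1 : N * (N * (x ^ 2 * ((x * (x ^ 2 - x + 1) * (N - 1) - (x ^ 2 - 1) * (x + 1))
          * (x * (x ^ 3 - 1) * N + (x - 1)) - (x ^ 2 - 1) * (x + 1)))) = 0 := by
        rw [hu, hZN'] at hA
        linear_combination hA
      have h2 := (mul_eq_zero.mp h1).resolve_left hN0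
      have h3 := (mul_eq_zero.mp h2).resolve_left hN0
      have h4 := (mul_eq_zero.mp h3).resolve_left (pow_ne_zero 2 hx0)
      have h5 : (x - 1) * ((x * (x ^ 2 - x + 1) * (N - 1) - (x ^ 2 - 1) * (x + 1))
          * (x * (x ^ 2 + x + 1) * N + 1) - (x + 1) ^ 2) = 0 := by
        linear_combination h4
      have h6 := (mul_eq_zero.mp h5).resolve_left hxm1
      have h7 : (x * (x ^ 2 - x + 1) * (N - 1) - (x ^ 2 - 1) * (x + 1))
          * (x * (x ^ 2 + x + 1) * N + 1) - (x + 1) ^ 2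
          ≡ (1 * (1 ^ 2 - 1 + 1) * (3 - 1) - (1 ^ 2 - 1) * (1 + 1))
          * (1 * (1 ^ 2 + 1 + 1) * 3 + 1) - (1 + 1) ^ 2 [ZMOD (x - 1)] := by gcongr
      rw [h6] at h7
      norm_num at h7
      have h8 : (x - 1) ∣ 16 := Int.modEq_zero_iff_dvd.mp h7.symm
      have h9 : |x - 1| ≤ 16 := Int.le_of_dvd (by norm_num) ((abs_dvd _ _).mpr h8)
      obtain ⟨h10, h11⟩ := abs_le.mp h9
      obtain ⟨c, hc⟩ := h8
      have h12 := le_abs_sub_one hx8 hx5
      have h13 : x = 13 ∨ x = -11 := by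
        rcases abs_cases (x - 1) with ⟨h', _⟩ | ⟨h', _⟩ <;> omega
      rcases h13 with h | h <;> subst h <;> omega
  · -- `N = e x ^ u`
    have hZe : (x + 1) * Z = e * (1 + x ^ u) := by rw [mul_add, mul_one, ← hu, hsum]; ring
    have hu3 : u ≤ 2 := by
      apply hbound
      have h1 : e * x ^ u ∣ e * ((1 + x ^ u) * x ^ 2) := by
        have : e * ((1 + x ^ u) * x ^ 2) = (x + 1) * (Z * x ^ 2) := by
          rw [← mul_assoc, ← hZe]; ring
        rw [this, ← hu]; exact hN.mul_left _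
      exact (mul_dvd_mul_iff_left he0).mp h1
    exfalso
    interval_cases u
    · -- u = 0
      have he' : e = N := by rw [hu]; ring
      have hZN' : (x + 1) * Z = 2 * N := by rw [hZe, he']; ring
      have hZ0 : Z ≠ 0 := by
        rintro rfl
        apply hN0
        linarith
      have h1 : x ∣ 1 := by
        refine ⟨-(x + Z * (x + 1)), ?_⟩
        have h2 : N * (Z * ((x ^ 2 - 1) * (1 + x * (x + Z * (x + 1))))) = 0 := by
          rw [he'] at hA
          linear_combination (-2) * hA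
            - N * (Z * x - (x ^ 2 - 1) * (x + 1) - Z * x ^ 3) * hZN'
        have h3 : Z * ((x ^ 2 - 1) * (1 + x * (x + Z * (x + 1)))) = 0 :=
          (mul_eq_zero.mp h2).resolve_left hN0
        have h4 := (mul_eq_zero.mp h3).resolve_left hZ0
        have h5 : (x ^ 2 - 1) ≠ 0 := by
          have : x ^ 2 - 1 = (x - 1) * (x + 1) := by ring
          rw [this]; exact mul_ne_zero hxm1 hx1
        have h6 := (mul_eq_zero.mp h4).resolve_left h5
        linarith
      exact hxu (isUnit_of_dvd_one h1)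
    · -- u = 1
      have hZN' : Z = e := by
        have : (x + 1) * (Z - e) = 0 := by rw [pow_one] at hZe; linear_combination hZe
        have := (mul_eq_zero.mp this).resolve_left hx1
        linarith
      rw [pow_one] at hu
      rw [hu, hZN'] at hA
      have h1 : e * (e * (x ^ 2 * ((x - 1) * (e + 1) ^ 2))) = 0 := by
        linear_combination (-1) * hA
      have h2 := (mul_eq_zero.mp h1).resolve_left he0
      have h3 := (mul_eq_zero.mp h2).resolve_left he0
      have h4 := (mul_eq_zero.mp h3).resolve_left (pow_ne_zero 2 hx0)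
      have h5 := (mul_eq_zero.mp h4).resolve_left hxm1
      have h6 : e = -1 := by
        have := pow_eq_zero_iff (two_ne_zero) |>.mp h5
        linarith
      rw [h6] at he3
      exact not_dvd_small hx8 hx5 he3 (by norm_num) (by norm_num)
    · -- u = 2
      have h1 : e * (e * (x * ((x ^ 2 - 1) * (((x ^ 2 + 1) * (x ^ 2 * e - 1)
          - x * (x ^ 2 - 1) * (x + 1) ^ 2) * (e + x ^ 2 + 1) + x ^ 5 * (x + 1) ^ 2)))) = 0 := by
        rw [hu] at hA
        linear_combination (-(x + 1)) * hA + ((e * x ^ 3 - x) * e * (e - e * x ^ 2 + 1)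
          - x ^ 5 * e * (e * x ^ 2 - 1)) * hZe
      have h2 := (mul_eq_zero.mp h1).resolve_left he0
      have h3 := (mul_eq_zero.mp h2).resolve_left he0
      have h4 := (mul_eq_zero.mp h3).resolve_left hx0
      have h5 : (x ^ 2 - 1) ≠ 0 := by
        have : x ^ 2 - 1 = (x - 1) * (x + 1) := by ring
        rw [this]; exact mul_ne_zero hxm1 hx1
      have h6 := (mul_eq_zero.mp h4).resolve_left h5
      have h7 : ((x ^ 2 + 1) * (x ^ 2 * e - 1)
          - x * (x ^ 2 - 1) * (x + 1) ^ 2) * (e + x ^ 2 + 1) + x ^ 5 * (x + 1) ^ 2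
          ≡ ((1 ^ 2 + 1) * (1 ^ 2 * 3 - 1)
          - 1 * (1 ^ 2 - 1) * (1 + 1) ^ 2) * (3 + 1 ^ 2 + 1) + 1 ^ 5 * (1 + 1) ^ 2
            [ZMOD (x - 1)] := by gcongr
      rw [h6] at h7
      norm_num at h7
      have h8 : (x - 1) ∣ 24 := Int.modEq_zero_iff_dvd.mp h7.symm
      have h9 : |x - 1| ≤ 24 := Int.le_of_dvd (by norm_num) ((abs_dvd _ _).mpr h8)
      obtain ⟨h10, h11⟩ := abs_le.mp h9
      have h12 := le_abs_sub_one hx8 hx5
      have h13 : x = 13 ∨ x = -11 ∨ x = 21 ∨ x = -19 := by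
        rcases abs_cases (x - 1) with ⟨h', _⟩ | ⟨h', _⟩ <;> omega
      rcases h13 with h | h | h | h
      · subst h
        have h14 : e * (28730 * e + 4455866) = 26352 := by linear_combination h6
        rcases lt_trichotomy e 0 with h | h | h
        · rcases le_or_gt e (-156) with h' | h' <;> nlinarith
        · subst h; norm_num at h14
        · nlinarith
      · subst h
        have h14 : e * (14762 * e + 1932842) = 15984 := by linear_combination h6
        rcases lt_trichotomy e 0 with h | h | h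
        · rcases le_or_gt e (-131) with h' | h' <;> nlinarith
        · subst h; norm_num at h14
        · nlinarith
      · subst h; norm_num at h8
      · subst h; norm_num at h8

/-! ### The prime is three -/

/-- `p ^ n * s ^ 2 = 3 * D ^ 2` with `s ≠ 0` forces `p = 3` and `n` odd. -/
theorem three_of_sq {p n : ℕ} (hp : p.Prime) {s D : ℕ} (hs : s ≠ 0)
    (h : p ^ n * s ^ 2 = 3 * D ^ 2) : p = 3 ∧ Odd n := by
  have hD : D ≠ 0 := by
    rintro rfl
    have : p ^ n * s ^ 2 ≠ 0 := mul_ne_zero (pow_ne_zero _ hp.ne_zero) (pow_ne_zero _ hs)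
    simp at h
    rcases h with h | h
    · exact hp.ne_zero h.1
    · exact hs h
  have h3 : Nat.Prime 3 := by norm_num
  have h1 : (p ^ n * s ^ 2).factorization 3 = (3 * D ^ 2).factorization 3 := by rw [h]
  rw [Nat.factorization_mul (pow_ne_zero _ hp.ne_zero) (pow_ne_zero _ hs),
    Nat.factorization_mul (by norm_num) (pow_ne_zero _ hD), Nat.factorization_pow,
    Nat.factorization_pow, Nat.factorization_pow, Finsupp.add_apply, Finsupp.add_apply,
    Finsupp.smul_apply, Finsupp.smul_apply, Finsupp.smul_apply, h3.factorization_self,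
    smul_eq_mul, smul_eq_mul, smul_eq_mul] at h1
  have hp3 : p = 3 := by
    by_contra hne
    have : p.factorization 3 = 0 := by
      rw [Nat.factorization_eq_zero_iff]
      right; left
      intro h
      exact hne ((Nat.prime_dvd_prime_iff_eq h3 hp).mp h).symm
    rw [this] at h1
    omega
  refine ⟨hp3, ?_⟩
  subst hp3
  rw [h3.factorization_self] at h1
  rw [Nat.odd_iff]
  omega

/-- The end of the proof: the two signed degrees `X₃, X₃'` have the sum `-x(x+1)` and the product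
`x(x+1)²(x²+x+1)/12`; hence `ε = -1`, `p = 3` and `n` is odd. -/
theorem final {p n : ℕ} (hp : p.Prime) {x : ℤ} (hx : x = (p : ℤ) ^ n ∨ x = -(p : ℤ) ^ n)
    (hx5 : 5 < |x|) {X3 X3' : ℤ} (hs : X3 + X3' = -(x * (x + 1)))
    (hpr : 12 * (X3 * X3') = x * (x + 1) ^ 2 * (x ^ 2 + x + 1)) :
    x = -(p : ℤ) ^ n ∧ p = 3 ∧ Odd n := by
  have h1 : (-x) * ((x + 1) * (x - 1)) ^ 2 = 3 * (X3 - X3') ^ 2 := by
    linear_combination 3 * (-(X3 + X3') + x * (x + 1)) * hs + hpr
  have hq0 : (0 : ℤ) < (p : ℤ) ^ n := by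
    have := hp.pos
    positivity
  have hx1 : (x + 1) * (x - 1) ≠ 0 := by
    apply mul_ne_zero
    · intro h
      have : x = -1 := by linarith
      subst this; norm_num at hx5
    · intro h
      have : x = 1 := by linarith
      subst this; norm_num at hx5
  have hxneg : x = -(p : ℤ) ^ n := by
    rcases hx with h | h
    · exfalso
      have h2 : 0 < ((x + 1) * (x - 1)) ^ 2 := by positivity
      have h3 : 0 ≤ 3 * (X3 - X3') ^ 2 := by positivity
      rw [← h1] at h3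
      nlinarith
    · exact h
  refine ⟨hxneg, ?_⟩
  have h4 : p ^ n * (((x + 1) * (x - 1)).natAbs) ^ 2 = 3 * ((X3 - X3').natAbs) ^ 2 := by
    zify
    rw [sq_abs, sq_abs, ← h1, hxneg]
    ring
  exact three_of_sq hp (Int.natAbs_ne_zero.mpr hx1) h4

end Cfsg.Agent.LieExceptional.ReeArith
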