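import Mathlib
import Cfsg.Prelude.Def_LieExceptional
import Cfsg.Agent.LieExceptional.SharpNotSimple
import Cfsg.Agent.S0729

/-!
# Sharply triply transitive groups of even degree are not simple

Bridge from S0729 (permutation group form) to the abstract action form.
-/

set_option autoImplicit false

namespace Cfsg.Agent.LieExceptional.SharpNotSimple2

open MulAction Cfsg.Agent.PermutationGroups.ZassenhausEven
open Cfsg.Agent.PermutationGroups
open Cfsg.Agent.LieExceptional.SharpNotSimple

variable {G Ω : Type*} [Group G] [Finite G] [MulAction G Ω] [Finite Ω]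

omit [Finite G] in
/-- three-fold transitivity, pointwise -/
theorem exists_smul_three (hZ : Cfsg.IsZassenhausGroup G Ω)
    (hd : ∀ a b : Ω, a ≠ b → Nat.card ↥(stabilizer G a ⊓ stabilizer G b) + 2 = Nat.card Ω)
    {a b c a' b' c' : Ω} (hab : a ≠ b) (hac : a ≠ c) (hbc : b ≠ c) (hab' : a' ≠ b')
    (hac' : a' ≠ c') (hbc' : b' ≠ c') : ∃ g : G, g • a = a' ∧ g • b = b' ∧ g • c = c' := by
  obtain ⟨g, hga, hgb⟩ := ZassenhausBasic.exists_smul_eq hZ hab hab'
  have h1 : g • c ≠ a' := fun h => hac (MulAction.injective g (hga.trans h.symm))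
  have h2 : g • c ≠ b' := fun h => hbc (MulAction.injective g (hgb.trans h.symm))
  obtain ⟨h, hha, hhb, hhc⟩ := two_point_transitive hZ hab' (hd a' b' hab') h1 h2 hac'.symm hbc'.symm
  exact ⟨h * g, by rw [mul_smul, hga, hha], by rw [mul_smul, hgb, hhb], by rw [mul_smul, hhc]⟩

/-- all two-point stabilisers have the same order -/
theorem card_two_point_eq (hZ : Cfsg.IsZassenhausGroup G Ω) {a b a' b' : Ω} (hab : a ≠ b)
    (hab' : a' ≠ b') : Nat.card ↥(stabilizer G a ⊓ stabilizer G b) =
      Nat.card ↥(stabilizer G a' ⊓ stabilizer G b') := by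
  have h1 := Cfsg.Agent.CharactersDeep.ZassenhausCount.card_eq hZ hab
  have h2 := Cfsg.Agent.CharactersDeep.ZassenhausCount.card_eq hZ hab'
  have h3 : 0 < Nat.card Ω * (Nat.card Ω - 1) := by
    have : 0 < Nat.card G := Nat.card_pos
    rw [h1] at this
    exact Nat.pos_of_mul_pos_right this
  exact Nat.eq_of_mul_eq_mul_left h3 (h1.symm.trans h2)

/-- A simple Zassenhaus group with two-point stabiliser of even order is not sharply triply transitive. -/
theorem not_simple_of_card (hZ : Cfsg.IsZassenhausGroup G Ω) {a b : Ω} (hab : a ≠ b)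
    (hd : Nat.card ↥(stabilizer G a ⊓ stabilizer G b) + 2 = Nat.card Ω)
    (heven : Even (Nat.card ↥(stabilizer G a ⊓ stabilizer G b))) : ¬ IsSimpleGroup G := by
  classical
  have := Fintype.ofFinite Ω
  apply not_simple hZ hab hd heven
  intro c s hca hcb hsa hsb hsc
  have hd' : ∀ a' b' : Ω, a' ≠ b' →
      Nat.card ↥(stabilizer G a' ⊓ stabilizer G b') + 2 = Nat.card Ω := by
    intro a' b' hab'
    rw [← hd, card_two_point_eq hZ hab hab']
  by_cases h6 : 6 ≤ Fintype.card Ω
  swap
  · -- degree four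
    have hcard2 : Nat.card ↥(stabilizer G a ⊓ stabilizer G b) = 2 := by
      rw [Nat.card_eq_fintype_card (α := Ω)] at hd
      have hne : Nat.card ↥(stabilizer G a ⊓ stabilizer G b) ≠ 1 := by
        intro h
        rw [h] at heven
        exact absurd heven (by decide)
      have hpos : 0 < Nat.card ↥(stabilizer G a ⊓ stabilizer G b) := Nat.card_pos
      obtain ⟨k, hk⟩ := heven
      omega
    refine ⟨⊥, bot_le, ?_, ?_, ?_⟩
    · rw [Subgroup.bot_subgroupOf]; infer_instance
    · rw [Subgroup.relIndex_bot_left, hcard2]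
    · intro n hn
      rw [Subgroup.mem_bot] at hn ⊢
      rw [hn]; group
  · have hfaith := hZ.1
    let φ : G →* Equiv.Perm Ω := MulAction.toPermHom G Ω
    have hφ : Function.Injective φ := MulAction.toPerm_injective
    let P : Subgroup (Equiv.Perm Ω) := φ.range
    have hP : ∀ (p : P), ∃ g : G, φ g = p ∧ ∀ x : Ω, p • x = g • x := by
      rintro ⟨p, g, hg⟩
      refine ⟨g, hg, fun x => ?_⟩
      change p x = g • x
      rw [← hg]; rfl
    let e : G ≃* P := MonoidHom.ofInjective hφ
    have he : ∀ (g : G) (x : Ω), e g • x = g • x := fun g x => rfl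
    have hevenΩ : Even (Fintype.card Ω) := by
      rw [Nat.card_eq_fintype_card (α := Ω)] at hd
      rw [← hd]
      exact heven.add (by decide)
    have h3 : MulAction.IsMultiplyPretransitive P Ω 3 := by
      refine ⟨fun x y => ?_⟩
      have inj : ∀ (z : Fin 3 ↪ Ω) {i j : Fin 3}, i ≠ j → z i ≠ z j := fun z i j hij h =>
        hij (z.injective h)
      obtain ⟨g, h0, h1, h2⟩ := exists_smul_three hZ hd' (inj x (show (0 : Fin 3) ≠ 1 by decide))
        (inj x (show (0 : Fin 3) ≠ 2 by decide)) (inj x (show (1 : Fin 3) ≠ 2 by decide))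
        (inj y (show (0 : Fin 3) ≠ 1 by decide)) (inj y (show (0 : Fin 3) ≠ 2 by decide))
        (inj y (show (1 : Fin 3) ≠ 2 by decide))
      refine ⟨e g, ?_⟩
      ext i
      change e g • x i = y i
      rw [he]
      fin_cases i
      · exact h0
      · exact h1
      · exact h2
    have hsharp : ∀ x : Fin 3 ↪ Ω, MulAction.stabilizer P x = ⊥ := by
      intro x
      rw [eq_bot_iff]
      intro p hp
      rw [Subgroup.mem_bot]
      obtain ⟨g, hg, hgx⟩ := hP p
      have inj : ∀ {i j : Fin 3}, i ≠ j → x i ≠ x j := fun hij h => hij (x.injective h)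
      have hfix : ∀ i, g • x i = x i := by
        intro i
        rw [← hgx]
        exact congrArg (fun y : Fin 3 ↪ Ω => y i) hp
      have hg1 : g = 1 := ZassenhausBasic.eq_one_of_fix hZ (inj (show (0 : Fin 3) ≠ 1 by decide))
        (inj (show (1 : Fin 3) ≠ 2 by decide)) (inj (show (0 : Fin 3) ≠ 2 by decide))
        (hfix 0) (hfix 1) (hfix 2)
      apply Subtype.ext
      rw [← hg, hg1, map_one]; rfl
    obtain ⟨N, hN1, hN2, hN3, hN4⟩ := Cfsg.Agent.S0729.result hevenΩ h6 P h3 hsharp hab hca.symm
      hcb.symm (e s) (by rw [he]; exact hsa) (by rw [he]; exact hsb) (by rw [he]; exact hsc)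
    have hstab : ∀ g : G, g ∈ stabilizer G a ⊓ stabilizer G b ↔
        e g ∈ stabilizer P a ⊓ stabilizer P b := fun g => Iff.rfl
    have hcomap : stabilizer G a ⊓ stabilizer G b =
        (stabilizer P a ⊓ stabilizer P b).comap (e : G →* P) := by
      ext g; exact hstab g
    refine ⟨N.comap (e : G →* P), ?_, ?_, ?_, ?_⟩
    · rw [hcomap]; exact Subgroup.comap_mono hN1
    · constructor
      rintro ⟨n, hnH⟩ hn ⟨g, hgH⟩
      rw [Subgroup.mem_subgroupOf] at hn ⊢
      have h7 := hN2.conj_mem ⟨e n, hnH⟩ (Subgroup.mem_subgroupOf.2 hn) ⟨e g, hgH⟩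
      have h8 := Subgroup.mem_subgroupOf.1 h7
      change e (g * n * g⁻¹) ∈ N
      rw [map_mul, map_mul, map_inv]
      exact h8
    · rw [hcomap, Subgroup.relIndex_comap]
      have : ((stabilizer P a ⊓ stabilizer P b).comap (e : G →* P)).map (e : G →* P) =
          stabilizer P a ⊓ stabilizer P b :=
        Subgroup.map_comap_eq_self_of_surjective e.surjective _
      rw [this, hN3]
    · intro n hn
      have h9 := hN4 (e n) hn
      change e (s * n * s⁻¹) ∈ N
      rw [map_mul, map_mul, map_inv]
      exact h9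

end Cfsg.Agent.LieExceptional.SharpNotSimple2
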