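import Mathlib

/-!
# Elements of prime order acting irreducibly

`F` a finite field with `q` elements, `V` an `F`-space of dimension `n`, `g` an endomorphism of `V` of prime
order `p`, where `n` is the order of `q` modulo `p`.  Then `g` acts irreducibly, the centraliser of `g` in
`End V` is a commutative domain (Schur and Wedderburn), and at most `n` elements of the centraliser of `g`
are conjugate to `g`.
-/

set_option autoImplicit false

namespace Cfsg.Agent.LieExceptional.SingerCentralizer

open Module

theorem eq_zero_or_eq_of_modEq {q n p a : ℕ} (hp : p.Prime) (hq : 0 < q)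
    (hpn : p ∣ q ^ n - 1) (hpd : ∀ d, 0 < d → d < n → ¬ p ∣ q ^ d - 1) (ha : a ≤ n)
    (h : q ^ n ≡ q ^ a [MOD p]) : a = 0 ∨ a = n := by
  by_contra hcon
  push Not at hcon
  obtain ⟨h0, hn⟩ := hcon
  have hlt : a < n := lt_of_le_of_ne ha hn
  have hdvd : p ∣ q ^ n - q ^ a := (Nat.modEq_iff_dvd' (Nat.pow_le_pow_right hq ha)).1 h.symm
  have hfac : q ^ n - q ^ a = q ^ a * (q ^ (n - a) - 1) := by
    rw [Nat.mul_sub, mul_one, ← pow_add, Nat.add_sub_cancel' ha]
  rw [hfac, hp.dvd_mul] at hdvd
  rcases hdvd with hd | hd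
  · have hpq : p ∣ q := hp.dvd_of_dvd_pow hd
    have h1 : p ∣ q ^ n := hpq.trans (dvd_pow_self q (by omega))
    have h2 : p ∣ 1 := by
      have h3 : 1 ≤ q ^ n := Nat.one_le_pow _ _ hq
      have := Nat.dvd_sub h1 hpn
      rwa [Nat.sub_sub_self h3] at this
    exact hp.one_lt.ne' (Nat.dvd_one.1 h2)
  · exact hpd (n - a) (by omega) (by omega) hd

section general

variable {F V : Type*} [Field F] [Finite F] [AddCommGroup V] [Module F V] [FiniteDimensional F V]

theorem card_modEq_fixed (g : Module.End F V) {p : ℕ} [Fact p.Prime] (hgp : g ^ p = 1)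
    (W : Submodule F V) (hW : ∀ w ∈ W, g w ∈ W) :
    Nat.card F ^ finrank F W ≡
      Nat.card F ^ finrank F (W ⊓ LinearMap.ker (g - 1) : Submodule F V) [MOD p] := by
  classical
  have : Finite V := Module.finite_of_finite F
  have : Fintype W := Fintype.ofFinite W
  have : Fintype F := Fintype.ofFinite F
  let f : Function.End W := fun w => ⟨g w, hW w w.2⟩
  have hfn : ∀ (n : ℕ) (w : W), (((f ^ n) w : W) : V) = (g ^ n) (w : V) := by
    intro n
    induction n with
    | zero => intro w; rfl
    | succ n ih =>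
      intro w
      rw [pow_succ, pow_succ]
      exact ih (f w)
  have hfp : f ^ p ^ 1 = 1 := by
    rw [pow_one]
    funext w
    apply Subtype.ext
    rw [hfn, hgp]
    rfl
  have key := Equiv.Perm.card_fixedPoints_modEq hfp
  have h1 : Fintype.card W = Nat.card F ^ finrank F W := by
    rw [Module.card_eq_pow_finrank (K := F), Nat.card_eq_fintype_card]
  have h2 : Fintype.card f.fixedPoints =
      Nat.card F ^ finrank F (W ⊓ LinearMap.ker (g - 1) : Submodule F V) := by
    have : Fintype (W ⊓ LinearMap.ker (g - 1) : Submodule F V) := Fintype.ofFinite _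
    rw [Nat.card_eq_fintype_card, ← Module.card_eq_pow_finrank]
    apply Fintype.card_congr
    refine ⟨fun w => ⟨(w : W), ⟨(w : W).2, ?_⟩⟩, fun w => ⟨⟨w, w.2.1⟩, ?_⟩, ?_, ?_⟩
    · have := w.2
      have h3 : f (w : W) = w := this
      have h4 : g ((w : W) : V) = ((w : W) : V) := congrArg Subtype.val h3
      simp [h4]
    · have := w.2.2
      have h3 : g (w : V) - (w : V) = 0 := this
      apply Subtype.ext
      exact sub_eq_zero.1 h3
    · intro w; rfl
    · intro w; rfl
  rw [h1, h2] at key
  exact key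

variable {g : Module.End F V} {p : ℕ}

theorem ker_sub_one_eq_bot (hp : p.Prime) (hgp : g ^ p = 1) (hg1 : g ≠ 1)
    (hpn : p ∣ Nat.card F ^ finrank F V - 1)
    (hpd : ∀ d, 0 < d → d < finrank F V → ¬ p ∣ Nat.card F ^ d - 1) :
    LinearMap.ker (g - 1) = ⊥ := by
  have : Fact p.Prime := ⟨hp⟩
  have h := card_modEq_fixed g hgp ⊤ (fun w _ => Submodule.mem_top)
  rw [finrank_top, top_inf_eq] at h
  rcases eq_zero_or_eq_of_modEq hp Nat.card_pos hpn hpd (Submodule.finrank_le _) h with h0 | h0
  · exact Submodule.finrank_eq_zero.1 h0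
  · exfalso
    have h1 := Submodule.eq_top_of_finrank_eq h0
    rw [LinearMap.ker_eq_top, sub_eq_zero] at h1
    exact hg1 h1

/-- An element of prime order `p` acts irreducibly on the space with `q ^ n` elements when `n` is the order
of `q` modulo `p`. -/
theorem invariant_eq_bot_or_top (hp : p.Prime) (hgp : g ^ p = 1) (hg1 : g ≠ 1)
    (hpn : p ∣ Nat.card F ^ finrank F V - 1)
    (hpd : ∀ d, 0 < d → d < finrank F V → ¬ p ∣ Nat.card F ^ d - 1)
    (W : Submodule F V) (hW : ∀ w ∈ W, g w ∈ W) : W = ⊥ ∨ W = ⊤ := by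
  have : Fact p.Prime := ⟨hp⟩
  have h := card_modEq_fixed g hgp W hW
  rw [ker_sub_one_eq_bot hp hgp hg1 hpn hpd, inf_bot_eq, finrank_bot, pow_zero] at h
  have hq : 0 < Nat.card F := Nat.card_pos
  have hd : p ∣ Nat.card F ^ finrank F W - 1 :=
    (Nat.modEq_iff_dvd' (Nat.one_le_pow _ _ hq)).1 h.symm
  by_cases h0 : finrank F W = 0
  · exact Or.inl (Submodule.finrank_eq_zero.1 h0)
  · right
    apply Submodule.eq_top_of_finrank_eq
    by_contra hne
    exact hpd _ (Nat.pos_of_ne_zero h0) (lt_of_le_of_ne (Submodule.finrank_le _) hne) hd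

/-- Schur: a nonzero endomorphism commuting with `g` is injective. -/
theorem injective_of_commute (hp : p.Prime) (hgp : g ^ p = 1) (hg1 : g ≠ 1)
    (hpn : p ∣ Nat.card F ^ finrank F V - 1)
    (hpd : ∀ d, 0 < d → d < finrank F V → ¬ p ∣ Nat.card F ^ d - 1)
    {a : Module.End F V} (ha : Commute a g) (ha0 : a ≠ 0) : Function.Injective a := by
  rw [← LinearMap.ker_eq_bot]
  rcases invariant_eq_bot_or_top hp hgp hg1 hpn hpd (LinearMap.ker a) (fun w hw => by
    rw [LinearMap.mem_ker] at hw ⊢
    have : (a * g) w = (g * a) w := by rw [ha.eq]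
    rw [Module.End.mul_apply, Module.End.mul_apply, hw, map_zero] at this
    exact this) with h | h
  · exact h
  · exact absurd (LinearMap.ker_eq_top.1 h) ha0

theorem isDomain_centralizer (hp : p.Prime) (hgp : g ^ p = 1) (hg1 : g ≠ 1)
    (hpn : p ∣ Nat.card F ^ finrank F V - 1)
    (hpd : ∀ d, 0 < d → d < finrank F V → ¬ p ∣ Nat.card F ^ d - 1) :
    IsDomain (Subalgebra.centralizer F ({g} : Set (Module.End F V))) := by
  have hcomm : ∀ x : Subalgebra.centralizer F ({g} : Set (Module.End F V)),
      Commute (x : Module.End F V) g := fun x =>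
    (((Subalgebra.mem_centralizer_iff F).1 x.2) g rfl).symm
  have hnt : Nontrivial V := by
    rw [← not_subsingleton_iff_nontrivial]
    intro h
    exact hg1 (LinearMap.ext fun v => Subsingleton.elim _ _)
  have : Nontrivial (Subalgebra.centralizer F ({g} : Set (Module.End F V))) := by
    refine ⟨0, 1, fun h => ?_⟩
    have h1 : (0 : Module.End F V) = 1 := congrArg Subtype.val h
    exact zero_ne_one h1
  have : NoZeroDivisors (Subalgebra.centralizer F ({g} : Set (Module.End F V))) := by
    refine ⟨fun {a b} hab => ?_⟩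
    by_cases ha0 : a = 0
    · exact Or.inl ha0
    · right
      have ha : (a : Module.End F V) ≠ 0 := fun h => ha0 (Subtype.ext h)
      have hinj := injective_of_commute hp hgp hg1 hpn hpd (hcomm a) ha
      apply Subtype.ext
      apply LinearMap.ext
      intro v
      apply hinj
      have h1 : (a : Module.End F V) * (b : Module.End F V) = 0 := congrArg Subtype.val hab
      have h2 := congrArg (fun z : Module.End F V => z v) h1
      simpa using h2
  exact NoZeroDivisors.to_isDomain _

/-- Schur and Wedderburn: endomorphisms commuting with `g` commute with each other. -/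
theorem commute_of_commute (hp : p.Prime) (hgp : g ^ p = 1) (hg1 : g ≠ 1)
    (hpn : p ∣ Nat.card F ^ finrank F V - 1)
    (hpd : ∀ d, 0 < d → d < finrank F V → ¬ p ∣ Nat.card F ^ d - 1)
    {a b : Module.End F V} (ha : Commute a g) (hb : Commute b g) : Commute a b := by
  have : Finite V := Module.finite_of_finite F
  have : Finite (Module.End F V) := Module.finite_of_finite F
  have := isDomain_centralizer hp hgp hg1 hpn hpd
  have hf := Finite.isDomain_to_isField (Subalgebra.centralizer F ({g} : Set (Module.End F V)))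
  have h := hf.mul_comm
    ⟨a, (Subalgebra.mem_centralizer_iff F).2 (fun x hx => by rw [Set.mem_singleton_iff.1 hx]; exact ha.symm)⟩
    ⟨b, (Subalgebra.mem_centralizer_iff F).2 (fun x hx => by rw [Set.mem_singleton_iff.1 hx]; exact hb.symm)⟩
  exact congrArg Subtype.val h

/-- A finite group that embeds in the centraliser of `g` is cyclic. -/
theorem isCyclic_of_hom (hp : p.Prime) (hgp : g ^ p = 1) (hg1 : g ≠ 1)
    (hpn : p ∣ Nat.card F ^ finrank F V - 1)
    (hpd : ∀ d, 0 < d → d < finrank F V → ¬ p ∣ Nat.card F ^ d - 1)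
    {C : Type*} [Group C] (f : C →* Module.End F V) (hf : Function.Injective f)
    (hfg : ∀ c, Commute (f c) g) : IsCyclic C := by
  have : Finite V := Module.finite_of_finite F
  have : Finite (Module.End F V) := Module.finite_of_finite F
  have : Finite C := Finite.of_injective f hf
  have hdom := isDomain_centralizer hp hgp hg1 hpn hpd
  have hfield := Finite.isDomain_to_isField (Subalgebra.centralizer F ({g} : Set (Module.End F V)))
  let _ : CommRing (Subalgebra.centralizer F ({g} : Set (Module.End F V))) :=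
    { (inferInstance : Ring (Subalgebra.centralizer F ({g} : Set (Module.End F V)))) with
      mul_comm := hfield.mul_comm }
  have : IsDomain (Subalgebra.centralizer F ({g} : Set (Module.End F V))) := hdom
  let f' : C →* Subalgebra.centralizer F ({g} : Set (Module.End F V)) :=
    { toFun := fun c => ⟨f c, (Subalgebra.mem_centralizer_iff F).2 (fun x hx => by
        rw [Set.mem_singleton_iff.1 hx]; exact (hfg c).symm)⟩
      map_one' := Subtype.ext (map_one f)
      map_mul' := fun x y => Subtype.ext (map_mul f x y) }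
  exact isCyclic_of_injective_ringHom f' (fun x y h => hf (congrArg Subtype.val h))

/-- The centraliser of `g` contains at most `n` elements conjugate to `g`. -/
theorem card_conj_le (hp : p.Prime) (hgp : g ^ p = 1) (hg1 : g ≠ 1)
    (hpn : p ∣ Nat.card F ^ finrank F V - 1)
    (hpd : ∀ d, 0 < d → d < finrank F V → ¬ p ∣ Nat.card F ^ d - 1)
    {ι : Type*} (f : ι → Module.End F V) (hf : Function.Injective f)
    (hfg : ∀ i, Commute (f i) g) (hconj : ∀ i, ∃ u : (Module.End F V)ˣ, f i = u * g * (u⁻¹ : (Module.End F V)ˣ)) :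
    Nat.card ι ≤ finrank F V := by
  classical
  have : Finite V := Module.finite_of_finite F
  have : Finite (Module.End F V) := Module.finite_of_finite F
  have : Finite ι := Finite.of_injective f hf
  have hdom := isDomain_centralizer hp hgp hg1 hpn hpd
  have hfield := Finite.isDomain_to_isField (Subalgebra.centralizer F ({g} : Set (Module.End F V)))
  let _ : CommRing (Subalgebra.centralizer F ({g} : Set (Module.End F V))) :=
    { (inferInstance : Ring (Subalgebra.centralizer F ({g} : Set (Module.End F V)))) with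
      mul_comm := hfield.mul_comm }
  let _ : Algebra F (Subalgebra.centralizer F ({g} : Set (Module.End F V))) :=
    Subalgebra.algebra _
  have : IsDomain (Subalgebra.centralizer F ({g} : Set (Module.End F V))) := hdom
  let f' : ι → Subalgebra.centralizer F ({g} : Set (Module.End F V)) := fun i =>
    ⟨f i, (Subalgebra.mem_centralizer_iff F).2 (fun x hx => by
        rw [Set.mem_singleton_iff.1 hx]; exact (hfg i).symm)⟩
  have hf' : Function.Injective f' := fun i j h => hf (congrArg Subtype.val h)
  have hroot : ∀ i, Polynomial.aeval (f' i) (LinearMap.charpoly g) = 0 := by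
    intro i
    apply Subtype.ext
    have h1 : ((Polynomial.aeval (f' i) (LinearMap.charpoly g) :
        Subalgebra.centralizer F ({g} : Set (Module.End F V))) : Module.End F V) =
        Polynomial.aeval (f i) (LinearMap.charpoly g) := by
      exact (Polynomial.aeval_algHom_apply (Subalgebra.val _) (f' i) (LinearMap.charpoly g)).symm
    rw [h1]
    obtain ⟨u, hu⟩ := hconj i
    rw [hu]
    have h2 : ∀ P : Polynomial F, Polynomial.aeval ((u : Module.End F V) * g * (u⁻¹ : (Module.End F V)ˣ)) P =
        u * Polynomial.aeval g P * (u⁻¹ : (Module.End F V)ˣ) := by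
      intro P
      induction P using Polynomial.induction_on' with
      | add a b ha hb => rw [map_add, map_add, ha, hb, mul_add, add_mul]
      | monomial n c =>
        rw [Polynomial.aeval_monomial, Polynomial.aeval_monomial, Units.conj_pow,
          Algebra.algebraMap_eq_smul_one, smul_mul_assoc, smul_mul_assoc, one_mul, one_mul,
          mul_smul_comm, smul_mul_assoc]
    rw [h2, LinearMap.aeval_self_charpoly, mul_zero, zero_mul]
    rfl
  have hmem : ∀ i, f' i ∈ ((LinearMap.charpoly g).aroots
      (Subalgebra.centralizer F ({g} : Set (Module.End F V)))).toFinset := by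
    intro i
    rw [Multiset.mem_toFinset, Polynomial.mem_aroots]
    exact ⟨(LinearMap.charpoly_monic g).ne_zero, hroot i⟩
  let _ : Fintype ι := Fintype.ofFinite ι
  rw [Nat.card_eq_fintype_card, ← Finset.card_univ, ← Finset.card_image_of_injective _ hf']
  have h3 : Finset.univ.image f' ⊆ ((LinearMap.charpoly g).aroots
      (Subalgebra.centralizer F ({g} : Set (Module.End F V)))).toFinset := by
    intro x hx
    obtain ⟨i, -, rfl⟩ := Finset.mem_image.1 hx
    exact hmem i
  refine (Finset.card_le_card h3).trans ((Multiset.toFinset_card_le _).trans ?_)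
  refine (Polynomial.card_roots' _).trans ?_
  rw [(LinearMap.charpoly_monic g).natDegree_map, LinearMap.charpoly_natDegree]

/-! ### Groups of endomorphisms -/

section group

variable {G : Type*} [Group G] (φ : G →* Module.End F V) (hφ : Function.Injective φ)

include hφ

theorem commute_of_centralizer (hp : p.Prime) {z : G} (hz : orderOf z = p)
    (hpn : p ∣ Nat.card F ^ finrank F V - 1)
    (hpd : ∀ d, 0 < d → d < finrank F V → ¬ p ∣ Nat.card F ^ d - 1)
    {a b : G} (ha : a ∈ Subgroup.centralizer ({z} : Set G))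
    (hb : b ∈ Subgroup.centralizer ({z} : Set G)) : a * b = b * a := by
  have h1 : φ z ^ p = 1 := by rw [← map_pow, ← hz, pow_orderOf_eq_one, map_one]
  have h2 : φ z ≠ 1 := by
    intro h
    have : z = 1 := hφ (by rw [h, map_one])
    rw [this, orderOf_one] at hz
    exact hp.one_lt.ne hz
  have hc : ∀ c ∈ Subgroup.centralizer ({z} : Set G), Commute (φ c) (φ z) := by
    intro c hc
    have := Subgroup.mem_centralizer_singleton_iff.1 hc
    show φ c * φ z = φ z * φ c
    rw [← map_mul, ← map_mul, this]
  apply hφ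
  rw [map_mul, map_mul]
  exact (commute_of_commute hp h1 h2 hpn hpd (hc a ha) (hc b hb)).eq

theorem isCyclic_centralizer (hp : p.Prime) {z : G} (hz : orderOf z = p)
    (hpn : p ∣ Nat.card F ^ finrank F V - 1)
    (hpd : ∀ d, 0 < d → d < finrank F V → ¬ p ∣ Nat.card F ^ d - 1) :
    IsCyclic (Subgroup.centralizer ({z} : Set G)) := by
  have h1 : φ z ^ p = 1 := by rw [← map_pow, ← hz, pow_orderOf_eq_one, map_one]
  have h2 : φ z ≠ 1 := by
    intro h
    have : z = 1 := hφ (by rw [h, map_one])
    rw [this, orderOf_one] at hz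
    exact hp.one_lt.ne hz
  refine isCyclic_of_hom hp h1 h2 hpn hpd (φ.comp (Subgroup.subtype _))
    (hφ.comp Subtype.val_injective) ?_
  rintro ⟨c, hc⟩
  have := Subgroup.mem_centralizer_singleton_iff.1 hc
  show φ c * φ z = φ z * φ c
  rw [← map_mul, ← map_mul, this]

theorem card_normalizer_centralizer_le (hp : p.Prime) {z : G} (hz : orderOf z = p)
    (hpn : p ∣ Nat.card F ^ finrank F V - 1)
    (hpd : ∀ d, 0 < d → d < finrank F V → ¬ p ∣ Nat.card F ^ d - 1) :
    Nat.card (Subgroup.normalizer ((Subgroup.centralizer ({z} : Set G) : Subgroup G) : Set G)) ≤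
      finrank F V * Nat.card (Subgroup.centralizer ({z} : Set G)) := by
  have h1 : φ z ^ p = 1 := by rw [← map_pow, ← hz, pow_orderOf_eq_one, map_one]
  have h2 : φ z ≠ 1 := by
    intro h
    have : z = 1 := hφ (by rw [h, map_one])
    rw [this, orderOf_one] at hz
    exact hp.one_lt.ne hz
  set C := Subgroup.centralizer ({z} : Set G) with hC
  set N := Subgroup.normalizer (C : Set G) with hN
  have hCN : C ≤ N := Subgroup.le_normalizer
  have hzC : z ∈ C := Subgroup.mem_centralizer_singleton_iff.2 rfl
  have hconjC : ∀ x ∈ N, x * z * x⁻¹ ∈ C := fun x hx =>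
    ((Subgroup.mem_normalizer_iff.1 hx) z).1 hzC
  rw [Subgroup.card_eq_card_quotient_mul_card_subgroup (C.subgroupOf N)]
  have hcard : Nat.card (C.subgroupOf N) = Nat.card C :=
    Nat.card_congr (Subgroup.subgroupOfEquivOfLe hCN).toEquiv
  rw [hcard]
  apply Nat.mul_le_mul_right
  refine card_conj_le hp h1 h2 hpn hpd
    (fun i : N ⧸ C.subgroupOf N => φ ((i.out : G) * z * (i.out : G)⁻¹)) ?_ ?_ ?_
  · intro i j hij
    have h3 : (i.out : G) * z * (i.out : G)⁻¹ = (j.out : G) * z * (j.out : G)⁻¹ := hφ hij
    rw [← QuotientGroup.out_eq' i, ← QuotientGroup.out_eq' j]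
    apply QuotientGroup.eq.2
    rw [Subgroup.mem_subgroupOf]
    apply Subgroup.mem_centralizer_singleton_iff.2
    show ((i.out : G)⁻¹ * (j.out : G)) * z = z * ((i.out : G)⁻¹ * (j.out : G))
    have h4 : (j.out : G) * z = (i.out : G) * z * (i.out : G)⁻¹ * (j.out : G) := by
      rw [h3, inv_mul_cancel_right]
    rw [mul_assoc, h4]
    group
  · intro i
    have := Subgroup.mem_centralizer_singleton_iff.1 (hconjC _ (i.out).2)
    show φ _ * φ z = φ z * φ _
    rw [← map_mul, ← map_mul, this]
  · intro i
    refine ⟨⟨φ (i.out : G), φ ((i.out : G)⁻¹), ?_, ?_⟩, ?_⟩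
    · rw [← map_mul, mul_inv_cancel, map_one]
    · rw [← map_mul, inv_mul_cancel, map_one]
    · show φ ((i.out : G) * z * (i.out : G)⁻¹) = φ (i.out : G) * φ z * φ ((i.out : G)⁻¹)
      rw [map_mul, map_mul]

end group

end general

/-! ### Dimension four -/

theorem dvd_facts {q p : ℕ} (hp : p.Prime) (hp2 : p ≠ 2) (hq : 0 < q) (h : p ∣ q ^ 2 + 1) :
    p ∣ q ^ 4 - 1 ∧ ∀ d, 0 < d → d < 4 → ¬ p ∣ q ^ d - 1 := by
  have h2 : ¬ p ∣ 2 := fun h => hp2 ((Nat.prime_dvd_prime_iff_eq hp Nat.prime_two).1 h)
  have e4 : q ^ 4 - 1 = (q ^ 2 + 1) * (q ^ 2 - 1) := by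
    rw [← Nat.sq_sub_sq, ← pow_mul]
  have hsq : ¬ p ∣ q ^ 2 - 1 := by
    intro h'
    apply h2
    have h1 : 1 ≤ q ^ 2 := Nat.one_le_pow _ _ hq
    have := Nat.dvd_sub h h'
    have e : q ^ 2 + 1 - (q ^ 2 - 1) = 2 := by omega
    rwa [e] at this
  have h1 : ¬ p ∣ q - 1 := by
    intro h'
    apply hsq
    have : q ^ 2 - 1 = (q + 1) * (q - 1) := by
      have := Nat.sq_sub_sq q 1
      simpa using this
    rw [this]
    exact h'.mul_left _
  refine ⟨e4 ▸ h.mul_right _, ?_⟩
  intro d hd0 hd4
  interval_cases d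
  · simpa using h1
  · exact hsq
  · intro h3
    apply h1
    have h4 : p ∣ q ^ 4 - 1 := e4 ▸ h.mul_right _
    have h5 := Nat.dvd_gcd h3 h4
    rw [Nat.pow_sub_one_gcd_pow_sub_one] at h5
    simpa using h5

end Cfsg.Agent.LieExceptional.SingerCentralizer
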