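import Mathlib
import Cfsg.Prelude.Def_LieExceptional

set_option autoImplicit false
set_option linter.unusedSimpArgs false

/-!
# The Suzuki groups as ovoid stabilisers: explicit elements and the basic action

`F` a field with `2^(2m+1)` elements, `m ≥ 1`, `σ = 2^(m+1)`, `zc m x y = x y + x^(σ+2) + y^σ`.
`pt m x y` is the point spanned by `(zc m x y, y, x, 1)`.
`U m a b`, `H m k`, `W F` are the explicit elements of `Cfsg.Sz F m`.
-/

namespace Cfsg.Agent.LieExceptional.SuzukiBasic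

open scoped MatrixGroups Matrix Pointwise
open Matrix

variable {F : Type*} [Field F]

/-- first coordinate of the ovoid points -/
def zc (m : ℕ) (x y : F) : F := x * y + x ^ (2 ^ (m + 1) + 2) + y ^ (2 ^ (m + 1))

theorem zc_def (m : ℕ) (x y : F) : zc m x y = x * y + x ^ (2 ^ (m + 1) + 2) + y ^ (2 ^ (m + 1)) := rfl

/-- affine representative of ovoid points -/
def vec (m : ℕ) (x y : F) : Fin 4 → F := ![zc m x y, y, x, 1]

theorem vec_ne_zero (m : ℕ) (x y : F) : vec m x y ≠ 0 := by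
  intro h
  have := congrFun h 3
  simp [vec] at this

theorem e0_ne_zero : (![1, 0, 0, 0] : Fin 4 → F) ≠ 0 := by
  intro h
  have := congrFun h 0
  simp at this

/-- the affine points of the ovoid -/
def pt (m : ℕ) (x y : F) : Projectivization F (Fin 4 → F) :=
  Projectivization.mk F (vec m x y) (vec_ne_zero m x y)

theorem mem_ovoid_iff (m : ℕ) (p : Projectivization F (Fin 4 → F)) :
    p ∈ suzukiOvoid F m ↔ p = suzukiPointInfinity F ∨ ∃ x y, p = pt m x y := by
  constructor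
  · rintro ⟨v, hv, hp, rfl | ⟨x, y, rfl⟩⟩
    · left; exact hp
    · right; exact ⟨x, y, hp⟩
  · rintro (h | ⟨x, y, h⟩)
    · exact ⟨![1, 0, 0, 0], e0_ne_zero, h, Or.inl rfl⟩
    · exact ⟨vec m x y, vec_ne_zero m x y, h, Or.inr ⟨x, y, rfl⟩⟩

theorem infinity_mem_ovoid (m : ℕ) : suzukiPointInfinity F ∈ suzukiOvoid F m :=
  (mem_ovoid_iff m _).2 (Or.inl rfl)

theorem pt_mem_ovoid (m : ℕ) (x y : F) : pt m x y ∈ suzukiOvoid F m :=
  (mem_ovoid_iff m _).2 (Or.inr ⟨x, y, rfl⟩)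

theorem pt_eq_pt_iff (m : ℕ) (x y x' y' : F) : pt m x y = pt m x' y' ↔ x = x' ∧ y = y' := by
  constructor
  · intro h
    rw [pt, pt, Projectivization.mk_eq_mk_iff'] at h
    obtain ⟨a, ha⟩ := h
    have h3 := congrFun ha 3
    have h2 := congrFun ha 2
    have h1 := congrFun ha 1
    simp [vec] at h1 h2 h3
    subst h3
    simp at h1 h2
    exact ⟨h2.symm, h1.symm⟩
  · rintro ⟨rfl, rfl⟩; rfl

theorem pt_ne_infinity (m : ℕ) (x y : F) : pt m x y ≠ suzukiPointInfinity F := by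
  intro h
  rw [pt, suzukiPointInfinity, Projectivization.mk_eq_mk_iff'] at h
  obtain ⟨a, ha⟩ := h
  have h3 := congrFun ha 3
  simp [vec] at h3

theorem pt_zero_zero (m : ℕ) : pt m (0 : F) 0 = suzukiPointZero F := by
  have : vec m (0 : F) 0 = ![0, 0, 0, 1] := by
    simp [vec, zc]
  rw [pt, suzukiPointZero]
  simp only [this]

/-- parametrisation of the ovoid -/
noncomputable def ovoidEquiv (F : Type*) [Field F] (m : ℕ) : Option (F × F) ≃ suzukiOvoid F m :=
  Equiv.ofBijective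
    (fun o => match o with
      | none => ⟨suzukiPointInfinity F, infinity_mem_ovoid m⟩
      | some (x, y) => ⟨pt m x y, pt_mem_ovoid m x y⟩)
    (by
      constructor
      · rintro (_ | ⟨x, y⟩) (_ | ⟨x', y'⟩) h
        · rfl
        · exact absurd (congrArg Subtype.val h).symm (pt_ne_infinity m x' y')
        · exact absurd (congrArg Subtype.val h) (pt_ne_infinity m x y)
        · obtain ⟨rfl, rfl⟩ := (pt_eq_pt_iff m x y x' y').1 (congrArg Subtype.val h)
          rfl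
      · rintro ⟨p, hp⟩
        rcases (mem_ovoid_iff m p).1 hp with rfl | ⟨x, y, rfl⟩
        · exact ⟨none, rfl⟩
        · exact ⟨some (x, y), rfl⟩)

theorem ovoidEquiv_none (m : ℕ) : ((ovoidEquiv F m none : suzukiOvoid F m) : Projectivization F (Fin 4 → F)) =
    suzukiPointInfinity F := rfl

theorem ovoidEquiv_some (m : ℕ) (x y : F) :
    ((ovoidEquiv F m (some (x, y)) : suzukiOvoid F m) : Projectivization F (Fin 4 → F)) = pt m x y := rfl

theorem ovoid_card [Finite F] (m : ℕ) : Nat.card (suzukiOvoid F m) = Nat.card F ^ 2 + 1 := by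
  rw [← Nat.card_congr (ovoidEquiv F m), Finite.card_option, Nat.card_prod, sq]

/-! ### Field facts -/

section fieldfacts
variable [Fintype F] {m : ℕ}

theorem charP_two (hF : Fintype.card F = 2 ^ (2 * m + 1)) : CharP F 2 :=
  charP_of_card_eq_prime_pow hF

theorem add_self (hF : Fintype.card F = 2 ^ (2 * m + 1)) (x : F) : x + x = 0 := by
  have := charP_two hF
  exact CharTwo.add_self_eq_zero x

/-- `σ` is additive -/
theorem sigma_add (hF : Fintype.card F = 2 ^ (2 * m + 1)) (x y : F) :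
    (x + y) ^ 2 ^ (m + 1) = x ^ 2 ^ (m + 1) + y ^ 2 ^ (m + 1) := by
  have := charP_two hF
  exact add_pow_char_pow x y 2 (m + 1)

/-- `σ² = 2` -/
theorem sigma_sigma (hF : Fintype.card F = 2 ^ (2 * m + 1)) (x : F) :
    (x ^ 2 ^ (m + 1)) ^ 2 ^ (m + 1) = x ^ 2 := by
  rw [← pow_mul, ← pow_add, show m + 1 + (m + 1) = (2 * m + 1) + 1 by ring, pow_succ, pow_mul, ← hF,
    FiniteField.pow_card]

/-- `σ` is injective -/
theorem sigma_injective (hF : Fintype.card F = 2 ^ (2 * m + 1)) :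
    Function.Injective (fun x : F => x ^ 2 ^ (m + 1)) := by
  intro x y h
  simp only at h
  have h2 : x ^ 2 = y ^ 2 := by rw [← sigma_sigma hF x, ← sigma_sigma hF y, h]
  have := charP_two hF
  exact frobenius_inj F 2 h2

theorem zc_key (hF : Fintype.card F = 2 ^ (2 * m + 1)) (x y : F) :
    x * y * (zc m x y) ^ 2 ^ (m + 1) + y ^ (2 ^ (m + 1) + 2) + x ^ 2 ^ (m + 1) * (zc m x y) ^ 2 =
      zc m x y ^ (2 ^ (m + 1) + 1) := by
  have := charP_two hF
  have hx := sigma_sigma hF x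
  have hy := sigma_sigma hF y
  have hz : (zc m x y) ^ 2 ^ (m + 1) = x ^ 2 ^ (m + 1) * y ^ 2 ^ (m + 1) + (x ^ 2 ^ (m + 1)) ^ 2 * x ^ 2 + y ^ 2 := by
    rw [zc_def, sigma_add hF, sigma_add hF, mul_pow, hy, pow_add x, mul_pow, hx]
    ring
  rw [pow_succ (zc m x y) (2 ^ (m + 1)), hz, zc_def, pow_add x, pow_add y]
  generalize x ^ 2 ^ (m + 1) = X
  generalize y ^ 2 ^ (m + 1) = Y
  have h2 : (2 : F) = 0 := CharTwo.two_eq_zero
  linear_combination (x * y * X * Y + x ^ 3 * y * X ^ 2) * h2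

theorem zc_eq_zero_iff (hF : Fintype.card F = 2 ^ (2 * m + 1)) (x y : F) :
    zc m x y = 0 ↔ x = 0 ∧ y = 0 := by
  constructor
  · intro h
    have hk := zc_key hF x y
    rw [h] at hk
    have hy : y = 0 := by
      simpa using hk
    subst hy
    simp [zc_def] at h
    exact ⟨h, rfl⟩
  · rintro ⟨rfl, rfl⟩
    simp [zc_def]

/-- the inversion formula of the ovoid -/
theorem zc_inv (hF : Fintype.card F = 2 ^ (2 * m + 1)) (x y : F) (h : zc m x y ≠ 0) :
    zc m (y / zc m x y) (x / zc m x y) = (zc m x y)⁻¹ := by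
  have hk := zc_key hF x y
  set z := zc m x y with hz
  rw [zc_def]
  have hz' : z ^ (2 ^ (m + 1)) ≠ 0 := pow_ne_zero _ h
  simp only [div_pow, pow_add, pow_one] at hk ⊢
  field_simp
  linear_combination hk

end fieldfacts

/-! ### Explicit elements of `SL₄` -/

/-- the upper unitriangular elements, acting on parameters by `(x, y) ↦ (x + a, y + b + a^σ x)` -/
def U (m : ℕ) (a b : F) : SL(4, F) :=
  ⟨!![1, a, b + a ^ (2 ^ (m + 1) + 1), zc m a b;
      0, 1, a ^ (2 ^ (m + 1)), b;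
      0, 0, 1, a;
      0, 0, 0, 1], by
    simp [Matrix.det_succ_row_zero, Fin.sum_univ_succ, Fin.succAbove]⟩

/-- the diagonal elements, acting on parameters by `(x, y) ↦ (k x, k^(σ+1) y)` -/
def H (m : ℕ) (k : Fˣ) : SL(4, F) :=
  ⟨Matrix.diagonal ![(k : F) ^ (2 ^ m + 1), (k : F) ^ 2 ^ m, ((k⁻¹ : Fˣ) : F) ^ 2 ^ m, ((k⁻¹ : Fˣ) : F) ^ (2 ^ m + 1)], by
    rw [Matrix.det_diagonal]
    simp [Fin.prod_univ_succ]⟩

/-- the antidiagonal involution -/
def W (F : Type*) [Field F] : SL(4, F) :=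
  ⟨!![0, 0, 0, 1; 0, 0, 1, 0; 0, 1, 0, 0; 1, 0, 0, 0], by
    simp [Matrix.det_succ_row_zero, Fin.sum_univ_succ, Fin.succAbove]
    ring⟩

theorem U_coe (m : ℕ) (a b : F) : (U m a b : Matrix (Fin 4) (Fin 4) F) =
    !![1, a, b + a ^ (2 ^ (m + 1) + 1), zc m a b;
      0, 1, a ^ (2 ^ (m + 1)), b;
      0, 0, 1, a;
      0, 0, 0, 1] := rfl

theorem H_coe (m : ℕ) (k : Fˣ) : (H m k : Matrix (Fin 4) (Fin 4) F) =
    Matrix.diagonal ![(k : F) ^ (2 ^ m + 1), (k : F) ^ 2 ^ m, ((k⁻¹ : Fˣ) : F) ^ 2 ^ m,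
      ((k⁻¹ : Fˣ) : F) ^ (2 ^ m + 1)] := rfl

theorem W_coe : (W F : Matrix (Fin 4) (Fin 4) F) =
    !![0, 0, 0, 1; 0, 0, 1, 0; 0, 1, 0, 0; 1, 0, 0, 0] := rfl

theorem U_zero_zero (m : ℕ) : U m (0 : F) 0 = 1 := by
  ext i j
  rw [U_coe]
  fin_cases i <;> fin_cases j <;> simp [zc_def]

theorem U_eq_U_iff (m : ℕ) (a b c d : F) : U m a b = U m c d ↔ a = c ∧ b = d := by
  constructor
  · intro h
    have h' : (U m a b : Matrix (Fin 4) (Fin 4) F) = (U m c d : Matrix (Fin 4) (Fin 4) F) := by rw [h]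
    rw [U_coe, U_coe] at h'
    have h1 := congrFun (congrFun h' 0) 1
    have h2 := congrFun (congrFun h' 1) 3
    simp at h1 h2
    exact ⟨h1, h2⟩
  · rintro ⟨rfl, rfl⟩; rfl

theorem H_one (m : ℕ) : H m (1 : Fˣ) = 1 := by
  ext i j
  rw [H_coe]
  fin_cases i <;> fin_cases j <;> simp

theorem H_mul (m : ℕ) (k l : Fˣ) : H m k * H m l = H m (k * l) := by
  apply Subtype.ext
  rw [Matrix.SpecialLinearGroup.coe_mul, H_coe, H_coe, H_coe, Matrix.diagonal_mul_diagonal]
  congr 1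
  ext i
  fin_cases i <;> simp [mul_pow, mul_comm]

theorem H_inv (m : ℕ) (k : Fˣ) : (H m k)⁻¹ = H m k⁻¹ := by
  rw [inv_eq_iff_mul_eq_one, H_mul, mul_inv_cancel, H_one]

theorem W_mul_W : W F * W F = 1 := by
  apply Subtype.ext
  rw [Matrix.SpecialLinearGroup.coe_mul, W_coe]
  ext i j
  fin_cases i <;> fin_cases j <;> simp [Matrix.mul_apply, Fin.sum_univ_succ]

theorem W_mul_H (m : ℕ) (k : Fˣ) : W F * H m k = H m k⁻¹ * W F := by
  apply Subtype.ext
  rw [Matrix.SpecialLinearGroup.coe_mul, Matrix.SpecialLinearGroup.coe_mul, W_coe, H_coe, H_coe]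
  ext i j
  fin_cases i <;> fin_cases j <;> simp [Matrix.mul_apply, Fin.sum_univ_succ]

theorem smul_vec_eq (g : SL(4, F)) (v : Fin 4 → F) : g • v = (g : Matrix (Fin 4) (Fin 4) F) *ᵥ v := rfl

theorem smul_mk_eq_mk_iff (g : SL(4, F)) {v w : Fin 4 → F} (hv : v ≠ 0) (hw : w ≠ 0) :
    g • Projectivization.mk F v hv = Projectivization.mk F w hw ↔
      ∃ a : F, a ≠ 0 ∧ (g : Matrix (Fin 4) (Fin 4) F) *ᵥ v = a • w := by
  rw [Projectivization.smul_mk, Projectivization.mk_eq_mk_iff]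
  constructor
  · rintro ⟨a, ha⟩
    exact ⟨a, a.ne_zero, ha.symm⟩
  · rintro ⟨a, ha0, ha⟩
    exact ⟨Units.mk0 a ha0, ha.symm⟩

section elements
variable [Fintype F] {m : ℕ}

theorem pow_half (hF : Fintype.card F = 2 ^ (2 * m + 1)) (x : F) : (x ^ 2 ^ m) ^ 2 ^ (m + 1) = x := by
  rw [← pow_mul, ← pow_add, show m + (m + 1) = 2 * m + 1 by ring, ← hF, FiniteField.pow_card]

theorem H_eq_H_iff (hF : Fintype.card F = 2 ^ (2 * m + 1)) (k l : Fˣ) : H m k = H m l ↔ k = l := by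
  constructor
  · intro h
    have h' : (H m k : Matrix (Fin 4) (Fin 4) F) = (H m l : Matrix (Fin 4) (Fin 4) F) := by rw [h]
    rw [H_coe, H_coe] at h'
    have h1 := congrFun (congrFun h' 1) 1
    simp at h1
    apply Units.ext
    rw [← pow_half hF (k : F), ← pow_half hF (l : F), h1]
  · rintro rfl; rfl

theorem U_mul (hF : Fintype.card F = 2 ^ (2 * m + 1)) (a b c d : F) :
    U m a b * U m c d = U m (a + c) (b + d + a ^ 2 ^ (m + 1) * c) := by
  have := charP_two hF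
  have h2 : (2 : F) = 0 := CharTwo.two_eq_zero
  apply Subtype.ext
  rw [Matrix.SpecialLinearGroup.coe_mul, U_coe, U_coe, U_coe]
  have hac := sigma_add hF a c
  have hbd : (b + d + a ^ 2 ^ (m + 1) * c) ^ 2 ^ (m + 1) =
      b ^ 2 ^ (m + 1) + d ^ 2 ^ (m + 1) + a ^ 2 * c ^ 2 ^ (m + 1) := by
    rw [sigma_add hF, sigma_add hF, mul_pow, sigma_sigma hF]
  simp only [zc_def, pow_succ (a + c) (2 ^ (m + 1)), pow_succ a (2 ^ (m + 1)), pow_succ c (2 ^ (m + 1)),
    pow_add a (2 ^ (m + 1)) 2, pow_add c (2 ^ (m + 1)) 2, pow_add (a + c) (2 ^ (m + 1)) 2, hac, hbd]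
  generalize a ^ 2 ^ (m + 1) = A
  generalize b ^ 2 ^ (m + 1) = B
  generalize c ^ 2 ^ (m + 1) = C
  generalize d ^ 2 ^ (m + 1) = D
  ext i j
  fin_cases i <;> fin_cases j <;> simp [Matrix.mul_apply, Fin.sum_univ_succ]
  · ring
  · linear_combination (-(c * A)) * h2
  · linear_combination (-(c * C * a) - c * a * A - c ^ 2 * A - C * a ^ 2) * h2
  · ring
  · ring
  · ring

theorem U_inv (hF : Fintype.card F = 2 ^ (2 * m + 1)) (a b : F) :
    (U m a b)⁻¹ = U m a (b + a ^ (2 ^ (m + 1) + 1)) := by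
  rw [inv_eq_iff_mul_eq_one, U_mul hF, ← U_zero_zero m, U_eq_U_iff, add_self hF]
  refine ⟨rfl, ?_⟩
  have h := add_self hF
  rw [pow_succ, ← add_assoc, h b, zero_add, h]

theorem H_mul_U (hF : Fintype.card F = 2 ^ (2 * m + 1)) (k : Fˣ) (a b : F) :
    H m k * U m a b = U m (k * a) ((k : F) ^ (2 ^ (m + 1) + 1) * b) * H m k := by
  have hk : (k : F) ≠ 0 := k.ne_zero
  apply Subtype.ext
  rw [Matrix.SpecialLinearGroup.coe_mul, Matrix.SpecialLinearGroup.coe_mul, U_coe, U_coe, H_coe]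
  have h2 : (k : F) ^ 2 ^ (m + 1) = (k : F) ^ 2 ^ m * (k : F) ^ 2 ^ m := by
    rw [← pow_add]; ring_nf
  have h3 := pow_half hF (k : F)
  have hK : (k : F) ^ 2 ^ m ≠ 0 := pow_ne_zero _ hk
  simp only [zc_def, pow_add _ (2 ^ (m + 1)), pow_add _ (2 ^ m), mul_pow, h2, h3, pow_one]
  ext i j
  fin_cases i <;> fin_cases j <;> simp [Matrix.mul_apply, Fin.sum_univ_succ]
  all_goals
    generalize (k : F) ^ 2 ^ m = K at *
    field_simp

/-! ### Action on points -/

omit [Fintype F] in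
theorem U_smul_infinity (a b : F) : U m a b • suzukiPointInfinity F = suzukiPointInfinity F := by
  rw [suzukiPointInfinity, smul_mk_eq_mk_iff, U_coe]
  refine ⟨1, one_ne_zero, ?_⟩
  ext i
  fin_cases i <;> simp

omit [Fintype F] in
theorem H_smul_infinity (k : Fˣ) : H m k • suzukiPointInfinity F = suzukiPointInfinity F := by
  rw [suzukiPointInfinity, smul_mk_eq_mk_iff, H_coe]
  refine ⟨(k : F) ^ (2 ^ m + 1), pow_ne_zero _ k.ne_zero, ?_⟩
  ext i
  fin_cases i <;> simp [Matrix.mulVec_diagonal]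

theorem U_smul_pt (hF : Fintype.card F = 2 ^ (2 * m + 1)) (a b x y : F) :
    U m a b • pt m x y = pt m (x + a) (y + b + a ^ 2 ^ (m + 1) * x) := by
  have := charP_two hF
  have h2 : (2 : F) = 0 := CharTwo.two_eq_zero
  rw [pt, pt, smul_mk_eq_mk_iff, U_coe]
  refine ⟨1, one_ne_zero, ?_⟩
  have hac := sigma_add hF x a
  have hbd : (y + b + a ^ 2 ^ (m + 1) * x) ^ 2 ^ (m + 1) =
      y ^ 2 ^ (m + 1) + b ^ 2 ^ (m + 1) + a ^ 2 * x ^ 2 ^ (m + 1) := by
    rw [sigma_add hF, sigma_add hF, mul_pow, sigma_sigma hF]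
  simp only [vec, zc_def, pow_succ a (2 ^ (m + 1)), pow_succ x (2 ^ (m + 1)),
    pow_add a (2 ^ (m + 1)) 2, pow_add x (2 ^ (m + 1)) 2, pow_add (x + a) (2 ^ (m + 1)) 2, hac, hbd]
  generalize a ^ 2 ^ (m + 1) = A
  generalize b ^ 2 ^ (m + 1) = B
  generalize x ^ 2 ^ (m + 1) = X
  generalize y ^ 2 ^ (m + 1) = Y
  ext i
  fin_cases i <;> simp [Matrix.mulVec, dotProduct, Fin.sum_univ_succ]
  · linear_combination (- (x * X * a) - x * a * A - x ^ 2 * A - X * a ^ 2) * h2
  · ring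

theorem H_smul_pt (hF : Fintype.card F = 2 ^ (2 * m + 1)) (k : Fˣ) (x y : F) :
    H m k • pt m x y = pt m (k * x) ((k : F) ^ (2 ^ (m + 1) + 1) * y) := by
  have hk : (k : F) ≠ 0 := k.ne_zero
  rw [pt, pt, smul_mk_eq_mk_iff, H_coe]
  refine ⟨((k⁻¹ : Fˣ) : F) ^ (2 ^ m + 1), pow_ne_zero _ (k⁻¹).ne_zero, ?_⟩
  have h2 : (k : F) ^ 2 ^ (m + 1) = (k : F) ^ 2 ^ m * (k : F) ^ 2 ^ m := by
    rw [← pow_add]; ring_nf
  have h3 := pow_half hF (k : F)
  have hK : (k : F) ^ 2 ^ m ≠ 0 := pow_ne_zero _ hk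
  simp only [vec, zc_def, pow_add _ (2 ^ (m + 1)), pow_add _ (2 ^ m), mul_pow, h2, h3, pow_one]
  ext i
  fin_cases i <;> simp [Matrix.mulVec_diagonal]
  all_goals
    generalize (k : F) ^ 2 ^ m = K at *
    field_simp

omit [Fintype F] in
theorem W_smul_infinity : W F • suzukiPointInfinity F = suzukiPointZero F := by
  rw [suzukiPointInfinity, suzukiPointZero, smul_mk_eq_mk_iff, W_coe]
  refine ⟨1, one_ne_zero, ?_⟩
  ext i
  fin_cases i <;> simp

omit [Fintype F] in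
theorem W_smul_zero : W F • suzukiPointZero F = suzukiPointInfinity F := by
  rw [suzukiPointInfinity, suzukiPointZero, smul_mk_eq_mk_iff, W_coe]
  refine ⟨1, one_ne_zero, ?_⟩
  ext i
  fin_cases i <;> simp [Matrix.mulVec, dotProduct, Fin.sum_univ_succ]

theorem W_smul_pt (hF : Fintype.card F = 2 ^ (2 * m + 1)) (x y : F) (h : zc m x y ≠ 0) :
    W F • pt m x y = pt m (y / zc m x y) (x / zc m x y) := by
  rw [pt, pt, smul_mk_eq_mk_iff, W_coe]
  refine ⟨zc m x y, h, ?_⟩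
  ext i
  fin_cases i <;> simp [Matrix.mulVec, dotProduct, Fin.sum_univ_succ, vec, zc_inv hF x y h]
  all_goals field_simp

theorem pt_or (hF : Fintype.card F = 2 ^ (2 * m + 1)) (x y : F) : 
    pt m x y = suzukiPointZero F ∨ zc m x y ≠ 0 := by
  by_cases h : zc m x y = 0
  · left
    obtain ⟨rfl, rfl⟩ := (zc_eq_zero_iff hF x y).1 h
    exact pt_zero_zero m
  · right; exact h

omit [Fintype F] in
theorem zero_mem_ovoid (m : ℕ) : suzukiPointZero F ∈ suzukiOvoid F m := by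
  rw [← pt_zero_zero m]; exact pt_mem_ovoid m 0 0

omit [Fintype F] in
theorem zero_ne_infinity : suzukiPointZero F ≠ suzukiPointInfinity F := by
  rw [← pt_zero_zero 0]; exact pt_ne_infinity 0 0 0

theorem U_maps (hF : Fintype.card F = 2 ^ (2 * m + 1)) (a b : F) 
    {p : Projectivization F (Fin 4 → F)} (hp : p ∈ suzukiOvoid F m) : U m a b • p ∈ suzukiOvoid F m := by
  rcases (mem_ovoid_iff m p).1 hp with rfl | ⟨x, y, rfl⟩
  · rw [U_smul_infinity]; exact hp
  · rw [U_smul_pt hF]; exact pt_mem_ovoid m _ _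

theorem H_maps (hF : Fintype.card F = 2 ^ (2 * m + 1)) (k : Fˣ)
    {p : Projectivization F (Fin 4 → F)} (hp : p ∈ suzukiOvoid F m) : H m k • p ∈ suzukiOvoid F m := by
  rcases (mem_ovoid_iff m p).1 hp with rfl | ⟨x, y, rfl⟩
  · rw [H_smul_infinity]; exact hp
  · rw [H_smul_pt hF]; exact pt_mem_ovoid m _ _

theorem W_maps (hF : Fintype.card F = 2 ^ (2 * m + 1))
    {p : Projectivization F (Fin 4 → F)} (hp : p ∈ suzukiOvoid F m) : W F • p ∈ suzukiOvoid F m := by
  rcases (mem_ovoid_iff m p).1 hp with rfl | ⟨x, y, rfl⟩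
  · rw [W_smul_infinity]; exact zero_mem_ovoid m
  · rcases pt_or hF x y with h | h
    · rw [h, W_smul_zero]; exact infinity_mem_ovoid m
    · rw [W_smul_pt hF x y h]; exact pt_mem_ovoid m _ _

omit [Fintype F] in
theorem mem_Sz_of (g : SL(4, F)) (h1 : ∀ p ∈ suzukiOvoid F m, g • p ∈ suzukiOvoid F m)
    (h2 : ∀ p ∈ suzukiOvoid F m, g⁻¹ • p ∈ suzukiOvoid F m) : g ∈ Sz F m := by
  rw [MulAction.mem_stabilizer_iff]
  apply Set.Subset.antisymm
  · rintro _ ⟨p, hp, rfl⟩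
    exact h1 p hp
  · intro p hp
    exact ⟨g⁻¹ • p, h2 p hp, by simp⟩

omit [Fintype F] in
theorem smul_mem_ovoid {g : SL(4, F)} (hg : g ∈ Sz F m) {p : Projectivization F (Fin 4 → F)} :
    g • p ∈ suzukiOvoid F m ↔ p ∈ suzukiOvoid F m := by
  rw [MulAction.mem_stabilizer_iff] at hg
  nth_rw 1 [← hg]
  exact Set.smul_mem_smul_set_iff

theorem U_mem (hF : Fintype.card F = 2 ^ (2 * m + 1)) (a b : F) : U m a b ∈ Sz F m := by
  apply mem_Sz_of
  · exact fun p hp => U_maps hF a b hp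
  · rw [U_inv hF]
    exact fun p hp => U_maps hF _ _ hp

theorem H_mem (hF : Fintype.card F = 2 ^ (2 * m + 1)) (k : Fˣ) : H m k ∈ Sz F m := by
  apply mem_Sz_of
  · exact fun p hp => H_maps hF k hp
  · rw [H_inv]
    exact fun p hp => H_maps hF _ hp

omit [Fintype F] in
theorem W_inv : (W F)⁻¹ = W F := by
  rw [inv_eq_iff_mul_eq_one, W_mul_W]

theorem W_mem (hF : Fintype.card F = 2 ^ (2 * m + 1)) : W F ∈ Sz F m := by
  apply mem_Sz_of
  · exact fun p hp => W_maps hF hp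
  · rw [W_inv]
    exact fun p hp => W_maps hF hp

/-! ### Stabilisers and double transitivity -/

omit [Fintype F] in
theorem col_zero {g : SL(4, F)} (h1 : g • suzukiPointInfinity F = suzukiPointInfinity F) :
    (g : Matrix (Fin 4) (Fin 4) F) 1 0 = 0 ∧ (g : Matrix (Fin 4) (Fin 4) F) 2 0 = 0 ∧
    (g : Matrix (Fin 4) (Fin 4) F) 3 0 = 0 := by
  rw [suzukiPointInfinity, smul_mk_eq_mk_iff] at h1
  obtain ⟨c, hc, h⟩ := h1
  have e1 := congrFun h 1
  have e2 := congrFun h 2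
  have e3 := congrFun h 3
  simp [Matrix.mulVec, dotProduct, Fin.sum_univ_succ] at e1 e2 e3
  exact ⟨e1, e2, e3⟩

omit [Fintype F] in
/-- An element of `Sz` fixing infinity preserves the last coordinate functional up to a scalar. -/
theorem last_row {g : SL(4, F)}
    (hg : g ∈ Sz F m) (h1 : g • suzukiPointInfinity F = suzukiPointInfinity F) :
    (g : Matrix (Fin 4) (Fin 4) F) 3 0 = 0 ∧ (g : Matrix (Fin 4) (Fin 4) F) 3 1 = 0 ∧
    (g : Matrix (Fin 4) (Fin 4) F) 3 2 = 0 := by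
  obtain ⟨-, -, h30⟩ := col_zero h1
  have key : ∀ x y : F, (g : Matrix (Fin 4) (Fin 4) F) 3 1 * y + (g : Matrix (Fin 4) (Fin 4) F) 3 2 * x +
      (g : Matrix (Fin 4) (Fin 4) F) 3 3 ≠ 0 := by
    intro x y h
    have hmem := (smul_mem_ovoid (m := m) hg).2 (pt_mem_ovoid m x y)
    rcases (mem_ovoid_iff m _).1 hmem with h2 | ⟨x', y', h2⟩
    · rw [← h1] at h2
      exact pt_ne_infinity m x y (MulAction.injective g h2)
    · rw [pt, pt, smul_mk_eq_mk_iff] at h2
      obtain ⟨c, hc, h3⟩ := h2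
      have e3 := congrFun h3 3
      simp [Matrix.mulVec, dotProduct, Fin.sum_univ_succ, vec, h30] at e3
      apply hc
      rw [← e3, ← h]
      ring
  refine ⟨h30, ?_, ?_⟩
  · by_contra hne
    apply key 0 (-(g : Matrix (Fin 4) (Fin 4) F) 3 3 / (g : Matrix (Fin 4) (Fin 4) F) 3 1)
    field_simp
    ring
  · by_contra hne
    apply key (-(g : Matrix (Fin 4) (Fin 4) F) 3 3 / (g : Matrix (Fin 4) (Fin 4) F) 3 2) 0
    field_simp
    ring

theorem poly_zero_aux {s : ℕ} (h4 : 4 ≤ s) (hq : s + 2 < Fintype.card F) (A B C : F)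
    (h : ∀ t : F, A * t ^ (s + 2) + B * t ^ s + C * t ^ 2 = 0) :
    A = 0 ∧ B = 0 := by
  let p : Polynomial F := Polynomial.C A * Polynomial.X ^ (s + 2) +
    Polynomial.C B * Polynomial.X ^ s + Polynomial.C C * Polynomial.X ^ 2
  have hp : p = 0 := by
    apply Polynomial.eq_zero_of_natDegree_lt_card_of_eval_eq_zero (R := F) p (f := (id : F → F))
      Function.injective_id
    · intro t
      simp [p, h t]
    · refine lt_of_le_of_lt ?_ hq
      show (Polynomial.C A * Polynomial.X ^ (s + 2) +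
        Polynomial.C B * Polynomial.X ^ s + Polynomial.C C * Polynomial.X ^ 2).natDegree ≤ s + 2
      compute_degree
  have e1 : ∀ n, p.coeff n = (if n = s + 2 then A else 0) + (if n = s then B else 0) + (if n = 2 then C else 0) := by
    intro n
    simp only [p, Polynomial.coeff_add, Polynomial.coeff_C_mul_X_pow]
  constructor
  · have := e1 (s + 2)
    rw [hp, Polynomial.coeff_zero, if_pos rfl, if_neg (by omega), if_neg (by omega)] at this
    simpa using this.symm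
  · have := e1 s
    rw [hp, Polynomial.coeff_zero, if_neg (by omega), if_pos rfl, if_neg (by omega)] at this
    simpa using this.symm

/-- polynomial argument -/
theorem poly_zero (hm : 1 ≤ m) (hF : Fintype.card F = 2 ^ (2 * m + 1)) (A B C : F)
    (h : ∀ t : F, A * t ^ (2 ^ (m + 1) + 2) + B * t ^ 2 ^ (m + 1) + C * t ^ 2 = 0) :
    A = 0 ∧ B = 0 := by
  have h4 : 4 ≤ 2 ^ (m + 1) := by
    calc 4 = 2 ^ 2 := rfl
      _ ≤ 2 ^ (m + 1) := Nat.pow_le_pow_right (by norm_num) (by omega)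
  have hq : 2 ^ (m + 1) + 2 < Fintype.card F := by
    rw [hF, show 2 * m + 1 = (m + 1) + m by ring, pow_add 2 (m + 1) m]
    have : 2 ≤ 2 ^ m := by
      calc 2 = 2 ^ 1 := rfl
        _ ≤ 2 ^ m := Nat.pow_le_pow_right (by norm_num) hm
    nlinarith
  exact poly_zero_aux h4 hq A B C h

theorem sigma_ne_zero (m : ℕ) : 2 ^ (m + 1) ≠ 0 := by positivity

theorem sigma_add_two_ne_zero (m : ℕ) : 2 ^ (m + 1) + 2 ≠ 0 := by positivity

theorem zc_linear (hm : 1 ≤ m) (hF : Fintype.card F = 2 ^ (2 * m + 1)) (α β γ δ ρ : F) (hρ : ρ ≠ 0)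
    (h : ∀ x y : F, zc m (α * x + β * y) (γ * x + δ * y) = ρ * zc m x y) :
    β = 0 ∧ γ = 0 ∧ α ≠ 0 ∧ δ = α ^ (2 ^ (m + 1) + 1) ∧ ρ = α ^ (2 ^ (m + 1) + 2) := by
  have := charP_two hF
  have h2 : (2 : F) = 0 := CharTwo.two_eq_zero
  have h0 := sigma_ne_zero m
  have h0' := sigma_add_two_ne_zero m
  have hβ := poly_zero hm hF (β ^ (2 ^ (m + 1) + 2)) (δ ^ 2 ^ (m + 1) - ρ) (β * δ) (by
    intro y
    have := h 0 y
    simp only [zc_def, mul_zero, zero_add, zero_mul, mul_pow, zero_pow h0'] at this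
    linear_combination this)
  have hγ := poly_zero hm hF (α ^ (2 ^ (m + 1) + 2) - ρ) (γ ^ 2 ^ (m + 1)) (α * γ) (by
    intro x
    have := h x 0
    simp only [zc_def, mul_zero, add_zero, mul_pow, zero_pow h0] at this
    linear_combination this)
  obtain ⟨hβ1, hδ⟩ := hβ
  obtain ⟨hα, hγ1⟩ := hγ
  have hβ0 : β = 0 := (pow_eq_zero_iff h0').1 hβ1
  have hγ0 : γ = 0 := (pow_eq_zero_iff h0).1 hγ1
  subst hβ0 hγ0
  have hα' : ρ = α ^ (2 ^ (m + 1) + 2) := (sub_eq_zero.1 hα).symm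
  have hδ' : ρ = δ ^ 2 ^ (m + 1) := (sub_eq_zero.1 hδ).symm
  have hα0 : α ≠ 0 := by
    rintro rfl
    apply hρ
    rw [hα', zero_pow h0']
  have h11 := h 1 1
  simp only [zc_def, mul_one, zero_add, add_zero, one_pow, ← hα', ← hδ'] at h11
  have h12 : α * δ = ρ := by linear_combination h11 
  refine ⟨rfl, rfl, hα0, ?_, hα'⟩
  apply mul_left_cancel₀ hα0
  rw [h12, hα']
  ring

theorem eq_H_of_fix_two (hm : 1 ≤ m) (hF : Fintype.card F = 2 ^ (2 * m + 1)) {g : SL(4, F)}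
    (hg : g ∈ Sz F m) (h1 : g • suzukiPointInfinity F = suzukiPointInfinity F)
    (h0 : g • suzukiPointZero F = suzukiPointZero F) : ∃ k : Fˣ, g = H m k := by
  have := charP_two hF
  set M : Matrix (Fin 4) (Fin 4) F := (g : Matrix (Fin 4) (Fin 4) F) with hM
  obtain ⟨h10, h20, h30⟩ := col_zero h1
  obtain ⟨-, h31, h32⟩ := last_row hg h1
  -- the conjugate by W
  have hg' : W F * g * W F ∈ Sz F m := Subgroup.mul_mem _ (Subgroup.mul_mem _ (W_mem hF) hg) (W_mem hF)
  have h1' : (W F * g * W F) • suzukiPointInfinity F = suzukiPointInfinity F := by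
    rw [mul_smul, mul_smul, W_smul_infinity, h0, W_smul_zero]
  have hent : ∀ i j, (W F * g * W F : SL(4, F)) i j = M i.rev j.rev := by
    intro i j
    rw [Matrix.SpecialLinearGroup.coe_mul, Matrix.SpecialLinearGroup.coe_mul, W_coe, ← hM]
    simp only [Matrix.mul_apply, Fin.sum_univ_four]
    fin_cases i <;> fin_cases j <;> simp
  obtain ⟨h10', h20', h30'⟩ := col_zero h1'
  obtain ⟨-, h31', h32'⟩ := last_row hg' h1'
  rw [hent] at h10' h20' h30' h31' h32'
  change M 2 3 = 0 at h10'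
  change M 1 3 = 0 at h20'
  change M 0 3 = 0 at h30'
  change M 0 2 = 0 at h31'
  change M 0 1 = 0 at h32'
  rw [← hM] at h10 h20 h30 h31 h32
  have hdet : M.det = 1 := g.2
  have hdet' : M 0 0 * (M 1 1 * M 2 2 - M 1 2 * M 2 1) * M 3 3 = 1 := by
    rw [← hdet, Matrix.det_succ_row_zero]
    simp [Fin.sum_univ_succ, Matrix.det_succ_row_zero, Fin.succAbove, h10, h20, h30, h31, h32, h10', h20', h30', h31', h32']
    ring
  have ha : M 0 0 ≠ 0 := by
    intro h; rw [h] at hdet'; simp at hdet'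
  have hd : M 3 3 ≠ 0 := by
    intro h; rw [h] at hdet'; simp at hdet'
  have hlin : ∀ x y : F, zc m (M 2 2 / M 3 3 * x + M 2 1 / M 3 3 * y) (M 1 2 / M 3 3 * x + M 1 1 / M 3 3 * y) =
      M 0 0 / M 3 3 * zc m x y := by
    intro x y
    have hmem := (smul_mem_ovoid (m := m) hg).2 (pt_mem_ovoid m x y)
    rcases (mem_ovoid_iff m _).1 hmem with h2 | ⟨x', y', h2⟩
    · rw [← h1] at h2
      exact absurd (MulAction.injective g h2) (pt_ne_infinity m x y)
    · rw [pt, pt, smul_mk_eq_mk_iff] at h2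
      obtain ⟨c, hc, h3⟩ := h2
      rw [← hM] at h3
      have e0 := congrFun h3 0
      have e1 := congrFun h3 1
      have e2 := congrFun h3 2
      have e3 := congrFun h3 3
      simp [Matrix.mulVec, dotProduct, Fin.sum_univ_succ, vec, h10, h20, h30, h31, h32, h10', h20', h30', h31', h32'] at e0 e1 e2 e3
      subst e3
      have hx' : x' = M 2 2 / M 3 3 * x + M 2 1 / M 3 3 * y := by
        field_simp
        linear_combination -e2
      have hy' : y' = M 1 2 / M 3 3 * x + M 1 1 / M 3 3 * y := by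
        field_simp
        linear_combination -e1
      rw [← hx', ← hy']
      field_simp
      linear_combination -e0
  obtain ⟨hβ, hγ, hα, hδ, hρ⟩ := zc_linear hm hF _ _ _ _ _ (div_ne_zero ha hd) hlin
  set α := M 2 2 / M 3 3 with hαdef
  have e21 : M 2 1 = 0 := by
    rcases div_eq_zero_iff.1 hβ with h | h
    · exact h
    · exact absurd h hd
  have e12 : M 1 2 = 0 := by
    rcases div_eq_zero_iff.1 hγ with h | h
    · exact h
    · exact absurd h hd
  have e22 : M 2 2 = α * M 3 3 := by rw [hαdef]; field_simp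
  have e11 : M 1 1 = α ^ (2 ^ (m + 1) + 1) * M 3 3 := by rw [← hδ]; field_simp
  have e00 : M 0 0 = α ^ (2 ^ (m + 1) + 2) * M 3 3 := by rw [← hρ]; field_simp
  have hhalf : α ^ 2 ^ (m + 1) = α ^ 2 ^ m * α ^ 2 ^ m := by
    rw [← pow_add]; ring_nf
  have hK : α ^ 2 ^ m ≠ 0 := pow_ne_zero _ hα
  have e33 : M 3 3 = (α ^ (2 ^ m + 1))⁻¹ := by
    have h4 : (M 3 3 * (α ^ (2 ^ m + 1))) ^ 4 = 1 := by
      rw [e00, e11, e22, e12] at hdet'
      rw [pow_add α (2 ^ (m + 1)), pow_add α (2 ^ (m + 1)), hhalf] at hdet'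
      rw [← hdet']
      ring
    have h5 : M 3 3 * (α ^ (2 ^ m + 1)) = 1 := by
      have h6 : ((M 3 3 * (α ^ (2 ^ m + 1))) ^ 2) = 1 := by
        have : ((M 3 3 * (α ^ (2 ^ m + 1))) ^ 2) ^ 2 = 1 ^ 2 := by
          rw [← pow_mul, h4, one_pow]
        exact frobenius_inj F 2 this
      have h7 : (M 3 3 * (α ^ (2 ^ m + 1))) ^ 2 = 1 ^ 2 := by rw [h6, one_pow]
      exact frobenius_inj F 2 h7
    exact eq_inv_of_mul_eq_one_left h5
  refine ⟨Units.mk0 α hα, ?_⟩
  apply Subtype.ext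
  rw [H_coe, ← hM]
  ext i j
  fin_cases i <;> fin_cases j <;> simp [h10, h20, h30, h31, h32, h10', h20', h30', h31', h32', e21, e12]
  · rw [e00, e33, pow_add α (2 ^ (m + 1)), pow_add α (2 ^ m), hhalf]
    field_simp
  · rw [e11, e33, pow_add α (2 ^ (m + 1)), pow_add α (2 ^ m), hhalf]
    field_simp
  · rw [e22, e33, pow_add α (2 ^ m)]
    field_simp
  · rw [e33]

theorem eq_U_mul_H_of_fix_infinity (hm : 1 ≤ m) (hF : Fintype.card F = 2 ^ (2 * m + 1)) {g : SL(4, F)}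
    (hg : g ∈ Sz F m) (h1 : g • suzukiPointInfinity F = suzukiPointInfinity F) :
    ∃ (a b : F) (k : Fˣ), g = U m a b * H m k := by
  have hmem := (smul_mem_ovoid (m := m) hg).2 (zero_mem_ovoid m)
  rcases (mem_ovoid_iff m _).1 hmem with h2 | ⟨a, b, h2⟩
  · rw [← h1] at h2
    exact absurd (MulAction.injective g h2) zero_ne_infinity
  · have h3 : ((U m a b)⁻¹ * g) ∈ Sz F m := Subgroup.mul_mem _ (Subgroup.inv_mem _ (U_mem hF a b)) hg
    obtain ⟨k, hk⟩ := eq_H_of_fix_two hm hF h3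
      (by rw [mul_smul, h1, inv_smul_eq_iff, U_smul_infinity])
      (by rw [mul_smul, h2, inv_smul_eq_iff, ← pt_zero_zero m, U_smul_pt hF]
          simp)
    refine ⟨a, b, k, ?_⟩
    rw [← hk]
    group

/-- Bruhat form -/
theorem bruhat (hm : 1 ≤ m) (hF : Fintype.card F = 2 ^ (2 * m + 1)) {g : SL(4, F)} (hg : g ∈ Sz F m) :
    (∃ (a b : F) (k : Fˣ), g = U m a b * H m k) ∨
    (∃ (a b : F) (k : Fˣ) (c d : F), g = U m a b * W F * H m k * U m c d) := by
  have hmem := (smul_mem_ovoid (m := m) hg).2 (infinity_mem_ovoid m)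
  rcases (mem_ovoid_iff m _).1 hmem with h2 | ⟨a, b, h2⟩
  · left
    exact eq_U_mul_H_of_fix_infinity hm hF hg h2
  · right
    have h3 : (W F * ((U m a b)⁻¹ * g)) ∈ Sz F m :=
      Subgroup.mul_mem _ (W_mem hF) (Subgroup.mul_mem _ (Subgroup.inv_mem _ (U_mem hF a b)) hg)
    obtain ⟨c, d, k, hk⟩ := eq_U_mul_H_of_fix_infinity hm hF h3
      (by
        have h4 : (U m a b)⁻¹ • pt m a b = suzukiPointZero F := by
          rw [inv_smul_eq_iff, ← pt_zero_zero m, U_smul_pt hF]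
          simp
        rw [mul_smul, mul_smul, h2, h4, W_smul_zero])
    have h5 : g = U m a b * (W F * (U m c d * H m k)) := by
      rw [← hk, ← mul_assoc (W F), W_mul_W, one_mul]
      group
    refine ⟨a, b, k, ((k⁻¹ : Fˣ) : F) * c, ((k⁻¹ : Fˣ) : F) ^ (2 ^ (m + 1) + 1) * d, ?_⟩
    have h6 : H m k * U m (((k⁻¹ : Fˣ) : F) * c) (((k⁻¹ : Fˣ) : F) ^ (2 ^ (m + 1) + 1) * d) =
        U m c d * H m k := by
      rw [H_mul_U hF, ← mul_assoc, ← mul_assoc, ← mul_pow, Units.mul_inv, one_mul, one_pow, one_mul]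
    rw [h5, ← h6]
    group

/-- uniqueness in the Bruhat form -/
theorem U_mul_H_inj (hF : Fintype.card F = 2 ^ (2 * m + 1)) {a b a' b' : F} {k k' : Fˣ}
    (h : U m a b * H m k = U m a' b' * H m k') : a = a' ∧ b = b' ∧ k = k' := by
  have h1 : (U m a b * H m k) • pt m (0 : F) 0 = (U m a' b' * H m k') • pt m (0 : F) 0 := by rw [h]
  rw [mul_smul, mul_smul, H_smul_pt hF, H_smul_pt hF, U_smul_pt hF, U_smul_pt hF, pt_eq_pt_iff] at h1
  simp at h1
  obtain ⟨rfl, rfl⟩ := h1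
  exact ⟨rfl, rfl, (H_eq_H_iff hF k k').1 (mul_left_cancel h)⟩

theorem U_smul_zero (hF : Fintype.card F = 2 ^ (2 * m + 1)) (a b : F) :
    U m a b • suzukiPointZero F = pt m a b := by
  rw [← pt_zero_zero m, U_smul_pt hF]
  simp

theorem H_smul_zero (hF : Fintype.card F = 2 ^ (2 * m + 1)) (k : Fˣ) :
    H m k • suzukiPointZero F = suzukiPointZero F := by
  rw [← pt_zero_zero m, H_smul_pt hF]
  simp

theorem bruhat_inj (hF : Fintype.card F = 2 ^ (2 * m + 1)) {a b c d a' b' c' d' : F} {k k' : Fˣ}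
    (h : U m a b * W F * H m k * U m c d = U m a' b' * W F * H m k' * U m c' d') :
    a = a' ∧ b = b' ∧ k = k' ∧ c = c' ∧ d = d' := by
  have h1 : (U m a b * W F * H m k * U m c d) • suzukiPointInfinity F =
    (U m a' b' * W F * H m k' * U m c' d') • suzukiPointInfinity F := by rw [h]
  simp only [mul_smul, U_smul_infinity, H_smul_infinity, W_smul_infinity, U_smul_zero hF, pt_eq_pt_iff] at h1
  obtain ⟨rfl, rfl⟩ := h1
  have h2 : H m k * U m c d = H m k' * U m c' d' := by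
    have : (U m a b * W F) * (H m k * U m c d) = (U m a b * W F) * (H m k' * U m c' d') := by
      rw [← mul_assoc, h, ← mul_assoc]
    exact mul_left_cancel this
  rw [H_mul_U hF, H_mul_U hF] at h2
  obtain ⟨h3, h4, rfl⟩ := U_mul_H_inj hF h2
  have hk : (k : F) ≠ 0 := k.ne_zero
  refine ⟨rfl, rfl, rfl, mul_left_cancel₀ hk h3, mul_left_cancel₀ (pow_ne_zero _ hk) h4⟩

/-- an element of `Sz` moving any two distinct ovoid points to infinity and zero -/
theorem exists_smul_eq (hF : Fintype.card F = 2 ^ (2 * m + 1))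
    {p q : Projectivization F (Fin 4 → F)} (hp : p ∈ suzukiOvoid F m) (hq : q ∈ suzukiOvoid F m)
    (hpq : p ≠ q) : ∃ g ∈ Sz F m, g • p = suzukiPointInfinity F ∧ g • q = suzukiPointZero F := by
  -- first: move `p` to infinity
  have step1 : ∃ g ∈ Sz F m, g • p = suzukiPointInfinity F := by
    rcases (mem_ovoid_iff m _).1 hp with h2 | ⟨a, b, h2⟩
    · exact ⟨1, Subgroup.one_mem _, by rw [one_smul, h2]⟩
    · refine ⟨W F * (U m a b)⁻¹, Subgroup.mul_mem _ (W_mem hF) (Subgroup.inv_mem _ (U_mem hF a b)), ?_⟩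
      have h4 : (U m a b)⁻¹ • pt m a b = suzukiPointZero F := by
        rw [inv_smul_eq_iff, U_smul_zero hF]
      rw [mul_smul, h2, h4, W_smul_zero]
  obtain ⟨g, hg, hgp⟩ := step1
  have hgq : g • q ∈ suzukiOvoid F m := (smul_mem_ovoid hg).2 hq
  rcases (mem_ovoid_iff m _).1 hgq with h2 | ⟨a, b, h2⟩
  · rw [← hgp] at h2
    exact absurd (MulAction.injective g h2).symm hpq
  · refine ⟨(U m a b)⁻¹ * g, Subgroup.mul_mem _ (Subgroup.inv_mem _ (U_mem hF a b)) hg, ?_, ?_⟩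
    · rw [mul_smul, hgp, inv_smul_eq_iff, U_smul_infinity]
    · rw [mul_smul, h2, inv_smul_eq_iff, U_smul_zero hF]

omit [Fintype F] in
theorem smul_coe (g : Sz F m) (p : suzukiOvoid F m) :
    ((g • p : suzukiOvoid F m) : Projectivization F (Fin 4 → F)) = (g : SL(4, F)) • (p : Projectivization F (Fin 4 → F)) := rfl

theorem two_pretransitive (hF : Fintype.card F = 2 ^ (2 * m + 1)) :
    MulAction.IsMultiplyPretransitive (Sz F m) (suzukiOvoid F m) 2 := by
  rw [MulAction.is_two_pretransitive_iff]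
  intro p q p' q' hpq hpq'
  obtain ⟨g, hg, h1, h2⟩ := exists_smul_eq hF p.2 q.2 (fun h => hpq (Subtype.ext h))
  obtain ⟨g', hg', h1', h2'⟩ := exists_smul_eq hF p'.2 q'.2 (fun h => hpq' (Subtype.ext h))
  refine ⟨⟨g'⁻¹ * g, Subgroup.mul_mem _ (Subgroup.inv_mem _ hg') hg⟩, ?_, ?_⟩
  · apply Subtype.ext
    rw [smul_coe]
    show (g'⁻¹ * g) • (p : Projectivization F (Fin 4 → F)) = p'
    rw [mul_smul, h1, ← h1', inv_smul_smul]
  · apply Subtype.ext
    rw [smul_coe]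
    show (g'⁻¹ * g) • (q : Projectivization F (Fin 4 → F)) = q'
    rw [mul_smul, h2, ← h2', inv_smul_smul]

theorem eq_one_of_pow_sigma_add_one (hF : Fintype.card F = 2 ^ (2 * m + 1)) {k : F}
    (h : k ^ (2 ^ (m + 1) + 1) = 1) : k = 1 := by
  have hk : k ≠ 0 := by
    rintro rfl
    rw [zero_pow (by positivity)] at h
    exact zero_ne_one h
  have h1 : k ^ 2 ^ (m + 1) = k⁻¹ := by
    rw [pow_succ] at h
    exact eq_inv_of_mul_eq_one_left h
  have h2 := sigma_sigma hF k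
  rw [h1, inv_pow, h1, inv_inv] at h2
  have h3 : k * 1 = k * k := by rw [mul_one, ← sq, ← h2]
  exact (mul_left_cancel₀ hk h3).symm

theorem H_fix_iff (hF : Fintype.card F = 2 ^ (2 * m + 1)) (k : Fˣ) {p : Projectivization F (Fin 4 → F)}
    (hp : p ∈ suzukiOvoid F m) (h1 : p ≠ suzukiPointInfinity F) (h0 : p ≠ suzukiPointZero F) :
    H m k • p = p ↔ k = 1 := by
  constructor
  · intro h
    rcases (mem_ovoid_iff m _).1 hp with h2 | ⟨x, y, rfl⟩
    · exact absurd h2 h1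
    · rw [H_smul_pt hF, pt_eq_pt_iff] at h
      obtain ⟨hx, hy⟩ := h
      by_cases hx0 : x = 0
      · by_cases hy0 : y = 0
        · subst hx0 hy0
          exact absurd (pt_zero_zero m) h0
        · have h3 : (k : F) ^ (2 ^ (m + 1) + 1) = 1 := by
            apply mul_right_cancel₀ hy0
            rw [hy, one_mul]
          exact Units.ext (eq_one_of_pow_sigma_add_one hF h3)
      · apply Units.ext
        apply mul_right_cancel₀ hx0
        rw [hx, Units.val_one, one_mul]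
  · rintro rfl
    rw [H_one, one_smul]

/-- no nonidentity element of `Sz` fixes three distinct points of the ovoid -/
theorem eq_one_of_fix_three (hm : 1 ≤ m) (hF : Fintype.card F = 2 ^ (2 * m + 1)) {g : SL(4, F)}
    (hg : g ∈ Sz F m) {p q r : Projectivization F (Fin 4 → F)} (hp : p ∈ suzukiOvoid F m)
    (hq : q ∈ suzukiOvoid F m) (hr : r ∈ suzukiOvoid F m) (hpq : p ≠ q) (hpr : p ≠ r) (hqr : q ≠ r)
    (h1 : g • p = p) (h2 : g • q = q) (h3 : g • r = r) : g = 1 := by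
  obtain ⟨u, hu, hup, huq⟩ := exists_smul_eq hF hp hq hpq
  have hg' : u * g * u⁻¹ ∈ Sz F m := Subgroup.mul_mem _ (Subgroup.mul_mem _ hu hg) (Subgroup.inv_mem _ hu)
  have hp' : u⁻¹ • suzukiPointInfinity F = p := by rw [inv_smul_eq_iff, hup]
  have hq' : u⁻¹ • suzukiPointZero F = q := by rw [inv_smul_eq_iff, huq]
  obtain ⟨k, hk⟩ := eq_H_of_fix_two hm hF hg'
    (by rw [mul_smul, mul_smul, hp', h1, hup])
    (by rw [mul_smul, mul_smul, hq', h2, huq])
  have hr' : u • r ∈ suzukiOvoid F m := (smul_mem_ovoid hu).2 hr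
  have h5 : H m k • (u • r) = u • r := by
    rw [← hk, mul_smul, mul_smul, inv_smul_smul, h3]
  have h6 : k = 1 := by
    rw [H_fix_iff hF k hr'] at h5
    · exact h5
    · rw [← hup]; exact fun h => hpr (MulAction.injective u h).symm
    · rw [← huq]; exact fun h => hqr (MulAction.injective u h).symm
  rw [h6, H_one] at hk
  have : g = u⁻¹ * (u * g * u⁻¹) * u := by group
  rw [this, hk]
  group

end elements
end Cfsg.Agent.LieExceptional.SuzukiBasic
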