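import Mathlib
import Cfsg.Prelude.Def_LieExceptional
import Cfsg.Agent.LieExceptional.SuzukiBasic
import Cfsg.Agent.LieExceptional.SuzukiTori
import Cfsg.Agent.LieExceptional.SingerCentralizer
import Cfsg.Agent.S0324

/-!
# The Suzuki group satisfies the hypotheses of the torus count
-/

set_option autoImplicit false

namespace Cfsg.Agent.LieExceptional.SuzukiHyp

open scoped MatrixGroups Matrix
open Matrix MulAction
open Cfsg.Agent.LieExceptional

variable {F : Type*} [Field F]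

/-- the natural representation of the Suzuki group -/
noncomputable def rep (F : Type*) [Field F] (m : ℕ) : Cfsg.Sz F m →* Module.End F (Fin 4 → F) :=
  ((Matrix.toLinAlgEquiv' : Matrix (Fin 4) (Fin 4) F ≃ₐ[F] _) : Matrix (Fin 4) (Fin 4) F →* _).comp
    (Matrix.SpecialLinearGroup.coeMonoidHom.comp (Cfsg.Sz F m).subtype)

theorem rep_injective (m : ℕ) : Function.Injective (rep F m) := by
  refine (Matrix.toLinAlgEquiv' (R := F) (n := Fin 4)).injective.comp
    (Matrix.SpecialLinearGroup.coeMonoidHom_injective.comp Subtype.val_injective)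

variable [Fintype F] {m : ℕ}

theorem dvd_facts (hm : 1 ≤ m) (hF : Fintype.card F = 2 ^ (2 * m + 1)) {p : ℕ} (hp : p.Prime)
    (h : p ∣ (2 ^ (2 * m + 1)) ^ 2 + 1) :
    p ∣ Nat.card F ^ Module.finrank F (Fin 4 → F) - 1 ∧
    ∀ d, 0 < d → d < Module.finrank F (Fin 4 → F) → ¬ p ∣ Nat.card F ^ d - 1 := by
  rw [Module.finrank_fin_fun, Nat.card_eq_fintype_card, hF]
  refine SingerCentralizer.dvd_facts hp ?_ (by positivity) h
  rintro rfl
  have h1 : 2 ∣ (2 ^ (2 * m + 1)) ^ 2 := by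
    rw [← pow_mul]
    exact dvd_pow_self 2 (by omega)
  have := (Nat.dvd_add_right h1).1 h
  omega

theorem card_fixedBy_le (hm : 1 ≤ m) (hF : Fintype.card F = 2 ^ (2 * m + 1)) (g : Cfsg.Sz F m)
    (hg : g ≠ 1) : Nat.card (fixedBy (Cfsg.suzukiOvoid F m) g) ≤ 2 := by
  classical
  have : Finite (Cfsg.suzukiOvoid F m) := Finite.of_equiv _ (SuzukiBasic.ovoidEquiv F m)
  by_contra hcon
  push Not at hcon
  rw [Nat.card_coe_set_eq, Set.two_lt_ncard] at hcon
  obtain ⟨a, ha, b, hb, c, hc, hab, hac, hbc⟩ := hcon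
  rw [mem_fixedBy] at ha hb hc
  apply hg
  apply Subtype.ext
  exact SuzukiBasic.eq_one_of_fix_three hm hF g.2 a.2 b.2 c.2 (fun h => hab (Subtype.ext h))
    (fun h => hac (Subtype.ext h)) (fun h => hbc (Subtype.ext h))
    (congrArg Subtype.val ha) (congrArg Subtype.val hb) (congrArg Subtype.val hc)

theorem hyp (hm : 1 ≤ m) (hF : Fintype.card F = 2 ^ (2 * m + 1)) :
    SuzukiTori.Hyp (Cfsg.Sz F m) (Cfsg.suzukiOvoid F m) (2 ^ (2 * m + 1)) where
  two := SuzukiBasic.two_pretransitive hF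
  three := card_fixedBy_le hm hF
  card_set := by
    rw [SuzukiBasic.ovoid_card, Nat.card_eq_fintype_card, hF]
  card_group := by
    rw [Cfsg.Agent.S0324.result hm hF]
    ring
  q_eq := ⟨m, hm, rfl⟩
  comm := by
    intro p hp hpq z hz a ha b hb
    obtain ⟨h1, h2⟩ := dvd_facts hm hF hp hpq
    exact SingerCentralizer.commute_of_centralizer (rep F m) (rep_injective m) hp hz h1 h2 ha hb
  norm := by
    intro p hp hpq z hz
    obtain ⟨h1, h2⟩ := dvd_facts hm hF hp hpq
    have := SingerCentralizer.card_normalizer_centralizer_le (rep F m) (rep_injective m) hp hz h1 h2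
    rwa [Module.finrank_fin_fun] at this

theorem isCyclic_centralizer (hm : 1 ≤ m) (hF : Fintype.card F = 2 ^ (2 * m + 1)) {g : Cfsg.Sz F m}
    (hg : g ∈ SuzukiTori.Hyp.free (Cfsg.Sz F m) (Cfsg.suzukiOvoid F m)) :
    IsCyclic (Subgroup.centralizer ({g} : Set (Cfsg.Sz F m))) := by
  have : Finite (Cfsg.suzukiOvoid F m) := Finite.of_equiv _ (SuzukiBasic.ovoidEquiv F m)
  have H := hyp hm hF
  obtain ⟨p, k, hp, hpq, hk⟩ := H.exists_prime_pow hg
  rw [H.centralizer_eq_pow hp hpq hk]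
  obtain ⟨h1, h2⟩ := dvd_facts hm hF hp hpq
  exact SingerCentralizer.isCyclic_centralizer (rep F m) (rep_injective m) hp hk h1 h2

end Cfsg.Agent.LieExceptional.SuzukiHyp
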