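import Mathlib
import Cfsg.Prelude.Def_LieExceptional
import Cfsg.Agent.LieExceptional.SuzukiBasic

/-!
# The Sylow 2-subgroup `Q = {U a b}` of the Suzuki group and its structure
-/

set_option autoImplicit false

namespace Cfsg.Agent.LieExceptional.SuzukiSylow

open Cfsg Cfsg.Agent.LieExceptional.SuzukiBasic
open scoped commutatorElement

variable {F : Type*} [Field F] [Fintype F] {m : ℕ}

/-- if every element satisfies `a^σ = a` then the field has at most two elements -/
theorem exists_sigma_ne (hm : 1 ≤ m) (hF : Fintype.card F = 2 ^ (2 * m + 1)) :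
    ∃ a : F, a ^ 2 ^ (m + 1) ≠ a := by
  classical
  by_contra hcon
  push Not at hcon
  have h2 : ∀ a : F, a ^ 2 = a := fun a => by
    rw [← sigma_sigma hF a, hcon, hcon]
  have hsub : (Finset.univ : Finset F) ⊆ {0, 1} := by
    intro a _
    have h3 : a * (a - 1) = 0 := by
      have := h2 a
      linear_combination this
    rcases mul_eq_zero.1 h3 with h | h
    · simp [h]
    · simp [sub_eq_zero.1 h]
  have hcard : Fintype.card F ≤ 2 := by
    calc Fintype.card F = (Finset.univ : Finset F).card := rfl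
      _ ≤ ({0, 1} : Finset F).card := Finset.card_le_card hsub
      _ ≤ 2 := Finset.card_le_two
  rw [hF] at hcard
  have h8 : 2 ^ 3 ≤ 2 ^ (2 * m + 1) := Nat.pow_le_pow_right (by norm_num) (by omega)
  omega

/-- `k ↦ k^(σ+1)` is onto on the units -/
theorem exists_pow_sigma_add_one (hF : Fintype.card F = 2 ^ (2 * m + 1)) (l : F) (hl : l ≠ 0) :
    ∃ k : F, k ≠ 0 ∧ k ^ (2 ^ (m + 1) + 1) = l := by
  refine ⟨l ^ (2 ^ (m + 1) - 1), pow_ne_zero _ hl, ?_⟩
  rw [← pow_mul]
  have hq : l ^ (2 ^ (2 * m + 1) - 1) = 1 := by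
    rw [← hF]; exact FiniteField.pow_card_sub_one_eq_one l hl
  have hexp : (2 ^ (m + 1) - 1) * (2 ^ (m + 1) + 1) = 2 * (2 ^ (2 * m + 1) - 1) + 1 := by
    have h1 : 1 ≤ 2 ^ (m + 1) := Nat.one_le_two_pow
    have h2 : 1 ≤ 2 ^ (2 * m + 1) := Nat.one_le_two_pow
    have h3 : 2 ^ (m + 1) * 2 ^ (m + 1) = 2 * 2 ^ (2 * m + 1) := by
      rw [← pow_add, ← pow_succ']
      congr 1
      ring
    obtain ⟨s, hs⟩ := Nat.exists_eq_add_of_le h1
    obtain ⟨t, ht⟩ := Nat.exists_eq_add_of_le h2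
    rw [hs, ht] at h3
    rw [hs, ht]
    have h4 : 1 + s - 1 = s := by omega
    have h5 : 1 + t - 1 = t := by omega
    rw [h4, h5]
    nlinarith
  rw [hexp, pow_succ, mul_comm 2, pow_mul, hq, one_pow, one_mul]

/-- the elements `U a b` in the Suzuki group -/
def u (hF : Fintype.card F = 2 ^ (2 * m + 1)) (a b : F) : Sz F m := ⟨U m a b, U_mem hF a b⟩

theorem coe_u (hF : Fintype.card F = 2 ^ (2 * m + 1)) (a b : F) :
    ((u hF a b : Sz F m) : Matrix.SpecialLinearGroup (Fin 4) F) = U m a b := rfl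

theorem u_eq_iff (hF : Fintype.card F = 2 ^ (2 * m + 1)) (a b c d : F) :
    u hF a b = u hF c d ↔ a = c ∧ b = d := by
  rw [← U_eq_U_iff m a b c d]
  exact Subtype.ext_iff

theorem u_mul (hF : Fintype.card F = 2 ^ (2 * m + 1)) (a b c d : F) :
    u hF a b * u hF c d = u hF (a + c) (b + d + a ^ 2 ^ (m + 1) * c) :=
  Subtype.ext (U_mul hF a b c d)

theorem u_zero_zero (hF : Fintype.card F = 2 ^ (2 * m + 1)) : u hF (0 : F) 0 = 1 :=
  Subtype.ext (U_zero_zero m)

theorem u_inv (hF : Fintype.card F = 2 ^ (2 * m + 1)) (a b : F) :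
    (u hF a b)⁻¹ = u hF a (b + a ^ (2 ^ (m + 1) + 1)) :=
  Subtype.ext (U_inv hF a b)

/-- the subgroup `{U a b}` of the Suzuki group -/
def Q (hF : Fintype.card F = 2 ^ (2 * m + 1)) : Subgroup (Sz F m) where
  carrier := {g | ∃ a b, g = u hF a b}
  mul_mem' := by
    rintro _ _ ⟨a, b, rfl⟩ ⟨c, d, rfl⟩
    exact ⟨_, _, u_mul hF a b c d⟩
  one_mem' := ⟨0, 0, (u_zero_zero hF).symm⟩
  inv_mem' := by
    rintro _ ⟨a, b, rfl⟩
    exact ⟨_, _, u_inv hF a b⟩

theorem mem_Q_iff (hF : Fintype.card F = 2 ^ (2 * m + 1)) (g : Sz F m) :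
    g ∈ Q hF ↔ ∃ a b, g = u hF a b := Iff.rfl

/-- the parametrisation of `Q` -/
noncomputable def equivQ (hF : Fintype.card F = 2 ^ (2 * m + 1)) : F × F ≃ Q hF :=
  Equiv.ofBijective (fun t => ⟨u hF t.1 t.2, ⟨t.1, t.2, rfl⟩⟩) (by
    constructor
    · rintro ⟨a, b⟩ ⟨c, d⟩ h
      have h' : u hF a b = u hF c d := congrArg Subtype.val h
      obtain ⟨rfl, rfl⟩ := (u_eq_iff hF a b c d).1 h'
      rfl
    · rintro ⟨_, a, b, rfl⟩
      exact ⟨(a, b), rfl⟩)

theorem card_Q (hF : Fintype.card F = 2 ^ (2 * m + 1)) :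
    Nat.card (Q hF) = (2 ^ (2 * m + 1)) ^ 2 := by
  rw [← Nat.card_congr (equivQ hF), Nat.card_prod, Nat.card_eq_fintype_card, hF, sq]

theorem card_stabilizer_infinity (hm : 1 ≤ m) (hF : Fintype.card F = 2 ^ (2 * m + 1)) :
    Nat.card (MulAction.stabilizer (Cfsg.Sz F m) (Cfsg.suzukiPointInfinity F)) =
      (2 ^ (2 * m + 1)) ^ 2 * (2 ^ (2 * m + 1) - 1) := by
  classical
  let f : (F × F) × Fˣ → MulAction.stabilizer (Cfsg.Sz F m) (Cfsg.suzukiPointInfinity F) := fun t =>
    ⟨⟨U m t.1.1 t.1.2 * H m t.2, mul_mem (U_mem hF _ _) (H_mem hF _)⟩, by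
      show (U m t.1.1 t.1.2 * H m t.2) • suzukiPointInfinity F = suzukiPointInfinity F
      rw [mul_smul, H_smul_infinity, U_smul_infinity]⟩
  have hf : Function.Bijective f := by
    constructor
    · rintro ⟨⟨a, b⟩, k⟩ ⟨⟨a', b'⟩, k'⟩ h
      have h' : U m a b * H m k = U m a' b' * H m k' :=
        congrArg (fun z : MulAction.stabilizer (Cfsg.Sz F m) (Cfsg.suzukiPointInfinity F) =>
          ((z : Cfsg.Sz F m) : Matrix.SpecialLinearGroup (Fin 4) F)) h
      obtain ⟨rfl, rfl, rfl⟩ := U_mul_H_inj hF h'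
      rfl
    · rintro ⟨⟨g, hg⟩, hg'⟩
      have h1 : g • suzukiPointInfinity F = suzukiPointInfinity F := hg'
      obtain ⟨a, b, k, rfl⟩ := eq_U_mul_H_of_fix_infinity hm hF hg h1
      exact ⟨((a, b), k), rfl⟩
  rw [← Nat.card_congr (Equiv.ofBijective f hf), Nat.card_prod, Nat.card_prod, Nat.card_units,
    Nat.card_eq_fintype_card, hF]
  ring

theorem card_Sz (hm : 1 ≤ m) (hF : Fintype.card F = 2 ^ (2 * m + 1)) :
    Nat.card (Sz F m) =
      ((2 ^ (2 * m + 1)) ^ 2 + 1) * ((2 ^ (2 * m + 1)) ^ 2 * (2 ^ (2 * m + 1) - 1)) := by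
  have h2 := two_pretransitive (F := F) (m := m) hF
  have h1 : MulAction.IsPretransitive (Sz F m) (suzukiOvoid F m) := by
    have h2' : MulAction.IsMultiplyPretransitive (Sz F m) (suzukiOvoid F m) 1 :=
      MulAction.isMultiplyPretransitive_of_le (n := 2) (by norm_num) (by
        rw [ovoid_card, Nat.card_eq_fintype_card, hF]
        have : 1 ≤ (2 ^ (2 * m + 1)) ^ 2 := Nat.one_le_pow _ _ (by positivity)
        omega)
    exact MulAction.is_one_pretransitive_iff.1 h2'
  let p0 : suzukiOvoid F m := ⟨suzukiPointInfinity F, infinity_mem_ovoid m⟩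
  have h3 := MulAction.index_stabilizer_of_transitive (Sz F m) p0
  have h4 : MulAction.stabilizer (Sz F m) p0 =
      MulAction.stabilizer (Cfsg.Sz F m) (Cfsg.suzukiPointInfinity F) := by
    ext g
    rw [MulAction.mem_stabilizer_iff, MulAction.mem_stabilizer_iff]
    constructor
    · intro h
      have := congrArg (Subtype.val) h
      exact this
    · intro h
      exact Subtype.ext h
  rw [h4] at h3
  rw [← Subgroup.card_mul_index (MulAction.stabilizer (Cfsg.Sz F m) (Cfsg.suzukiPointInfinity F)),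
    h3, card_stabilizer_infinity hm hF, ovoid_card, Nat.card_eq_fintype_card, hF]
  ring

theorem isPGroup_Q (hF : Fintype.card F = 2 ^ (2 * m + 1)) : IsPGroup 2 (Q hF) := by
  apply IsPGroup.of_card (n := (2 * m + 1) * 2)
  rw [card_Q, pow_mul]

theorem index_Q (hm : 1 ≤ m) (hF : Fintype.card F = 2 ^ (2 * m + 1)) :
    (Q hF).index = ((2 ^ (2 * m + 1)) ^ 2 + 1) * (2 ^ (2 * m + 1) - 1) := by
  have h := Subgroup.card_mul_index (Q hF)
  rw [card_Sz hm hF, card_Q] at h
  have hpos : 0 < (2 ^ (2 * m + 1)) ^ 2 := by positivity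
  apply Nat.eq_of_mul_eq_mul_left hpos
  rw [h]
  ring

theorem not_two_dvd_index_Q (hm : 1 ≤ m) (hF : Fintype.card F = 2 ^ (2 * m + 1)) :
    ¬ 2 ∣ (Q hF).index := by
  rw [index_Q hm hF]
  intro h
  rcases (Nat.Prime.dvd_mul Nat.prime_two).1 h with h | h
  · have : 2 ∣ (2 ^ (2 * m + 1)) ^ 2 := by
      apply dvd_pow _ (by norm_num)
      exact dvd_pow_self 2 (by omega)
    omega
  · have : 2 ∣ 2 ^ (2 * m + 1) := dvd_pow_self 2 (by omega)
    have h1 : 1 ≤ 2 ^ (2 * m + 1) := Nat.one_le_two_pow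
    omega

/-- `Q` as a Sylow 2-subgroup -/
noncomputable def sylowQ (hm : 1 ≤ m) (hF : Fintype.card F = 2 ^ (2 * m + 1)) : Sylow 2 (Sz F m) :=
  (isPGroup_Q hF).toSylow (not_two_dvd_index_Q hm hF)

theorem coe_sylowQ (hm : 1 ≤ m) (hF : Fintype.card F = 2 ^ (2 * m + 1)) :
    (sylowQ hm hF : Subgroup (Sz F m)) = Q hF := rfl

/-- every Sylow 2-subgroup is isomorphic to `Q` -/
theorem nonempty_equiv_Q (hm : 1 ≤ m) (hF : Fintype.card F = 2 ^ (2 * m + 1))
    (P : Sylow 2 (Sz F m)) : Nonempty (P ≃* Q hF) := by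
  have : Fact (Nat.Prime 2) := ⟨Nat.prime_two⟩
  exact ⟨Sylow.equiv P (sylowQ hm hF)⟩

/-- elements of `Q` as elements of the subtype -/
def qu (hF : Fintype.card F = 2 ^ (2 * m + 1)) (a b : F) : Q hF := ⟨u hF a b, ⟨a, b, rfl⟩⟩

theorem qu_mul (hF : Fintype.card F = 2 ^ (2 * m + 1)) (a b c d : F) :
    qu hF a b * qu hF c d = qu hF (a + c) (b + d + a ^ 2 ^ (m + 1) * c) :=
  Subtype.ext (u_mul hF a b c d)

theorem qu_zero_zero (hF : Fintype.card F = 2 ^ (2 * m + 1)) : qu hF (0 : F) 0 = 1 :=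
  Subtype.ext (u_zero_zero hF)

theorem qu_inv (hF : Fintype.card F = 2 ^ (2 * m + 1)) (a b : F) :
    (qu hF a b)⁻¹ = qu hF a (b + a ^ (2 ^ (m + 1) + 1)) :=
  Subtype.ext (u_inv hF a b)

theorem qu_eq_iff (hF : Fintype.card F = 2 ^ (2 * m + 1)) (a b c d : F) :
    qu hF a b = qu hF c d ↔ a = c ∧ b = d := by
  rw [← u_eq_iff hF a b c d]
  exact Subtype.ext_iff

theorem exists_qu (hF : Fintype.card F = 2 ^ (2 * m + 1)) (g : Q hF) : ∃ a b, g = qu hF a b := by
  obtain ⟨_, a, b, rfl⟩ := g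
  exact ⟨a, b, rfl⟩

theorem qu_sq (hF : Fintype.card F = 2 ^ (2 * m + 1)) (a b : F) :
    qu hF a b ^ 2 = qu hF 0 (a ^ 2 ^ (m + 1) * a) := by
  rw [sq, qu_mul, add_self hF, add_self hF, zero_add]

theorem qu_pow_four (hF : Fintype.card F = 2 ^ (2 * m + 1)) (a b : F) :
    qu hF a b ^ 4 = 1 := by
  have h : qu hF a b ^ 4 = (qu hF a b ^ 2) ^ 2 := by rw [← pow_mul]
  rw [h, qu_sq, qu_sq, ← qu_zero_zero, qu_eq_iff]
  simp

theorem qu_commutator (hF : Fintype.card F = 2 ^ (2 * m + 1)) (a b c d : F) :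
    ⁅qu hF a b, qu hF c d⁆ = qu hF 0 (a ^ 2 ^ (m + 1) * c + c ^ 2 ^ (m + 1) * a) := by
  rw [commutatorElement_def, mul_assoc, ← mul_inv_rev, mul_inv_eq_iff_eq_mul, qu_mul, qu_mul,
    qu_mul, qu_eq_iff]
  refine ⟨by ring, ?_⟩
  have h0 : (0 : F) ^ 2 ^ (m + 1) = 0 := zero_pow (by positivity)
  have h2 := add_self hF (c ^ 2 ^ (m + 1) * a)
  rw [h0]
  linear_combination - h2

theorem exponent_Q (hF : Fintype.card F = 2 ^ (2 * m + 1)) : Monoid.exponent (Q hF) = 4 := by
  have h1 : Monoid.exponent (Q hF) ∣ 4 := by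
    apply Monoid.exponent_dvd_of_forall_pow_eq_one
    intro g
    obtain ⟨a, b, rfl⟩ := exists_qu hF g
    exact qu_pow_four hF a b
  have h2 : orderOf (qu hF (1 : F) 0) = 4 := by
    have := orderOf_eq_prime_pow (x := qu hF (1 : F) 0) (p := 2) (n := 1) (by
      rw [pow_one, qu_sq, ← qu_zero_zero, qu_eq_iff]
      simp) (by
      exact qu_pow_four hF _ _)
    simpa using this
  apply Nat.dvd_antisymm h1
  have h3 := Monoid.order_dvd_exponent (qu hF (1 : F) 0)
  rwa [h2] at h3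

theorem mem_center_Q_iff (hm : 1 ≤ m) (hF : Fintype.card F = 2 ^ (2 * m + 1)) (g : Q hF) :
    g ∈ Subgroup.center (Q hF) ↔ ∃ b, g = qu hF 0 b := by
  have h0 : (0 : F) ^ 2 ^ (m + 1) = 0 := zero_pow (by positivity)
  rw [Subgroup.mem_center_iff]
  constructor
  · intro h
    obtain ⟨a, b, rfl⟩ := exists_qu hF g
    refine ⟨b, ?_⟩
    have h1 : ∀ c : F, c ^ 2 ^ (m + 1) * a = a ^ 2 ^ (m + 1) * c := by
      intro c
      have := h (qu hF c 0)
      rw [qu_mul, qu_mul, qu_eq_iff] at this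
      linear_combination this.2
    by_cases ha : a = 0
    · rw [ha]
    · exfalso
      obtain ⟨c, hc⟩ := exists_sigma_ne hm hF
      have h2 := h1 1
      rw [one_pow, one_mul, mul_one] at h2
      have h3 := h1 c
      rw [← h2, mul_comm a c] at h3
      exact hc (mul_right_cancel₀ ha h3)
  · rintro ⟨b, rfl⟩ g
    obtain ⟨c, d, rfl⟩ := exists_qu hF g
    rw [qu_mul, qu_mul, qu_eq_iff, h0]
    refine ⟨by ring, by ring⟩

theorem center_Q_eq_commutator (hm : 1 ≤ m) (hF : Fintype.card F = 2 ^ (2 * m + 1)) :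
    Subgroup.center (Q hF) = commutator (Q hF) := by
  apply le_antisymm
  · intro g hg
    obtain ⟨b, rfl⟩ := (mem_center_Q_iff hm hF g).1 hg
    by_cases hb : b = 0
    · rw [hb, qu_zero_zero]
      exact one_mem _
    · obtain ⟨a, ha⟩ := exists_sigma_ne hm hF
      have ha' : a ^ 2 ^ (m + 1) + a ≠ 0 := by
        intro h
        apply ha
        have h2 := add_self hF a
        linear_combination h - h2
      obtain ⟨k, hk, hk'⟩ := exists_pow_sigma_add_one hF (b / (a ^ 2 ^ (m + 1) + a))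
        (div_ne_zero hb ha')
      have h1 : qu hF 0 b = ⁅qu hF (k * a) 0, qu hF k 0⁆ := by
        rw [qu_commutator, qu_eq_iff]
        refine ⟨rfl, ?_⟩
        rw [mul_pow]
        rw [eq_div_iff ha'] at hk'
        rw [pow_succ] at hk'
        linear_combination - hk'
      rw [h1]
      exact Subgroup.commutator_mem_commutator (Subgroup.mem_top _) (Subgroup.mem_top _)
  · rw [commutator_def, Subgroup.commutator_le]
    intro g _ h _
    obtain ⟨a, b, rfl⟩ := exists_qu hF g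
    obtain ⟨c, d, rfl⟩ := exists_qu hF h
    rw [mem_center_Q_iff hm hF, qu_commutator]
    exact ⟨_, rfl⟩

theorem card_center_Q (hm : 1 ≤ m) (hF : Fintype.card F = 2 ^ (2 * m + 1)) :
    Nat.card (Subgroup.center (Q hF)) = 2 ^ (2 * m + 1) := by
  let f : F → Subgroup.center (Q hF) := fun b => ⟨qu hF 0 b, (mem_center_Q_iff hm hF _).2 ⟨b, rfl⟩⟩
  have hf : Function.Bijective f := by
    constructor
    · intro b c h
      have h' : qu hF 0 b = qu hF 0 c := congrArg Subtype.val h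
      exact ((qu_eq_iff hF 0 b 0 c).1 h').2
    · rintro ⟨g, hg⟩
      obtain ⟨b, rfl⟩ := (mem_center_Q_iff hm hF g).1 hg
      exact ⟨b, rfl⟩
  rw [← Nat.card_congr (Equiv.ofBijective f hf), Nat.card_eq_fintype_card, hF]

/-- transport of `center = commutator` along an isomorphism -/
theorem center_eq_commutator_of_equiv {G H : Type*} [Group G] [Group H] (e : G ≃* H)
    (h : Subgroup.center H = commutator H) : Subgroup.center G = commutator G := by
  have h1 : Subgroup.map (e : G →* H) (commutator G) = commutator H := by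
    rw [commutator_def, commutator_def, Subgroup.map_commutator,
      Subgroup.map_top_of_surjective _ e.surjective]
  have h2 : Subgroup.map (e : G →* H) (Subgroup.center G) = Subgroup.center H := by
    ext x
    rw [Subgroup.mem_map]
    constructor
    · rintro ⟨g, hg, rfl⟩
      rw [Subgroup.mem_center_iff] at hg ⊢
      intro y
      obtain ⟨z, rfl⟩ := e.surjective y
      have := congrArg e (hg z)
      simpa using this
    · intro hx
      refine ⟨e.symm x, ?_, by simp⟩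
      rw [Subgroup.mem_center_iff] at hx ⊢
      intro g
      apply e.injective
      have := hx (e g)
      simpa using this
  have h3 : Function.Injective (Subgroup.map (e : G →* H)) := Subgroup.map_injective e.injective
  exact h3 (by rw [h1, h2, h])

end Cfsg.Agent.LieExceptional.SuzukiSylow
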