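import Mathlib
import Cfsg.Prelude.Def_LieExceptional
import Cfsg.Agent.LieExceptional.SuzukiBasic
import Cfsg.Agent.LieExceptional.SuzukiSylow
import Cfsg.Agent.LieExceptional.SuzukiHyp

/-!
# Centralisers in the Suzuki group
-/

set_option autoImplicit false

namespace Cfsg.Agent.LieExceptional.SuzukiCN

open scoped MatrixGroups Matrix
open Matrix MulAction
open Cfsg.Agent.LieExceptional Cfsg.Agent.LieExceptional.SuzukiBasic

theorem isNilpotent_of_conj_mem {G : Type*} [Group G] (C D : Subgroup G) (hD : Group.IsNilpotent D) (y : G)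
    (h : ∀ x ∈ C, y * x * y⁻¹ ∈ D) : Group.IsNilpotent C := by
  let f : C →* D :=
    { toFun := fun x => ⟨y * (x : G) * y⁻¹, h x x.2⟩
      map_one' := Subtype.ext (by show y * (1 : G) * y⁻¹ = 1; group)
      map_mul' := fun a b => Subtype.ext (by
        show y * ((a : G) * (b : G)) * y⁻¹ = y * (a : G) * y⁻¹ * (y * (b : G) * y⁻¹)
        group) }
  have hf : Function.Injective f := by
    intro a b hab
    have h1 : y * (a : G) * y⁻¹ = y * (b : G) * y⁻¹ := congrArg Subtype.val hab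
    exact Subtype.ext (mul_left_cancel (mul_right_cancel h1))
  have := hD
  refine Subgroup.isNilpotent_of_ker_le_center f ?_
  rw [(MonoidHom.ker_eq_bot_iff f).2 hf]
  exact bot_le

theorem isNilpotent_of_comm {G : Type*} [Group G] (C : Subgroup G)
    (h : ∀ a ∈ C, ∀ b ∈ C, a * b = b * a) : Group.IsNilpotent C := by
  let _ : CommGroup C :=
    { (inferInstance : Group C) with
      mul_comm := fun a b => Subtype.ext (h a a.2 b b.2) }
  exact CommGroup.isNilpotent

variable {F : Type*} [Field F] [Fintype F] {m : ℕ}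

/-- an element fixing infinity and nothing else on the ovoid is unipotent -/
theorem eq_U_of_fix_only_infinity (hm : 1 ≤ m) (hF : Fintype.card F = 2 ^ (2 * m + 1)) {g : SL(4, F)}
    (hg : g ∈ Cfsg.Sz F m) (h1 : g • Cfsg.suzukiPointInfinity F = Cfsg.suzukiPointInfinity F)
    (h : ∀ p ∈ Cfsg.suzukiOvoid F m, g • p = p → p = Cfsg.suzukiPointInfinity F) :
    ∃ a b : F, g = U m a b := by
  obtain ⟨a, b, k, rfl⟩ := eq_U_mul_H_of_fix_infinity hm hF hg h1
  by_cases hk : k = 1
  · exact ⟨a, b, by rw [hk, H_one, mul_one]⟩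
  · exfalso
    have := charP_two hF
    have hk1 : (k : F) + 1 ≠ 0 := by
      intro h2
      apply hk
      apply Units.ext
      rw [Units.val_one]
      exact CharTwo.add_eq_zero.1 h2
    have hk2 : (k : F) ^ (2 ^ (m + 1) + 1) + 1 ≠ 0 := by
      intro h2
      apply hk
      apply Units.ext
      rw [Units.val_one]
      exact eq_one_of_pow_sigma_add_one hF (CharTwo.add_eq_zero.1 h2)
    set x : F := a / (k + 1) with hx
    set c : F := b + a ^ 2 ^ (m + 1) * (k * x) with hc
    set y : F := c / ((k : F) ^ (2 ^ (m + 1) + 1) + 1) with hy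
    have ex : (k + 1) * x = a := by rw [hx]; field_simp
    have ey : ((k : F) ^ (2 ^ (m + 1) + 1) + 1) * y = c := by rw [hy]; field_simp
    refine pt_ne_infinity m x y (h _ (pt_mem_ovoid m x y) ?_)
    rw [mul_smul, H_smul_pt hF, U_smul_pt hF, pt_eq_pt_iff]
    constructor
    · have := CharTwo.add_self_eq_zero ((k : F) * x)
      rw [← ex]
      linear_combination this
    · have := CharTwo.add_self_eq_zero ((k : F) ^ (2 ^ (m + 1) + 1) * y)
      rw [add_assoc, ← hc, ← ey]
      linear_combination this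

theorem fixed_of_U (hF : Fintype.card F = 2 ^ (2 * m + 1)) {a b : F} (hab : ¬ (a = 0 ∧ b = 0))
    {p : Projectivization F (Fin 4 → F)} (hp : p ∈ Cfsg.suzukiOvoid F m) (h : U m a b • p = p) :
    p = Cfsg.suzukiPointInfinity F := by
  rcases (mem_ovoid_iff m _).1 hp with h2 | ⟨x, y, rfl⟩
  · exact h2
  · exfalso
    rw [U_smul_pt hF, pt_eq_pt_iff] at h
    obtain ⟨h3, h4⟩ := h
    have ha : a = 0 := by simpa using h3
    rw [ha, zero_pow (sigma_ne_zero m), zero_mul, add_zero] at h4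
    have hb : b = 0 := by simpa using h4
    exact hab ⟨ha, hb⟩

theorem eq_U_of_commute (hm : 1 ≤ m) (hF : Fintype.card F = 2 ^ (2 * m + 1)) {a b : F}
    (hab : ¬ (a = 0 ∧ b = 0)) {x : SL(4, F)} (hx : x ∈ Cfsg.Sz F m)
    (hc : x * U m a b = U m a b * x) : ∃ c d : F, x = U m c d := by
  have h1 : x • Cfsg.suzukiPointInfinity F = Cfsg.suzukiPointInfinity F := by
    apply fixed_of_U hF hab ((smul_mem_ovoid hx).2 (infinity_mem_ovoid m))
    rw [← mul_smul, ← hc, mul_smul, U_smul_infinity]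
  obtain ⟨c, d, l, rfl⟩ := eq_U_mul_H_of_fix_infinity hm hF hx h1
  rw [mul_assoc, H_mul_U hF, ← mul_assoc, U_mul hF, ← mul_assoc (U m a b), U_mul hF] at hc
  obtain ⟨h2, h3, -⟩ := U_mul_H_inj hF hc
  have h4 : (l : F) * a = a := by
    rw [add_comm a c] at h2
    exact add_left_cancel h2
  have hl : l = 1 := by
    apply Units.ext
    rw [Units.val_one]
    by_cases ha : a = 0
    · have hb : b ≠ 0 := fun hb => hab ⟨ha, hb⟩
      subst ha
      rw [zero_pow (sigma_ne_zero m), mul_zero, mul_zero, zero_mul, add_zero, add_zero, add_comm b d] at h3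
      have h5 := add_left_cancel h3
      exact eq_one_of_pow_sigma_add_one hF (mul_right_cancel₀ hb (by rw [h5, one_mul]))
    · exact mul_right_cancel₀ ha (by rw [h4, one_mul])
  exact ⟨c, d, by rw [hl, H_one, mul_one]⟩

theorem eq_H_of_commute (hm : 1 ≤ m) (hF : Fintype.card F = 2 ^ (2 * m + 1)) {k : Fˣ}
    (hk : k ≠ 1) {x : SL(4, F)} (hx : x ∈ Cfsg.Sz F m)
    (hc : x * H m k = H m k * x) : ∃ l : Fˣ, x = H m l := by
  have hfix : ∀ p ∈ Cfsg.suzukiOvoid F m, H m k • p = p →
      p = Cfsg.suzukiPointInfinity F ∨ p = Cfsg.suzukiPointZero F := by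
    intro p hp h
    by_contra hcon
    rw [not_or] at hcon
    exact hk ((H_fix_iff hF k hp hcon.1 hcon.2).1 h)
  have h1 := hfix (x • Cfsg.suzukiPointInfinity F) ((smul_mem_ovoid hx).2 (infinity_mem_ovoid m)) (by
    rw [← mul_smul, ← hc, mul_smul, H_smul_infinity])
  have h0 := hfix (x • Cfsg.suzukiPointZero F) ((smul_mem_ovoid hx).2 (zero_mem_ovoid m)) (by
    rw [← mul_smul, ← hc, mul_smul, H_smul_zero hF])
  rcases h1 with h1 | h1
  · rcases h0 with h0 | h0
    · exact absurd (MulAction.injective x (h1.trans h0.symm)).symm zero_ne_infinity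
    · exact eq_H_of_fix_two hm hF hx h1 h0
  · rcases h0 with h0 | h0
    · exfalso
      obtain ⟨l, hl⟩ := eq_H_of_fix_two hm hF (mul_mem (W_mem hF) hx)
        (by rw [mul_smul, h1, W_smul_zero]) (by rw [mul_smul, h0, W_smul_infinity])
      have hxl : x = W F * H m l := by
        rw [← hl, ← mul_assoc, W_mul_W, one_mul]
      rw [hxl, mul_assoc, H_mul, ← mul_assoc, ← inv_inv k, ← W_mul_H, mul_assoc, H_mul, inv_inv] at hc
      have h2 := (H_eq_H_iff hF _ _).1 (mul_left_cancel hc)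
      have h3 : k = k⁻¹ := by
        rw [mul_comm l k] at h2
        exact mul_right_cancel h2
      apply hk
      have h4 : k * k = 1 := by
        nth_rewrite 2 [h3]
        exact mul_inv_cancel k
      have := charP_two hF
      apply Units.ext
      have h5 : (k : F) * k = 1 := congrArg Units.val h4
      rw [Units.val_one]
      have h6 : ((k : F) + 1) ^ 2 = 0 := by
        rw [CharTwo.add_sq, one_pow, sq, h5]
        exact CharTwo.add_self_eq_zero 1
      exact CharTwo.add_eq_zero.1 (pow_eq_zero_iff (two_ne_zero)|>.1 h6)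
    · exact absurd (MulAction.injective x (h1.trans h0.symm)).symm zero_ne_infinity

theorem isCNGroup (hm : 1 ≤ m) (hF : Fintype.card F = 2 ^ (2 * m + 1)) :
    Cfsg.IsCNGroup (Cfsg.Sz F m) := by
  have : Finite (Cfsg.suzukiOvoid F m) := Finite.of_equiv _ (SuzukiBasic.ovoidEquiv F m)
  have HH := SuzukiHyp.hyp hm hF
  intro g hg
  by_cases hfree : g ∈ SuzukiTori.Hyp.free (Cfsg.Sz F m) (Cfsg.suzukiOvoid F m)
  · exact isNilpotent_of_comm _ (HH.comm_of_free hfree)
  rw [SuzukiTori.Hyp.mem_free_iff] at hfree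
  push Not at hfree
  obtain ⟨α, hα⟩ := hfree
  have hα' : (g : SL(4, F)) • (α : Projectivization F (Fin 4 → F)) = α := congrArg Subtype.val hα
  by_cases hβ : ∃ β : Cfsg.suzukiOvoid F m, β ≠ α ∧ g • β = β
  · obtain ⟨β, hβ1, hβ2⟩ := hβ
    have hβ' : (g : SL(4, F)) • (β : Projectivization F (Fin 4 → F)) = β := congrArg Subtype.val hβ2
    obtain ⟨y, hy, hyα, hyβ⟩ := exists_smul_eq hF α.2 β.2 (fun h => hβ1 (Subtype.ext h.symm))
    have hyα' : y⁻¹ • Cfsg.suzukiPointInfinity F = α := by rw [inv_smul_eq_iff, hyα]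
    have hyβ' : y⁻¹ • Cfsg.suzukiPointZero F = β := by rw [inv_smul_eq_iff, hyβ]
    obtain ⟨k, hk⟩ := eq_H_of_fix_two hm hF (mul_mem (mul_mem hy g.2) (inv_mem hy))
      (by rw [mul_smul, mul_smul, hyα', hα', hyα]) (by rw [mul_smul, mul_smul, hyβ', hβ', hyβ])
    have hk1 : k ≠ 1 := by
      rintro rfl
      apply hg
      apply Subtype.ext
      have : (g : SL(4, F)) = y⁻¹ * (y * g * y⁻¹) * y := by group
      rw [this, hk, H_one]
      show y⁻¹ * 1 * y = 1
      group
    have key : ∀ a ∈ Subgroup.centralizer ({g} : Set (Cfsg.Sz F m)),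
        ∃ l : Fˣ, y * (a : SL(4, F)) * y⁻¹ = H m l := by
      intro a ha
      have h1 : (a : SL(4, F)) * g = g * a :=
        congrArg Subtype.val (Subgroup.mem_centralizer_singleton_iff.1 ha)
      apply eq_H_of_commute hm hF hk1 (mul_mem (mul_mem hy a.2) (inv_mem hy))
      rw [← hk]
      have e1 : y * (a : SL(4, F)) * y⁻¹ * (y * g * y⁻¹) = y * (a * g) * y⁻¹ := by group
      have e2 : y * (g : SL(4, F)) * y⁻¹ * (y * a * y⁻¹) = y * (g * a) * y⁻¹ := by group
      rw [e1, e2, h1]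
    apply isNilpotent_of_comm
    intro a ha b hb
    obtain ⟨l₁, h₁⟩ := key a ha
    obtain ⟨l₂, h₂⟩ := key b hb
    apply Subtype.ext
    show (a : SL(4, F)) * b = b * a
    have e1 : (a : SL(4, F)) * b = y⁻¹ * ((y * a * y⁻¹) * (y * b * y⁻¹)) * y := by group
    have e2 : (b : SL(4, F)) * a = y⁻¹ * ((y * b * y⁻¹) * (y * a * y⁻¹)) * y := by group
    rw [e1, e2, h₁, h₂, H_mul, H_mul, mul_comm]
  · push Not at hβ
    have hnt : Nontrivial (Cfsg.suzukiOvoid F m) := by
      rw [← Finite.one_lt_card_iff_nontrivial, HH.card_set]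
      have : 0 < (2 ^ (2 * m + 1)) ^ 2 := by positivity
      omega
    obtain ⟨β, hβ1⟩ := exists_ne α
    obtain ⟨y, hy, hyα, -⟩ := exists_smul_eq hF α.2 β.2 (fun h => hβ1 (Subtype.ext h.symm))
    have hyα' : y⁻¹ • Cfsg.suzukiPointInfinity F = α := by rw [inv_smul_eq_iff, hyα]
    have hg' : y * (g : SL(4, F)) * y⁻¹ ∈ Cfsg.Sz F m := mul_mem (mul_mem hy g.2) (inv_mem hy)
    obtain ⟨a, b, hab⟩ := eq_U_of_fix_only_infinity hm hF hg'
      (by rw [mul_smul, mul_smul, hyα', hα', hyα]) (by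
        intro p hp hfix
        by_contra hne
        have hp' : y⁻¹ • p ∈ Cfsg.suzukiOvoid F m := (smul_mem_ovoid (inv_mem hy)).2 hp
        refine hβ ⟨y⁻¹ • p, hp'⟩ ?_ ?_
        · intro h
          have h1 : y⁻¹ • p = α := congrArg Subtype.val h
          apply hne
          rw [← hyα, ← h1, smul_inv_smul]
        · apply Subtype.ext
          show (g : SL(4, F)) • (y⁻¹ • p) = y⁻¹ • p
          rw [eq_inv_smul_iff, ← mul_smul, ← mul_smul]
          exact hfix)
    have hab0 : ¬ (a = 0 ∧ b = 0) := by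
      rintro ⟨rfl, rfl⟩
      rw [U_zero_zero] at hab
      apply hg
      apply Subtype.ext
      have : (g : SL(4, F)) = y⁻¹ * (y * g * y⁻¹) * y := by group
      rw [this, hab]
      show y⁻¹ * 1 * y = 1
      group
    have hQ : Group.IsNilpotent (SuzukiSylow.Q hF) := by
      have : Fact (Nat.Prime 2) := ⟨Nat.prime_two⟩
      exact IsPGroup.isNilpotent (SuzukiSylow.isPGroup_Q hF)
    refine isNilpotent_of_conj_mem _ (SuzukiSylow.Q hF) hQ ⟨y, hy⟩ ?_
    intro x hx
    have h1 : (x : SL(4, F)) * g = g * x :=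
      congrArg Subtype.val (Subgroup.mem_centralizer_singleton_iff.1 hx)
    obtain ⟨c, d, hcd⟩ := eq_U_of_commute hm hF hab0 (mul_mem (mul_mem hy x.2) (inv_mem hy)) (by
      rw [← hab]
      have e1 : y * (x : SL(4, F)) * y⁻¹ * (y * g * y⁻¹) = y * (x * g) * y⁻¹ := by group
      have e2 : y * (g : SL(4, F)) * y⁻¹ * (y * x * y⁻¹) = y * (g * x) * y⁻¹ := by group
      rw [e1, e2, h1])
    exact ⟨c, d, Subtype.ext hcd⟩

end Cfsg.Agent.LieExceptional.SuzukiCN
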