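import Mathlib
import Cfsg.Prelude.Def_LieExceptional

/-!
# The Suzuki group preserves the alternating form (tangent plane argument)

For `F` with `2^(2m+1)` elements let `s x = x^(2^(m+1))`, so `s (s x) = x^2`, and
`f x y = x y + x^(s+2) + y^s`.  The ovoid vectors are `(1,0,0,0)` and `(f x y, y, x, 1)`.
-/

set_option autoImplicit false

namespace Cfsg.Agent.LieExceptional.SuzukiForm

open Matrix
open scoped Pointwise

section alg

variable {F : Type*} [Field F]

/-- The function `x y + x^(s+2) + y^s` of the ovoid. -/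
def sf (s : F →+* F) (x y : F) : F := x * y + s x * x ^ 2 + s y

theorem sf_def (s : F →+* F) (x y : F) : sf s x y = x * y + s x * x ^ 2 + s y := rfl

variable (h2 : (2 : F) = 0) (s : F →+* F) (hs : ∀ x, s (s x) = x ^ 2)

include h2 hs in
theorem sf_eq_zero {x y : F} (h : sf s x y = 0) : x = 0 ∧ y = 0 := by
  rw [sf_def] at h
  have h' : s x * s y + x ^ 2 * (s x) ^ 2 + y ^ 2 = 0 := by
    have := congrArg s h
    simpa [map_add, map_mul, map_pow, hs] using this
  have h3 : y * (x * s x + y) = 0 := by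
    linear_combination h' - s x * h + (x * y * s x) * h2
  have hx0 : ∀ {z : F}, s z = 0 → z = 0 := fun hz => by
    simpa using hz
  rcases mul_eq_zero.mp h3 with hy | hy
  · subst hy
    have : s x * x ^ 2 = 0 := by simpa using h
    rcases mul_eq_zero.mp this with h4 | h4
    · exact ⟨hx0 h4, rfl⟩
    · exact ⟨by simpa using h4, rfl⟩
  · have hy2 : y = x * s x := by linear_combination hy - (x * s x) * h2
    have hsy : s y = s x * x ^ 2 := by
      rw [hy2, map_mul, hs]
    have : s x * x ^ 2 = 0 := by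
      rw [hsy, hy2] at h
      linear_combination h - (s x * x ^ 2) * h2
    rcases mul_eq_zero.mp this with h4 | h4
    · have := hx0 h4
      exact ⟨this, by rw [hy2, this]; simp⟩
    · have : x = 0 := by simpa using h4
      exact ⟨this, by rw [hy2, this]; simp⟩

theorem sf_zero_zero : sf s 0 0 = 0 := by simp [sf_def]

include h2 hs in
/-- `B(P(x,y), P(x+a,y+b)) = f(a, b + x^s a)`. -/
theorem sf_polar (x y a b : F) :
    sf s x y + y * (x + a) + x * (y + b) + sf s (x + a) (y + b) = sf s a (b + s x * a) := by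
  simp only [sf_def, map_add, map_mul, hs]
  linear_combination (x * y + y * a + x * b + s x * x ^ 2 + s y + x * y + s a * x ^ 2 * 0
    + s x * x * a + s a * x * a + x * y - x * y) * h2

include h2 hs in
/-- Inversion: with `φ = f(a,b) ≠ 0`, `f(b/φ, a/φ) = 1/φ`. -/
theorem sf_inv {a b : F} (h : sf s a b ≠ 0) :
    sf s (b / sf s a b) (a / sf s a b) = 1 / sf s a b := by
  have hφ : s (sf s a b) ≠ 0 := by simpa using h
  have key : a * b * s (sf s a b) + s b * b ^ 2 + s a * (sf s a b) ^ 2
      = s (sf s a b) * sf s a b := by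
    simp only [sf_def, map_add, map_mul, map_pow, hs]
    linear_combination (a * b * s a * s b + a ^ 3 * b * s a ^ 2) * h2
  generalize sf s a b = φ at *
  rw [sf_def, map_div₀, map_div₀]
  field_simp
  linear_combination key

include h2 hs in
/-- Uniqueness of the tangent plane at the affine point `(x,y)`. -/
theorem tangent_unique_affine {x y α β γ δ : F} (hα : α ≠ 0)
    (h0 : α * sf s x y + β * y + γ * x + δ = 0)
    (h : ∀ x' y', α * sf s x' y' + β * y' + γ * x' + δ = 0 → x' = x ∧ y' = y) :
    β = α * x ∧ γ = α * y ∧ δ = α * sf s x y := by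
  -- it suffices to have the first two
  suffices hh : β = α * x ∧ γ = α * y by
    refine ⟨hh.1, hh.2, ?_⟩
    rw [hh.1, hh.2] at h0
    linear_combination h0 - (α * x * y + α * sf s x y) * h2
  -- main construction
  obtain ⟨l, hl⟩ : ∃ l, l = β / α + x := ⟨_, rfl⟩
  obtain ⟨k, hk⟩ : ∃ k, k = γ / α + y + l * s x := ⟨_, rfl⟩
  have hβ : β = α * (l + x) := by
    rw [hl]; field_simp; linear_combination -(α * x) * h2
  have hγ : γ = α * (k + y + l * s x) := by
    rw [hk]; field_simp; linear_combination -(α * (y + l * s x)) * h2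
  by_cases hlk : l = 0 ∧ k = 0
  · rw [hβ, hγ, hlk.1, hlk.2]; simp
  exfalso
  -- choose A B with 1 + l A + k B = 0
  obtain ⟨A, B, hAB⟩ : ∃ A B : F, 1 + l * A + k * B = 0 := by
    by_cases hl0 : l = 0
    · have hk0 : k ≠ 0 := fun hk0 => hlk ⟨hl0, hk0⟩
      exact ⟨0, -1 / k, by field_simp; ring⟩
    · exact ⟨-1 / l, 0, by field_simp; ring⟩
  have hφ : sf s A B ≠ 0 := by
    intro h3
    obtain ⟨hA, hB⟩ := sf_eq_zero h2 s hs h3
    rw [hA, hB] at hAB
    simp at hAB
  have hinv := sf_inv h2 s hs hφ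
  obtain ⟨φ, hφe⟩ : ∃ φ, φ = sf s A B := ⟨_, rfl⟩
  rw [← hφe] at hφ hinv
  -- so f (B/φ) (A/φ) = 1/φ
  have hpol := sf_polar h2 s hs x y (B / φ) (A / φ + s x * (B / φ))
  have e1 : A / φ + s x * (B / φ) + s x * (B / φ) = A / φ := by
    linear_combination (s x * (B / φ)) * h2
  rw [e1, hinv] at hpol
  have hzero : α * sf s (x + B / φ) (y + (A / φ + s x * (B / φ)))
      + β * (y + (A / φ + s x * (B / φ))) + γ * (x + B / φ) + δ = 0 := by
    rw [hβ, hγ] at h0 ⊢
    have h4 : 1 / φ + l * (A / φ) + k * (B / φ) = 0 := by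
      field_simp
      linear_combination hAB
    linear_combination h0 + α * hpol + α * h4 + (α * (l * s x * (B / φ) - sf s x y - x * y)) * h2
  obtain ⟨h5, h6⟩ := h _ _ hzero
  have hB : B / φ = 0 := by simpa using h5
  have hA : A / φ = 0 := by
    rw [hB] at h6
    simpa using h6
  have hB' : B = 0 := by simpa [hφ] using hB
  have hA' : A = 0 := by simpa [hφ] using hA
  rw [hA', hB'] at hAB
  simp at hAB

/-- The ovoid vectors. -/
def IsOv (v : Fin 4 → F) : Prop :=
  v = ![1, 0, 0, 0] ∨ ∃ x y : F, v = ![sf s x y, y, x, 1]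

theorem isOv_def (v : Fin 4 → F) :
    IsOv s v ↔ (v = ![1, 0, 0, 0] ∨ ∃ x y : F, v = ![sf s x y, y, x, 1]) := Iff.rfl

theorem isOv_inf : IsOv s ![1, 0, 0, 0] := Or.inl rfl

theorem isOv_pt (x y : F) : IsOv s ![sf s x y, y, x, 1] := Or.inr ⟨x, y, rfl⟩

theorem form_mulVec (v : Fin 4 → F) : suzukiForm F *ᵥ v = ![v 3, v 2, v 1, v 0] := by
  ext i
  fin_cases i <;> simp [suzukiForm, Matrix.mulVec, dotProduct, Fin.sum_univ_four]

theorem form_apply (u v : Fin 4 → F) :
    u ⬝ᵥ (suzukiForm F *ᵥ v) = u 0 * v 3 + u 1 * v 2 + u 2 * v 1 + u 3 * v 0 := by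
  rw [form_mulVec]
  simp [dotProduct, Fin.sum_univ_four]

include h2 hs in
/-- Two ovoid vectors are orthogonal iff they are equal. -/
theorem ov_orthogonal_iff {v w : Fin 4 → F} (hv : IsOv s v) (hw : IsOv s w) :
    v ⬝ᵥ (suzukiForm F *ᵥ w) = 0 ↔ v = w := by
  rw [form_apply]
  rcases hv with rfl | ⟨x, y, rfl⟩ <;> rcases hw with rfl | ⟨x', y', rfl⟩
  · simp
  · simp only [Matrix.cons_val]
    constructor
    · intro h
      simp at h
    · intro h
      have := congrFun h 3
      simp at this
  · simp only [Matrix.cons_val]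
    constructor
    · intro h
      simp at h
    · intro h
      have := congrFun h 3
      simp at this
  · simp only [Matrix.cons_val]
    constructor
    · intro h
      have hpol := sf_polar h2 s hs x y (x + x') (y + y')
      have e1 : x + (x + x') = x' := by linear_combination x * h2
      have e2 : y + (y + y') = y' := by linear_combination y * h2
      rw [e1, e2] at hpol
      have h3 : sf s (x + x') (y + y' + s x * (x + x')) = 0 := by
        rw [← hpol]
        linear_combination h
      obtain ⟨h4, h5⟩ := sf_eq_zero h2 s hs h3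
      have hx : x = x' := by linear_combination h4 - x' * h2
      have hy : y = y' := by
        rw [h4] at h5
        linear_combination h5 - y' * h2
      rw [hx, hy]
    · intro h
      have hx := congrFun h 2
      have hy := congrFun h 1
      simp only [Matrix.cons_val] at hx hy
      subst hx hy
      linear_combination (sf s x y + x * y) * h2

/-- Ovoid vectors are normalised: proportional ones are equal. -/
theorem ov_scale {v w : Fin 4 → F} (hv : IsOv s v) (hw : IsOv s w) {c : F} (h : v = c • w) :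
    v = w := by
  rcases hv with rfl | ⟨x, y, rfl⟩ <;> rcases hw with rfl | ⟨x', y', rfl⟩
  · rfl
  · have h3 := congrFun h 3
    have h0 := congrFun h 0
    simp at h3
    rw [← h3] at h0
    simp at h0
  · have h3 := congrFun h 3
    simp at h3
  · have h3 := congrFun h 3
    simp at h3
    rw [← h3, one_smul] at h
    exact h

include h2 hs in
/-- Uniqueness of tangent planes: a covector `u` whose plane meets the ovoid exactly in `p` is
proportional to `J p`. -/
theorem tangent_unique (u p : Fin 4 → F) (hp : IsOv s p) (h0 : u ⬝ᵥ p = 0)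
    (h : ∀ r, IsOv s r → u ⬝ᵥ r = 0 → r = p) : ∃ c : F, u = c • (suzukiForm F *ᵥ p) := by
  rcases hp with rfl | ⟨x, y, rfl⟩
  · have hu0 : u 0 = 0 := by simpa [dotProduct, Fin.sum_univ_four] using h0
    have key : ∀ x y : F, u 1 * y + u 2 * x + u 3 ≠ 0 := by
      intro x y h1
      have := h _ (isOv_pt s x y) (by
        simp only [dotProduct, Fin.sum_univ_four, Matrix.cons_val, hu0]
        linear_combination h1)
      have := congrFun this 3
      simp at this
    have hu1 : u 1 = 0 := by
      by_contra h1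
      exact key 0 (-u 3 / u 1) (by field_simp; ring)
    have hu2 : u 2 = 0 := by
      by_contra h1
      exact key (-u 3 / u 2) 0 (by field_simp; ring)
    refine ⟨u 3, ?_⟩
    rw [form_mulVec]
    ext i
    fin_cases i <;> simp [hu0, hu1, hu2]
  · have hα : u 0 ≠ 0 := by
      intro hu0
      have := h _ (isOv_inf s) (by simp [dotProduct, Fin.sum_univ_four, hu0])
      have := congrFun this 3
      simp at this
    have := tangent_unique_affine h2 s hs (x := x) (y := y) (α := u 0) (β := u 1) (γ := u 2)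
      (δ := u 3) hα (by
        simp only [dotProduct, Fin.sum_univ_four, Matrix.cons_val] at h0
        linear_combination h0) (by
        intro x' y' h1
        have h3 := h _ (isOv_pt s x' y') (by
          simp only [dotProduct, Fin.sum_univ_four, Matrix.cons_val]
          linear_combination h1)
        have hx := congrFun h3 2
        have hy := congrFun h3 1
        simp only [Matrix.cons_val] at hx hy
        exact ⟨hx, hy⟩)
    obtain ⟨hb, hc, hd⟩ := this
    refine ⟨u 0, ?_⟩
    rw [form_mulVec]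
    ext i
    fin_cases i <;> simp [hb, hc, hd]

include hs in
theorem s_fixed {t : F} (h : s t = t) : t = 0 ∨ t = 1 := by
  have h1 := hs t
  rw [h, h] at h1
  have : t * (t - 1) = 0 := by linear_combination -h1
  rcases mul_eq_zero.mp this with h3 | h3
  · exact Or.inl h3
  · exact Or.inr (by linear_combination h3)

include hs in
/-- A matrix mapping each ovoid vector `p` to a multiple of `J p` is a multiple of `J`. -/
theorem scalar_of_ov (hF : ∃ t : F, t ≠ 0 ∧ t ≠ 1) (A : Matrix (Fin 4) (Fin 4) F)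
    (hA : ∀ p, IsOv s p → ∃ c : F, A *ᵥ p = c • (suzukiForm F *ᵥ p)) :
    ∃ c : F, A = c • suzukiForm F := by
  obtain ⟨t, ht0, ht1⟩ := hF
  have hst : s t ≠ t := fun h => (s_fixed s hs h).elim ht0 ht1
  -- column 0
  obtain ⟨a, ha⟩ := hA _ (isOv_inf s)
  have ha0 := congrFun ha 0
  have ha1 := congrFun ha 1
  have ha2 := congrFun ha 2
  have ha3 := congrFun ha 3
  simp [form_mulVec, Matrix.mulVec, dotProduct, Fin.sum_univ_four] at ha0 ha1 ha2 ha3
  obtain ⟨d, hd⟩ := hA _ (isOv_pt s 0 0)
  have hd0 := congrFun hd 0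
  have hd1 := congrFun hd 1
  have hd2 := congrFun hd 2
  have hd3 := congrFun hd 3
  simp [form_mulVec, Matrix.mulVec, dotProduct, Fin.sum_univ_four, sf_zero_zero] at hd0 hd1 hd2 hd3
  obtain ⟨c, hc⟩ := hA _ (isOv_pt s 0 1)
  have hc0 := congrFun hc 0
  have hc1 := congrFun hc 1
  have hc2 := congrFun hc 2
  have hc3 := congrFun hc 3
  simp [form_mulVec, Matrix.mulVec, dotProduct, Fin.sum_univ_four, sf_def] at hc0 hc1 hc2 hc3
  obtain ⟨e, he⟩ := hA _ (isOv_pt s 0 t)
  have he0 := congrFun he 0
  have he1 := congrFun he 1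
  have he2 := congrFun he 2
  have he3 := congrFun he 3
  simp [form_mulVec, Matrix.mulVec, dotProduct, Fin.sum_univ_four, sf_def] at he0 he1 he2 he3
  obtain ⟨c', hc'⟩ := hA _ (isOv_pt s 1 0)
  have hc'0 := congrFun hc' 0
  have hc'1 := congrFun hc' 1
  have hc'2 := congrFun hc' 2
  have hc'3 := congrFun hc' 3
  simp [form_mulVec, Matrix.mulVec, dotProduct, Fin.sum_univ_four, sf_def] at hc'0 hc'1 hc'2 hc'3
  obtain ⟨e', he'⟩ := hA _ (isOv_pt s t 0)
  have he'0 := congrFun he' 0
  have he'1 := congrFun he' 1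
  have he'2 := congrFun he' 2
  have he'3 := congrFun he' 3
  simp [form_mulVec, Matrix.mulVec, dotProduct, Fin.sum_univ_four, sf_def] at he'0 he'1 he'2 he'3
  have ht1' : t - 1 ≠ 0 := sub_ne_zero.mpr ht1
  have hst' : s t - t ≠ 0 := sub_ne_zero.mpr hst
  have A11 : A 1 1 = 0 := by linear_combination hc1 - ha1 - hd1
  have A21 : A 2 1 = c := by linear_combination hc2 - ha2 - hd2
  have A31 : A 3 1 = c - a := by linear_combination hc3 - ha3 - hd3
  have A01 : A 0 1 = c - d := by linear_combination hc0 - ha0 - hd0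
  have hec : e = c := by
    have : t * (e - c) = 0 := by
      rw [ha2, hd2, A21] at he2
      linear_combination -he2
    rcases mul_eq_zero.mp this with h | h
    · exact absurd h ht0
    · linear_combination h
  have hca : c = a := by
    have : (s t - t) * (c - a) = 0 := by
      rw [ha3, hd3, A31, hec] at he3
      linear_combination -he3
    rcases mul_eq_zero.mp this with h | h
    · exact absurd h hst'
    · linear_combination h
  have hcd : c = d := by
    have : (t - 1) * (c - d) = 0 := by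
      rw [ha0, hd0, A01, hec] at he0
      linear_combination he0
    rcases mul_eq_zero.mp this with h | h
    · exact absurd h ht1'
    · linear_combination h
  have A02 : A 0 2 = c' - d := by linear_combination hc'0 - ha0 - hd0
  have A12 : A 1 2 = c' := by linear_combination hc'1 - ha1 - hd1
  have A22 : A 2 2 = 0 := by linear_combination hc'2 - ha2 - hd2
  have A32 : A 3 2 = c' - a := by linear_combination hc'3 - ha3 - hd3
  have he'c' : e' = c' := by
    have : t * (e' - c') = 0 := by
      rw [ha1, hd1, A12] at he'1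
      linear_combination -he'1
    rcases mul_eq_zero.mp this with h | h
    · exact absurd h ht0
    · linear_combination h
  have hc'd : c' = d := by
    have : (t - 1) * (c' - d) = 0 := by
      rw [ha0, hd0, A02, he'c'] at he'0
      linear_combination he'0
    rcases mul_eq_zero.mp this with h | h
    · exact absurd h ht1'
    · linear_combination h
  have hda : d = a := by rw [← hcd, hca]
  refine ⟨a, ?_⟩
  subst hc'd hda hcd
  ext i j
  fin_cases i <;> fin_cases j <;> simp [suzukiForm, *]

end alg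

section grp

variable {F : Type*} [Field F]

/-- Membership of a point in the Suzuki ovoid, in terms of ovoid vectors. -/
theorem mem_ovoid_iff (s : F →+* F) (m : ℕ) (hsm : ∀ x, s x = x ^ (2 ^ (m + 1)))
    (v : Fin 4 → F) (hv : v ≠ 0) :
    Projectivization.mk F v hv ∈ suzukiOvoid F m ↔ ∃ w, IsOv s w ∧ ∃ c : F, c ≠ 0 ∧ v = c • w := by
  have hw : ∀ w : Fin 4 → F, (w = ![1, 0, 0, 0] ∨
      ∃ x y : F, w = ![x * y + x ^ (2 ^ (m + 1) + 2) + y ^ (2 ^ (m + 1)), y, x, 1]) ↔ IsOv s w := by
    intro w
    rw [isOv_def]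
    refine or_congr Iff.rfl ?_
    constructor
    · rintro ⟨x, y, h⟩
      refine ⟨x, y, ?_⟩
      rw [h, sf_def, hsm, hsm, pow_add x (2 ^ (m + 1)) 2]
    · rintro ⟨x, y, h⟩
      refine ⟨x, y, ?_⟩
      rw [h, sf_def, hsm, hsm, pow_add x (2 ^ (m + 1)) 2]
  constructor
  · rintro ⟨w, hw0, hw1, hw2⟩
    rw [Projectivization.mk_eq_mk_iff] at hw1
    obtain ⟨c, hc⟩ := hw1
    refine ⟨w, (hw w).1 hw2, c, c.ne_zero, ?_⟩
    rw [← hc]
    rfl
  · rintro ⟨w, hw2, c, hc0, hc⟩
    have hw0 : w ≠ 0 := by
      rintro rfl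
      exact hv (by rw [hc]; simp)
    refine ⟨w, hw0, ?_, (hw w).2 hw2⟩
    rw [Projectivization.mk_eq_mk_iff]
    exact ⟨Units.mk0 c hc0, by rw [hc]; rfl⟩

theorem ov_ne_zero (s : F →+* F) {v : Fin 4 → F} (hv : IsOv s v) : v ≠ 0 := by
  rcases hv with rfl | ⟨x, y, rfl⟩
  · intro h
    have := congrFun h 0
    simp at this
  · intro h
    have := congrFun h 3
    simp at this

/-- Elements of the Suzuki group map ovoid vectors to multiples of ovoid vectors. -/
theorem sz_map_ov (s : F →+* F) (m : ℕ) (hsm : ∀ x, s x = x ^ (2 ^ (m + 1)))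
    {g : Matrix.SpecialLinearGroup (Fin 4) F} (hg : g ∈ Cfsg.Sz F m) {v : Fin 4 → F}
    (hv : IsOv s v) : ∃ w, IsOv s w ∧ ∃ c : F, c ≠ 0 ∧ (g : Matrix (Fin 4) (Fin 4) F) *ᵥ v = c • w := by
  have hv0 := ov_ne_zero s hv
  have h1 : Projectivization.mk F v hv0 ∈ suzukiOvoid F m := by
    rw [mem_ovoid_iff s m hsm]
    exact ⟨v, hv, 1, one_ne_zero, by simp⟩
  have h2 : g • Projectivization.mk F v hv0 ∈ suzukiOvoid F m := by
    have hg' : g • suzukiOvoid F m = suzukiOvoid F m := hg
    rw [← hg']
    exact Set.smul_mem_smul_set h1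
  have h3 : g • Projectivization.mk F v hv0 = Projectivization.mk F
    ((g : Matrix (Fin 4) (Fin 4) F) *ᵥ v) (by
      intro h
      exact ((smul_ne_zero_iff_ne g).mpr hv0) (by exact h)) := rfl
  rw [h3, mem_ovoid_iff s m hsm] at h2
  exact h2

/-- **The Suzuki group preserves the form** (field endomorphism version). -/
theorem sz_preserves_form (h2 : (2 : F) = 0) (s : F →+* F) (hs : ∀ x, s (s x) = x ^ 2) (m : ℕ)
    (hsm : ∀ x, s x = x ^ (2 ^ (m + 1))) (hF : ∃ t : F, t ≠ 0 ∧ t ≠ 1)
    {g : Matrix.SpecialLinearGroup (Fin 4) F} (hg : g ∈ Cfsg.Sz F m) :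
    (g : Matrix (Fin 4) (Fin 4) F).transpose * suzukiForm F * (g : Matrix (Fin 4) (Fin 4) F) =
      suzukiForm F := by
  obtain ⟨c, hc⟩ := scalar_of_ov s hs hF
    ((g : Matrix (Fin 4) (Fin 4) F).transpose * suzukiForm F * (g : Matrix (Fin 4) (Fin 4) F)) (by
    intro p hp
    refine tangent_unique h2 s hs _ p hp ?_ ?_
    · obtain ⟨w, hw, a, ha, haw⟩ := sz_map_ov s m hsm hg hp
      rw [← Matrix.mulVec_mulVec, ← Matrix.mulVec_mulVec, haw, dotProduct_comm,
        Matrix.dotProduct_mulVec, Matrix.vecMul_transpose, haw, Matrix.mulVec_smul]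
      simp only [smul_dotProduct, dotProduct_smul]
      rw [(ov_orthogonal_iff h2 s hs hw hw).2 rfl]
      simp
    · intro r hr h0
      obtain ⟨w, hw, a, ha, haw⟩ := sz_map_ov s m hsm hg hp
      obtain ⟨w', hw', a', ha', haw'⟩ := sz_map_ov s m hsm hg hr
      rw [← Matrix.mulVec_mulVec, ← Matrix.mulVec_mulVec, haw, dotProduct_comm,
        Matrix.dotProduct_mulVec, Matrix.vecMul_transpose, haw', Matrix.mulVec_smul] at h0
      simp only [smul_dotProduct, dotProduct_smul] at h0
      have h3 : w' ⬝ᵥ (suzukiForm F *ᵥ w) = 0 := by simpa [ha, ha'] using h0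
      have h4 := (ov_orthogonal_iff h2 s hs hw' hw).1 h3
      -- g r = a' w, g p = a w so r = (a'/a) p
      have h5 : (g : Matrix (Fin 4) (Fin 4) F) *ᵥ r
          = (g : Matrix (Fin 4) (Fin 4) F) *ᵥ ((a' / a) • p) := by
        rw [Matrix.mulVec_smul, haw, haw', h4, smul_smul]
        congr 1
        field_simp
      have h6 : r = (a' / a) • p := by
        have h7 := congrArg (fun v => ((g⁻¹ : Matrix.SpecialLinearGroup (Fin 4) F) :
          Matrix (Fin 4) (Fin 4) F) *ᵥ v) h5
        simp only [Matrix.mulVec_mulVec] at h7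
        rw [← Matrix.SpecialLinearGroup.coe_mul, inv_mul_cancel] at h7
        simpa using h7
      exact ov_scale s hr hp h6)
  have hdetJ : (suzukiForm F).det = 1 := by
    rw [suzukiForm]
    simp [Matrix.det_succ_row_zero, Fin.sum_univ_succ]
    simp [Fin.succAbove, Fin.lt_def]
    norm_num
  have hdet := congrArg Matrix.det hc
  rw [Matrix.det_mul, Matrix.det_mul, Matrix.det_transpose, Matrix.det_smul, hdetJ,
    Matrix.SpecialLinearGroup.det_coe] at hdet
  simp only [Fintype.card_fin, mul_one] at hdet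
  have hc1 : (c - 1) ^ 4 = 0 := by
    linear_combination -hdet - (2 * c ^ 3 - 3 * c ^ 2 + 2 * c - 1) * h2
  have hc2 : c = 1 := by
    have := pow_eq_zero_iff (n := 4) (by norm_num) |>.1 hc1
    linear_combination this
  rw [hc, hc2, one_smul]

/-- Characteristic 2 from the order. -/
theorem two_eq_zero [Fintype F] {n : ℕ} (hn : n ≠ 0) (hF : Fintype.card F = 2 ^ n) : (2 : F) = 0 := by
  have h1 : ((Fintype.card F : ℕ) : F) = 0 := by
    simp
  rw [hF] at h1
  push_cast at h1
  exact pow_eq_zero_iff hn |>.1 h1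

/-- The endomorphism `x ↦ x^(2^(m+1))`. -/
noncomputable def sEnd (F : Type*) [Field F] [CharP F 2] (m : ℕ) : F →+* F :=
  iterateFrobenius F 2 (m + 1)

theorem sEnd_apply [CharP F 2] (m : ℕ) (x : F) : sEnd F m x = x ^ (2 ^ (m + 1)) := rfl

theorem charP_two [Fintype F] {n : ℕ} (hn : n ≠ 0) (hF : Fintype.card F = 2 ^ n) : CharP F 2 :=
  CharTwo.of_one_ne_zero_of_two_eq_zero one_ne_zero (two_eq_zero hn hF)

theorem sEnd_sEnd [Fintype F] [CharP F 2] (m : ℕ) (hF : Fintype.card F = 2 ^ (2 * m + 1)) (x : F) :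
    sEnd F m (sEnd F m x) = x ^ 2 := by
  rw [sEnd_apply, sEnd_apply, ← pow_mul, ← pow_add,
    show m + 1 + (m + 1) = (2 * m + 1) + 1 by ring, pow_succ, pow_mul, ← hF, FiniteField.pow_card]

theorem exists_ne_zero_ne_one [Fintype F] {m : ℕ} (hm : 1 ≤ m)
    (hF : Fintype.card F = 2 ^ (2 * m + 1)) : ∃ t : F, t ≠ 0 ∧ t ≠ 1 := by
  classical
  by_contra h
  push Not at h
  have h1 : (Finset.univ : Finset F) ⊆ {0, 1} := by
    intro t _
    by_cases ht : t = 0
    · simp [ht]
    · simp [h t ht]
  have h2 := Finset.card_le_card h1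
  rw [Finset.card_univ, hF] at h2
  have h3 : Finset.card ({0, 1} : Finset F) ≤ 2 := Finset.card_le_two
  have h4 : 2 ^ 3 ≤ 2 ^ (2 * m + 1) := Nat.pow_le_pow_right (by norm_num) (by omega)
  omega

/-- **The Suzuki group preserves the form.** -/
theorem suzuki_preserves_form [Fintype F] {m : ℕ} (hm : 1 ≤ m)
    (hF : Fintype.card F = 2 ^ (2 * m + 1)) {g : Matrix.SpecialLinearGroup (Fin 4) F}
    (hg : g ∈ Cfsg.Sz F m) :
    (g : Matrix (Fin 4) (Fin 4) F).transpose * Cfsg.suzukiForm F * (g : Matrix (Fin 4) (Fin 4) F) =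
      Cfsg.suzukiForm F := by
  have : CharP F 2 := charP_two (by omega) hF
  exact sz_preserves_form (two_eq_zero (by omega) hF) (sEnd F m) (sEnd_sEnd m hF) m
    (sEnd_apply m) (exists_ne_zero_ne_one hm hF) hg

end grp

end Cfsg.Agent.LieExceptional.SuzukiForm
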