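import Mathlib
import Cfsg.Prelude.Def_LieExceptional
import Cfsg.Agent.LieExceptional.SuzukiForm

/-!
# The stabiliser of two points in the Suzuki group

An element of `Sz F m` that fixes the points spanned by `(1,0,0,0)` and `(0,0,0,1)` is the diagonal matrix
`diag(k^(2^m+1), k^(2^m), k^(-2^m), k^(-(2^m+1)))` for some unit `k`.
-/

set_option autoImplicit false

namespace Cfsg.Agent.LieExceptional.SuzukiTwoPoint

open scoped MatrixGroups Matrix
open Matrix Cfsg

variable {F : Type*} [Field F] [Fintype F] {m : ℕ}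

theorem charP_two (hF : Fintype.card F = 2 ^ (2 * m + 1)) : CharP F 2 := by
  have : Fact (Nat.Prime 2) := ⟨Nat.prime_two⟩
  exact charP_of_card_eq_prime_pow hF

/-- comparison of the coefficients of three monomials of degree less than the order of the field -/
theorem coeff_zero (hm : 1 ≤ m) (hF : Fintype.card F = 2 ^ (2 * m + 1)) {A B C : F}
    (h : ∀ y : F, A * y ^ 2 + B * y ^ (2 ^ (m + 1) + 2) + C * y ^ 2 ^ (m + 1) = 0) :
    B = 0 ∧ C = 0 := by
  classical
  have h4 : 4 ≤ 2 ^ (m + 1) := by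
    calc 4 = 2 ^ 2 := by norm_num
      _ ≤ 2 ^ (m + 1) := Nat.pow_le_pow_right (by norm_num) (by omega)
  have hlt : 2 ^ (m + 1) + 2 < 2 ^ (2 * m + 1) := by
    have : 2 ^ (2 * m + 1) = 2 ^ (m + 1) * 2 ^ m := by rw [← pow_add]; congr 1; omega
    have h2 : 2 ≤ 2 ^ m := by
      calc 2 = 2 ^ 1 := by norm_num
        _ ≤ 2 ^ m := Nat.pow_le_pow_right (by norm_num) hm
    rw [this]
    nlinarith
  generalize hs : 2 ^ (m + 1) = s at *
  let P : Polynomial F := Polynomial.C A * Polynomial.X ^ 2 + Polynomial.C B * Polynomial.X ^ (s + 2) +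
    Polynomial.C C * Polynomial.X ^ s
  have hdeg : P.natDegree ≤ s + 2 := by
    apply Polynomial.natDegree_add_le_of_degree_le
    · apply Polynomial.natDegree_add_le_of_degree_le
      · exact (Polynomial.natDegree_C_mul_X_pow_le _ _).trans (by omega)
      · exact (Polynomial.natDegree_C_mul_X_pow_le _ _)
    · exact (Polynomial.natDegree_C_mul_X_pow_le _ _).trans (by omega)
  have hP : P = 0 := by
    apply Polynomial.eq_zero_of_natDegree_lt_card_of_eval_eq_zero P Function.injective_id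
    · intro y
      simp [P, h y]
    · rw [hF]; omega
  constructor
  · have := congrArg (fun Q => Polynomial.coeff Q (s + 2)) hP
    have h0 : s ≠ 0 := by omega
    simpa [P, Polynomial.coeff_X_pow, Polynomial.coeff_C, h0] using! this
  · have := congrArg (fun Q => Polynomial.coeff Q s) hP
    have h2 : s ≠ 2 := by omega
    simpa [P, Polynomial.coeff_X_pow, h2] using! this

theorem infinity_eq {F : Type*} [Field F] (g : SL(4, F))
    (h1 : g • suzukiPointInfinity F = suzukiPointInfinity F) :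
    (g : Matrix (Fin 4) (Fin 4) F) 1 0 = 0 ∧ (g : Matrix (Fin 4) (Fin 4) F) 2 0 = 0 ∧
      (g : Matrix (Fin 4) (Fin 4) F) 3 0 = 0 := by
  unfold suzukiPointInfinity at h1
  rw [Projectivization.smul_mk, Projectivization.mk_eq_mk_iff] at h1
  obtain ⟨a, ha⟩ := h1
  rw [Matrix.SpecialLinearGroup.smul_def] at ha
  have e : ∀ i : Fin 4, ((g : Matrix (Fin 4) (Fin 4) F) • (![1, 0, 0, 0] : Fin 4 → F)) i =
      (g : Matrix (Fin 4) (Fin 4) F) i 0 := by
    intro i
    show ((g : Matrix (Fin 4) (Fin 4) F) *ᵥ ![1, 0, 0, 0]) i = _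
    simp [Matrix.mulVec, dotProduct, Fin.sum_univ_four]
  refine ⟨?_, ?_, ?_⟩
  · rw [← e 1, ← ha]; simp [Units.smul_def]
  · rw [← e 2, ← ha]; simp [Units.smul_def]
  · rw [← e 3, ← ha]; simp [Units.smul_def]

theorem zero_eq {F : Type*} [Field F] (g : SL(4, F))
    (h1 : g • suzukiPointZero F = suzukiPointZero F) :
    (g : Matrix (Fin 4) (Fin 4) F) 0 3 = 0 ∧ (g : Matrix (Fin 4) (Fin 4) F) 1 3 = 0 ∧
      (g : Matrix (Fin 4) (Fin 4) F) 2 3 = 0 := by
  unfold suzukiPointZero at h1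
  rw [Projectivization.smul_mk, Projectivization.mk_eq_mk_iff] at h1
  obtain ⟨a, ha⟩ := h1
  rw [Matrix.SpecialLinearGroup.smul_def] at ha
  have e : ∀ i : Fin 4, ((g : Matrix (Fin 4) (Fin 4) F) • (![0, 0, 0, 1] : Fin 4 → F)) i =
      (g : Matrix (Fin 4) (Fin 4) F) i 3 := by
    intro i
    show ((g : Matrix (Fin 4) (Fin 4) F) *ᵥ ![0, 0, 0, 1]) i = _
    simp [Matrix.mulVec, dotProduct, Fin.sum_univ_four]
  refine ⟨?_, ?_, ?_⟩
  · rw [← e 0, ← ha]; simp [Units.smul_def]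
  · rw [← e 1, ← ha]; simp [Units.smul_def]
  · rw [← e 2, ← ha]; simp [Units.smul_def]

/-- the explicit form of an element of `Sz` of shape `diag(a, M, d)` -/
theorem affine_image {F : Type*} [Field F] {m : ℕ} {g : SL(4, F)} (hg : g ∈ Sz F m) (a p q r s d : F)
    (hd : d ≠ 0)
    (hmat : (g : Matrix (Fin 4) (Fin 4) F) = !![a, 0, 0, 0; 0, p, q, 0; 0, r, s, 0; 0, 0, 0, d]) (x y : F) :
    a * (x * y + x ^ (2 ^ (m + 1) + 2) + y ^ (2 ^ (m + 1))) =
      d * (((r * y + s * x) / d) * ((p * y + q * x) / d) + ((r * y + s * x) / d) ^ (2 ^ (m + 1) + 2) +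
        ((p * y + q * x) / d) ^ (2 ^ (m + 1))) := by
  have hv : (![x * y + x ^ (2 ^ (m + 1) + 2) + y ^ (2 ^ (m + 1)), y, x, 1] : Fin 4 → F) ≠ 0 := by
    intro h
    simpa using congrFun h 3
  have hmem : Projectivization.mk F _ hv ∈ suzukiOvoid F m := ⟨_, hv, rfl, Or.inr ⟨x, y, rfl⟩⟩
  have hmem2 := (MulAction.mem_stabilizer_set.1 hg (Projectivization.mk F _ hv)).2 hmem
  obtain ⟨w, hw, he, hcase⟩ := hmem2
  rw [Projectivization.smul_mk, Projectivization.mk_eq_mk_iff] at he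
  obtain ⟨c, hc⟩ := he
  rw [Matrix.SpecialLinearGroup.smul_def] at hc
  have e : (g : Matrix (Fin 4) (Fin 4) F) • (![x * y + x ^ (2 ^ (m + 1) + 2) + y ^ (2 ^ (m + 1)), y, x, 1] : Fin 4 → F) =
      ![a * (x * y + x ^ (2 ^ (m + 1) + 2) + y ^ (2 ^ (m + 1))), p * y + q * x, r * y + s * x, d] := by
    show (g : Matrix (Fin 4) (Fin 4) F) *ᵥ _ = _
    rw [hmat]
    ext i
    fin_cases i <;> simp [Matrix.mulVec, dotProduct, Fin.sum_univ_four]
  rw [e] at hc
  rcases hcase with rfl | ⟨x', y', rfl⟩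
  · exfalso
    have := congrFun hc 3
    simp [Units.smul_def] at this
    exact hd this.symm
  · have h3 := congrFun hc 3
    have h2 := congrFun hc 2
    have h1 := congrFun hc 1
    have h0 := congrFun hc 0
    simp [Units.smul_def] at h3 h2 h1 h0
    rw [h3] at h2 h1 h0
    rw [← h0, ← h1, ← h2, mul_div_cancel_left₀ _ hd, mul_div_cancel_left₀ _ hd]
    ring

/-- An element of the Suzuki group fixing the two standard points is one of the standard diagonal matrices. -/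
theorem eq_diagonal (hm : 1 ≤ m) (hF : Fintype.card F = 2 ^ (2 * m + 1)) {g : SL(4, F)} (hg : g ∈ Sz F m)
    (h1 : g • suzukiPointInfinity F = suzukiPointInfinity F)
    (h0 : g • suzukiPointZero F = suzukiPointZero F)
    (hform : (g : Matrix (Fin 4) (Fin 4) F).transpose * Cfsg.suzukiForm F * (g : Matrix (Fin 4) (Fin 4) F) =
      Cfsg.suzukiForm F) :
    ∃ k : Fˣ, (g : Matrix (Fin 4) (Fin 4) F) =
      Matrix.diagonal ![(k : F) ^ (2 ^ m + 1), (k : F) ^ 2 ^ m, ((k⁻¹ : Fˣ) : F) ^ 2 ^ m,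
        ((k⁻¹ : Fˣ) : F) ^ (2 ^ m + 1)] := by
  have hchar := charP_two hF
  obtain ⟨g10, g20, g30⟩ := infinity_eq g h1
  obtain ⟨g03, g13, g23⟩ := zero_eq g h0
  have e01 := congrFun (congrFun hform 0) 1
  have e02 := congrFun (congrFun hform 0) 2
  have e03 := congrFun (congrFun hform 0) 3
  have e31 := congrFun (congrFun hform 3) 1
  have e32 := congrFun (congrFun hform 3) 2
  have e12 := congrFun (congrFun hform 1) 2
  simp [Matrix.mul_apply, Fin.sum_univ_four, suzukiForm, g10, g20, g30, g03, g13, g23] at e01 e02 e03 e31 e32 e12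
  have ha : (g : Matrix (Fin 4) (Fin 4) F) 0 0 ≠ 0 := by
    intro h; rw [h] at e03; simp at e03
  have hd : (g : Matrix (Fin 4) (Fin 4) F) 3 3 ≠ 0 := by
    intro h; rw [h] at e03; simp at e03
  have g31 : (g : Matrix (Fin 4) (Fin 4) F) 3 1 = 0 := by simpa [ha] using e01
  have g32 : (g : Matrix (Fin 4) (Fin 4) F) 3 2 = 0 := by simpa [ha] using e02
  have g01 : (g : Matrix (Fin 4) (Fin 4) F) 0 1 = 0 := by simpa [hd] using e31
  have g02 : (g : Matrix (Fin 4) (Fin 4) F) 0 2 = 0 := by simpa [hd] using e32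
  rw [g01, g02, g31, g32] at e12
  have hmat : (g : Matrix (Fin 4) (Fin 4) F) = !![(g : Matrix (Fin 4) (Fin 4) F) 0 0, 0, 0, 0;
      0, (g : Matrix (Fin 4) (Fin 4) F) 1 1, (g : Matrix (Fin 4) (Fin 4) F) 1 2, 0;
      0, (g : Matrix (Fin 4) (Fin 4) F) 2 1, (g : Matrix (Fin 4) (Fin 4) F) 2 2, 0;
      0, 0, 0, (g : Matrix (Fin 4) (Fin 4) F) 3 3] := by
    ext i j
    fin_cases i <;> fin_cases j <;> simp [g01, g02, g31, g32, g10, g20, g30, g03, g13, g23]
  have haff := affine_image hg _ _ _ _ _ _ hd hmat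
  have hmat' := hmat
  generalize (g : Matrix (Fin 4) (Fin 4) F) 0 0 = a at haff hmat' ha e03
  generalize (g : Matrix (Fin 4) (Fin 4) F) 1 1 = p at haff hmat' e12
  generalize (g : Matrix (Fin 4) (Fin 4) F) 1 2 = q at haff hmat' e12
  generalize (g : Matrix (Fin 4) (Fin 4) F) 2 1 = r at haff hmat' e12
  generalize (g : Matrix (Fin 4) (Fin 4) F) 2 2 = s at haff hmat' e12
  generalize (g : Matrix (Fin 4) (Fin 4) F) 3 3 = d at haff hmat' hd e03
  clear hmat
  rw [hmat']
  clear hmat'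
  have h2 : 2 ^ (m + 1) ≠ 0 := by positivity
  -- put `x = 0`
  have hx := coeff_zero (m := m) (A := d * ((r / d) * (p / d))) (B := d * (r / d) ^ (2 ^ (m + 1) + 2))
    (C := d * (p / d) ^ 2 ^ (m + 1) - a) hm hF (by
      intro y
      have := haff 0 y
      simp only [zero_mul, mul_zero, add_zero, zero_add, ne_eq, Nat.add_eq_zero_iff, h2, OfNat.ofNat_ne_zero,
        and_self, not_false_eq_true, zero_pow, div_eq_mul_inv, mul_pow] at this ⊢
      linear_combination -this)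
  have hy := coeff_zero (m := m) (A := d * ((s / d) * (q / d))) (B := d * (s / d) ^ (2 ^ (m + 1) + 2) - a)
    (C := d * (q / d) ^ 2 ^ (m + 1)) hm hF (by
      intro x
      have := haff x 0
      simp only [zero_mul, mul_zero, add_zero, zero_add, ne_eq, Nat.add_eq_zero_iff, h2, OfNat.ofNat_ne_zero,
        and_self, not_false_eq_true, zero_pow, div_eq_mul_inv, mul_pow] at this ⊢
      linear_combination -this)
  have hr : r = 0 := by
    have := hx.1
    simp [hd] at this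
    exact this
  have hq : q = 0 := by
    have := hy.2
    simp [hd] at this
    exact this
  subst hr hq
  have hps : p * s = 1 := by linear_combination e12
  have hs : s ≠ 0 := by
    rintro rfl
    simp at hps
  have hB := hy.1
  have hd' : d = a⁻¹ := by field_simp; linear_combination e03
  have hp' : p = s⁻¹ := by field_simp; linear_combination hps
  have htwo : (2 : F) = 0 := CharTwo.two_eq_zero
  set k : F := a * s with hk
  have hk0 : k ≠ 0 := mul_ne_zero ha hs
  have hkey : k ^ (2 ^ m + 1) = a := by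
    have h1 : (k ^ (2 ^ m + 1)) ^ 2 = a ^ 2 := by
      have e : s / d = k := by rw [hd', hk]; field_simp
      rw [e, hd'] at hB
      have e2 : (k ^ (2 ^ m + 1)) ^ 2 = k ^ (2 ^ (m + 1) + 2) := by
        rw [← pow_mul]; congr 1; ring
      rw [e2]
      field_simp at hB
      linear_combination hB
    have h3 : (k ^ (2 ^ m + 1) - a) ^ 2 = 0 := by
      linear_combination h1 + (a ^ 2 - k ^ (2 ^ m + 1) * a) * htwo
    exact sub_eq_zero.1 (pow_eq_zero_iff (two_ne_zero) |>.1 h3)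
  have hkey2 : s * k ^ 2 ^ m = 1 := by
    have : a * (s * k ^ 2 ^ m) = a * 1 := by
      rw [mul_one]
      calc a * (s * k ^ 2 ^ m) = k ^ (2 ^ m + 1) := by rw [pow_succ, hk]; ring
        _ = a := hkey
    exact mul_left_cancel₀ ha this
  have hs' : s = (k ^ 2 ^ m)⁻¹ := eq_inv_of_mul_eq_one_left hkey2
  have hp'' : p = k ^ 2 ^ m := by rw [hp', hs', inv_inv]
  refine ⟨Units.mk0 k hk0, ?_⟩
  have hinv : (((Units.mk0 k hk0)⁻¹ : Fˣ) : F) = k⁻¹ := by simp
  rw [hinv, Units.val_mk0, inv_pow, inv_pow, ← hs', ← hp'', hkey, ← hd']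
  ext i j
  fin_cases i <;> fin_cases j <;> simp

/-- the standard diagonal elements -/
def diagEl {F : Type*} [Field F] (m : ℕ) (k : Fˣ) : SL(4, F) :=
  ⟨Matrix.diagonal ![(k : F) ^ (2 ^ m + 1), (k : F) ^ 2 ^ m, ((k⁻¹ : Fˣ) : F) ^ 2 ^ m,
      ((k⁻¹ : Fˣ) : F) ^ (2 ^ m + 1)], by
    rw [Matrix.det_diagonal, Fin.prod_univ_four]
    simp only [cons_val]
    have h : (k : F) * ((k⁻¹ : Fˣ) : F) = 1 := k.mul_inv
    calc (k : F) ^ (2 ^ m + 1) * (k : F) ^ 2 ^ m * ((k⁻¹ : Fˣ) : F) ^ 2 ^ m * ((k⁻¹ : Fˣ) : F) ^ (2 ^ m + 1)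
        = ((k : F) * ((k⁻¹ : Fˣ) : F)) ^ (2 ^ m + 1) * ((k : F) * ((k⁻¹ : Fˣ) : F)) ^ 2 ^ m := by
          rw [mul_pow, mul_pow]; ring
      _ = 1 := by rw [h, one_pow, one_pow, one_mul]⟩

theorem coe_diagEl {F : Type*} [Field F] (m : ℕ) (k : Fˣ) :
    (diagEl m k : Matrix (Fin 4) (Fin 4) F) =
      Matrix.diagonal ![(k : F) ^ (2 ^ m + 1), (k : F) ^ 2 ^ m, ((k⁻¹ : Fˣ) : F) ^ 2 ^ m,
        ((k⁻¹ : Fˣ) : F) ^ (2 ^ m + 1)] := rfl

theorem diagEl_mul {F : Type*} [Field F] (m : ℕ) (k l : Fˣ) : diagEl m (k * l) = diagEl m k * diagEl m l := by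
  apply Subtype.ext
  rw [Matrix.SpecialLinearGroup.coe_mul, coe_diagEl, coe_diagEl, coe_diagEl, Matrix.diagonal_mul_diagonal]
  congr 1
  ext i
  fin_cases i <;> simp [mul_pow, mul_comm]

theorem diagEl_one {F : Type*} [Field F] (m : ℕ) : diagEl m (1 : Fˣ) = 1 := by
  apply Subtype.ext
  rw [coe_diagEl, Matrix.SpecialLinearGroup.coe_one, ← Matrix.diagonal_one]
  congr 1
  ext i
  fin_cases i <;> simp

theorem diagEl_injective {F : Type*} [Field F] (m : ℕ) : Function.Injective (diagEl (F := F) m) := by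
  intro k l h
  have h' := congrArg (fun g : SL(4, F) => (g : Matrix (Fin 4) (Fin 4) F)) h
  simp only [coe_diagEl] at h'
  have h0 := congrFun (congrFun h' 0) 0
  have h1 := congrFun (congrFun h' 1) 1
  simp at h0 h1
  apply Units.ext
  have hk : (k : F) ^ 2 ^ m ≠ 0 := pow_ne_zero _ k.ne_zero
  apply mul_left_cancel₀ hk
  rw [← pow_succ, h0, h1, ← pow_succ]

theorem diagEl_smul_infinity {F : Type*} [Field F] (m : ℕ) (k : Fˣ) :
    diagEl m k • suzukiPointInfinity F = suzukiPointInfinity F := by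
  unfold suzukiPointInfinity
  rw [Projectivization.smul_mk, Projectivization.mk_eq_mk_iff]
  refine ⟨k ^ (2 ^ m + 1), ?_⟩
  rw [Matrix.SpecialLinearGroup.smul_def]
  show _ = (diagEl m k : Matrix (Fin 4) (Fin 4) F) *ᵥ _
  rw [coe_diagEl]
  ext i
  fin_cases i <;> simp [Matrix.mulVec, dotProduct, Fin.sum_univ_four, Units.smul_def]

theorem diagEl_smul_zero {F : Type*} [Field F] (m : ℕ) (k : Fˣ) :
    diagEl m k • suzukiPointZero F = suzukiPointZero F := by
  unfold suzukiPointZero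
  rw [Projectivization.smul_mk, Projectivization.mk_eq_mk_iff]
  refine ⟨k⁻¹ ^ (2 ^ m + 1), ?_⟩
  rw [Matrix.SpecialLinearGroup.smul_def]
  show _ = (diagEl m k : Matrix (Fin 4) (Fin 4) F) *ᵥ _
  rw [coe_diagEl]
  ext i
  fin_cases i <;> simp [Matrix.mulVec, dotProduct, Fin.sum_univ_four, Units.smul_def]

theorem pow_sigma_sigma (hF : Fintype.card F = 2 ^ (2 * m + 1)) (x : F) :
    x ^ (2 ^ (m + 1) * 2 ^ (m + 1)) = x ^ 2 := by
  have : 2 ^ (m + 1) * 2 ^ (m + 1) = Fintype.card F * 2 := by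
    rw [hF, ← pow_add, ← pow_succ]; congr 1; ring
  rw [this, pow_mul, FiniteField.pow_card]

theorem diagEl_smul_mem_aux (hF : Fintype.card F = 2 ^ (2 * m + 1)) (k : Fˣ)
    {p : Projectivization F (Fin 4 → F)} (hp : p ∈ suzukiOvoid F m) : diagEl m k • p ∈ suzukiOvoid F m := by
  obtain ⟨v, hv, rfl, rfl | ⟨x, y, rfl⟩⟩ := hp
  · have : Projectivization.mk F _ hv = suzukiPointInfinity F := rfl
    rw [this, diagEl_smul_infinity]
    exact ⟨_, hv, rfl, Or.inl rfl⟩
  · set k1 : F := (k : F) with hk1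
    have hk0 : k1 ≠ 0 := k.ne_zero
    refine ⟨![(k1 * x) * (k1 ^ (2 ^ (m + 1) + 1) * y) + (k1 * x) ^ (2 ^ (m + 1) + 2) +
      (k1 ^ (2 ^ (m + 1) + 1) * y) ^ (2 ^ (m + 1)), k1 ^ (2 ^ (m + 1) + 1) * y, k1 * x, 1], ?_, ?_,
      Or.inr ⟨_, _, rfl⟩⟩
    · intro h
      simpa using congrFun h 3
    rw [Projectivization.smul_mk, Projectivization.mk_eq_mk_iff]
    refine ⟨k⁻¹ ^ (2 ^ m + 1), ?_⟩
    rw [Matrix.SpecialLinearGroup.smul_def]
    show _ = (diagEl m k : Matrix (Fin 4) (Fin 4) F) *ᵥ _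
    rw [coe_diagEl]
    have e1 : k1 ^ 2 ^ (m + 1) = k1 ^ 2 ^ m * k1 ^ 2 ^ m := by rw [← pow_add]; congr 1; ring
    have e2 : (k1 ^ (2 ^ (m + 1) + 1) * y) ^ 2 ^ (m + 1) = k1 ^ 2 * k1 ^ 2 ^ (m + 1) * y ^ 2 ^ (m + 1) := by
      rw [mul_pow, ← pow_mul, add_mul, pow_add, pow_sigma_sigma hF, one_mul]
    have hk2 : k1 ^ 2 ^ m ≠ 0 := pow_ne_zero _ hk0
    rw [e2]
    ext i
    fin_cases i
    · simp [Matrix.mulVec, dotProduct, Fin.sum_univ_four, Units.smul_def, ← hk1]
      field_simp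
      simp only [pow_succ, mul_pow, e1]
      ring
    · simp [Matrix.mulVec, dotProduct, Fin.sum_univ_four, Units.smul_def, ← hk1]
      field_simp
      simp only [pow_succ, mul_pow, e1]
      ring
    · simp [Matrix.mulVec, dotProduct, Fin.sum_univ_four, Units.smul_def, ← hk1]
      field_simp
      simp only [pow_succ, mul_pow, e1]
      ring
    · simp [Matrix.mulVec, dotProduct, Fin.sum_univ_four, Units.smul_def, ← hk1]

theorem diagEl_mem (hF : Fintype.card F = 2 ^ (2 * m + 1)) (k : Fˣ) : diagEl m k ∈ Sz F m := by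
  rw [MulAction.mem_stabilizer_set]
  intro p
  constructor
  · intro h
    have h2 := diagEl_smul_mem_aux hF k⁻¹ h
    rwa [smul_smul, ← diagEl_mul, inv_mul_cancel, diagEl_one, one_smul] at h2
  · exact diagEl_smul_mem_aux hF k

/-- An element of the Suzuki group fixing the two standard points is one of the standard diagonal elements. -/
theorem eq_diagEl (hm : 1 ≤ m) (hF : Fintype.card F = 2 ^ (2 * m + 1)) {g : SL(4, F)} (hg : g ∈ Sz F m)
    (h1 : g • suzukiPointInfinity F = suzukiPointInfinity F)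
    (h0 : g • suzukiPointZero F = suzukiPointZero F) : ∃ k : Fˣ, g = diagEl m k := by
  obtain ⟨k, hk⟩ := eq_diagonal hm hF hg h1 h0
    (Cfsg.Agent.LieExceptional.SuzukiForm.suzuki_preserves_form hm hF hg)
  exact ⟨k, Subtype.ext hk⟩

/-- The stabiliser of the two standard points is isomorphic to the multiplicative group of the field. -/
theorem two_point_stabilizer (hm : 1 ≤ m) (hF : Fintype.card F = 2 ^ (2 * m + 1)) :
    Nonempty (↥(MulAction.stabilizer (Cfsg.Sz F m) (Cfsg.suzukiPointInfinity F) ⊓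
        MulAction.stabilizer (Cfsg.Sz F m) (Cfsg.suzukiPointZero F)) ≃* Fˣ) := by
  let f : Fˣ →* ↥(MulAction.stabilizer (Cfsg.Sz F m) (Cfsg.suzukiPointInfinity F) ⊓
        MulAction.stabilizer (Cfsg.Sz F m) (Cfsg.suzukiPointZero F)) :=
    { toFun := fun k => ⟨⟨diagEl m k, diagEl_mem hF k⟩,
        ⟨diagEl_smul_infinity m k, diagEl_smul_zero m k⟩⟩
      map_one' := Subtype.ext (Subtype.ext (diagEl_one m))
      map_mul' := fun k l => Subtype.ext (Subtype.ext (diagEl_mul m k l)) }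
  have hf : Function.Bijective f := by
    constructor
    · intro k l h
      have h2 : ((f k : Cfsg.Sz F m) : SL(4, F)) = ((f l : Cfsg.Sz F m) : SL(4, F)) := by rw [h]
      exact diagEl_injective m h2
    · rintro ⟨⟨g, hg⟩, h1, h0⟩
      obtain ⟨k, hk⟩ := eq_diagEl hm hF hg h1 h0
      exact ⟨k, Subtype.ext (Subtype.ext hk.symm)⟩
  exact ⟨(MulEquiv.ofBijective f hf).symm⟩

end Cfsg.Agent.LieExceptional.SuzukiTwoPoint
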