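import Mathlib

/-!
# ZT step 2c: counting the classes of self-centralising subgroups consisting of real elements
-/

set_option autoImplicit false
set_option linter.style.haveILetI false
set_option linter.unusedSectionVars false

namespace Cfsg.Agent.LieExceptional.ZTCount

open Subgroup

variable {G : Type*} [Group G]

/-- the non-identity elements conjugate into `A` -/
def conjSet (A : Subgroup G) : Set G := {s | s ≠ 1 ∧ ∃ k : G, k⁻¹ * s * k ∈ A}

theorem mem_conjSet_iff (A : Subgroup G) (s : G) :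
    s ∈ conjSet A ↔ s ≠ 1 ∧ ∃ k : G, k⁻¹ * s * k ∈ A := Iff.rfl

theorem conj_mem_conjSet {A : Subgroup G} {s : G} (hs : s ∈ conjSet A) (g : G) :
    g * s * g⁻¹ ∈ conjSet A := by
  obtain ⟨h1, k, hk⟩ := hs
  refine ⟨?_, g * k, ?_⟩
  · intro h
    apply h1
    have : s = g⁻¹ * (g * s * g⁻¹) * g := by group
    rw [this, h]
    group
  · rwa [show (g * k)⁻¹ * (g * s * g⁻¹) * (g * k) = k⁻¹ * s * k by group]

/-- the centraliser of a conjugate -/
theorem mem_centralizer_conj (s g y : G) :
    y ∈ centralizer {g * s * g⁻¹} ↔ g⁻¹ * y * g ∈ centralizer {s} := by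
  rw [mem_centralizer_singleton_iff, mem_centralizer_singleton_iff]
  constructor
  · intro h
    have := congrArg (fun z => g⁻¹ * z * g) h
    simp only [mul_assoc, inv_mul_cancel_left, inv_mul_cancel, mul_one] at this
    simpa [mul_assoc] using this
  · intro h
    have := congrArg (fun z => g * z * g⁻¹) h
    simp only [mul_assoc, mul_inv_cancel_left, mul_inv_cancel, mul_one] at this
    simpa [mul_assoc] using this

section count

variable [Finite G]

/-- two elements of `A#` conjugate by `g` : `g` normalises `A` -/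
theorem mem_normalizer_of_conj {A : Subgroup G} (hA : ∀ y ∈ A, y ≠ 1 → centralizer {y} = A)
    {a : G} (ha : a ∈ A) (ha1 : a ≠ 1) {g : G} (hg : g * a * g⁻¹ ∈ A) :
    g ∈ normalizer (A : Set G) := by
  have h1 : g * a * g⁻¹ ≠ 1 := by
    intro h
    apply ha1
    have : a = g⁻¹ * (g * a * g⁻¹) * g := by group
    rw [this, h]
    group
  have h2 := hA a ha ha1
  have h3 := hA _ hg h1
  rw [mem_normalizer_iff]
  intro y
  have h4 := mem_centralizer_conj a g (g * y * g⁻¹)
  rw [h3, h2, show g⁻¹ * (g * y * g⁻¹) * g = y by group] at h4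
  exact h4.symm

/-- the number of elements conjugate into `A#` -/
theorem ncard_conjSet {A : Subgroup G} (hA : ∀ y ∈ A, y ≠ 1 → centralizer {y} = A) :
    (conjSet A).ncard * Nat.card (normalizer (A : Set G)) = Nat.card G * (Nat.card A - 1) := by
  classical
  haveI := Fintype.ofFinite G
  -- the map `(g, a) ↦ g a g⁻¹`
  let f : G × {a : A // a ≠ 1} → conjSet A := fun t =>
    ⟨t.1 * (t.2 : A) * t.1⁻¹, by
      refine ⟨?_, t.1, ?_⟩
      · intro h
        apply t.2.2
        apply Subtype.ext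
        have : ((t.2 : A) : G) = t.1⁻¹ * (t.1 * (t.2 : A) * t.1⁻¹) * t.1 := by group
        rw [this, h]
        show t.1⁻¹ * 1 * t.1 = 1
        group
      · have : t.1⁻¹ * (t.1 * ((t.2 : A) : G) * t.1⁻¹) * t.1 = (t.2 : A) := by group
        rw [this]
        exact t.2.1.2⟩
  have hfib : ∀ s : conjSet A, Nat.card {t // f t = s} = Nat.card (normalizer (A : Set G)) := by
    rintro ⟨s, hs1, g0, hg0⟩
    have hg1 : (⟨g0⁻¹ * s * g0, hg0⟩ : A) ≠ 1 := by
      intro h
      have h' : g0⁻¹ * s * g0 = 1 := congrArg Subtype.val h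
      apply hs1
      have : s = g0 * (g0⁻¹ * s * g0) * g0⁻¹ := by group
      rw [this, h']
      group
    apply Nat.card_congr
    refine ⟨fun t => ⟨g0⁻¹ * t.1.1, ?_⟩, fun n => ⟨(g0 * n, ⟨⟨(n : G)⁻¹ * (g0⁻¹ * s * g0) * n, ?_⟩, ?_⟩), ?_⟩, ?_, ?_⟩
    · obtain ⟨⟨g, a⟩, hga⟩ := t
      have hga' : g * ((a : A) : G) * g⁻¹ = s := congrArg Subtype.val hga
      apply mem_normalizer_of_conj hA (a := ((a : A) : G)) a.1.2
        (fun h => a.2 (Subtype.ext h))
      show g0⁻¹ * g * ((a : A) : G) * (g0⁻¹ * g)⁻¹ ∈ A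
      rw [show g0⁻¹ * g * ((a : A) : G) * (g0⁻¹ * g)⁻¹ = g0⁻¹ * (g * ((a : A) : G) * g⁻¹) * g0 by group,
        hga']
      exact hg0
    · have h := (mem_normalizer_iff'.1 n.2) ((n : G)⁻¹ * (g0⁻¹ * s * g0))
      rw [mul_inv_cancel_left] at h
      exact h.2 hg0
    · intro h
      have h' : (n : G)⁻¹ * (g0⁻¹ * s * g0) * n = 1 := congrArg Subtype.val h
      apply hs1
      have : s = g0 * n * ((n : G)⁻¹ * (g0⁻¹ * s * g0) * n) * (g0 * n)⁻¹ := by group
      rw [this, h']
      group
    · apply Subtype.ext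
      show g0 * n * ((n : G)⁻¹ * (g0⁻¹ * s * g0) * n) * (g0 * n)⁻¹ = s
      group
    · rintro ⟨⟨g, a⟩, hga⟩
      have hga' : g * ((a : A) : G) * g⁻¹ = s := congrArg Subtype.val hga
      apply Subtype.ext
      apply Prod.ext
      · show g0 * (g0⁻¹ * g) = g
        group
      · apply Subtype.ext
        apply Subtype.ext
        show (g0⁻¹ * g)⁻¹ * (g0⁻¹ * s * g0) * (g0⁻¹ * g) = ((a : A) : G)
        rw [← hga']
        group
    · rintro ⟨n, hn⟩
      apply Subtype.ext
      show g0⁻¹ * (g0 * n) = n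
      group
  have h1 : Nat.card (G × {a : A // a ≠ 1}) =
      Nat.card (conjSet A) * Nat.card (normalizer (A : Set G)) := by
    rw [← Nat.card_congr (Equiv.sigmaFiberEquiv f)]
    haveI : Fintype (conjSet A) := Fintype.ofFinite _
    rw [Nat.card_sigma, Finset.sum_congr rfl (fun s _ => hfib s), Finset.sum_const, Finset.card_univ,
      smul_eq_mul, Nat.card_eq_fintype_card (α := conjSet A)]
  have h2 : Nat.card {a : A // a ≠ 1} = Nat.card A - 1 := by
    haveI := Fintype.ofFinite A
    rw [Nat.card_eq_fintype_card, Nat.card_eq_fintype_card, Fintype.card_subtype_compl,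
      Fintype.card_subtype_eq]
  rw [Nat.card_prod, h2] at h1
  rw [← Nat.card_coe_set_eq, ← h1]

/-- number of classes in a union of classes -/
noncomputable def cls (Y : Set G) : ℕ := Nat.card {c : ConjClasses G // ∃ x ∈ Y, ConjClasses.mk x = c}

omit [Finite G] in
theorem cls_def (Y : Set G) : cls Y = Nat.card {c : ConjClasses G // ∃ x ∈ Y, ConjClasses.mk x = c} := rfl

theorem class_card (x : G) :
    Nat.card {y : G // IsConj x y} * Nat.card (centralizer {x}) = Nat.card G := by
  classical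
  haveI := Fintype.ofFinite G
  have h1 := Subgroup.nat_card_centralizer_nat_card_stabilizer x
  rw [h1]
  have h2 : Nat.card {y : G // IsConj x y} = Nat.card (MulAction.orbit (ConjAct G) x) := by
    apply Nat.card_congr
    apply Equiv.subtypeEquivRight
    intro y
    rw [ConjAct.mem_orbit_conjAct]
    exact ⟨fun h => h.symm, fun h => h.symm⟩
  rw [h2]
  have h3 := MulAction.card_orbit_mul_card_stabilizer_eq_card_group (ConjAct G) x
  rw [← Nat.card_eq_fintype_card, ← Nat.card_eq_fintype_card, ← Nat.card_eq_fintype_card] at h3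
  rw [h3]
  rfl

/-- if all elements of the conjugation invariant set `Y` have centralisers of order `a`, then
`#classes * |G| = a * |Y|` -/
theorem cls_mul_card {Y : Set G} (hY : ∀ x ∈ Y, ∀ g : G, g * x * g⁻¹ ∈ Y) {a : ℕ}
    (ha : ∀ x ∈ Y, Nat.card (centralizer {x}) = a) : cls Y * Nat.card G = a * Y.ncard := by
  classical
  haveI := Fintype.ofFinite G
  let f : Y → {c : ConjClasses G // ∃ x ∈ Y, ConjClasses.mk x = c} := fun y =>
    ⟨ConjClasses.mk (y : G), y, y.2, rfl⟩
  have hfib : ∀ c : {c : ConjClasses G // ∃ x ∈ Y, ConjClasses.mk x = c},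
      Nat.card {y // f y = c} * a = Nat.card G := by
    rintro ⟨c, x, hx, rfl⟩
    rw [← ha x hx, ← class_card x]
    congr 1
    apply Nat.card_congr
    refine ⟨fun y => ⟨y.1.1, ?_⟩, fun y => ⟨⟨y.1, ?_⟩, ?_⟩, ?_, ?_⟩
    · have h := congrArg Subtype.val y.2
      have h' : ConjClasses.mk ((y.1 : Y) : G) = ConjClasses.mk x := h
      exact (ConjClasses.mk_eq_mk_iff_isConj.1 h').symm
    · obtain ⟨g, hg⟩ := isConj_iff.1 y.2
      rw [← hg]
      exact hY x hx g
    · apply Subtype.ext
      show ConjClasses.mk (y : G) = ConjClasses.mk x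
      exact ConjClasses.mk_eq_mk_iff_isConj.2 (y.2.symm)
    · intro y
      rfl
    · intro y
      rfl
  haveI : Fintype {c : ConjClasses G // ∃ x ∈ Y, ConjClasses.mk x = c} := Fintype.ofFinite _
  haveI : Fintype Y := Fintype.ofFinite _
  have h1 : Nat.card Y * a = cls Y * Nat.card G := by
    rw [← Nat.card_congr (Equiv.sigmaFiberEquiv f), Nat.card_sigma, Finset.sum_mul,
      Finset.sum_congr rfl (fun c _ => hfib c), Finset.sum_const, Finset.card_univ, smul_eq_mul, cls_def,
      Nat.card_eq_fintype_card (α := {c : ConjClasses G // ∃ x ∈ Y, ConjClasses.mk x = c})]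
  rw [← h1, Nat.card_coe_set_eq, mul_comm]

theorem cls_union {Y Z : Set G} (hY : ∀ x ∈ Y, ∀ g : G, g * x * g⁻¹ ∈ Y)
    (hYZ : Disjoint Y Z) : cls (Y ∪ Z) = cls Y + cls Z := by
  classical
  have h1 : ∀ S : Set G, cls S = (ConjClasses.mk '' S).ncard := by
    intro S
    rw [cls_def, ← Nat.card_coe_set_eq]
    rfl
  rw [h1, h1, h1, Set.image_union]
  apply Set.ncard_union_eq _ (Set.toFinite _) (Set.toFinite _)
  rw [Set.disjoint_left]
  rintro _ ⟨y, hy, rfl⟩ ⟨z, hz, hzy⟩
  obtain ⟨g, hg⟩ := isConj_iff.1 (ConjClasses.mk_eq_mk_iff_isConj.1 hzy.symm)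
  exact Set.disjoint_left.1 hYZ (hg ▸ hY y hy g) hz

end count

section main

variable [Finite G] {X : Set G}

/-- the basic numbers attached to the torus `C(x)`, `x ∈ X`: `w = |N : A|` divides `|A| - 1`, etc. -/
theorem torus_facts (h1 : (1 : G) ∉ X)
    (hconj : ∀ x ∈ X, ∀ g : G, g * x * g⁻¹ ∈ X)
    (hcent : ∀ x ∈ X, ∀ y ∈ centralizer {x}, y ≠ 1 → y ∈ X ∧ centralizer {y} = centralizer {x})
    {x : G} (hx : x ∈ X) {w : ℕ}
    (hw : Nat.card (normalizer (centralizer {x} : Set G)) = w * Nat.card (centralizer {x})) :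
    conjSet (centralizer {x}) ⊆ X ∧ x ∈ conjSet (centralizer {x}) ∧
    cls (conjSet (centralizer {x})) * w = Nat.card (centralizer {x}) - 1 ∧
    (conjSet (centralizer {x})).ncard * (w * Nat.card (centralizer {x})) =
      Nat.card G * (Nat.card (centralizer {x}) - 1) ∧ 1 < Nat.card (centralizer {x}) ∧
      (∀ y ∈ conjSet (centralizer {x}), Nat.card (centralizer {y}) = Nat.card (centralizer {x})) := by
  have hx1 : x ≠ 1 := fun h => h1 (h ▸ hx)
  have hxx : x ∈ centralizer {x} := mem_centralizer_singleton_iff.2 rfl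
  have hA : ∀ y ∈ centralizer {x}, y ≠ 1 → centralizer {y} = centralizer {x} :=
    fun y hy hy1 => (hcent x hx y hy hy1).2
  have hcard1 : 1 < Nat.card (centralizer {x}) := by
    haveI : Nontrivial (centralizer {x}) := ⟨⟨⟨x, hxx⟩, 1, fun h => hx1 (congrArg Subtype.val h)⟩⟩
    exact Finite.one_lt_card
  have hcent' : ∀ y ∈ conjSet (centralizer {x}),
      Nat.card (centralizer {y}) = Nat.card (centralizer {x}) := by
    rintro y ⟨hy1, k, hk⟩
    have hk1 : k⁻¹ * y * k ≠ 1 := by
      intro h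
      apply hy1
      have : y = k * (k⁻¹ * y * k) * k⁻¹ := by group
      rw [this, h]
      group
    rw [← hA _ hk hk1]
    have e : y = k * (k⁻¹ * y * k) * k⁻¹ := by group
    conv_lhs => rw [e]
    apply Nat.card_congr
    refine ⟨fun z => ⟨k⁻¹ * z * k, (mem_centralizer_conj _ _ _).1 z.2⟩,
      fun z => ⟨k * z * k⁻¹, (mem_centralizer_conj _ _ _).2 (by
        rw [show k⁻¹ * (k * (z : G) * k⁻¹) * k = z by group]; exact z.2)⟩, ?_, ?_⟩
    · intro z
      apply Subtype.ext
      show k * (k⁻¹ * z * k) * k⁻¹ = z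
      group
    · intro z
      apply Subtype.ext
      show k⁻¹ * (k * z * k⁻¹) * k = z
      group
  have hn := ncard_conjSet hA
  rw [hw] at hn
  have hc := cls_mul_card (Y := conjSet (centralizer {x}))
    (fun y hy g => conj_mem_conjSet hy g) hcent'
  refine ⟨?_, ⟨hx1, 1, by simpa using hxx⟩, ?_, hn, hcard1, hcent'⟩
  · rintro y ⟨hy1, k, hk⟩
    have hk1 : k⁻¹ * y * k ≠ 1 := by
      intro h
      apply hy1
      have : y = k * (k⁻¹ * y * k) * k⁻¹ := by group
      rw [this, h]
      group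
    have := hconj _ (hcent x hx _ hk hk1).1 k
    rwa [show k * (k⁻¹ * y * k) * k⁻¹ = y by group] at this
  · have hG : 0 < Nat.card G := Nat.card_pos
    apply Nat.eq_of_mul_eq_mul_left hG
    rw [← hn, show Nat.card G * (cls (conjSet (centralizer {x})) * w) =
      (cls (conjSet (centralizer {x})) * Nat.card G) * w by ring, hc]
    ring

/-- disjointness and coprimality of two different tori -/
theorem torus_disjoint
    (hcent : ∀ x ∈ X, ∀ y ∈ centralizer {x}, y ≠ 1 → y ∈ X ∧ centralizer {y} = centralizer {x})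
    {x y : G} (hx : x ∈ X) (hy : y ∈ X) (hy1 : y ≠ 1) (hxy : y ∉ conjSet (centralizer {x})) :
    Disjoint (conjSet (centralizer {x})) (conjSet (centralizer {y})) ∧
      Nat.Coprime (Nat.card (centralizer {x})) (Nat.card (centralizer {y})) := by
  have hyy : y ∈ centralizer {y} := mem_centralizer_singleton_iff.2 rfl
  have key : ∀ z : G, z ∈ centralizer {x} → z ≠ 1 → ∀ g : G, g * z * g⁻¹ ∈ centralizer {y} → False := by
    intro z hz hz1 g hg
    have hg1 : g * z * g⁻¹ ≠ 1 := by
      intro h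
      apply hz1
      have : z = g⁻¹ * (g * z * g⁻¹) * g := by group
      rw [this, h]
      group
    have e1 := (hcent x hx z hz hz1).2
    have e2 := (hcent y hy _ hg hg1).2
    apply hxy
    refine ⟨hy1, g, ?_⟩
    rw [← e1, ← mem_centralizer_conj, e2]
    exact hyy
  refine ⟨?_, ?_⟩
  · rw [Set.disjoint_left]
    rintro s ⟨hs1, k, hk⟩ ⟨_, l, hl⟩
    have hk1 : k⁻¹ * s * k ≠ 1 := by
      intro h
      apply hs1
      have : s = k * (k⁻¹ * s * k) * k⁻¹ := by group
      rw [this, h]
      group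
    apply key _ hk hk1 (l⁻¹ * k)
    rwa [show l⁻¹ * k * (k⁻¹ * s * k) * (l⁻¹ * k)⁻¹ = l⁻¹ * s * l by group]
  · apply Nat.coprime_of_dvd
    intro p hp hpx hpy
    haveI : Fact p.Prime := ⟨hp⟩
    -- a Sylow subgroup inside each torus
    have syl : ∀ v ∈ X, p ∣ Nat.card (centralizer {v}) →
        ∃ P : Sylow p G, (P : Subgroup G) ≤ centralizer {v} := by
      intro v hv hpv
      obtain ⟨c, hc⟩ := exists_prime_orderOf_dvd_card' p hpv
      have hcG : orderOf (c : G) = p := by rw [Subgroup.orderOf_coe, hc]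
      have hc1 : (c : G) ≠ 1 := by
        intro h
        rw [h, orderOf_one] at hcG
        exact hp.one_lt.ne hcG
      have hpz : IsPGroup p (zpowers (c : G)) := by
        apply IsPGroup.of_card (n := 1)
        rw [Nat.card_zpowers, hcG, pow_one]
      obtain ⟨P, hP⟩ := hpz.exists_le_sylow
      refine ⟨P, ?_⟩
      have hcP : (c : G) ∈ P := hP (mem_zpowers _)
      haveI : Nontrivial P := ⟨⟨⟨c, hcP⟩, 1, fun h => hc1 (congrArg Subtype.val h)⟩⟩
      haveI hcen : Nontrivial (Subgroup.center P) := P.isPGroup'.center_nontrivial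
      obtain ⟨z, hz⟩ := exists_ne (1 : Subgroup.center P)
      have hz1 : ((z : P) : G) ≠ 1 := by
        intro h
        apply hz
        apply Subtype.ext
        apply Subtype.ext
        exact h
      have hzc : ((z : P) : G) ∈ centralizer {(c : G)} := by
        rw [mem_centralizer_singleton_iff]
        have h := (Subgroup.mem_center_iff.1 z.2) ⟨c, hcP⟩
        have h' : (c : G) * ((z : P) : G) = ((z : P) : G) * c := congrArg Subtype.val h
        exact h'.symm
      have e1 := (hcent v hv c c.2 hc1).2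
      rw [e1] at hzc
      have e2 := (hcent v hv _ hzc hz1).2
      rw [← e2]
      intro u hu
      rw [mem_centralizer_singleton_iff]
      have h := (Subgroup.mem_center_iff.1 z.2) ⟨u, hu⟩
      exact congrArg Subtype.val h
    obtain ⟨P, hP⟩ := syl x hx hpx
    obtain ⟨R, hR⟩ := syl y hy hpy
    obtain ⟨g, hg⟩ := MulAction.exists_smul_eq G P R
    have hpG : p ∣ Nat.card G := hpx.trans (Subgroup.card_subgroup_dvd_card _)
    have hPne : (P : Subgroup G) ≠ ⊥ := P.ne_bot_of_dvd_card hpG
    obtain ⟨u, hu, hu1⟩ := (Subgroup.ne_bot_iff_exists_ne_one.1 hPne) |> fun ⟨u, hu⟩ =>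
      (⟨(u : G), u.2, fun h => hu (Subtype.ext h)⟩ : ∃ u : G, u ∈ (P : Subgroup G) ∧ u ≠ 1)
    apply key u (hP hu) hu1 g
    apply hR
    rw [← hg]
    exact ⟨u, hu, rfl⟩

/-- **ZT step 2c.** -/
theorem two_tori (q : ℕ) (hq : 4 ≤ q) (hqe : Even q) (X : Set G)
    (hconj : ∀ x ∈ X, ∀ g : G, g * x * g⁻¹ ∈ X) (h1 : (1 : G) ∉ X)
    (hcent : ∀ x ∈ X, ∀ y ∈ centralizer {x}, y ≠ 1 → y ∈ X ∧ centralizer {y} = centralizer {x})
    (hnorm : ∀ x ∈ X, Nat.card (normalizer (centralizer {x} : Set G)) = 2 * Nat.card (centralizer {x}) ∨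
      Nat.card (normalizer (centralizer {x} : Set G)) = 4 * Nat.card (centralizer {x}))
    (hdvd : ∀ x ∈ X, Nat.card (centralizer {x}) ∣ q ^ 2 + 1)
    (hcls : 2 * Nat.card {c : ConjClasses G // ∃ x ∈ X, ConjClasses.mk x = c} = q)
    (hG : Nat.card G = (q ^ 2 + 1) * q ^ 2 * (q - 1))
    (hX : 2 * X.ncard + q ^ 2 * (q ^ 2 - 1) ≤ Nat.card G) :
    ∃ x ∈ X, ∃ y ∈ X, Nat.card (centralizer {x}) + Nat.card (centralizer {y}) = 2 * q + 2 ∧
      Nat.Coprime (Nat.card (centralizer {x})) (Nat.card (centralizer {y})) ∧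
      Nat.card (centralizer {x}) * Nat.card (centralizer {y}) ∣ q ^ 2 + 1 := by
  classical
  rw [← cls_def] at hcls
  have hG0 : 0 < Nat.card G := Nat.card_pos
  have hX2 : 2 * X.ncard < Nat.card G := by
    have : 0 < q ^ 2 * (q ^ 2 - 1) := by
      have h2 : 16 ≤ q ^ 2 := by nlinarith
      exact Nat.mul_pos (by omega) (by omega)
    omega
  -- facts for a single torus
  have facts : ∀ x ∈ X, ∃ w, (w = 2 ∨ w = 4) ∧ conjSet (centralizer {x}) ⊆ X ∧
      x ∈ conjSet (centralizer {x}) ∧
      cls (conjSet (centralizer {x})) * w = Nat.card (centralizer {x}) - 1 ∧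
      Nat.card G ≤ (conjSet (centralizer {x})).ncard * (w + 1) ∧
      1 < Nat.card (centralizer {x}) := by
    intro x hx
    have aux : ∀ w, (w = 2 ∨ w = 4) →
        Nat.card (normalizer (centralizer {x} : Set G)) = w * Nat.card (centralizer {x}) →
        ∃ w, (w = 2 ∨ w = 4) ∧ conjSet (centralizer {x}) ⊆ X ∧
        x ∈ conjSet (centralizer {x}) ∧
        cls (conjSet (centralizer {x})) * w = Nat.card (centralizer {x}) - 1 ∧
        Nat.card G ≤ (conjSet (centralizer {x})).ncard * (w + 1) ∧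
        1 < Nat.card (centralizer {x}) := by
      intro w hw hnw
      obtain ⟨f1, f2, f3, f4, f5, -⟩ := torus_facts h1 hconj hcent hx hnw
      refine ⟨w, hw, f1, f2, f3, ?_, f5⟩
      -- `a - 1 ≥ w`
      set a := Nat.card (centralizer {x}) with ha
      set N := (conjSet (centralizer {x})).ncard with hN
      have hcpos : 0 < cls (conjSet (centralizer {x})) := by
        rcases Nat.eq_zero_or_pos (cls (conjSet (centralizer {x}))) with h | h
        · rw [h, zero_mul] at f3; omega
        · exact h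
      have hwa : w ≤ a - 1 := by
        rw [← f3]
        exact Nat.le_mul_of_pos_left w hcpos
      have hw0 : 0 < w := by rcases hw with rfl | rfl <;> norm_num
      obtain ⟨b, hb⟩ := Nat.exists_eq_add_of_lt f5
      have hb' : a - 1 = b + 1 := by omega
      rw [hb'] at f4 hwa
      have ha' : a = b + 2 := by omega
      rw [ha'] at f4
      -- N * (w * (b+2)) = |G| * (b+1), w ≤ b + 1
      have h3 : Nat.card G * (w * (b + 2)) ≤ N * (w + 1) * (w * (b + 2)) := by
        calc Nat.card G * (w * (b + 2)) ≤ Nat.card G * ((w + 1) * (b + 1)) := by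
              apply Nat.mul_le_mul_left
              nlinarith
          _ = (w + 1) * (Nat.card G * (b + 1)) := by ring
          _ = (w + 1) * (N * (w * (b + 2))) := by rw [f4]
          _ = N * (w + 1) * (w * (b + 2)) := by ring
      exact Nat.le_of_mul_le_mul_right h3 (by positivity)
    rcases hnorm x hx with h | h
    · exact aux 2 (Or.inl rfl) h
    · exact aux 4 (Or.inr rfl) h
  -- `X` is nonempty
  have hXne : X.Nonempty := by
    by_contra h
    rw [Set.not_nonempty_iff_eq_empty] at h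
    rw [h] at hcls
    have : cls (∅ : Set G) = 0 := by
      rw [cls_def]
      haveI : IsEmpty {c : ConjClasses G // ∃ x ∈ (∅ : Set G), ConjClasses.mk x = c} :=
        ⟨fun ⟨_, x, hx, _⟩ => hx⟩
      exact Nat.card_of_isEmpty
    omega
  obtain ⟨x, hx⟩ := hXne
  obtain ⟨w, hw, hxX, hxx, hxc, hxn, hx1⟩ := facts x hx
  have hdx := hdvd x hx
  -- one torus is impossible
  have hne : conjSet (centralizer {x}) ≠ X := by
    intro h
    rw [h] at hxc
    set a := Nat.card (centralizer {x}) with ha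
    rcases hw with rfl | rfl
    · have ha' : a = q + 1 := by omega
      rw [ha'] at hdx
      obtain ⟨r, rfl⟩ := Nat.exists_eq_add_of_le hq
      have h2 : (4 + r) ^ 2 + 1 = (4 + r + 1) * (3 + r) + 2 := by ring
      rw [h2] at hdx
      have h3 := (Nat.dvd_add_right (Dvd.intro (3 + r) rfl)).1 hdx
      have := Nat.le_of_dvd (by norm_num) h3
      omega
    · have ha' : a = 2 * q + 1 := by omega
      rw [ha'] at hdx
      obtain ⟨r, rfl⟩ := Nat.exists_eq_add_of_le hq
      have h2 : 4 * ((4 + r) ^ 2 + 1) = (2 * (4 + r) + 1) * (2 * r + 7) + 5 := by ring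
      have h4 : (2 * (4 + r) + 1) ∣ 4 * ((4 + r) ^ 2 + 1) := Dvd.dvd.mul_left hdx 4
      rw [h2] at h4
      have h3 := (Nat.dvd_add_right (Dvd.intro (2 * r + 7) rfl)).1 h4
      have := Nat.le_of_dvd (by norm_num) h3
      omega
  obtain ⟨y, hy, hyx⟩ : ∃ y ∈ X, y ∉ conjSet (centralizer {x}) := by
    by_contra hcon
    push Not at hcon
    exact hne (Set.Subset.antisymm hxX hcon)
  obtain ⟨v, hv, hyX, hyy, hyc, hyn, hy1⟩ := facts y hy
  have hy0 : y ≠ 1 := fun h => h1 (h ▸ hy)
  obtain ⟨hdis, hcop⟩ := torus_disjoint hcent hx hy hy0 hyx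
  have hunion : (conjSet (centralizer {x}) ∪ conjSet (centralizer {y})).ncard =
      (conjSet (centralizer {x})).ncard + (conjSet (centralizer {y})).ncard :=
    Set.ncard_union_eq hdis (Set.toFinite _) (Set.toFinite _)
  have hle : (conjSet (centralizer {x})).ncard + (conjSet (centralizer {y})).ncard ≤ X.ncard := by
    rw [← hunion]
    exact Set.ncard_le_ncard (Set.union_subset hxX hyX) (Set.toFinite _)
  -- both have `w = 4`
  have hww : w = 4 ∧ v = 4 := by
    rcases hw with rfl | rfl <;> rcases hv with rfl | rfl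
    · omega
    · omega
    · omega
    · exact ⟨rfl, rfl⟩
  obtain ⟨rfl, rfl⟩ := hww
  -- there is no third torus
  have heq : conjSet (centralizer {x}) ∪ conjSet (centralizer {y}) = X := by
    by_contra hcon
    obtain ⟨z, hz, hzxy⟩ : ∃ z ∈ X, z ∉ conjSet (centralizer {x}) ∪ conjSet (centralizer {y}) := by
      by_contra hcon'
      push Not at hcon'
      exact hcon (Set.Subset.antisymm (Set.union_subset hxX hyX) hcon')
    rw [Set.mem_union, not_or] at hzxy
    have hz0 : z ≠ 1 := fun h => h1 (h ▸ hz)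
    obtain ⟨u, hu, hzX, hzz, hzc, hzn, hz1⟩ := facts z hz
    obtain ⟨hd1, -⟩ := torus_disjoint hcent hx hz hz0 hzxy.1
    obtain ⟨hd2, -⟩ := torus_disjoint hcent hy hz hz0 hzxy.2
    have hd3 : Disjoint (conjSet (centralizer {x}) ∪ conjSet (centralizer {y}))
        (conjSet (centralizer {z})) := Disjoint.union_left hd1 hd2
    have h3 : (conjSet (centralizer {x})).ncard + (conjSet (centralizer {y})).ncard +
        (conjSet (centralizer {z})).ncard ≤ X.ncard := by
      rw [← hunion, ← Set.ncard_union_eq hd3 (Set.toFinite _) (Set.toFinite _)]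
      exact Set.ncard_le_ncard (Set.union_subset (Set.union_subset hxX hyX) hzX) (Set.toFinite _)
    rcases hu with rfl | rfl
    · omega
    · omega
  refine ⟨x, hx, y, hy, ?_, hcop, Nat.Coprime.mul_dvd_of_dvd_of_dvd hcop hdx (hdvd y hy)⟩
  have hsum := cls_union (Y := conjSet (centralizer {x})) (Z := conjSet (centralizer {y}))
    (fun z hz g => conj_mem_conjSet hz g) hdis
  rw [heq] at hsum
  omega

end main

end Cfsg.Agent.LieExceptional.ZTCount
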